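import Mathlib.CategoryTheory.Abelian.Projective.Resolution
import Mathlib.Algebra.Homology.Augment
import Mathlib.Algebra.Homology.QuasiIso
import Mathlib.Algebra.Homology.ShortComplex.ShortExact

set_option autoImplicit false
universe v u

namespace Groth.Agent.H72

open CategoryTheory CategoryTheory.Limits

variable {C : Type u} [Category.{v} C] [Abelian C]

/-- The augmentation map of a projective resolution, with codomain literally `Z`. -/
noncomputable def aug {Z : C} (Q : ProjectiveResolution Z) : Q.complex.X 0 ⟶ Z := Q.π.f 0

lemma d_aug {Z : C} (Q : ProjectiveResolution Z) : Q.complex.d 1 0 ≫ aug Q = 0 :=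
  Q.complex_d_comp_π_f_zero

instance {Z : C} (Q : ProjectiveResolution Z) : Epi (aug Q) :=
  inferInstanceAs (Epi (Q.π.f 0))

lemma aug_exact {Z : C} (Q : ProjectiveResolution Z) :
    (ShortComplex.mk (Q.complex.d 1 0) (aug Q) (d_aug Q)).Exact :=
  Q.exact₀

lemma splice_w (S : ShortComplex C) (Q : ProjectiveResolution S.X₁) :
    Q.complex.d 1 0 ≫ aug Q ≫ S.f = 0 := by
  rw [← Category.assoc, d_aug, zero_comp]

/-- The complex obtained by splicing a projective resolution of the kernel term of a short exact
sequence with its middle term. -/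
noncomputable def spliceComplex (S : ShortComplex C) (Q : ProjectiveResolution S.X₁) :
    ChainComplex C ℕ :=
  Q.complex.augment (aug Q ≫ S.f) (splice_w S Q)

lemma splice_exact_one (S : ShortComplex C) (hS : S.ShortExact)
    (Q : ProjectiveResolution S.X₁) :
    (ShortComplex.mk (Q.complex.d 1 0) (aug Q ≫ S.f) (splice_w S Q)).Exact := by
  have := hS.mono_f
  let α : ShortComplex.mk (Q.complex.d 1 0) (aug Q) (d_aug Q) ⟶
      ShortComplex.mk (Q.complex.d 1 0) (aug Q ≫ S.f) (splice_w S Q) :=
    { τ₁ := 𝟙 _
      τ₂ := 𝟙 _
      τ₃ := S.f }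
  have h1 : IsIso α.τ₂ := by dsimp [α]; infer_instance
  have h2 : Epi α.τ₁ := by dsimp [α]; infer_instance
  have h3 : Mono α.τ₃ := by dsimp [α]; infer_instance
  rw [← ShortComplex.exact_iff_of_epi_of_isIso_of_mono α]
  exact aug_exact Q

lemma spliceComplex_exactAt_succ (S : ShortComplex C) (hS : S.ShortExact)
    (Q : ProjectiveResolution S.X₁) (n : ℕ) :
    (spliceComplex S Q).ExactAt (n + 1) := by
  rw [HomologicalComplex.exactAt_iff' _ (n + 1 + 1) (n + 1) n (by simp) (by simp)]
  cases n with
  | zero => exact splice_exact_one S hS Q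
  | succ n => exact Q.exact_succ n

lemma splice_w' (S : ShortComplex C) (Q : ProjectiveResolution S.X₁) :
    (aug Q ≫ S.f) ≫ S.g = 0 := by
  rw [Category.assoc, S.zero, comp_zero]

lemma splice_exact_zero (S : ShortComplex C) (hS : S.ShortExact)
    (Q : ProjectiveResolution S.X₁) :
    (ShortComplex.mk (aug Q ≫ S.f) S.g (splice_w' S Q)).Exact := by
  let α : ShortComplex.mk (aug Q ≫ S.f) S.g (splice_w' S Q) ⟶ S :=
    { τ₁ := aug Q
      τ₂ := 𝟙 _
      τ₃ := 𝟙 _ }
  have h1 : IsIso α.τ₂ := by dsimp [α]; infer_instance
  have h2 : Epi α.τ₁ := by dsimp [α]; infer_instance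
  have h3 : Mono α.τ₃ := by dsimp [α]; infer_instance
  rw [ShortComplex.exact_iff_of_epi_of_isIso_of_mono α]
  exact hS.exact

set_option backward.defeqAttrib.useBackward true in
set_option backward.isDefEq.respectTransparency false in
/-- Splicing a projective resolution of the kernel term of a short exact sequence with projective
middle term gives a projective resolution of the cokernel term. -/
noncomputable def splice (S : ShortComplex C) (hS : S.ShortExact) [Projective S.X₂]
    (Q : ProjectiveResolution S.X₁) : ProjectiveResolution S.X₃ where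
  complex := spliceComplex S Q
  projective n := by
    cases n with
    | zero => exact (inferInstance : Projective S.X₂)
    | succ n => exact Q.projective n
  π := (ChainComplex.toSingle₀Equiv _ _).symm ⟨S.g, splice_w' S Q⟩
  quasiIso := ⟨fun n => by
    cases n
    · rw [ChainComplex.quasiIsoAt₀_iff, ShortComplex.quasiIso_iff_of_zeros']
      · have := hS.epi_g
        dsimp
        refine (ShortComplex.exact_and_epi_g_iff_of_iso ?_).2
          ⟨splice_exact_zero S hS Q, by dsimp; infer_instance⟩
        exact ShortComplex.isoMk (Iso.refl _) (Iso.refl _) (Iso.refl _)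
          (by simp [spliceComplex]) (by simp)
      all_goals rfl
    · rw [quasiIsoAt_iff_exactAt']
      · apply spliceComplex_exactAt_succ _ hS
      · apply ChainComplex.exactAt_succ_single_obj⟩

lemma splice_complex_X_succ (S : ShortComplex C) (hS : S.ShortExact) [Projective S.X₂]
    (Q : ProjectiveResolution S.X₁) (n : ℕ) :
    (splice S hS Q).complex.X (n + 1) = Q.complex.X n := rfl

end Groth.Agent.H72
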