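import Groth.Agent.H72.PdExt
import Groth.Agent.H26.DepthExt
import Groth.Agent.H29.CM

/-!
# The Auslander–Buchsbaum formula

For a Noetherian local ring `R` and a nonzero finite module `M` of finite projective dimension
`e`: `depth R = e + depth M`.  Proof: induction on `e`, using the long exact sequence of
`Ext(k, -)` for a minimal presentation `0 → K → F → M → 0`.
-/

set_option autoImplicit false
universe u

namespace Groth.Agent.H72.AB

open CategoryTheory Abelian IsLocalRing Module Groth.Agent.H72.PdLocal Groth.Agent.H72.PdExt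

section

variable (R : Type u) [CommRing R] [IsLocalRing R]

/-- The residue field as `R ⧸ 𝔪`, an object of `ModuleCat R`. -/
abbrev kk : ModuleCat.{u} R := ModuleCat.of R (R ⧸ maximalIdeal R)

/-- `E R i N = Ext^i(k, N)`. -/
abbrev E (i : ℕ) (N : Type u) [AddCommGroup N] [Module R N] : Type u :=
  Ext.{u} (kk R) (ModuleCat.of R N) i

end

variable {R : Type u} [CommRing R] [IsLocalRing R]

lemma smul_ext_zero (a : R) (ha : a ∈ maximalIdeal R) {Y : ModuleCat.{u} R} {i : ℕ}
    (x : Ext.{u} (kk R) Y i) : a • x = 0 := by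
  have hann : Module.annihilator R (R ⧸ maximalIdeal R) = maximalIdeal R :=
    Ideal.annihilator_quotient
  have e2 : a • 𝟙 (kk R) = 0 := by
    refine ModuleCat.hom_ext (LinearMap.ext fun n => ?_)
    exact Module.mem_annihilator.1 (hann.symm ▸ ha) n
  have h3 : (Ext.mk₀ (a • 𝟙 (kk R))).comp x (zero_add i) = a • x := by
    rw [Ext.mk₀_smul, Ext.smul_comp, Ext.mk₀_id_comp]
  rw [← h3, e2, Ext.mk₀_zero, Ext.zero_comp]

lemma comp_eq_zero_of_mem_smul_top {N F : Type u} [AddCommGroup N] [Module R N] [AddCommGroup F]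
    [Module R F] (f : N →ₗ[R] F)
    (hf : f ∈ maximalIdeal R • (⊤ : Submodule R (N →ₗ[R] F))) (i : ℕ)
    (x : Ext.{u} (kk R) (ModuleCat.of R N) i) :
    x.comp (Ext.mk₀ (ModuleCat.ofHom f)) (add_zero i) = 0 := by
  refine Submodule.smul_induction_on hf (fun a ha ψ _ => ?_) (fun f₁ f₂ h₁ h₂ => ?_)
  · have h0 : ModuleCat.ofHom (a • ψ) = a • ModuleCat.ofHom ψ := rfl
    rw [h0, Ext.mk₀_smul, Ext.comp_smul]
    exact smul_ext_zero a ha _
  · rw [ModuleCat.ofHom_add, Ext.mk₀_add, Ext.comp_add, h₁, h₂, add_zero]

lemma mem_smul_top_of_basis {K F : Type u} [AddCommGroup K] [Module R K] [AddCommGroup F]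
    [Module R F] {a : ℕ} (bK : Basis (Fin a) R K) (f : K →ₗ[R] F) (I : Ideal R)
    (hf : ∀ l, f (bK l) ∈ I • (⊤ : Submodule R F)) :
    f ∈ I • (⊤ : Submodule R (K →ₗ[R] F)) := by
  have hsr : ∀ (φ : K →ₗ[R] R) (v : F), v ∈ I • (⊤ : Submodule R F) →
      φ.smulRight v ∈ I • (⊤ : Submodule R (K →ₗ[R] F)) := by
    intro φ v hv
    refine Submodule.smul_induction_on hv (fun c hc w _ => ?_) (fun v₁ v₂ h₁ h₂ => ?_)
    · have h0 : φ.smulRight (c • w) = c • φ.smulRight w := by
        ext y
        simp only [LinearMap.smulRight_apply, LinearMap.smul_apply]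
        exact smul_comm _ _ _
      rw [h0]
      exact Submodule.smul_mem_smul hc Submodule.mem_top
    · have h0 : φ.smulRight (v₁ + v₂) = φ.smulRight v₁ + φ.smulRight v₂ := by
        ext y
        simp only [LinearMap.smulRight_apply, LinearMap.add_apply, smul_add]
      rw [h0]
      exact Submodule.add_mem _ h₁ h₂
  have hsum : f = ∑ l, (bK.coord l).smulRight (f (bK l)) := by
    apply bK.ext
    intro j
    simp [LinearMap.sum_apply, Finsupp.single_apply, ite_smul]
  rw [hsum]
  exact Submodule.sum_mem _ fun l _ => hsr _ _ (hf l)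

lemma subsingleton_ext_of_retract {X Y Y' : ModuleCat.{u} R} (r : Y ⟶ Y') (s : Y' ⟶ Y)
    (h : r ≫ s = 𝟙 Y) (i : ℕ) (hY' : Subsingleton (Ext.{u} X Y' i)) :
    Subsingleton (Ext.{u} X Y i) :=
  subsingleton_of_forall_eq_zero fun x => by
    have h1 : (x.comp (Ext.mk₀ r) (add_zero i)).comp (Ext.mk₀ s) (add_zero i) = x := by
      rw [Ext.comp_assoc_of_third_deg_zero, Ext.mk₀_comp_mk₀, h, Ext.comp_mk₀_id]
    rw [← h1, Subsingleton.elim (x.comp (Ext.mk₀ r) (add_zero i)) 0, Ext.zero_comp]

variable (R) in
lemma ext_free_iff (M : Type u) [AddCommGroup M] [Module R M] [Module.Finite R M]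
    [Module.Free R M] [Nontrivial M] (i : ℕ) :
    Subsingleton (E R i M) ↔ Subsingleton (E R i R) := by
  classical
  obtain ⟨j⟩ : Nonempty (Fin (Module.finrank R M)) := (Module.finBasis R M).index_nonempty
  constructor
  · intro h
    refine subsingleton_ext_of_retract
      (ModuleCat.ofHom (LinearMap.toSpanSingleton R M (Module.finBasis R M j)))
      (ModuleCat.ofHom ((Module.finBasis R M).coord j)) ?_ i h
    refine ModuleCat.hom_ext (LinearMap.ext_ring ?_)
    simp [LinearMap.toSpanSingleton_apply]
  · intro h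
    have h' := ext_pi_subsingleton R (kk R) i h (Module.finrank R M)
    refine subsingleton_ext_of_retract
      (ModuleCat.ofHom (Module.finBasis R M).equivFun.toLinearMap)
      (ModuleCat.ofHom (Module.finBasis R M).equivFun.symm.toLinearMap) ?_ i h'
    refine ModuleCat.hom_ext (LinearMap.ext fun x => ?_)
    simp

variable [IsNoetherianRing R]

variable (R) in
lemma depth_eq_iff (N : Type u) [AddCommGroup N] [Module R N] [Module.Finite R N] (t : ℕ) :
    LocCoh.depth R N = t ↔ (∀ i < t, Subsingleton (E R i N)) ∧ ¬ Subsingleton (E R t N) := by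
  unfold LocCoh.depth
  have h := fun n => Groth.Agent.H26.DepthExt.le_idealDepth_iff_ext (maximalIdeal R) N n
  constructor
  · intro hd
    refine ⟨(h t).mp hd.ge, fun hsub => ?_⟩
    have h1 : ((t + 1 : ℕ) : ℕ∞) ≤ LocCoh.idealDepth (maximalIdeal R) N :=
      (h (t + 1)).mpr (fun i hi => by
        rcases Nat.lt_succ_iff_lt_or_eq.mp hi with h' | rfl
        · exact (h t).mp hd.ge i h'
        · exact hsub)
    rw [hd] at h1
    have h2 : t + 1 ≤ t := by exact_mod_cast h1
    omega
  · rintro ⟨h1, h2⟩
    have hle : (t : ℕ∞) ≤ LocCoh.idealDepth (maximalIdeal R) N := (h t).mpr h1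
    have hnot : ¬ ((t + 1 : ℕ) : ℕ∞) ≤ LocCoh.idealDepth (maximalIdeal R) N :=
      fun hc => h2 ((h (t + 1)).mp hc t (Nat.lt_succ_self t))
    rw [not_le] at hnot
    generalize LocCoh.idealDepth (maximalIdeal R) N = d at hle hnot ⊢
    induction d with
    | top => exact absurd hnot (by simp)
    | coe k =>
      have h3 : k < t + 1 := by exact_mod_cast hnot
      have h4 : t ≤ k := by exact_mod_cast hle
      have h5 : k = t := by omega
      rw [h5]

lemma exists_minimal_presentation (M : Type u) [AddCommGroup M] [Module R M]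
    [Module.Finite R M] :
    ∃ (b : ℕ) (g : (Fin b → R) →ₗ[R] M), Function.Surjective g ∧
      LinearMap.ker g ≤ maximalIdeal R • (⊤ : Submodule R (Fin b → R)) := by
  classical
  have hsurj := TensorProduct.mk_surjective R M (ResidueField R) IsLocalRing.residue_surjective
  choose f hf using fun i => hsurj (Module.finBasis (ResidueField R)
    (TensorProduct R (ResidueField R) M) i)
  refine ⟨_, Fintype.linearCombination R f, ?_, ?_⟩
  · rw [← LinearMap.range_eq_top, Fintype.range_linearCombination]
    exact IsLocalRing.span_eq_top_of_tmul_eq_basis f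
      (Module.finBasis (ResidueField R) (TensorProduct R (ResidueField R) M)) (fun i => hf i)
  · intro c hc
    have hc0 : ∑ i, c i • f i = 0 := by
      have := LinearMap.mem_ker.mp hc
      rwa [Fintype.linearCombination_apply] at this
    have key : (TensorProduct.mk R (ResidueField R) M 1) (∑ i, c i • f i) =
        ∑ i, (algebraMap R (ResidueField R) (c i)) • (Module.finBasis (ResidueField R)
          (TensorProduct R (ResidueField R) M) i) := by
      rw [map_sum]
      refine Finset.sum_congr rfl fun i _ => ?_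
      rw [map_smul, hf i, algebraMap_smul]
    have h1 : ∑ i, (algebraMap R (ResidueField R) (c i)) • (Module.finBasis (ResidueField R)
        (TensorProduct R (ResidueField R) M) i) = 0 := by
      rw [← key, hc0, map_zero]
    have h2 := Fintype.linearIndependent_iff.mp
      (Module.finBasis (ResidueField R) (TensorProduct R (ResidueField R) M)).linearIndependent
      _ h1
    have hci : ∀ i, c i ∈ maximalIdeal R := fun i => by
      have h3 := h2 i
      rwa [IsLocalRing.ResidueField.algebraMap_eq, IsLocalRing.residue_eq_zero_iff] at h3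
    have hc' : c = ∑ i, c i • fun j => if i = j then (1 : R) else 0 := pi_eq_sum_univ c
    rw [hc']
    exact Submodule.sum_mem _ fun i _ => Submodule.smul_mem_smul (hci i) Submodule.mem_top

theorem core : ∀ (e : ℕ) (M : Type u) [AddCommGroup M] [Module R M] [Module.Finite R M]
    [Nontrivial M], PdLT R M (e + 1) → ¬ PdLT R M e → ∀ r : ℕ, LocCoh.depth R R = r →
      ∃ s : ℕ, LocCoh.depth R M = s ∧ s + e = r := by
  intro e
  induction e with
  | zero =>
    intro M _ _ _ _ h1 _ r hr
    have hproj : Module.Projective R M := (pdLT_one_iff M).mp h1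
    have hfree : Module.Free R M := Module.free_of_flat_of_isLocalRing
    refine ⟨r, ?_, by omega⟩
    obtain ⟨hr1, hr2⟩ := (depth_eq_iff R R r).mp hr
    exact (depth_eq_iff R M r).mpr ⟨fun i hi => (ext_free_iff R M i).mpr (hr1 i hi),
      fun h => hr2 ((ext_free_iff R M r).mp h)⟩
  | succ e' ih =>
    intro M _ _ _ _ h1 h2 r hr
    obtain ⟨b, g, hg, hker⟩ := exists_minimal_presentation (R := R) M
    have hex : Function.Exact (LinearMap.ker g).subtype g := LinearMap.exact_subtype_ker_map g
    have hinj : Function.Injective (LinearMap.ker g).subtype := Submodule.subtype_injective _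
    have hKpd : PdLT R (LinearMap.ker g) (e' + 1) :=
      (pdLT_succ_iff_of_exact _ _ hinj hex hg e').mp h1
    have hKnot : ¬ PdLT R (LinearMap.ker g) e' := by
      intro hc
      cases e' with
      | zero =>
        have hsub : Subsingleton (LinearMap.ker g) := (pdLT_zero_iff _).mp hc
        have hbot : LinearMap.ker g = ⊥ := Submodule.eq_bot_of_subsingleton
        have hgi : Function.Injective g := LinearMap.ker_eq_bot.mp hbot
        have hM : Module.Projective R M :=
          Module.Projective.of_equiv (LinearEquiv.ofBijective g ⟨hgi, hg⟩)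
        exact h2 ((pdLT_one_iff M).mpr hM)
      | succ e'' =>
        exact h2 ((pdLT_succ_iff_of_exact _ _ hinj hex hg e'').mpr hc)
    have hKnt : Nontrivial (LinearMap.ker g) := by
      by_contra hn
      rw [not_nontrivial_iff_subsingleton] at hn
      have h0 : HasProjectiveDimensionLT (ModuleCat.of R (LinearMap.ker g)) 0 :=
        (pdLT_zero_iff _).mpr hn
      exact hKnot (hasProjectiveDimensionLT_of_ge _ 0 e' (Nat.zero_le _))
    obtain ⟨t, ht, hte⟩ := ih (LinearMap.ker g) hKpd hKnot r hr
    obtain ⟨hK1, hK2⟩ := (depth_eq_iff R (LinearMap.ker g) t).mp ht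
    obtain ⟨hR1, -⟩ := (depth_eq_iff R R r).mp hr
    have hF : ∀ i < r, Subsingleton (E R i (Fin b → R)) := fun i hi =>
      ext_pi_subsingleton R (kk R) i (hR1 i hi) b
    have hS : (ModuleCat.shortComplexOfCompEqZero (LinearMap.ker g).subtype g
        hex.linearMap_comp_eq_zero).ShortExact :=
      ModuleCat.shortComplex_shortExact _ hex hinj hg
    have hα : ∀ x : E R t (LinearMap.ker g),
        x.comp (Ext.mk₀ (ModuleCat.ofHom (LinearMap.ker g).subtype)) (add_zero t) = 0 := by
      intro x
      rcases Nat.eq_zero_or_pos e' with he0 | hepos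
      · subst he0
        have hproj : Module.Projective R (LinearMap.ker g) := (pdLT_one_iff _).mp hKpd
        have hfree : Module.Free R (LinearMap.ker g) := Module.free_of_flat_of_isLocalRing
        exact comp_eq_zero_of_mem_smul_top _
          (mem_smul_top_of_basis (Module.finBasis R (LinearMap.ker g)) _ _
            (fun l => hker (Module.finBasis R (LinearMap.ker g) l).2)) t x
      · have hsub : Subsingleton (E R t (Fin b → R)) := hF t (by omega)
        exact Subsingleton.elim _ _
    have ht0 : t ≠ 0 := by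
      intro h0
      subst h0
      rw [not_subsingleton_iff_nontrivial] at hK2
      obtain ⟨x, hx⟩ := exists_ne (0 : E R 0 (LinearMap.ker g))
      apply hx
      obtain ⟨φ, rfl⟩ := (Ext.mk₀_bijective _ _).2 x
      have h3 := hα (Ext.mk₀ φ)
      rw [Ext.mk₀_comp_mk₀] at h3
      have h4 : φ ≫ ModuleCat.ofHom (LinearMap.ker g).subtype = 0 :=
        (Ext.mk₀_bijective _ _).1 (by rw [h3, Ext.mk₀_zero])
      have hmono : Mono (ModuleCat.ofHom (LinearMap.ker g).subtype) := hS.mono_f
      rw [Limits.zero_of_comp_mono _ h4, Ext.mk₀_zero]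
    obtain ⟨s, rfl⟩ := Nat.exists_eq_succ_of_ne_zero ht0
    refine ⟨s, (depth_eq_iff R M s).mpr ⟨?_, ?_⟩, by omega⟩
    · intro j hj
      refine subsingleton_of_forall_eq_zero fun x₃ => ?_
      have hsub1 : Subsingleton (E R (j + 1) (LinearMap.ker g)) := hK1 (j + 1) (by omega)
      obtain ⟨x₂, rfl⟩ := Ext.covariant_sequence_exact₃ (kk R) hS x₃ rfl
        (Subsingleton.elim _ _)
      have hsub2 : Subsingleton (E R j (Fin b → R)) := hF j (by omega)
      rw [Subsingleton.elim x₂ 0, Ext.zero_comp]
    · intro hsub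
      apply hK2
      refine subsingleton_of_forall_eq_zero fun x₁ => ?_
      obtain ⟨x₃, rfl⟩ := Ext.covariant_sequence_exact₁ (kk R) hS x₁ (hα x₁) (n₀ := s) rfl
      rw [Subsingleton.elim x₃ 0, Ext.zero_comp]

/-- **Auslander–Buchsbaum formula.** -/
theorem auslander_buchsbaum (M : Type u) [AddCommGroup M] [Module R M] [Module.Finite R M]
    [Nontrivial M] (e : ℕ) (he : projectiveDimension (ModuleCat.of R M) = e) :
    LocCoh.depth R R = e + LocCoh.depth R M := by
  have h1 : PdLT R M (e + 1) := (projectiveDimension_le_iff _ e).mp he.le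
  have h2 : ¬ PdLT R M e := (projectiveDimension_ge_iff _ e).mp he.ge
  obtain ⟨r, hr⟩ := Groth.Agent.H29.CM.exists_nat_depth (A := R) (M := R)
  obtain ⟨s, hs, hse⟩ := core e M h1 h2 r hr
  rw [hr, hs]
  exact_mod_cast (by omega : r = e + s)

end Groth.Agent.H72.AB
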