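import Groth.Agent.H72.ABLe
import Groth.Agent.H15.RegCM
import Groth.Agent.H29.CM4

/-!
# Localizations of regular local rings at primes: depth and height

* `isCM_of_isRegularLocalRing`: a regular local ring is Cohen–Macaulay.
* `selfEquiv`: `LocalizedModule S B ≃ₗ[Localization S] Localization S`.
* `exists_depth_atPrime`: for `B` regular local and `p` prime, `depth B_p = ht p = r`,
  `dim B/p = q` and `dim B = q + r`.
* `pdLT_atPrime_loc`: every finite `B`-module localizes to a module of finite projective dimension.
-/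

set_option autoImplicit false
universe u

namespace Groth.Agent.H72.RegLoc

open CategoryTheory IsLocalRing Module Groth.Agent.H72.PdLocal Groth.Agent.H72.PdExt

lemma isCM_of_isRegularLocalRing (B : Type u) [CommRing B] [IsRegularLocalRing B] :
    LocCoh.IsCohenMacaulayModule B B := by
  obtain ⟨d, hd⟩ := Groth.Agent.H29.CM.exists_nat_supportDim (A := B) (M := B)
  refine Groth.Agent.H29.CM.isCM_of_hasSeq hd
    (Groth.Agent.H15.RegCM.hasSeq_of_isRegularLocalRing B d ?_)
  have h1 : ((IsLocalRing.maximalIdeal B).height : WithBot ℕ∞) = ringKrullDim B :=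
    IsLocalRing.maximalIdeal_height_eq_ringKrullDim
  rw [Module.supportDim_self_eq_ringKrullDim, ← h1, WithBot.coe_inj] at hd
  rw [hd]

/-- The linear identification of `LocalizedModule S B` with `Localization S`. -/
noncomputable def selfEquiv {B : Type u} [CommRing B] (S : Submonoid B) :
    LocalizedModule S B ≃ₗ[Localization S] Localization S :=
  (locEquiv S B).symm ≪≫ₗ TensorProduct.AlgebraTensorModule.rid B (Localization S) (Localization S)

lemma exists_depth_atPrime (B : Type u) [CommRing B] [IsRegularLocalRing B] (p : Ideal B)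
    [hpp : p.IsPrime] :
    ∃ r q : ℕ, LocCoh.depth (Localization.AtPrime p) (Localization.AtPrime p) = r ∧ p.height = r ∧
      ringKrullDim (B ⧸ p) = ((q : ℕ∞) : WithBot ℕ∞) ∧
      ringKrullDim B = (((q + r : ℕ) : ℕ∞) : WithBot ℕ∞) := by
  have hCM := isCM_of_isRegularLocalRing B
  have hntB : Nontrivial (LocalizedModule p.primeCompl B) :=
    (selfEquiv p.primeCompl).toEquiv.nontrivial
  have hsupp : (⟨p, hpp⟩ : PrimeSpectrum B) ∈ Module.support B B :=
    Module.mem_support_iff.mpr hntB
  obtain ⟨r, hq, hdim, hdepth⟩ := Groth.Agent.H29.CM.isCM_atPrime_aux hCM ⟨p, hpp⟩ hsupp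
  obtain ⟨q, hqq⟩ := Groth.Agent.H29.CM.exists_nat_ringKrullDim_quotient p
  refine ⟨r, q, ?_, ?_, hqq, ?_⟩
  · exact hdepth
  · rw [Module.supportDim_eq_of_equiv (selfEquiv p.primeCompl),
      Module.supportDim_self_eq_ringKrullDim,
      IsLocalization.AtPrime.ringKrullDim_eq_height p (Localization.AtPrime p),
      WithBot.coe_inj] at hdim
    exact hdim
  · rw [Groth.Agent.H29.CM.supportDim_quotient_prime_smul_top ⟨p, hpp⟩ hsupp,
      Module.supportDim_self_eq_ringKrullDim, hqq] at hq
    rw [← hq]
    norm_cast

/-- Over a regular local ring `B`, localizations of modules have finite projective dimension. -/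
lemma pdLT_atPrime_loc (B : Type u) [CommRing B] [IsRegularLocalRing B] (p : Ideal B) [p.IsPrime]
    (M : Type u) [AddCommGroup M] [Module B M] [Module.Finite B M] :
    PdLT (Localization.AtPrime p) (LocalizedModule p.primeCompl M)
      ((IsLocalRing.maximalIdeal B).spanFinrank + 1) := by
  obtain ⟨K, i1, i2, i3, hK1, -, hK3⟩ :=
    exists_syzygy_loc B (IsLocalRing.maximalIdeal B).spanFinrank M
  have hproj : Module.Projective B K := hK1.mp (pdLT_of_isRegularLocalRing B M)
  rw [hK3 p.primeCompl]
  exact (projective_loc_iff p.primeCompl K).mpr inferInstance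

/-- The depth of a regular local ring is its dimension. -/
lemma depth_self_eq (A : Type u) [CommRing A] [IsRegularLocalRing A] (n : ℕ)
    (hn : ringKrullDim A = n) : LocCoh.depth A A = n := by
  have h1 : Module.supportDim A A = ((LocCoh.depth A A : ℕ∞) : WithBot ℕ∞) :=
    isCM_of_isRegularLocalRing A
  rw [Module.supportDim_self_eq_ringKrullDim, hn] at h1
  have h2 : ((n : ℕ∞) : WithBot ℕ∞) = ((LocCoh.depth A A : ℕ∞) : WithBot ℕ∞) := h1
  exact (WithBot.coe_inj.mp h2).symm

end Groth.Agent.H72.RegLoc
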