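import Groth.Agent.H72.GorType
import Groth.Agent.H60.Bass

/-!
# (GorK): over a Gorenstein local ring, a finite module of finite injective dimension with Bass
numbers `δ_{i,t}` is free of rank one

* `cov_length`: covariant additivity of `length Ext^t(X, -)` on short exact sequences whose outer
  terms have `Ext^i(X, -) = 0` for `i ≠ t`.
* `ext_kk_pi`: `Ext^i(k, R^k)` from `Ext^i(k, R)`.
* `injdim_pi`: `R^k` has finite injective dimension if `R` has.
* `projective_of_depth_of_injdim`: over a Gorenstein local ring, a finite module of finite injective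
  dimension whose injective dimension is detected in degree `t` (`Ext^i(k,K)=0` for `i<t`... ) is
  projective.
* `iso_self_of_gorenstein` : (GorK).
-/

set_option autoImplicit false
universe u

namespace Groth.Agent.H72.GorK

open CategoryTheory Abelian IsLocalRing Module
open Groth.Agent.H72.AB (kk E)
open Groth.Agent.H72.PdExt Groth.Agent.H72.ExtType

section Cov

variable {R : Type u} [CommRing R]

/-- Covariant additivity of `length Ext^t(X, -)`. -/
theorem cov_length (X : ModuleCat.{u} R) {S : ShortComplex (ModuleCat.{u} R)} (hS : S.ShortExact)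
    (t : ℕ) (h1 : ∀ i, i ≠ t → Subsingleton (Ext.{u} X S.X₁ i))
    (h3 : ∀ i, i ≠ t → Subsingleton (Ext.{u} X S.X₃ i)) :
    (∀ i, i ≠ t → Subsingleton (Ext.{u} X S.X₂ i)) ∧
      Module.length R (Ext.{u} X S.X₂ t) =
        Module.length R (Ext.{u} X S.X₁ t) + Module.length R (Ext.{u} X S.X₃ t) := by
  refine ⟨fun i hi => subsingleton_ext_X₂ X hS i (h1 i hi) (h3 i hi), ?_⟩
  let α : Ext.{u} X S.X₁ t →ₗ[R] Ext.{u} X S.X₂ t :=
    Ext.postcompOfLinear (Ext.mk₀ S.f) R X (add_zero t)
  let β : Ext.{u} X S.X₂ t →ₗ[R] Ext.{u} X S.X₃ t :=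
    Ext.postcompOfLinear (Ext.mk₀ S.g) R X (add_zero t)
  have hα : Function.Injective α := by
    rw [injective_iff_map_eq_zero]
    intro x₁ hx₁
    have hx₁' : x₁.comp (Ext.mk₀ S.f) (add_zero t) = 0 := hx₁
    rcases Nat.eq_zero_or_pos t with h0 | hpos
    · subst h0
      haveI : Mono S.f := hS.mono_f
      exact (Ext.postcomp_mk₀_injective_of_mono X S.f)
        (hx₁'.trans (map_zero ((Ext.mk₀ S.f).postcomp X (add_zero 0))).symm)
    · obtain ⟨t₀, rfl⟩ : ∃ t₀, t = t₀ + 1 := ⟨t - 1, by omega⟩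
      obtain ⟨x₃, rfl⟩ := Ext.covariant_sequence_exact₁ X hS x₁ hx₁' rfl
      have hs := h3 t₀ (by omega)
      rw [hs.elim x₃ 0, Ext.zero_comp]
  have hβ : Function.Surjective β := by
    intro x₃
    have hs := h1 (t + 1) (by omega)
    obtain ⟨x₂, hx₂⟩ := Ext.covariant_sequence_exact₃ X hS x₃ rfl (hs.elim _ _)
    exact ⟨x₂, hx₂⟩
  have hαβ : Function.Exact α β := by
    intro x₂
    constructor
    · intro hx₂
      obtain ⟨x₁, hx₁⟩ := Ext.covariant_sequence_exact₂ X hS x₂ hx₂
      exact ⟨x₁, hx₁⟩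
    · rintro ⟨x₁, rfl⟩
      show (x₁.comp (Ext.mk₀ S.f) (add_zero t)).comp (Ext.mk₀ S.g) (add_zero t) = 0
      rw [Ext.comp_assoc_of_third_deg_zero, Ext.mk₀_comp_mk₀, S.zero, Ext.mk₀_zero, Ext.comp_zero]
  exact Module.length_eq_add_of_exact α β hα hβ hαβ

/-- The short exact sequence `0 → R → R^{k+1} → R^k → 0`. -/
lemma piSES (k : ℕ) : (ModuleCat.shortComplexOfCompEqZero (ιk R k) (πk R k)
    (ιπ_exact R k).linearMap_comp_eq_zero).ShortExact :=
  ModuleCat.shortComplex_shortExact _ (ιπ_exact R k) (ιk_injective R k) (πk_surjective R k)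

/-- `R^k` has finite injective dimension if `R` has. -/
theorem injdim_pi (m : ℕ) (h : HasInjectiveDimensionLT (ModuleCat.of R R) m) :
    ∀ k : ℕ, HasInjectiveDimensionLT (ModuleCat.of R (Fin k → R)) m
  | 0 => by
    have hz : Limits.IsZero (ModuleCat.of R (Fin 0 → R)) := ModuleCat.isZero_of_subsingleton _
    haveI := hz.hasInjectiveDimensionLT_zero
    exact hasInjectiveDimensionLT_of_ge _ 0 m (Nat.zero_le m)
  | k + 1 => (piSES (R := R) k).hasInjectiveDimensionLT_X₂ m h (injdim_pi m h k)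

end Cov

section Local

variable {R : Type u} [CommRing R] [IsLocalRing R]

/-- `Ext^i(k, R^k)` from `Ext^i(k, R)`. -/
theorem ext_kk_pi (t : ℕ) (h0 : ∀ i, i ≠ t → Subsingleton (E R i R))
    (h1 : Module.length R (E R t R) = 1) :
    ∀ k : ℕ, (∀ i, i ≠ t → Subsingleton (E R i (Fin k → R))) ∧
      Module.length R (E R t (Fin k → R)) = (k : ℕ∞)
  | 0 => by
    have hz : Limits.IsZero (ModuleCat.of R (Fin 0 → R)) := ModuleCat.isZero_of_subsingleton _
    refine ⟨fun i _ => subsingleton_ext_of_isZero hz i, ?_⟩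
    haveI : Subsingleton (E R t (Fin 0 → R)) := subsingleton_ext_of_isZero hz t
    rw [Module.length_eq_zero, Nat.cast_zero]
  | k + 1 => by
    obtain ⟨ih0, ih1⟩ := ext_kk_pi t h0 h1 k
    obtain ⟨r0, r1⟩ := cov_length (kk R) (piSES (R := R) k) t h0 ih0
    refine ⟨r0, ?_⟩
    have r1' : Module.length R (E R t (Fin (k + 1) → R)) =
        Module.length R (E R t R) + Module.length R (E R t (Fin k → R)) := r1
    rw [r1', h1, ih1, Nat.cast_add, Nat.cast_one, add_comm]

end Local

/-- (GorK) over a Gorenstein local ring a finite module of finite injective dimension whose Bass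
numbers are `δ_{i,t}` is isomorphic to the ring. -/
theorem iso_self_of_gorenstein (B : Type u) [CommRing B] [LocCoh.IsGorensteinLocalRing B]
    (K : Type u) [AddCommGroup K] [Module B K] [Module.Finite B K] (n : ℕ)
    (hinj : CategoryTheory.HasInjectiveDimensionLT (ModuleCat.of B K) n) (t : ℕ)
    (h0 : ∀ i : ℕ, i ≠ t → Subsingleton (CategoryTheory.Abelian.Ext.{u}
      (ModuleCat.of B (B ⧸ IsLocalRing.maximalIdeal B)) (ModuleCat.of B K) i))
    (h1 : Module.length B (CategoryTheory.Abelian.Ext.{u}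
      (ModuleCat.of B (B ⧸ IsLocalRing.maximalIdeal B)) (ModuleCat.of B K) t) = 1)
    (hann : ∀ b : B, (∀ x : K, b • x = 0) → b = 0) : Nonempty (K ≃ₗ[B] B) := by
  classical
  have _ := hann
  -- `K` is nontrivial
  haveI hKnt : Nontrivial K := by
    by_contra hK
    rw [not_nontrivial_iff_subsingleton] at hK
    haveI : Subsingleton (ModuleCat.of B K) := hK
    have hz : Limits.IsZero (ModuleCat.of B K) := ModuleCat.isZero_of_subsingleton _
    haveI : Subsingleton (E B t K) := subsingleton_ext_of_isZero hz t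
    rw [Module.length_eq_zero] at h1
    exact zero_ne_one h1
  -- injective dimension of `K` is `t`
  obtain ⟨rK, hK1, hK2⟩ := Groth.Agent.H60.Bass.exists_r (ModuleCat.of B K) ⟨n, hinj⟩
  have hrKt : rK = t := by
    by_contra hne
    obtain ⟨z, hz⟩ := hK2
    exact hz ((h0 rK hne).elim z 0)
  subst hrKt
  -- injective dimension of `B` is `rB = depth B`
  obtain ⟨rB, hB1, hB2⟩ := Groth.Agent.H60.Bass.exists_r (ModuleCat.of B B)
    (LocCoh.IsGorensteinLocalRing.exists_hasInjectiveDimensionLT (A := B))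
  have hdepthB : LocCoh.depth B B = (rB : ℕ∞) := Groth.Agent.H60.Bass.depth_self_eq rB hB1 hB2
  haveI hproj : Projective (ModuleCat.of B B) :=
    (IsProjective.iff_projective (R := B) _).mp inferInstance
  -- `rK = rB`
  have htB : rK = rB := by
    obtain ⟨hle1, hex1, -⟩ :=
      Groth.Agent.H60.Bass.F2 (ModuleCat.of B K) rK hK1 hK2 rB B hdepthB
    generalize hk : rK - rB = k at hex1
    obtain ⟨z1, hz1⟩ := hex1
    cases k with
    | zero => omega
    | succ k => exact absurd (Ext.eq_zero_of_projective z1) hz1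
  -- depth of `K`
  have hdepthK : LocCoh.depth B K = (rK : ℕ∞) := by
    rw [Groth.Agent.H72.AB.depth_eq_iff]
    refine ⟨fun i hi => h0 i (by omega), fun hsub => ?_⟩
    obtain ⟨z, hz⟩ := hK2
    exact hz (hsub.elim z 0)
  -- vanishing of `Ext^i(K, Z)` for `Z` of finite injective dimension
  have hvan : ∀ (Z : Type u) [AddCommGroup Z] [Module B Z] [Module.Finite B Z] [Nontrivial Z],
      (∃ m, HasInjectiveDimensionLT (ModuleCat.of B Z) m) →
      ∀ i, 0 < i → ∀ z : Ext.{u} (ModuleCat.of B K) (ModuleCat.of B Z) i, z = 0 := by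
    intro Z _ _ _ _ hZ i hi z
    obtain ⟨rZ, hZ1, hZ2⟩ := Groth.Agent.H60.Bass.exists_r (ModuleCat.of B Z) hZ
    have hrZ : rZ = rB := by
      obtain ⟨hle, hex, -⟩ :=
        Groth.Agent.H60.Bass.F2 (ModuleCat.of B Z) rZ hZ1 hZ2 rB B hdepthB
      generalize hk : rZ - rB = k at hex
      obtain ⟨z', hz'⟩ := hex
      cases k with
      | zero => omega
      | succ k => exact absurd (Ext.eq_zero_of_projective z') hz'
    obtain ⟨-, -, hv⟩ := Groth.Agent.H60.Bass.F2 (ModuleCat.of B Z) rZ hZ1 hZ2 rK K hdepthK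
    exact hv i (by omega) z
  -- a free cover
  obtain ⟨b, g, hg⟩ := Module.Finite.exists_fin' B K
  have hex : Function.Exact (LinearMap.ker g).subtype g := LinearMap.exact_subtype_ker_map g
  have hS : (ModuleCat.shortComplexOfCompEqZero (LinearMap.ker g).subtype g
      hex.linearMap_comp_eq_zero).ShortExact :=
    ModuleCat.shortComplex_shortExact _ hex (Submodule.subtype_injective _) hg
  obtain ⟨m, hm⟩ := LocCoh.IsGorensteinLocalRing.exists_hasInjectiveDimensionLT (A := B)
  have hF : HasInjectiveDimensionLT (ModuleCat.of B (Fin b → B)) (max m n + 1) := by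
    haveI := injdim_pi m hm b
    exact hasInjectiveDimensionLT_of_ge _ m (max m n + 1)
      (Nat.le_succ_of_le (le_max_left m n))
  have hK' : HasInjectiveDimensionLT (ModuleCat.of B K) (max m n) := by
    haveI := hinj
    exact hasInjectiveDimensionLT_of_ge _ n (max m n) (le_max_right m n)
  have hZinj : HasInjectiveDimensionLT (ModuleCat.of B (LinearMap.ker g)) (max m n + 1) :=
    hS.hasInjectiveDimensionLT_X₁ (max m n) hK' hF
  have hext1 : ∀ z : Ext.{u} (ModuleCat.of B K) (ModuleCat.of B (LinearMap.ker g)) 1, z = 0 := by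
    intro z
    by_cases hZ : Subsingleton (LinearMap.ker g)
    · haveI : Subsingleton (ModuleCat.of B (LinearMap.ker g)) := hZ
      have hz : Limits.IsZero (ModuleCat.of B (LinearMap.ker g)) :=
        ModuleCat.isZero_of_subsingleton _
      exact (subsingleton_ext_of_isZero hz 1).elim z 0
    · rw [not_subsingleton_iff_nontrivial] at hZ
      haveI := hZ
      exact hvan (LinearMap.ker g) ⟨_, hZinj⟩ 1 Nat.one_pos z
  -- the cover splits
  obtain ⟨x₂, hx₂⟩ := Ext.covariant_sequence_exact₃ (ModuleCat.of B K) hS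
    (Ext.mk₀ (𝟙 (ModuleCat.of B K))) rfl (hext1 _)
  obtain ⟨s, rfl⟩ := (Ext.mk₀_bijective (ModuleCat.of B K) (ModuleCat.of B (Fin b → B))).2 x₂
  rw [Ext.mk₀_comp_mk₀] at hx₂
  have hsg : s ≫ ModuleCat.ofHom g = 𝟙 (ModuleCat.of B K) := (Ext.mk₀_bijective _ _).1 hx₂
  have hsplit : g.comp s.hom = LinearMap.id := by
    ext x
    exact congrArg (fun φ : ModuleCat.of B K ⟶ ModuleCat.of B K => φ.hom x) hsg
  haveI hKproj : Module.Projective B K := Module.Projective.of_split s.hom g hsplit
  haveI hKfree : Module.Free B K := Module.free_of_flat_of_isLocalRing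
  -- the rank is one
  obtain ⟨d, hd⟩ := Groth.Agent.H29.CM.exists_nat_supportDim (A := B) (M := B)
  have hd' : ringKrullDim B = (d : WithBot ℕ∞) := by
    rw [← Module.supportDim_self_eq_ringKrullDim, hd]
    rfl
  obtain ⟨g0, g1⟩ := Groth.Agent.H72.GorType.ext_kk_gorenstein B d hd'
  have hdB : rB = d := by
    by_contra hne
    obtain ⟨z, hz⟩ := hB2
    exact hz ((g0 rB hne).elim z 0)
  have hrd : rK = d := htB.trans hdB
  obtain ⟨p0, p1⟩ := ext_kk_pi (R := B) d g0 g1 (Module.finrank B K)
  let e : K ≃ₗ[B] (Fin (Module.finrank B K) → B) := (Module.finBasis B K).equivFun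
  have hlen : Module.length B (E B d (Fin (Module.finrank B K) → B)) = 1 := by
    rw [← (extIsoRight (kk B) e.toModuleIso d).length_eq, ← hrd]
    exact h1
  rw [hlen] at p1
  have hr1 : Module.finrank B K = 1 := by exact_mod_cast p1.symm
  exact ⟨(e.trans (LinearEquiv.funCongrLeft B B (finCongr hr1.symm))).trans
    (LinearEquiv.funUnique (Fin 1) B B)⟩

end Groth.Agent.H72.GorK
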