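import Mathlib

/-!
# Projective dimension of finite modules over Noetherian rings under flat base change

For a finite module `M` over a Noetherian ring `R` and `n : ℕ` we construct an `n`-th syzygy `K`
(a finite `R`-module) such that for every flat `R`-algebra `R'`, `R' ⊗ M` has projective dimension
`≤ n` over `R'` iff `R' ⊗ K` is projective over `R'`; the same for localizations.
-/

set_option autoImplicit false
universe u v₁ u₁ v₂ u₂

namespace Groth.Agent.H72.PdLocal

open CategoryTheory TensorProduct

section Gen

variable {C : Type u₁} [Category.{v₁, u₁} C] [Abelian C] {D : Type u₂} [Category.{v₂, u₂} D]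
  [Abelian D]

lemma projectiveDimension_le_of_forall {X : C} {Y : D}
    (h : ∀ i : ℕ, HasProjectiveDimensionLT Y i → HasProjectiveDimensionLT X i) :
    projectiveDimension X ≤ projectiveDimension Y := by
  unfold projectiveDimension
  exact sInf_le_sInf (fun n hn i hi => h i (hn i hi))

lemma projectiveDimension_eq_of_forall {X : C} {Y : D}
    (h : ∀ i : ℕ, HasProjectiveDimensionLT X i ↔ HasProjectiveDimensionLT Y i) :
    projectiveDimension X = projectiveDimension Y :=
  le_antisymm (projectiveDimension_le_of_forall fun i => (h i).mpr)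
    (projectiveDimension_le_of_forall fun i => (h i).mp)

end Gen

section Basic

variable (R : Type u) [CommRing R]

/-- Module-level formulation of `HasProjectiveDimensionLT`. -/
def PdLT (M : Type u) [AddCommGroup M] [Module R M] (n : ℕ) : Prop :=
  HasProjectiveDimensionLT (ModuleCat.of R M) n

variable {R}

lemma PdLT.of_equiv {M N : Type u} [AddCommGroup M] [Module R M] [AddCommGroup N] [Module R N]
    (e : M ≃ₗ[R] N) {n : ℕ} (h : PdLT R M n) : PdLT R N n := by
  have : HasProjectiveDimensionLT (ModuleCat.of R M) n := h
  exact hasProjectiveDimensionLT_of_iso e.toModuleIso n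

lemma pdLT_congr {M N : Type u} [AddCommGroup M] [Module R M] [AddCommGroup N] [Module R N]
    (e : M ≃ₗ[R] N) (n : ℕ) : PdLT R M n ↔ PdLT R N n :=
  ⟨PdLT.of_equiv e, PdLT.of_equiv e.symm⟩

lemma pdLT_zero_iff (M : Type u) [AddCommGroup M] [Module R M] :
    PdLT R M 0 ↔ Subsingleton M := by
  unfold PdLT
  rw [hasProjectiveDimensionLT_zero_iff_isZero]
  exact ModuleCat.isZero_iff_subsingleton

lemma pdLT_one_iff (M : Type u) [AddCommGroup M] [Module R M] :
    PdLT R M 1 ↔ Module.Projective R M := by
  unfold PdLT
  rw [← projective_iff_hasProjectiveDimensionLT_one]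
  exact (IsProjective.iff_projective M).symm

lemma pdLT_succ_iff_of_exact {K F M : Type u} [AddCommGroup K] [Module R K] [AddCommGroup F]
    [Module R F] [AddCommGroup M] [Module R M] [Module.Projective R F]
    (f : K →ₗ[R] F) (g : F →ₗ[R] M) (hf : Function.Injective f) (hfg : Function.Exact f g)
    (hg : Function.Surjective g) (n : ℕ) : PdLT R M (n + 1 + 1) ↔ PdLT R K (n + 1) := by
  have hS : (ModuleCat.shortComplexOfCompEqZero f g hfg.linearMap_comp_eq_zero).ShortExact :=
    ModuleCat.shortComplex_shortExact _ hfg hf hg
  have hP : Projective (ModuleCat.of R F) := (IsProjective.iff_projective F).mp inferInstance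
  exact hS.hasProjectiveDimensionLT_X₃_iff n hP

end Basic

section BaseChange

variable {R : Type u} [CommRing R]

lemma pdLT_baseChange_succ_iff (R' : Type u) [CommRing R'] [Algebra R R'] [Module.Flat R R']
    {F M : Type u} [AddCommGroup F] [Module R F] [AddCommGroup M] [Module R M]
    [Module.Projective R F] (g : F →ₗ[R] M) (hg : Function.Surjective g) (n : ℕ) :
    PdLT R' (R' ⊗[R] M) (n + 1 + 1) ↔ PdLT R' (R' ⊗[R] (LinearMap.ker g)) (n + 1) := by
  have hfg : Function.Exact (LinearMap.ker g).subtype g := LinearMap.exact_subtype_ker_map g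
  have h1 : Function.Injective ((LinearMap.ker g).subtype.baseChange R') := by
    rw [LinearMap.baseChange_eq_ltensor]
    exact Module.Flat.lTensor_preserves_injective_linearMap _ (Submodule.subtype_injective _)
  have h2 : Function.Exact ((LinearMap.ker g).subtype.baseChange R') (g.baseChange R') := by
    rw [LinearMap.baseChange_eq_ltensor, LinearMap.baseChange_eq_ltensor]
    exact lTensor_exact R' hfg hg
  have h3 : Function.Surjective (g.baseChange R') := by
    rw [LinearMap.baseChange_eq_ltensor]
    exact LinearMap.lTensor_surjective R' hg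
  exact pdLT_succ_iff_of_exact _ _ h1 h2 h3 n

/-- The `n`-th syzygy of a finite module over a Noetherian ring controls projective dimension
`≤ n` after every flat base change. -/
theorem exists_syzygy (R : Type u) [CommRing R] [IsNoetherianRing R] (n : ℕ) :
    ∀ (M : Type u) [AddCommGroup M] [Module R M] [Module.Finite R M],
    ∃ (K : Type u) (_ : AddCommGroup K) (_ : Module R K) (_ : Module.Finite R K),
      ∀ (R' : Type u) [CommRing R'] [Algebra R R'] [Module.Flat R R'],
        PdLT R' (R' ⊗[R] M) (n + 1) ↔ Module.Projective R' (R' ⊗[R] K) := by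
  induction n with
  | zero =>
    intro M _ _ _
    exact ⟨M, inferInstance, inferInstance, inferInstance, fun R' _ _ _ => pdLT_one_iff _⟩
  | succ n ih =>
    intro M _ _ _
    obtain ⟨k, g, hg⟩ := Module.Finite.exists_fin' R M
    obtain ⟨K, i1, i2, i3, hK⟩ := ih (LinearMap.ker g)
    refine ⟨K, i1, i2, i3, fun R' _ _ _ => ?_⟩
    exact (pdLT_baseChange_succ_iff R' g hg n).trans (hK R')

end BaseChange

section Loc

variable {R : Type u} [CommRing R] (S : Submonoid R) (M : Type u) [AddCommGroup M] [Module R M]

/-- The localized module as a base change. -/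
noncomputable def locEquiv : (Localization S ⊗[R] M) ≃ₗ[Localization S] LocalizedModule S M :=
  (IsLocalizedModule.isBaseChange S (Localization S) (LocalizedModule.mkLinearMap S M)).equiv

lemma pdLT_loc_iff (n : ℕ) : PdLT (Localization S) (LocalizedModule S M) n ↔
    PdLT (Localization S) (Localization S ⊗[R] M) n :=
  (pdLT_congr (locEquiv S M) n).symm

lemma projective_loc_iff : Module.Projective (Localization S) (LocalizedModule S M) ↔
    Module.Projective (Localization S) (Localization S ⊗[R] M) :=
  ⟨fun _ => Module.Projective.of_equiv (locEquiv S M).symm,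
    fun _ => Module.Projective.of_equiv (locEquiv S M)⟩

end Loc

/-- The `n`-th syzygy, with its three uses: over `R`, after flat base change, after localization. -/
theorem exists_syzygy_loc (R : Type u) [CommRing R] [IsNoetherianRing R] (n : ℕ)
    (M : Type u) [AddCommGroup M] [Module R M] [Module.Finite R M] :
    ∃ (K : Type u) (_ : AddCommGroup K) (_ : Module R K) (_ : Module.Finite R K),
      (PdLT R M (n + 1) ↔ Module.Projective R K) ∧
      (∀ (R' : Type u) [CommRing R'] [Algebra R R'] [Module.Flat R R'],
        PdLT R' (R' ⊗[R] M) (n + 1) ↔ Module.Projective R' (R' ⊗[R] K)) ∧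
      ∀ (S : Submonoid R), PdLT (Localization S) (LocalizedModule S M) (n + 1) ↔
        Module.Projective (Localization S) (LocalizedModule S K) := by
  obtain ⟨K, i1, i2, i3, hK⟩ := exists_syzygy R n M
  refine ⟨K, i1, i2, i3, ?_, hK, fun S => ?_⟩
  · exact (pdLT_congr (TensorProduct.lid R M).symm (n + 1)).trans ((hK R).trans
      ⟨fun _ => Module.Projective.of_equiv (TensorProduct.lid R K),
       fun _ => Module.Projective.of_equiv (TensorProduct.lid R K).symm⟩)
  · exact (pdLT_loc_iff S M (n + 1)).trans
      ((hK (Localization S)).trans (projective_loc_iff S K).symm)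

end Groth.Agent.H72.PdLocal
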