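import Mathlib
import Groth.Agent.H17.NN_RING
import Groth.Agent.H15.SerreNormal

/-!
# Normality of a flat local algebra over a normal Noetherian domain

(RING2) for helper14's S18352: `R` Noetherian normal domain, `A` Noetherian local flat
`R`-algebra with reduced fibres (at all primes) and normal local rings at the primes over `(0)`.
Then `A` is a normal domain.
-/

set_option autoImplicit false
universe u

namespace Groth.Agent.H72.NF_RING2

open Polynomial IsLocalRing TensorProduct

/-! ### flatness lemmas -/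

section Flat

variable {R A : Type u} [CommRing R] [CommRing A] [Algebra R A] [Module.Flat R A]

lemma map_mem_nonZeroDivisors [IsDomain R] {r : R} (hr : r ≠ 0) :
    algebraMap R A r ∈ nonZeroDivisors A := by
  have hreg : IsSMulRegular A r :=
    Module.Flat.isSMulRegular_of_nonZeroDivisors (mem_nonZeroDivisors_of_ne_zero hr)
  rw [mem_nonZeroDivisors_iff_right]
  intro x hx
  apply hreg
  show r • x = r • 0
  rw [smul_zero, Algebra.smul_def, mul_comm]; exact hx

/-- a nonzerodivisor on `R ⧸ I` stays a nonzerodivisor on `A ⧸ I A` for flat `A`. -/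
lemma mem_map_of_mul_mem (I : Ideal R) (d : R) (hd : ∀ y, d * y ∈ I → y ∈ I) (a' : A)
    (h : algebraMap R A d * a' ∈ I.map (algebraMap R A)) : a' ∈ I.map (algebraMap R A) := by
  have hμ : Function.Injective (LinearMap.lsmul R (R ⧸ I) d) := by
    rw [injective_iff_map_eq_zero]
    intro y hy
    obtain ⟨y, rfl⟩ := Ideal.Quotient.mk_surjective y
    have h1 : Ideal.Quotient.mk I (d * y) = 0 := hy
    rw [Ideal.Quotient.eq_zero_iff_mem] at h1 ⊢
    exact hd y h1
  have hinj := Module.Flat.lTensor_preserves_injective_linearMap (M := A)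
    (LinearMap.lsmul R (R ⧸ I) d) hμ
  have hmem : ∀ x : A, x ∈ I.map (algebraMap R A) ↔ x ∈ I • (⊤ : Submodule R A) := by
    intro x
    rw [Ideal.smul_top_eq_map]
    rfl
  rw [hmem] at h ⊢
  have h0 : (LinearMap.lsmul R (R ⧸ I) d).lTensor A (a' ⊗ₜ[R] (1 : R ⧸ I)) = 0 := by
    apply (TensorProduct.tensorQuotEquivQuotSMul A I).injective
    rw [LinearMap.lTensor_tmul, map_zero]
    have h3 : (LinearMap.lsmul R (R ⧸ I) d) (1 : R ⧸ I) = Ideal.Quotient.mk I d := by
      rw [LinearMap.lsmul_apply, Algebra.smul_def, mul_one]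
      rfl
    rw [h3, TensorProduct.tensorQuotEquivQuotSMul_tmul_mk, Submodule.Quotient.mk_eq_zero]
    have h4 : d • a' = algebraMap R A d * a' := Algebra.smul_def d a'
    rw [h4]
    exact h
  have h1 := hinj (h0.trans (map_zero _).symm)
  have h2 : TensorProduct.tensorQuotEquivQuotSMul A I (a' ⊗ₜ[R] (1 : R ⧸ I)) = 0 := by
    rw [h1, map_zero]
  rw [← map_one (Ideal.Quotient.mk I), TensorProduct.tensorQuotEquivQuotSMul_tmul_mk, one_smul,
    Submodule.Quotient.mk_eq_zero] at h2
  exact h2

end Flat

/-! ### height one primes of a normal Noetherian domain -/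

section HeightOne

variable {R : Type u} [CommRing R] [IsDomain R] [IsNoetherianRing R] [IsIntegrallyClosed R]

lemma hasRk_hasSk : LocCoh.HasRk 1 R ∧ LocCoh.HasSk 2 R R :=
  Groth.Agent.H15.SerreNormal.hasRk_hasSk_of_normal (fun p hp =>
    ⟨IsLocalization.isDomain_of_atPrime (Localization.AtPrime p) p,
      isIntegrallyClosed_of_isLocalization (Localization.AtPrime p) p.primeCompl
        p.primeCompl_le_nonZeroDivisors⟩)

/-- a prime below a prime of height at most one is zero or equal to it. -/
lemma eq_of_le_of_height_le_one {p p' : Ideal R} [p.IsPrime] [p'.IsPrime] (hp : p.height ≤ 1)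
    (hle : p' ≤ p) (hne : p' ≠ ⊥) : p' = p := by
  by_contra hneq
  have hlt : p' < p := lt_of_le_of_ne hle hneq
  have h1 := Ideal.height_strict_mono_of_isPrime_of_isPrime hlt
  have h2 : p'.height < 1 := lt_of_lt_of_le h1 hp
  have h3 : p'.height = 0 := ENat.lt_one_iff_eq_zero.mp h2
  exact hne (Ideal.height_eq_zero_iff_eq_bot.mp h3)

/-- a uniformizer at a height one prime. -/
lemma exists_uniformizer (p : Ideal R) [p.IsPrime] (hp : p.height ≤ 1) :
    ∃ π₀ : R, maximalIdeal (Localization.AtPrime p) =
      Ideal.span {algebraMap R (Localization.AtPrime p) π₀} := by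
  have hreg : IsRegularLocalRing (Localization.AtPrime p) :=
    (hasRk_hasSk (R := R)).1 p (by exact_mod_cast hp)
  have hdim : ringKrullDim (Localization.AtPrime p) ≤ 1 := by
    rw [IsLocalization.AtPrime.ringKrullDim_eq_height p (Localization.AtPrime p)]
    exact_mod_cast hp
  obtain ⟨π', hπ'⟩ := Groth.Agent.H15.SerreNormal.exists_maximalIdeal_eq_span_singleton
    (Localization.AtPrime p) hdim
  obtain ⟨π₁, s₁, rfl⟩ := IsLocalization.exists_mk'_eq p.primeCompl π'
  refine ⟨π₁, ?_⟩
  rw [hπ', Ideal.span_singleton_eq_span_singleton]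
  exact ⟨(IsLocalization.map_units (Localization.AtPrime p) s₁).unit, by
    rw [IsUnit.unit_spec, IsLocalization.mk'_spec]⟩

variable (p : Ideal R) [p.IsPrime] {π₀ : R}
  (hπ : maximalIdeal (Localization.AtPrime p) =
    Ideal.span {algebraMap R (Localization.AtPrime p) π₀})

include hπ

lemma uniformizer_mem : π₀ ∈ p := by
  rw [← IsLocalization.AtPrime.to_map_mem_maximal_iff (Localization.AtPrime p) p π₀, hπ]
  exact Ideal.mem_span_singleton_self _

lemma exists_mul_mem_span {g : R} (hg : g ∈ p) : ∃ s, s ∉ p ∧ s * g ∈ Ideal.span {π₀} := by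
  have h1 : algebraMap R (Localization.AtPrime p) g ∈
      (Ideal.span {π₀}).map (algebraMap R (Localization.AtPrime p)) := by
    rw [Ideal.map_span, Set.image_singleton, ← hπ]
    exact (IsLocalization.AtPrime.to_map_mem_maximal_iff (Localization.AtPrime p) p g).mpr hg
  obtain ⟨s, hs, hsg⟩ := (IsLocalization.algebraMap_mem_map_algebraMap_iff p.primeCompl
    (Localization.AtPrime p) (Ideal.span {π₀}) g).mp h1
  exact ⟨s, hs, hsg⟩

lemma exists_eq_mul_pow {r : R} (hr : r ≠ 0) :
    ∃ (n : ℕ) (s t : R), s ∉ p ∧ t ∉ p ∧ s * r = t * π₀ ^ n := by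
  have hinj : Function.Injective (algebraMap R (Localization.AtPrime p)) :=
    IsLocalization.injective (Localization.AtPrime p) p.primeCompl_le_nonZeroDivisors
  have hr' : algebraMap R (Localization.AtPrime p) r ≠ 0 := fun h =>
    hr (hinj (h.trans (map_zero _).symm))
  obtain ⟨n, u, hu, hru⟩ := Groth.Agent.H15.SerreNormal.exists_unit_mul_pow hπ hr'
  obtain ⟨t, s, rfl⟩ := IsLocalization.exists_mk'_eq p.primeCompl u
  have ht : t ∈ p.primeCompl :=
    (IsLocalization.AtPrime.isUnit_mk'_iff (Localization.AtPrime p) p t s).mp hu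
  refine ⟨n, s, t, s.2, ht, hinj ?_⟩
  rw [map_mul, map_mul, map_pow, hru, ← mul_assoc, mul_comm (algebraMap R _ (s : R)),
    IsLocalization.mk'_spec]

end HeightOne

/-! ### the main argument -/

section Main

variable {R A : Type u} [CommRing R] [IsDomain R] [IsNoetherianRing R] [IsIntegrallyClosed R]
  [CommRing A] [Algebra R A] [Module.Flat R A]

/-- the generic fibre ring `A ⊗ Frac R`. -/
abbrev GenFib (R A : Type u) [CommRing R] [CommRing A] [Algebra R A] : Type u :=
  Localization (Algebra.algebraMapSubmonoid A (nonZeroDivisors R))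

omit [IsNoetherianRing R] [IsIntegrallyClosed R] in
lemma submonoid_le : Algebra.algebraMapSubmonoid A (nonZeroDivisors R) ≤ nonZeroDivisors A := by
  rintro _ ⟨r, hr, rfl⟩
  exact map_mem_nonZeroDivisors (R := R) (nonZeroDivisors.ne_zero hr)

omit [IsNoetherianRing R] [IsIntegrallyClosed R] in
lemma genFib_injective : Function.Injective (algebraMap A (GenFib R A)) :=
  IsLocalization.injective _ (submonoid_le (R := R) (A := A))

omit [IsNoetherianRing R] [IsIntegrallyClosed R] [Module.Flat R A] in
lemma isUnit_map {r : R} (hr : r ≠ 0) :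
    IsUnit (algebraMap A (GenFib R A) (algebraMap R A r)) :=
  IsLocalization.map_units (GenFib R A)
    (⟨algebraMap R A r, ⟨r, mem_nonZeroDivisors_of_ne_zero hr, rfl⟩⟩ :
      Algebra.algebraMapSubmonoid A (nonZeroDivisors R))

/-- the ideal of denominators in `R` of an element of the generic fibre ring. -/
def denom (x : GenFib R A) : Ideal R where
  carrier := {r | ∃ a : A, algebraMap A (GenFib R A) a =
    algebraMap A (GenFib R A) (algebraMap R A r) * x}
  zero_mem' := ⟨0, by simp⟩
  add_mem' := by
    rintro r s ⟨a, ha⟩ ⟨b, hb⟩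
    exact ⟨a + b, by rw [map_add, map_add, map_add, add_mul, ha, hb]⟩
  smul_mem' := by
    rintro c r ⟨a, ha⟩
    exact ⟨algebraMap R A c * a, by
      rw [smul_eq_mul, map_mul, map_mul, map_mul, ha, mul_assoc]⟩

omit [IsDomain R] [IsNoetherianRing R] [IsIntegrallyClosed R] [Module.Flat R A] in
lemma mem_denom {x : GenFib R A} {r : R} : r ∈ denom x ↔ ∃ a : A,
    algebraMap A (GenFib R A) a = algebraMap A (GenFib R A) (algebraMap R A r) * x := Iff.rfl

omit [IsNoetherianRing R] [IsIntegrallyClosed R] [Module.Flat R A] in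
lemma exists_ne_zero_mem_denom (x : GenFib R A) : ∃ r, r ≠ 0 ∧ r ∈ denom x := by
  obtain ⟨⟨a, s⟩, hs⟩ := IsLocalization.surj (Algebra.algebraMapSubmonoid A (nonZeroDivisors R)) x
  obtain ⟨r, hr, hrs⟩ := s.2
  refine ⟨r, nonZeroDivisors.ne_zero hr, a, ?_⟩
  rw [hrs, mul_comm]
  exact hs.symm

/-- elements of `p A` can be moved into `π₀ A` by an element of `R ∖ p`. -/
lemma exists_mul_mem_of_mem_map (p : Ideal R) [p.IsPrime] {π₀ : R}
    (hπ : maximalIdeal (Localization.AtPrime p) =
      Ideal.span {algebraMap R (Localization.AtPrime p) π₀}) {z : A}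
    (hz : z ∈ p.map (algebraMap R A)) :
    ∃ s, s ∉ p ∧ algebraMap R A s * z ∈ Ideal.span {algebraMap R A π₀} := by
  revert z
  suffices key : ∀ z ∈ Submodule.span A ((algebraMap R A) '' (p : Set R)),
      ∃ s, s ∉ p ∧ algebraMap R A s * z ∈ Ideal.span {algebraMap R A π₀} from
    fun z hz => key z hz
  intro z hz'
  induction hz' using Submodule.span_induction with
  | mem z hz =>
    obtain ⟨g, hg, rfl⟩ := hz
    obtain ⟨s, hs, hsg⟩ := exists_mul_mem_span p hπ hg
    refine ⟨s, hs, ?_⟩
    obtain ⟨c, hc⟩ := Ideal.mem_span_singleton'.mp hsg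
    rw [← map_mul, ← hc, map_mul]
    exact Ideal.mul_mem_left _ _ (Ideal.mem_span_singleton_self _)
  | zero => exact ⟨1, fun h => (inferInstance : p.IsPrime).ne_top ((Ideal.eq_top_iff_one _).mpr h),
      by simp⟩
  | add z w _ _ hz hw =>
    obtain ⟨s, hs, hsz⟩ := hz
    obtain ⟨t, ht, htw⟩ := hw
    refine ⟨s * t, fun h => ?_, ?_⟩
    · rcases (inferInstance : p.IsPrime).mem_or_mem h with h | h
      exacts [hs h, ht h]
    · rw [map_mul, mul_add]
      refine Ideal.add_mem _ ?_ ?_
      · rw [mul_comm (algebraMap R A s), mul_assoc]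
        exact Ideal.mul_mem_left _ _ hsz
      · rw [mul_assoc]
        exact Ideal.mul_mem_left _ _ htw
  | smul c z _ hz =>
    obtain ⟨s, hs, hsz⟩ := hz
    refine ⟨s, hs, ?_⟩
    rw [smul_eq_mul, mul_left_comm]
    exact Ideal.mul_mem_left _ _ hsz

variable [IsLocalRing A] [IsNoetherianRing A]
  (hred : ∀ (q : Ideal A) [q.IsPrime], IsReduced (Localization.AtPrime q ⧸
    (q.comap (algebraMap R A)).map ((algebraMap A (Localization.AtPrime q)).comp
      (algebraMap R A))))

include hred

omit [IsLocalRing A] [IsNoetherianRing A] [IsNoetherianRing R] [IsIntegrallyClosed R]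
  [Module.Flat R A] [IsDomain R] in
/-- reducedness of the fibre at `q`: if `a ^ m ∈ p A` with `p = q ∩ R` then `c a ∈ p A` for some
`c ∉ q`. -/
lemma exists_mul_mem_map_of_pow_mem (q : Ideal A) [q.IsPrime] {a : A} {m : ℕ}
    (ham : a ^ m ∈ (q.comap (algebraMap R A)).map (algebraMap R A)) :
    ∃ c, c ∉ q ∧ c * a ∈ (q.comap (algebraMap R A)).map (algebraMap R A) := by
  haveI := hred q
  have hmap : (q.comap (algebraMap R A)).map ((algebraMap A (Localization.AtPrime q)).comp
      (algebraMap R A)) = ((q.comap (algebraMap R A)).map (algebraMap R A)).map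
        (algebraMap A (Localization.AtPrime q)) := (Ideal.map_map _ _).symm
  have h1 : (Ideal.Quotient.mk ((q.comap (algebraMap R A)).map
      ((algebraMap A (Localization.AtPrime q)).comp (algebraMap R A)))
      (algebraMap A (Localization.AtPrime q) a)) ^ m = 0 := by
    rw [← map_pow, ← map_pow, Ideal.Quotient.eq_zero_iff_mem, hmap]
    exact Ideal.mem_map_of_mem _ ham
  have h2 := IsNilpotent.eq_zero ⟨m, h1⟩
  rw [Ideal.Quotient.eq_zero_iff_mem, hmap] at h2
  obtain ⟨c, hc, hca⟩ := (IsLocalization.algebraMap_mem_map_algebraMap_iff q.primeCompl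
    (Localization.AtPrime q) ((q.comap (algebraMap R A)).map (algebraMap R A)) a).mp h2
  exact ⟨c, hc, hca⟩

/-- the descent step at a height one prime. -/
lemma denom_descent (p : Ideal R) [p.IsPrime] (hp : p.height ≤ 1) {π₀ : R}
    (hπ : maximalIdeal (Localization.AtPrime p) =
      Ideal.span {algebraMap R (Localization.AtPrime p) π₀}) (hπ0 : π₀ ≠ 0)
    (x : GenFib R A) (hx : IsIntegral A x) (t : R) (ht : t ∉ p) (n : ℕ)
    (h : t * π₀ ^ (n + 1) ∈ denom x) : ∃ t', t' ∉ p ∧ t' * π₀ ^ n ∈ denom x := by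
  obtain ⟨a, ha⟩ := h
  have hπp : π₀ ∈ p := uniformizer_mem p hπ
  -- `y = t π₀ ^ n x` is integral and `π₀ y = a`
  set y : GenFib R A := algebraMap A (GenFib R A) (algebraMap R A (t * π₀ ^ n)) * x with hy
  have hyint : IsIntegral A y := IsIntegral.mul isIntegral_algebraMap hx
  have hay : algebraMap A (GenFib R A) (algebraMap R A π₀) * y = algebraMap A (GenFib R A) a := by
    rw [ha, hy, ← mul_assoc, ← map_mul, ← map_mul]
    congr 3
    ring
  obtain ⟨P, hPm, hPy⟩ := hyint
  have h0 : Polynomial.eval₂ (algebraMap A (GenFib R A))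
      (algebraMap A (GenFib R A) (algebraMap R A π₀) * y)
      (Polynomial.scaleRoots P (algebraMap R A π₀)) = 0 :=
    Polynomial.scaleRoots_eval₂_eq_zero _ hPy
  rw [hay, Polynomial.eval₂_at_apply] at h0
  have h1 : (scaleRoots P (algebraMap R A π₀)).eval a = 0 :=
    genFib_injective (R := R) (by rw [h0, map_zero])
  have h2 : a ^ P.natDegree ∈ Ideal.span {algebraMap R A π₀} :=
    Groth.Agent.H17.NN_RING.pow_mem_of_scaleRoots (algebraMap R A π₀) a 1 Nat.one_pos P hPm
      (by rwa [pow_one])
  have h3 : a ^ P.natDegree ∈ p.map (algebraMap R A) :=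
    (Ideal.span_singleton_le_iff_mem _).mpr (Ideal.mem_map_of_mem _ hπp) h2
  -- the colon ideal
  let I : Ideal A :=
    Submodule.comap (LinearMap.mulRight A a) (Ideal.span {algebraMap R A π₀})
  have hI : ∀ c : A, c ∈ I ↔ c * a ∈ Ideal.span {algebraMap R A π₀} := fun c => Iff.rfl
  have hπI : algebraMap R A π₀ ∈ I :=
    (hI _).mpr (Ideal.mul_mem_right _ _ (Ideal.mem_span_singleton_self _))
  have hmeet : ∃ t', t' ∉ p ∧ algebraMap R A t' ∈ I := by
    by_contra hcon
    push Not at hcon
    have hdisj : Disjoint (I : Set A) (p.primeCompl.map (algebraMap R A) : Submonoid A) := by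
      rw [Set.disjoint_left]
      rintro _ hcI ⟨t', ht', rfl⟩
      exact hcon t' ht' hcI
    obtain ⟨q, hq, hIq, hqd⟩ := Ideal.exists_le_prime_disjoint I _ hdisj
    have hqle : q.comap (algebraMap R A) ≤ p := by
      intro r hr
      by_contra hrp
      exact (Set.disjoint_left.mp hqd) hr ⟨r, hrp, rfl⟩
    have hqne : q.comap (algebraMap R A) ≠ ⊥ := by
      intro hbot
      have : π₀ ∈ q.comap (algebraMap R A) := hIq hπI
      rw [hbot] at this
      exact hπ0 this
    have hqp : q.comap (algebraMap R A) = p := eq_of_le_of_height_le_one hp hqle hqne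
    obtain ⟨c, hc, hca⟩ := exists_mul_mem_map_of_pow_mem hred q (a := a) (m := P.natDegree)
      (by rw [hqp]; exact h3)
    rw [hqp] at hca
    obtain ⟨s, hs, hsc⟩ := exists_mul_mem_of_mem_map p hπ hca
    have hsq : algebraMap R A s ∉ q := fun h => hs (hqp ▸ h)
    have hmemI : algebraMap R A s * c ∈ I := by
      rw [hI, mul_assoc]
      exact hsc
    exact (hq.mem_or_mem (hIq hmemI)).elim hsq hc
  obtain ⟨t', ht', ht'I⟩ := hmeet
  obtain ⟨a'', ha''⟩ := Ideal.mem_span_singleton'.mp ((hI _).mp ht'I)
  refine ⟨t' * t, fun h => ((inferInstance : p.IsPrime).mem_or_mem h).elim ht' ht, a'', ?_⟩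
  apply (isUnit_map (A := A) hπ0).mul_left_cancel
  calc algebraMap A (GenFib R A) (algebraMap R A π₀) * algebraMap A (GenFib R A) a''
      = algebraMap A (GenFib R A) (algebraMap R A t' * a) := by
        rw [← map_mul, mul_comm, ha'']
    _ = algebraMap A (GenFib R A) (algebraMap R A t') *
          (algebraMap A (GenFib R A) (algebraMap R A (t * π₀ ^ (n + 1))) * x) := by
        rw [map_mul, ha]
    _ = algebraMap A (GenFib R A) (algebraMap R A (t' * (t * π₀ ^ (n + 1)))) * x := by
        rw [← mul_assoc, ← map_mul, ← map_mul]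
    _ = algebraMap A (GenFib R A) (algebraMap R A (π₀ * (t' * t * π₀ ^ n))) * x := by
        congr 3
        ring
    _ = algebraMap A (GenFib R A) (algebraMap R A π₀) *
          (algebraMap A (GenFib R A) (algebraMap R A (t' * t * π₀ ^ n)) * x) := by
        rw [map_mul, map_mul, mul_assoc]

/-- at a height one prime the denominator ideal is not contained in the prime. -/
lemma denom_not_le (p : Ideal R) [p.IsPrime] (hp : p.height ≤ 1) (hp0 : p ≠ ⊥)
    (x : GenFib R A) (hx : IsIntegral A x) : ∃ t, t ∉ p ∧ t ∈ denom x := by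
  obtain ⟨π₀, hπ⟩ := exists_uniformizer p hp
  have hπ0 : π₀ ≠ 0 := by
    rintro rfl
    obtain ⟨g, hg, hg0⟩ := Submodule.exists_mem_ne_zero_of_ne_bot hp0
    obtain ⟨s, hs, hsg⟩ := exists_mul_mem_span p hπ hg
    rw [Ideal.span_singleton_zero, Ideal.mem_bot] at hsg
    rcases mul_eq_zero.mp hsg with h | h
    · exact hs (h ▸ p.zero_mem)
    · exact hg0 h
  obtain ⟨r, hr0, hr⟩ := exists_ne_zero_mem_denom x
  obtain ⟨n, s, t, hs, ht, hst⟩ := exists_eq_mul_pow p hπ hr0
  have hstart : t * π₀ ^ n ∈ denom x := by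
    rw [← hst]
    exact Ideal.mul_mem_left _ _ hr
  clear hst hr
  induction n generalizing t with
  | zero => exact ⟨t, ht, by simpa using hstart⟩
  | succ n ih =>
    obtain ⟨t', ht', h'⟩ := denom_descent hred p hp hπ hπ0 x hx t ht n hstart
    exact ih t' ht' h'

/-- KEY2: an element of the generic fibre ring integral over `A` lies in `A`. -/
theorem mem_of_isIntegral (x : GenFib R A) (hx : IsIntegral A x) :
    ∃ a : A, algebraMap A (GenFib R A) a = x := by
  classical
  obtain ⟨r, hr0, a₀, ha₀⟩ := exists_ne_zero_mem_denom x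
  have hfin := Ideal.finite_minimalPrimes_of_isNoetherianRing R (Ideal.span {r})
  -- prime avoidance
  have hd : ∃ d ∈ denom x, ∀ P ∈ (Ideal.span {r}).minimalPrimes, d ∉ P := by
    by_contra hcon
    push Not at hcon
    have hsub : ((denom x : Ideal R) : Set R) ⊆ ⋃ P ∈ ((hfin.toFinset : Finset (Ideal R)) :
        Set (Ideal R)), ((fun P : Ideal R => P) P : Set R) := by
      intro d hd
      obtain ⟨P, hP, hdP⟩ := hcon d hd
      simp only [Set.mem_iUnion]
      exact ⟨P, Finset.mem_coe.mpr (hfin.mem_toFinset.mpr hP), hdP⟩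
    obtain ⟨P, hP, hle⟩ := (Ideal.subset_union_prime (f := fun P : Ideal R => P) ⊥ ⊥
      (fun P hP _ _ => (hfin.mem_toFinset.mp hP).1.1)).mp hsub
    have hPmin := hfin.mem_toFinset.mp hP
    haveI : P.IsPrime := hPmin.1.1
    have hPht : P.height ≤ 1 :=
      Ideal.height_le_one_of_isPrincipal_of_mem_minimalPrimes (Ideal.span {r}) P hPmin
    have hP0 : P ≠ ⊥ := by
      intro h
      have : r ∈ P := hPmin.1.2 (Ideal.mem_span_singleton_self r)
      rw [h, Ideal.mem_bot] at this
      exact hr0 this
    obtain ⟨t, htP, ht⟩ := denom_not_le hred P hPht hP0 x hx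
    exact htP (hle ht)
  obtain ⟨d, hdD, hdP⟩ := hd
  obtain ⟨a_d, ha_d⟩ := hdD
  -- `d` is a nonzerodivisor modulo `r`
  have hreg : ∀ y, d * y ∈ Ideal.span {r} → y ∈ Ideal.span {r} := by
    intro y hy
    refine Groth.Agent.H15.SerreNormal.mem_span_of_forall_height_le_one (hasRk_hasSk (R := R)).2
      (fun u v huv => mul_left_cancel₀ hr0 huv) ?_
    intro Q hQ hQht
    by_cases hrQ : r ∈ Q
    · have hQmin : Q ∈ (Ideal.span {r}).minimalPrimes := by
        refine ⟨⟨hQ, (Ideal.span_singleton_le_iff_mem _).mpr hrQ⟩, ?_⟩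
        rintro P' ⟨hP', hrP'⟩ hP'Q
        haveI := hP'
        have hP'0 : P' ≠ ⊥ := by
          intro h
          have : r ∈ P' := hrP' (Ideal.mem_span_singleton_self r)
          rw [h, Ideal.mem_bot] at this
          exact hr0 this
        exact (eq_of_le_of_height_le_one hQht hP'Q hP'0).ge
      have hdQ : d ∉ Q := hdP Q hQmin
      have hu : IsUnit (algebraMap R (Localization.AtPrime Q) d) :=
        (IsLocalization.AtPrime.isUnit_to_map_iff (Localization.AtPrime Q) Q d).mpr hdQ
      obtain ⟨z, hz⟩ := Ideal.mem_span_singleton'.mp hy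
      rw [Ideal.mem_span_singleton']
      refine ⟨algebraMap R _ z * ↑hu.unit⁻¹, ?_⟩
      have h5 : algebraMap R (Localization.AtPrime Q) d * algebraMap R _ y =
          algebraMap R _ z * algebraMap R _ r := by
        rw [← map_mul, ← map_mul, hz]
      calc algebraMap R (Localization.AtPrime Q) z * ↑hu.unit⁻¹ * algebraMap R _ r
          = ↑hu.unit⁻¹ * (algebraMap R _ z * algebraMap R _ r) := by ring
        _ = ↑hu.unit⁻¹ * (algebraMap R (Localization.AtPrime Q) d * algebraMap R _ y) := by
            rw [h5]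
        _ = algebraMap R _ y := by
            rw [← mul_assoc, IsUnit.val_inv_mul, one_mul]
    · have hu : IsUnit (algebraMap R (Localization.AtPrime Q) r) :=
        (IsLocalization.AtPrime.isUnit_to_map_iff (Localization.AtPrime Q) Q r).mpr hrQ
      rw [Ideal.span_singleton_eq_top.mpr hu]
      trivial
  -- transfer to `A` by flatness
  have hA : algebraMap R A d * a₀ ∈ (Ideal.span {r}).map (algebraMap R A) := by
    have e : algebraMap R A d * a₀ = algebraMap R A r * a_d := by
      apply genFib_injective (R := R)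
      rw [map_mul, map_mul, ha₀, ha_d]
      ring
    rw [e, Ideal.map_span, Set.image_singleton]
    exact Ideal.mul_mem_right _ _ (Ideal.mem_span_singleton_self _)
  have hA' := mem_map_of_mul_mem (Ideal.span {r}) d hreg a₀ hA
  rw [Ideal.map_span, Set.image_singleton] at hA'
  obtain ⟨b, hb⟩ := Ideal.mem_span_singleton'.mp hA'
  refine ⟨b, ?_⟩
  apply (isUnit_map (A := A) hr0).mul_left_cancel
  rw [← ha₀, ← hb, map_mul, mul_comm]

end Main

/-- (RING2) -/
theorem normal_of_flat_of_fibres {R A : Type u} [CommRing R] [IsDomain R] [IsNoetherianRing R]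
    [IsIntegrallyClosed R] [CommRing A] [IsLocalRing A] [IsNoetherianRing A] [Algebra R A]
    [Module.Flat R A]
    (hred : ∀ (q : Ideal A) [q.IsPrime], IsReduced (Localization.AtPrime q ⧸
      (q.comap (algebraMap R A)).map ((algebraMap A (Localization.AtPrime q)).comp
        (algebraMap R A))))
    (hgen : ∀ (q : Ideal A) [q.IsPrime], q.comap (algebraMap R A) = ⊥ →
      IsDomain (Localization.AtPrime q) ∧ IsIntegrallyClosed (Localization.AtPrime q)) :
    IsDomain A ∧ IsIntegrallyClosed A := by
  have hinj : Function.Injective (algebraMap A (GenFib R A)) := genFib_injective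
  have hkey : ∀ b : GenFib R A, IsIntegral A b → ∃ a, algebraMap A _ a = b :=
    fun b hb => mem_of_isIntegral hred b hb
  have hlocal : ∀ (Q : Ideal (GenFib R A)) [Q.IsPrime],
      IsDomain (Localization.AtPrime Q) ∧ IsIntegrallyClosed (Localization.AtPrime Q) := by
    intro Q hQ
    haveI hqp : (Q.comap (algebraMap A (GenFib R A))).IsPrime := Ideal.comap_isPrime _ _
    haveI : IsLocalization.AtPrime (Localization.AtPrime Q)
        (Q.comap (algebraMap A (GenFib R A))) :=
      IsLocalization.isLocalization_isLocalization_atPrime_isLocalization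
        (Algebra.algebraMapSubmonoid A (nonZeroDivisors R)) (Localization.AtPrime Q) Q
    have hq0 : (Q.comap (algebraMap A (GenFib R A))).comap (algebraMap R A) = ⊥ := by
      rw [eq_bot_iff]
      intro r hr
      rw [Ideal.mem_bot]
      by_contra hr0
      have h2 : algebraMap A (GenFib R A) (algebraMap R A r) ∈ Q := hr
      exact hQ.ne_top (Ideal.eq_top_of_isUnit_mem _ h2 (isUnit_map hr0))
    obtain ⟨hd, hic⟩ := hgen _ hq0
    let e : Localization.AtPrime (Q.comap (algebraMap A (GenFib R A))) ≃ₐ[A]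
        Localization.AtPrime Q :=
      IsLocalization.algEquiv (Q.comap (algebraMap A (GenFib R A))).primeCompl _ _
    haveI := hd
    haveI := hic
    exact ⟨Function.Injective.isDomain (e.symm.toRingEquiv.toRingHom) e.symm.toRingEquiv.injective,
      IsIntegrallyClosed.of_equiv e.toRingEquiv⟩
  haveI : IsNoetherianRing (GenFib R A) :=
    IsLocalization.isNoetherianRing (Algebra.algebraMapSubmonoid A (nonZeroDivisors R)) _
      inferInstance
  haveI hBdom : IsDomain (GenFib R A) :=
    Groth.Agent.H17.NN_RING.isDomain_of_local_domains hinj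
      (fun e he => hkey e (Groth.Agent.H17.NN_RING.isIntegral_of_idem e he))
      (fun Q _ => (hlocal Q).1)
  haveI hAdom : IsDomain A := Function.Injective.isDomain (algebraMap A (GenFib R A)) hinj
  haveI hBic : IsIntegrallyClosed (GenFib R A) :=
    IsIntegrallyClosed.of_localization_maximal (fun Q _ _ => (hlocal Q).2)
  refine ⟨hAdom, ?_⟩
  have hu : ∀ y : Algebra.algebraMapSubmonoid A (nonZeroDivisors R),
      IsUnit (algebraMap A (FractionRing A) y) := fun y =>
    IsLocalization.map_units (FractionRing A) (⟨y, submonoid_le y.2⟩ : nonZeroDivisors A)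
  letI : Algebra (GenFib R A) (FractionRing A) := (IsLocalization.lift hu).toAlgebra
  haveI : IsScalarTower A (GenFib R A) (FractionRing A) :=
    IsScalarTower.of_algebraMap_eq (fun a => (IsLocalization.lift_eq hu a).symm)
  haveI : IsFractionRing (GenFib R A) (FractionRing A) :=
    IsFractionRing.isFractionRing_of_isDomain_of_isLocalization
      (Algebra.algebraMapSubmonoid A (nonZeroDivisors R)) _ _
  rw [isIntegrallyClosed_iff (FractionRing A)]
  intro x hx
  obtain ⟨b, rfl⟩ := IsIntegrallyClosed.isIntegral_iff.1 (hx.tower_top (A := GenFib R A))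
  have hb : IsIntegral A b :=
    (isIntegral_algHom_iff (IsScalarTower.toAlgHom A (GenFib R A) (FractionRing A))
      (IsFractionRing.injective (GenFib R A) _)).1 hx
  obtain ⟨a, rfl⟩ := hkey b hb
  exact ⟨a, IsScalarTower.algebraMap_apply A (GenFib R A) (FractionRing A) a⟩

end Groth.Agent.H72.NF_RING2
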