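import Mathlib
import Groth.Agent.S0389
import Groth.Agent.H57.RelAssGen.Defs
import Groth.Agent.H51.RA_B1
import Groth.Agent.H83.RA_B2a
import Groth.Agent.H11.NoetherDomain2

/-!
# (C3) for helper57's S5872 / S5873 squad

Incomparability for a map which is integral modulo `𝔞` up to powers of `a₁`.
-/

set_option autoImplicit false
universe u

open Groth.Agent.H57.RelAssGen

namespace Groth.Agent.H72.SU_C3

section Domain

variable {A B M : Type u} [CommRing A] [IsDomain A] [CommRing B] [Algebra A B]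
  [Algebra.FiniteType A B] [AddCommGroup M] [Module B M] [Module A M] [IsScalarTower A B M]
  [Module.Finite B M]

omit [IsDomain A] [Algebra.FiniteType A B] in
/-- (C3) incomparability for a map which is integral modulo `𝔞` up to powers of `a₁`. -/
theorem eq_of_le_of_comap_eq {d : ℕ} (φ : MvPolynomial (Fin d) A →ₐ[A] B) (𝔞 : Ideal B) (a₁ : A)
    (hint : ∀ b : B, ∃ k : ℕ,
      ((Ideal.Quotient.mk 𝔞).comp (φ : MvPolynomial (Fin d) A →+* B)).IsIntegralElem
        (Ideal.Quotient.mk 𝔞 (algebraMap A B (a₁ ^ k) * b)))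
    (q' q : Ideal B) [q'.IsPrime] [q.IsPrime] (h𝔞 : 𝔞 ≤ q') (hle : q' ≤ q)
    (ha₁ : algebraMap A B a₁ ∉ q)
    (hcomap : q'.comap (φ : MvPolynomial (Fin d) A →+* B) =
      q.comap (φ : MvPolynomial (Fin d) A →+* B)) : q' = q := by
  have hq' : q'.IsPrime := inferInstance
  by_contra hne
  have hlt : q' < q := lt_of_le_of_ne hle hne
  obtain ⟨y, hyq, hyq'⟩ := SetLike.exists_of_lt hlt
  obtain ⟨k, P, hPm, hPe⟩ := hint y
  have hrq : algebraMap A B (a₁ ^ k) * y ∈ q := q.mul_mem_left _ hyq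
  have hrq' : algebraMap A B (a₁ ^ k) * y ∉ q' := by
    intro hmem
    rcases hq'.mem_or_mem hmem with h | h
    · rw [map_pow] at h
      exact ha₁ (hle (hq'.mem_of_pow_mem _ h))
    · exact hyq' h
  have hev : P.eval₂ (φ : MvPolynomial (Fin d) A →+* B) (algebraMap A B (a₁ ^ k) * y) ∈ q' := by
    apply h𝔞
    rw [← Ideal.Quotient.eq_zero_iff_mem, Polynomial.hom_eval₂]
    exact hPe
  have hlt' := Ideal.comap_lt_comap_of_root_mem_sdiff
    (f := (φ : MvPolynomial (Fin d) A →+* B)) hle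
    (⟨hrq, hrq'⟩ : algebraMap A B (a₁ ^ k) * y ∈ (q : Set B) \ q')
    (Polynomial.map_monic_ne_zero hPm) hev
  rw [hcomap] at hlt'
  exact lt_irrefl _ hlt'

end Domain

end Groth.Agent.H72.SU_C3
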