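import Mathlib
import Groth.Agent.S0389
import Groth.Agent.H57.RelAssGen.Defs
import Groth.Agent.H51.RA_B1
import Groth.Agent.H83.RA_B2a
import Groth.Agent.H11.NoetherDomain2
import Groth.Agent.H72.SU_C3

/-!
# (COP), hypothesis form, for helper57's S5872 / S5873 squad

The coprimary case: `coprimary_socAt_core` is the exact statement of (COP) with the statements of
(C1) `exists_noether_normalization` and (C2) `fibre_torsionFree` taken as hypotheses `hC1`, `hC2`.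
The exact-statement wrapper is in `Groth/Agent/H72/SU_COP.lean`.
-/

set_option autoImplicit false
universe u

open Groth.Agent.H57.RelAssGen

namespace Groth.Agent.H72.SU_COP

section Domain

variable {A B M : Type u} [CommRing A] [IsDomain A] [CommRing B] [Algebra A B]
  [Algebra.FiniteType A B] [AddCommGroup M] [Module B M] [Module A M] [IsScalarTower A B M]
  [Module.Finite B M]

omit [Algebra.FiniteType A B] [Module.Finite B M] in
/-- (COP) with (C1), (C2) as hypotheses. -/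
theorem coprimary_socAt_core
    (hC1 : ∀ 𝔞 : Ideal B, 𝔞.comap (algebraMap A B) = ⊥ →
      ∃ (d : ℕ) (φ : MvPolynomial (Fin d) A →ₐ[A] B) (a₁ : A), a₁ ≠ 0 ∧
        (∀ c : MvPolynomial (Fin d) A, φ c ∈ 𝔞 → c = 0) ∧
        ∀ b : B, ∃ k : ℕ,
          ((Ideal.Quotient.mk 𝔞).comp (φ : MvPolynomial (Fin d) A →+* B)).IsIntegralElem
            (Ideal.Quotient.mk 𝔞 (algebraMap A B (a₁ ^ k) * b)))
    (hC2 : ∀ {d : ℕ} (φ : MvPolynomial (Fin d) A →ₐ[A] B),
      (∀ c : MvPolynomial (Fin d) A, c ≠ 0 → ∀ n : M, φ c • n = 0 → n = 0) →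
      ∃ a : A, a ≠ 0 ∧ ∀ p : Ideal A, p.IsPrime → a ∉ p → ∀ c : MvPolynomial (Fin d) A,
        c ∉ p.map (MvPolynomial.C : A →+* MvPolynomial (Fin d) A) → ∀ n : M,
        φ c • n ∈ p • (⊤ : Submodule A M) → ∃ k : ℕ, a ^ k • n ∈ p • (⊤ : Submodule A M))
    (q₀ : Ideal B) [q₀.IsPrime] (hq₀ : q₀.comap (algebraMap A B) = ⊥)
    (hnil : ∀ b ∈ q₀, ∃ k : ℕ, ∀ n : M, b ^ k • n = 0)
    (hreg : ∀ b : B, b ∉ q₀ → ∀ n : M, b • n = 0 → n = 0) :
    ∃ a : A, a ≠ 0 ∧ ∀ q : Ideal B, q.IsPrime → algebraMap A B a ∉ q →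
      SocAt (fibI A q) q M → q₀ ≤ q ∧
        ∀ q' : Ideal B, q'.IsPrime → q₀ ≤ q' → q' ≤ q →
          q'.comap (algebraMap A B) = q.comap (algebraMap A B) → q' = q := by
  classical
  rcases subsingleton_or_nontrivial M with hM | hM
  · refine ⟨1, one_ne_zero, ?_⟩
    intro q hq _ hsoc
    exfalso
    obtain ⟨m, hm1, _⟩ := hsoc
    apply hm1 1 (fun h1 => hq.ne_top ((Ideal.eq_top_iff_one q).mpr h1))
    rw [Subsingleton.elim ((1 : B) • m) 0]
    exact Submodule.zero_mem _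
  -- nontrivial case
  obtain ⟨𝔞, h𝔞def⟩ : ∃ 𝔞 : Ideal B, 𝔞 = Module.annihilator B M := ⟨_, rfl⟩
  have hmem𝔞 : ∀ b : B, b ∈ 𝔞 ↔ ∀ n : M, b • n = 0 := by
    intro b
    rw [h𝔞def]
    exact Module.mem_annihilator
  have h𝔞q₀ : 𝔞 ≤ q₀ := by
    intro b hb
    by_contra hbq
    obtain ⟨x, hx⟩ := exists_ne (0 : M)
    exact hx (hreg b hbq x ((hmem𝔞 b).mp hb x))
  have h𝔞comap : 𝔞.comap (algebraMap A B) = ⊥ :=
    eq_bot_iff.mpr ((Ideal.comap_mono h𝔞q₀).trans hq₀.le)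
  obtain ⟨d, φ, a₁, ha₁, hinj, hint⟩ := hC1 𝔞 h𝔞comap
  have hregφ : ∀ c : MvPolynomial (Fin d) A, c ≠ 0 → ∀ n : M, φ c • n = 0 → n = 0 := by
    intro c hc n hn
    refine hreg (φ c) ?_ n hn
    intro hmem
    obtain ⟨k, hk⟩ := hnil (φ c) hmem
    have h1 : φ (c ^ k) ∈ 𝔞 := by
      rw [map_pow]
      exact (hmem𝔞 _).mpr hk
    exact hc (eq_zero_of_pow_eq_zero (hinj _ h1))
  obtain ⟨a₂, ha₂, hC2'⟩ := hC2 φ hregφ
  refine ⟨a₁ * a₂, mul_ne_zero ha₁ ha₂, ?_⟩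
  intro q hq hqa hsoc
  have hqa₁ : algebraMap A B a₁ ∉ q := fun h =>
    hqa (by rw [map_mul]; exact q.mul_mem_right _ h)
  have hqa₂ : algebraMap A B a₂ ∉ q := fun h =>
    hqa (by rw [map_mul]; exact q.mul_mem_left _ h)
  obtain ⟨m, hm1, hm2⟩ := hsoc
  have h𝔞q : 𝔞 ≤ q := by
    intro b hb
    by_contra hbq
    apply hm1 b hbq
    rw [(hmem𝔞 b).mp hb m]
    exact Submodule.zero_mem _
  have hq₀q : q₀ ≤ q := by
    intro b hb
    obtain ⟨k, hk⟩ := hnil b hb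
    exact hq.mem_of_pow_mem k (h𝔞q ((hmem𝔞 _).mpr hk))
  refine ⟨hq₀q, ?_⟩
  intro q' hq' hq₀q' hq'q hcomap
  haveI := hq
  haveI := hq'
  refine Groth.Agent.H72.SU_C3.eq_of_le_of_comap_eq φ 𝔞 a₁ hint q' q (h𝔞q₀.trans hq₀q') hq'q
    hqa₁ ?_
  apply le_antisymm (Ideal.comap_mono hq'q)
  have hpprime : (q.comap (algebraMap A B)).IsPrime := Ideal.comap_isPrime _ _
  have ha₂p : a₂ ∉ q.comap (algebraMap A B) := fun h => hqa₂ (Ideal.mem_comap.mp h)
  have hstep : q.comap (φ : MvPolynomial (Fin d) A →+* B) ≤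
      (q.comap (algebraMap A B)).map (MvPolynomial.C : A →+* MvPolynomial (Fin d) A) := by
    intro c hc
    by_contra hcp
    have hφc : φ c ∈ q := Ideal.mem_comap.mp hc
    obtain ⟨s, hs, hsm⟩ := hm2 (φ c) hφc
    have h1 : φ c • (s • m) ∈ (q.comap (algebraMap A B)) • (⊤ : Submodule A M) := by
      rw [← Groth.Agent.H51.RA_B1.mem_map_smul_top_iff (B := B), smul_smul, mul_comm]
      exact hsm
    obtain ⟨k, hk⟩ := hC2' _ hpprime ha₂p c hcp (s • m) h1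
    rw [← Groth.Agent.H51.RA_B1.mem_map_smul_top_iff (B := B),
      ← algebraMap_smul B (a₂ ^ k) (s • m), smul_smul] at hk
    refine hm1 _ ?_ hk
    intro hmem
    rcases hq.mem_or_mem hmem with h | h
    · rw [map_pow] at h
      exact hqa₂ (hq.mem_of_pow_mem _ h)
    · exact hs h
  refine hstep.trans ?_
  rw [Ideal.map_le_iff_le_comap]
  intro x hx
  rw [Ideal.mem_comap, Ideal.mem_comap]
  have h2 : (φ : MvPolynomial (Fin d) A →+* B) (MvPolynomial.C x) = algebraMap A B x := by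
    rw [← MvPolynomial.algebraMap_eq]
    exact φ.commutes x
  rw [h2]
  have hx' : x ∈ q'.comap (algebraMap A B) := by rw [hcomap]; exact hx
  exact Ideal.mem_comap.mp hx'

end Domain

end Groth.Agent.H72.SU_COP
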