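import Mathlib
import Groth.Agent.S0389
import Groth.Agent.H57.RelAssGen.Defs
import Groth.Agent.H51.RA_B1
import Groth.Agent.H83.RA_B2a
import Groth.Agent.H11.NoetherDomain2

/-!
# (FIN) for helper57's S5872 / S5873 squad

Over a Noetherian ring, a socle at `q` modulo `0` makes `q` an associated prime.
-/

set_option autoImplicit false
universe u

open Groth.Agent.H57.RelAssGen

namespace Groth.Agent.H72.SU_FIN

/-- (FIN) over a Noetherian ring, a socle at `q` modulo `0` makes `q` an associated prime. -/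
theorem mem_associatedPrimes_of_socAt_bot {B M : Type u} [CommRing B] [IsNoetherianRing B]
    [AddCommGroup M] [Module B M] (q : Ideal B) [q.IsPrime] (h : SocAt (⊥ : Ideal B) q M) :
    q ∈ associatedPrimes B M := by
  classical
  have hq : q.IsPrime := inferInstance
  obtain ⟨m, h1, h2⟩ := h
  have h1' : ∀ s : B, s ∉ q → s • m ≠ 0 := fun s hs h0 =>
    h1 s hs (by rw [h0]; exact Submodule.zero_mem _)
  have h2' : ∀ b ∈ q, ∃ s : B, s ∉ q ∧ (s * b) • m = 0 := by
    intro b hb
    obtain ⟨s, hs, hmem⟩ := h2 b hb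
    rw [Submodule.bot_smul, Submodule.mem_bot] at hmem
    exact ⟨s, hs, hmem⟩
  obtain ⟨S, hS⟩ : (q : Submodule B B).FG := IsNoetherian.noetherian q
  choose! s' hs'q hs'0 using h2'
  obtain ⟨σ, hσ⟩ : ∃ σ : B, σ = ∏ b ∈ S, s' b := ⟨_, rfl⟩
  have hSq : ∀ b ∈ S, b ∈ q := fun b hb => hS ▸ Submodule.subset_span (Finset.mem_coe.mpr hb)
  have hσq : σ ∉ q := by
    intro hmem
    rw [hσ, Ideal.IsPrime.prod_mem_iff] at hmem
    obtain ⟨b, hb, hbq⟩ := hmem
    exact hs'q b (hSq b hb) hbq
  rw [AssociatedPrimes.mem_iff, isAssociatedPrime_iff]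
  refine ⟨hq, σ • m, ?_⟩
  apply le_antisymm
  · intro b hb
    rw [Submodule.mem_colon_singleton, Submodule.mem_bot]
    have hb' : b ∈ Ideal.span (S : Set B) := by rw [hS]; exact hb
    refine Submodule.span_induction (p := fun x _ => x • σ • m = 0) ?_ ?_ ?_ ?_ hb'
    · intro x hx
      have hxS : x ∈ S := Finset.mem_coe.mp hx
      obtain ⟨c, hc⟩ := Finset.dvd_prod_of_mem s' hxS
      have h3 : x * σ = c * (s' x * x) := by rw [hσ, hc]; ring
      rw [smul_smul, h3, mul_smul, hs'0 x (hSq x hxS), smul_zero]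
    · exact zero_smul _ _
    · intro x y _ _ hx hy
      rw [add_smul, hx, hy, add_zero]
    · intro a x _ hx
      rw [smul_eq_mul, mul_smul, hx, smul_zero]
  · intro b hb
    rw [Submodule.mem_colon_singleton, Submodule.mem_bot, smul_smul] at hb
    by_contra hbq
    exact h1' (b * σ) (fun hmem => (hq.mem_or_mem hmem).elim hbq hσq) hb

end Groth.Agent.H72.SU_FIN
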