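import Groth.Agent.H72.PdLocal
import Groth.Agent.H72.Splice

/-!
# Finite projective resolutions with finitely generated terms

Over a Noetherian ring, a finite module of projective dimension `≤ d` has a projective resolution
of length `≤ d` all of whose terms are finitely generated.
-/

set_option autoImplicit false
universe u

namespace Groth.Agent.H72.FGRes

open CategoryTheory Groth.Agent.H72.PdLocal

variable {A : Type u} [CommRing A]

lemma finite_of_isZero {X : ModuleCat.{u} A} (h : Limits.IsZero X) : Module.Finite A X := by
  have : Subsingleton X := ModuleCat.subsingleton_of_isZero h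
  infer_instance

lemma finite_of_iso {X Y : ModuleCat.{u} A} (e : X ≅ Y) [Module.Finite A X] : Module.Finite A Y :=
  Module.Finite.equiv e.toLinearEquiv

theorem exists_fg_resolution [IsNoetherianRing A] (d : ℕ) :
    ∀ (M : Type u) [AddCommGroup M] [Module A M] [Module.Finite A M], PdLT A M (d + 1) →
      ∃ P : ProjectiveResolution (ModuleCat.of A M),
        (∀ i : ℕ, d < i → Limits.IsZero (P.complex.X i)) ∧
          ∀ i : ℕ, Module.Finite A (P.complex.X i) := by
  induction d with
  | zero =>
    intro M _ _ _ h
    have hproj : Module.Projective A M := (pdLT_one_iff M).mp h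
    have : Projective (ModuleCat.of A M) := (IsProjective.iff_projective M).mp hproj
    refine ⟨ProjectiveResolution.self (ModuleCat.of A M), ?_, ?_⟩
    · intro i hi
      exact HomologicalComplex.isZero_single_obj_X _ _ _ _ (by omega)
    · intro i
      cases i with
      | zero =>
        exact finite_of_iso
          (HomologicalComplex.singleObjXSelf (ComplexShape.down ℕ) 0 (ModuleCat.of A M)).symm
      | succ i =>
        exact finite_of_isZero (HomologicalComplex.isZero_single_obj_X _ _ _ _ (by omega))
  | succ d ih =>
    intro M _ _ _ h
    obtain ⟨k, g, hg⟩ := Module.Finite.exists_fin' A M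
    have hex : Function.Exact (LinearMap.ker g).subtype g := LinearMap.exact_subtype_ker_map g
    have hK : PdLT A (LinearMap.ker g) (d + 1) :=
      (pdLT_succ_iff_of_exact _ _ (Submodule.subtype_injective _) hex hg d).mp h
    obtain ⟨Q, hQ0, hQf⟩ := ih (LinearMap.ker g) hK
    have hS : (ModuleCat.shortComplexOfCompEqZero (LinearMap.ker g).subtype g
        hex.linearMap_comp_eq_zero).ShortExact :=
      ModuleCat.shortComplex_shortExact _ hex (Submodule.subtype_injective _) hg
    have hP : Projective (ModuleCat.shortComplexOfCompEqZero (LinearMap.ker g).subtype g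
        hex.linearMap_comp_eq_zero).X₂ :=
      (IsProjective.iff_projective (Fin k → A)).mp inferInstance
    refine ⟨Groth.Agent.H72.splice _ hS Q, ?_, ?_⟩
    · intro i hi
      obtain ⟨j, rfl⟩ := Nat.exists_eq_succ_of_ne_zero (by omega : i ≠ 0)
      exact hQ0 j (by omega)
    · intro i
      cases i with
      | zero => exact (inferInstance : Module.Finite A (Fin k → A))
      | succ j => exact hQf j

end Groth.Agent.H72.FGRes
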