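import Mathlib
import Groth.Prelude.Def_W4bk5brsh7111920
import Groth.Agent.S5756
import Groth.Agent.H29.CM2

/-!
# Adjusted depths under a surjective ring homomorphism

For a surjective ring map `S → R` of Noetherian rings and a finite `S`-module `M` which is also an
`R`-module (compatibly), the `b`-minimum `a`-adjusted depth of `M` over `S` equals the
`bR`-minimum `aR`-adjusted depth over `R`.

* `depth_loc_eq`: `depth_{S_P} M_P = depth_{R_p} M_p` for `P = p ∩ S`.
* `height_quot_eq`: `ht((a+P)/P) = ht((aR+p)/p)`.
* `minAdjDepth_eq_of_surjective`.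
-/

set_option autoImplicit false
universe u

namespace Groth.Agent.H72.FaltLoc

open LocCoh

lemma depth_eq_top_of_subsingleton (A : Type u) [CommRing A] [IsLocalRing A] (N : Type u)
    [AddCommGroup N] [Module A N] [Subsingleton N] : LocCoh.depth A N = ⊤ := by
  unfold LocCoh.depth LocCoh.idealDepth
  refine if_pos ?_
  exact Submodule.eq_top_iff'.mpr fun x => by rw [Subsingleton.elim x 0]; exact zero_mem _

section

variable (S R : Type u) [CommRing S] [CommRing R] [Algebra S R]
  (hπ : Function.Surjective (algebraMap S R))

include hπ

lemma algebraMapSubmonoid_primeCompl (p : Ideal R) [p.IsPrime] :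
    Algebra.algebraMapSubmonoid R (p.comap (algebraMap S R)).primeCompl = p.primeCompl := by
  ext r
  constructor
  · rintro ⟨s, hs, rfl⟩
    exact hs
  · intro hr
    obtain ⟨s, rfl⟩ := hπ r
    exact ⟨s, hr, rfl⟩

lemma exists_comap_eq (P : PrimeSpectrum S) (hker : RingHom.ker (algebraMap S R) ≤ P.asIdeal) :
    ∃ p : PrimeSpectrum R, P = ⟨p.asIdeal.comap (algebraMap S R), inferInstance⟩ := by
  have hprime : (P.asIdeal.map (algebraMap S R)).IsPrime :=
    Ideal.map_isPrime_of_surjective hπ hker
  refine ⟨⟨P.asIdeal.map (algebraMap S R), hprime⟩, ?_⟩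
  apply PrimeSpectrum.ext
  show P.asIdeal = (P.asIdeal.map (algebraMap S R)).comap (algebraMap S R)
  rw [Ideal.comap_map_of_surjective _ hπ, ← RingHom.ker_eq_comap_bot, sup_eq_left.mpr hker]

lemma height_quot_eq (a : Ideal S) (p : Ideal R) [p.IsPrime] :
    ((a ⊔ p.comap (algebraMap S R)).map
        (Ideal.Quotient.mk (p.comap (algebraMap S R)))).height =
      ((a.map (algebraMap S R) ⊔ p).map (Ideal.Quotient.mk p)).height := by
  let g : S ⧸ p.comap (algebraMap S R) →+* R ⧸ p :=
    Ideal.quotientMap p (algebraMap S R) le_rfl
  have hginj : Function.Injective g := Ideal.quotientMap_injective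
  have hgsurj : Function.Surjective g := Ideal.quotientMap_surjective hπ
  let e : S ⧸ p.comap (algebraMap S R) ≃+* R ⧸ p := RingEquiv.ofBijective g ⟨hginj, hgsurj⟩
  have hcomp : g.comp (Ideal.Quotient.mk (p.comap (algebraMap S R))) =
      (Ideal.Quotient.mk p).comp (algebraMap S R) := Ideal.quotientMap_comp_mk le_rfl
  have hmap : ((a ⊔ p.comap (algebraMap S R)).map
      (Ideal.Quotient.mk (p.comap (algebraMap S R)))).map g =
      (a.map (algebraMap S R) ⊔ p).map (Ideal.Quotient.mk p) := by
    rw [Ideal.map_map, hcomp, ← Ideal.map_map, Ideal.map_sup,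
      Ideal.map_comap_of_surjective _ hπ]
  rw [← hmap]
  exact (RingEquiv.height_map e _).symm

end

section

variable (S R : Type u) [CommRing S] [IsNoetherianRing S] [CommRing R] [IsNoetherianRing R]
  [Algebra S R] (hπ : Function.Surjective (algebraMap S R))
  (M : Type u) [AddCommGroup M] [Module S M] [Module R M] [IsScalarTower S R M]
  [Module.Finite S M]

include hπ

/-- `depth_{S_P} M_P = depth_{R_p} M_p` where `P` is the preimage of `p`. -/
theorem depth_loc_eq (p : Ideal R) [p.IsPrime] :
    LocCoh.depth (Localization.AtPrime (p.comap (algebraMap S R)))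
        (LocalizedModule (p.comap (algebraMap S R)).primeCompl M) =
      LocCoh.depth (Localization.AtPrime p) (LocalizedModule p.primeCompl M) := by
  let f : Localization.AtPrime (p.comap (algebraMap S R)) →+* Localization.AtPrime p :=
    Localization.localRingHom (p.comap (algebraMap S R)) p (algebraMap S R) rfl
  letI : Algebra (Localization.AtPrime (p.comap (algebraMap S R))) (Localization.AtPrime p) :=
    f.toAlgebra
  haveI : IsLocalHom (algebraMap (Localization.AtPrime (p.comap (algebraMap S R)))
      (Localization.AtPrime p)) :=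
    Localization.isLocalHom_localRingHom (p.comap (algebraMap S R)) p (algebraMap S R) rfl
  letI : Module (Localization.AtPrime (p.comap (algebraMap S R)))
      (LocalizedModule p.primeCompl M) := Module.compHom (LocalizedModule p.primeCompl M) f
  haveI : IsScalarTower (Localization.AtPrime (p.comap (algebraMap S R)))
      (Localization.AtPrime p) (LocalizedModule p.primeCompl M) :=
    IsScalarTower.of_algebraMap_smul (fun _ _ => rfl)
  haveI : IsScalarTower S (Localization.AtPrime (p.comap (algebraMap S R)))
      (LocalizedModule p.primeCompl M) :=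
    IsScalarTower.of_algebraMap_smul (fun s y => by
      show f (algebraMap S (Localization.AtPrime (p.comap (algebraMap S R))) s) • y = s • y
      rw [Localization.localRingHom_to_map, algebraMap_smul, algebraMap_smul])
  haveI : IsLocalizedModule (Algebra.algebraMapSubmonoid R (p.comap (algebraMap S R)).primeCompl)
      (LocalizedModule.mkLinearMap p.primeCompl M) := by
    rw [algebraMapSubmonoid_primeCompl S R hπ p]
    infer_instance
  haveI : IsLocalizedModule (p.comap (algebraMap S R)).primeCompl
      ((LocalizedModule.mkLinearMap p.primeCompl M).restrictScalars S) :=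
    IsLocalizedModule.restrictScalars (p.comap (algebraMap S R)).primeCompl
      (LocalizedModule.mkLinearMap p.primeCompl M)
  let φ₀ : LocalizedModule (p.comap (algebraMap S R)).primeCompl M ≃ₗ[S]
      LocalizedModule p.primeCompl M :=
    IsLocalizedModule.iso (p.comap (algebraMap S R)).primeCompl
      ((LocalizedModule.mkLinearMap p.primeCompl M).restrictScalars S)
  let φ : LocalizedModule (p.comap (algebraMap S R)).primeCompl M ≃ₗ[Localization.AtPrime
      (p.comap (algebraMap S R))] LocalizedModule p.primeCompl M :=
    LinearEquiv.extendScalarsOfIsLocalization (p.comap (algebraMap S R)).primeCompl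
      (Localization.AtPrime (p.comap (algebraMap S R))) φ₀
  haveI : Module.Finite (Localization.AtPrime (p.comap (algebraMap S R)))
      (LocalizedModule p.primeCompl M) := Module.Finite.equiv φ
  have h1 := Groth.Agent.S5756.result (Localization.AtPrime (p.comap (algebraMap S R)))
    (Localization.AtPrime p) (LocalizedModule p.primeCompl M)
  have h2 : LocCoh.depth (Localization.AtPrime (p.comap (algebraMap S R)))
        (LocalizedModule (p.comap (algebraMap S R)).primeCompl M) =
      LocCoh.depth (Localization.AtPrime (p.comap (algebraMap S R)))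
        (LocalizedModule p.primeCompl M) :=
    Groth.Agent.H29.CM.idealDepth_congr φ
  exact h2.trans h1

/-- The adjusted depth is unchanged by passing to a quotient ring. -/
theorem minAdjDepth_eq_of_surjective (a b : Ideal S) :
    LocCoh.minAdjDepth a b M =
      LocCoh.minAdjDepth (a.map (algebraMap S R)) (b.map (algebraMap S R)) M := by
  have hadj : ∀ p : PrimeSpectrum R,
      LocCoh.adjDepth a M (⟨p.asIdeal.comap (algebraMap S R), inferInstance⟩ : PrimeSpectrum S) =
        LocCoh.adjDepth (a.map (algebraMap S R)) M p := by
    intro p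
    unfold LocCoh.adjDepth
    dsimp only
    rw [depth_loc_eq S R hπ M p.asIdeal, height_quot_eq S R hπ a p.asIdeal]
  apply le_antisymm
  · unfold LocCoh.minAdjDepth
    refine le_iInf₂ fun p hp => ?_
    rw [← hadj p]
    refine iInf₂_le (⟨p.asIdeal.comap (algebraMap S R), inferInstance⟩ : PrimeSpectrum S) ?_
    intro hle
    exact hp (Ideal.map_le_iff_le_comap.mpr hle)
  · unfold LocCoh.minAdjDepth
    refine le_iInf₂ fun P hP => ?_
    by_cases hker : RingHom.ker (algebraMap S R) ≤ P.asIdeal
    · obtain ⟨p, rfl⟩ := exists_comap_eq S R hπ P hker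
      rw [hadj p]
      refine iInf₂_le p ?_
      intro hle
      exact hP (Ideal.map_le_iff_le_comap.mp hle)
    · obtain ⟨s, hsker, hsP⟩ := SetLike.not_le_iff_exists.mp hker
      haveI hsub : Subsingleton (LocalizedModule P.asIdeal.primeCompl M) := by
        rw [LocalizedModule.subsingleton_iff]
        intro m
        refine ⟨s, hsP, ?_⟩
        rw [← algebraMap_smul R s m, (RingHom.mem_ker).mp hsker, zero_smul]
      have htop : LocCoh.adjDepth a M P = ⊤ := by
        unfold LocCoh.adjDepth
        rw [depth_eq_top_of_subsingleton, top_add]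
      rw [htop]
      exact le_top

end

end Groth.Agent.H72.FaltLoc
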