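import Mathlib
import Groth.Prelude.Def_W4bk5brsh7111920
import Groth.Agent.H72.RegLoc
import Groth.Agent.H72.FaltLoc
import Groth.Agent.H58.HtChain
import Groth.Agent.H58.LCBSeq
import Groth.Agent.H58.LCMod
import Groth.Agent.S14424
import Groth.Agent.S11658
import Groth.Agent.S11614

/-!
# Faltings' annihilator theorem (the inequality `λ ≤ f`) over homomorphic images of regular rings

* `TA`: over a regular ring `S`, if `i < λ_a^b(M)` then `b ≤ √Ann H^i_a(M)`.
* `TB`: the same conclusion `λ_a^b(M) ≤ f_a^b(M)` over a homomorphic image of a regular ring.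
-/

set_option autoImplicit false
universe u

namespace Groth.Agent.H72.Faltings

open CategoryTheory LocCoh Groth.Agent.H72.PdLocal Groth.Agent.H72.PdExt Groth.Agent.H72.RegLoc
  Groth.Agent.H58.LC

/-- A regular ring is Cohen–Macaulay. -/
lemma isCMRing_of_isRegularRing (S : Type u) [CommRing S] [IsRegularRing S] :
    LocCoh.IsCohenMacaulayRing S :=
  ⟨fun p hp => by
    haveI := hp
    haveI : IsRegularLocalRing (Localization.AtPrime p) :=
      IsRegularRing.isRegularLocalRing_localization p
    exact ⟨isCM_of_isRegularLocalRing (Localization.AtPrime p)⟩⟩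

lemma idealDepth_eq_height (S : Type u) [CommRing S] [IsRegularRing S] (a : Ideal S)
    (ha : a ≠ ⊤) : LocCoh.idealDepth a S = a.height :=
  (Groth.Agent.S14424.result S).mp (isCMRing_of_isRegularRing S) a ha

/-- `ht P + ht(q/P) ≤ ht q` for primes `P ≤ q`. -/
lemma height_add_height_map_le {S : Type*} [CommRing S] (P q : Ideal S) [P.IsPrime] [q.IsPrime]
    (hPq : P ≤ q) : P.height + (q.map (Ideal.Quotient.mk P)).height ≤ q.height := by
  have hqP : (q.map (Ideal.Quotient.mk P)).IsPrime :=
    Ideal.map_isPrime_of_surjective Ideal.Quotient.mk_surjective (by rw [Ideal.mk_ker]; exact hPq)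
  let φ : PrimeSpectrum (S ⧸ P) → PrimeSpectrum S :=
    fun Q => ⟨Q.asIdeal.comap (Ideal.Quotient.mk P), inferInstance⟩
  have hφ : StrictMono φ := by
    intro Q Q' h
    have hle : Q.asIdeal ≤ Q'.asIdeal := h.le
    have hne : ¬ Q'.asIdeal ≤ Q.asIdeal := fun h' => h.not_ge h'
    rw [lt_iff_le_not_ge]
    refine ⟨Ideal.comap_mono hle, fun hge => hne ?_⟩
    have hge' : Q'.asIdeal.comap (Ideal.Quotient.mk P) ≤ Q.asIdeal.comap (Ideal.Quotient.mk P) :=
      hge
    intro y hy
    obtain ⟨z, rfl⟩ := Ideal.Quotient.mk_surjective y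
    exact hge' hy
  have hb : ∀ Q, (⟨P, inferInstance⟩ : PrimeSpectrum S) ≤ φ Q := by
    intro Q
    show P ≤ Q.asIdeal.comap (Ideal.Quotient.mk P)
    intro r hr
    show Ideal.Quotient.mk P r ∈ Q.asIdeal
    rw [Ideal.Quotient.eq_zero_iff_mem.2 hr]
    exact Q.asIdeal.zero_mem
  have hφQ : φ ⟨q.map (Ideal.Quotient.mk P), hqP⟩ = ⟨q, inferInstance⟩ := by
    apply PrimeSpectrum.ext
    show (q.map (Ideal.Quotient.mk P)).comap (Ideal.Quotient.mk P) = q
    rw [Ideal.comap_map_of_surjective _ Ideal.Quotient.mk_surjective,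
      ← RingHom.ker_eq_comap_bot, Ideal.mk_ker, sup_eq_left.mpr hPq]
  have h := Groth.Agent.H58.Ht.height_add_le φ hφ ⟨P, inferInstance⟩ hb
    ⟨q.map (Ideal.Quotient.mk P), hqP⟩
  rw [hφQ, ← PrimeSpectrum.height_eq_orderHeight, ← PrimeSpectrum.height_eq_orderHeight,
    ← PrimeSpectrum.height_eq_orderHeight] at h
  exact h

lemma minAdjDepth_mono {R : Type u} [CommRing R] {a a' : Ideal R} (h : a ≤ a') (b : Ideal R)
    (M : Type u) [AddCommGroup M] [Module R M] :
    LocCoh.minAdjDepth a b M ≤ LocCoh.minAdjDepth a' b M := by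
  unfold LocCoh.minAdjDepth
  refine iInf₂_mono fun p _ => ?_
  unfold LocCoh.adjDepth
  exact add_le_add le_rfl (Ideal.height_mono (Ideal.map_mono (sup_le_sup_right h _)))

/-- The key local estimate: below a prime `q₁ ⊇ a` of height `h`, at primes not containing `b`
the projective dimension of `M_p` is `< h - i` whenever `i < λ_a^b(M)`. -/
lemma pdLT_of_lt_minAdjDepth (S : Type u) [CommRing S] [IsRegularRing S] (a b q₁ : Ideal S)
    [q₁.IsPrime] (haq : a ≤ q₁) (h : ℕ) (hh : q₁.height = h)
    (M : Type u) [AddCommGroup M] [Module S M] [Module.Finite S M] (i : ℕ)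
    (hi : (i : ℕ∞) < LocCoh.minAdjDepth a b M) (p : PrimeSpectrum S) (hp : p.asIdeal ≤ q₁)
    (hbp : ¬ b ≤ p.asIdeal) :
    PdLT (Localization.AtPrime p.asIdeal) (LocalizedModule p.asIdeal.primeCompl M) (h - i) := by
  classical
  by_cases hMp : Subsingleton (LocalizedModule p.asIdeal.primeCompl M)
  · have h0 : HasProjectiveDimensionLT (ModuleCat.of (Localization.AtPrime p.asIdeal)
        (LocalizedModule p.asIdeal.primeCompl M)) 0 := (pdLT_zero_iff _).mpr hMp
    exact hasProjectiveDimensionLT_of_ge _ 0 (h - i) (Nat.zero_le _)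
  · rw [not_subsingleton_iff_nontrivial] at hMp
    haveI : IsRegularLocalRing (Localization.AtPrime p.asIdeal) :=
      IsRegularRing.isRegularLocalRing_localization p.asIdeal
    have hpd := pdLT_of_isRegularLocalRing (Localization.AtPrime p.asIdeal)
      (LocalizedModule p.asIdeal.primeCompl M)
    have hrle : p.asIdeal.height ≤ (h : ℕ∞) := hh ▸ Ideal.height_mono hp
    obtain ⟨r, hr, -⟩ := ENat.le_natCast_iff.mp hrle
    have hdimB : ringKrullDim (Localization.AtPrime p.asIdeal) = (r : ℕ) := by
      have h1 := IsLocalization.AtPrime.ringKrullDim_eq_height p.asIdeal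
        (Localization.AtPrime p.asIdeal)
      rw [hr] at h1
      exact_mod_cast h1
    have hdepthB := depth_self_eq (Localization.AtPrime p.asIdeal) r hdimB
    obtain ⟨s, e, hs, hse, -, hpe, -⟩ := Groth.Agent.H72.ABLe.exists_depth_add_eq'
      (LocalizedModule p.asIdeal.primeCompl M) _ hpd r hdepthB
    have hadj : (i : ℕ∞) < LocCoh.adjDepth a M p :=
      lt_of_lt_of_le hi (by unfold LocCoh.minAdjDepth; exact iInf₂_le p hbp)
    unfold LocCoh.adjDepth at hadj
    rw [hs] at hadj
    have hsup : a ⊔ p.asIdeal ≤ q₁ := sup_le haq hp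
    have hht1 : ((a ⊔ p.asIdeal).map (Ideal.Quotient.mk p.asIdeal)).height ≤
        (q₁.map (Ideal.Quotient.mk p.asIdeal)).height := Ideal.height_mono (Ideal.map_mono hsup)
    have hht2 := height_add_height_map_le p.asIdeal q₁ hp
    rw [hr, hh] at hht2
    have hc : (q₁.map (Ideal.Quotient.mk p.asIdeal)).height ≤ (h : ℕ∞) :=
      le_trans le_add_self hht2
    obtain ⟨c, hcc, -⟩ := ENat.le_natCast_iff.mp hc
    rw [hcc] at hht2 hht1
    have hrc : r + c ≤ h := by exact_mod_cast hht2
    have hlt : (i : ℕ∞) < (s : ℕ∞) + (c : ℕ∞) :=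
      lt_of_lt_of_le hadj (add_le_add le_rfl hht1)
    have hlt' : i < s + c := by exact_mod_cast hlt
    have hpe' : HasProjectiveDimensionLT (ModuleCat.of (Localization.AtPrime p.asIdeal)
        (LocalizedModule p.asIdeal.primeCompl M)) (e + 1) := hpe
    exact hasProjectiveDimensionLT_of_ge _ (e + 1) (h - i) (by omega)

/-- The locus where `pd M_p > t` is closed, so it is the zero locus of its vanishing ideal. -/
lemma zeroLocus_vanishingIdeal_pd (S : Type u) [CommRing S] [IsNoetherianRing S] (M : Type u)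
    [AddCommGroup M] [Module S M] [Module.Finite S M] (t : ℕ) :
    PrimeSpectrum.zeroLocus (PrimeSpectrum.vanishingIdeal
      {p : PrimeSpectrum S | ¬ HasProjectiveDimensionLE (ModuleCat.of
        (Localization.AtPrime p.asIdeal) (LocalizedModule p.asIdeal.primeCompl M)) t} : Set S) =
      {p : PrimeSpectrum S | ¬ HasProjectiveDimensionLE (ModuleCat.of
        (Localization.AtPrime p.asIdeal) (LocalizedModule p.asIdeal.primeCompl M)) t} := by
  rw [PrimeSpectrum.zeroLocus_vanishingIdeal_eq_closure]
  apply IsClosed.closure_eq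
  obtain ⟨K, i1, i2, i3, -, -, hS⟩ := exists_syzygy_loc S t M
  have hfp : Module.FinitePresentation S K := Module.finitePresentation_of_finite S K
  have hW : {p : PrimeSpectrum S | ¬ HasProjectiveDimensionLE (ModuleCat.of
        (Localization.AtPrime p.asIdeal) (LocalizedModule p.asIdeal.primeCompl M)) t} =
      (Module.freeLocus S K)ᶜ := by
    ext p
    rw [Set.mem_ofPred_eq, Set.mem_compl_iff, not_iff_not]
    constructor
    · intro hpd
      have h1 : Module.Projective (Localization.AtPrime p.asIdeal)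
          (LocalizedModule p.asIdeal.primeCompl K) := (hS p.asIdeal.primeCompl).mp hpd
      have h2 : Module.Free (Localization.AtPrime p.asIdeal)
          (LocalizedModule p.asIdeal.primeCompl K) := Module.free_of_flat_of_isLocalRing
      exact h2
    · intro hfree
      have h4 : Module.Free (Localization.AtPrime p.asIdeal)
          (LocalizedModule p.asIdeal.primeCompl K) := hfree
      exact (hS p.asIdeal.primeCompl).mpr inferInstance
  rw [hW]
  exact (Module.isOpen_freeLocus (R := S) (M := K)).isClosed_compl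

/-- The inductive step: from an ideal `c` a power of which kills `H^i_a(M)` and whose zero locus
below `q₁` lies in `V(b)`, together with the statement for all larger `a`. -/
lemma tail (R : Type u) [CommRing R] [IsNoetherianRing R] (a b c q₁ : Ideal R) [hq : q₁.IsPrime]
    (haq : a ≤ q₁) (M : Type u) [AddCommGroup M] [Module R M] (i n : ℕ)
    (hc : c ^ n ≤ Module.annihilator R (LocCoh.H a i M))
    (hstar : ∀ P : Ideal R, P.IsPrime → P ≤ q₁ → c ≤ P → b ≤ P)
    (IH : ∀ a' : Ideal R, a < a' → b ≤ (Module.annihilator R (LocCoh.H a' i M)).radical) :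
    b ≤ (Module.annihilator R (LocCoh.H a i M)).radical := by
  classical
  have hfin := Ideal.finite_minimalPrimes_of_isNoetherianRing R c
  let F : Finset (Ideal R) := hfin.toFinset.filter (fun P => ¬ P ≤ q₁)
  have hF : ¬ F.inf id ≤ q₁ := by
    intro hle
    obtain ⟨P, hPF, hPq⟩ := (Ideal.IsPrime.inf_le' hq).mp hle
    exact (Finset.mem_filter.mp hPF).2 hPq
  obtain ⟨s₁, hs₁c, hs₁q⟩ := SetLike.not_le_iff_exists.mp hF
  have hrad : ∀ z ∈ b, s₁ * z ∈ c.radical := by
    intro z hz
    rw [← Ideal.sInf_minimalPrimes, Ideal.mem_sInf]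
    intro P hP
    by_cases hPq : P ≤ q₁
    · exact Ideal.mul_mem_left P s₁ (hstar P hP.1.1 hPq hP.1.2 hz)
    · have hPF : P ∈ F := Finset.mem_filter.mpr ⟨hfin.mem_toFinset.mpr hP, hPq⟩
      have hle : F.inf id ≤ P := Finset.inf_le (f := id) hPF
      exact Ideal.mul_mem_right z P (hle hs₁c)
  have hs₁a : s₁ ∉ a := fun h => hs₁q (haq h)
  have hlt : a < a ⊔ Ideal.span {s₁} := by
    refine lt_of_le_of_ne le_sup_left (fun heq => hs₁a ?_)
    rw [heq]
    exact Ideal.mem_sup_right (Ideal.subset_span (Set.mem_singleton s₁))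
  have hIH := IH _ hlt
  intro z hz
  obtain ⟨m, hm⟩ := Ideal.mem_radical_iff.mp (hrad z hz)
  obtain ⟨k, hk⟩ := Ideal.mem_radical_iff.mp (hIH hz)
  refine Ideal.mem_radical_iff.mpr ⟨k + m * n, ?_⟩
  rw [Module.mem_annihilator]
  intro y
  have h1 : ((s₁ * z) ^ m) ^ n ∈ Module.annihilator R (LocCoh.H a i M) :=
    hc (Ideal.pow_mem_pow hm n)
  have h2 : s₁ ^ (m * n) • (z ^ (m * n) • y) = 0 := by
    rw [← mul_smul, ← mul_pow, pow_mul]
    exact Module.mem_annihilator.mp h1 y
  have h3 : z ^ (m * n) • y ∈ LinearMap.range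
      ((Dual2.HmapOfLE (le_sup_left : a ≤ a ⊔ Ideal.span {s₁}) i).app (ModuleCat.of R M)).hom :=
    (mem_range_HmapOfLE_iff a s₁ (ModuleCat.of R M) i _).mpr ⟨m * n, h2⟩
  obtain ⟨x, hx⟩ := LinearMap.mem_range.mp h3
  have h4 : z ^ k • (z ^ (m * n) • y) = 0 := by
    rw [← hx, ← LinearMap.map_smul, Module.mem_annihilator.mp hk x, LinearMap.map_zero]
  rw [pow_add, mul_smul]
  exact h4

/-- **Faltings' annihilator theorem over a regular ring**, the inequality `λ ≤ f`. -/
theorem TA (S : Type u) [CommRing S] [IsRegularRing S] (b : Ideal S) (M : Type u)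
    [AddCommGroup M] [Module S M] [Module.Finite S M] (i : ℕ) (a : Ideal S) :
    (i : ℕ∞) < LocCoh.minAdjDepth a b M →
      b ≤ (Module.annihilator S (LocCoh.H a i M)).radical := by
  induction a using IsNoetherian.induction with
  | hgt a IH =>
  intro hi
  by_cases hatop : a = ⊤
  · have hsub : Subsingleton (LocCoh.H a i M) := by
      have h0 : ∀ w : LocCoh.H a i M, w = 0 := by
        intro w
        obtain ⟨n, hn⟩ := isPowerTorsion_H a i (M := M) w
        have h1 : (1 : S) ∈ a ^ n := by
          rw [hatop, Ideal.top_pow]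
          exact Submodule.mem_top
        have h2 := hn 1 h1
        rwa [one_smul] at h2
      exact ⟨fun x y => by rw [h0 x, h0 y]⟩
    rw [Module.annihilator_eq_top_iff.mpr hsub, Ideal.radical_top]
    exact le_top
  · obtain ⟨h, hh⟩ := ENat.ne_top_iff_exists.mp (Ideal.height_ne_top hatop)
    obtain ⟨q₁, hq₁, haq, hq₁h⟩ := Ideal.exists_isPrime_height_eq hh.symm
    haveI := hq₁
    have hkey : ∃ (c : Ideal S) (n : ℕ), c ^ n ≤ Module.annihilator S (LocCoh.H a i M) ∧
        ∀ P : Ideal S, P.IsPrime → P ≤ q₁ → c ≤ P → b ≤ P := by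
      by_cases hih : i < h
      · obtain ⟨n, hn⟩ := Groth.Agent.S11658.result S M (h - i - 1)
        refine ⟨_, n, hn a hatop i ?_, ?_⟩
        · rw [idealDepth_eq_height S a hatop, ← hh]
          exact_mod_cast (by omega : i + (h - i - 1) < h)
        · intro P hP hPq hcP
          by_contra hbP
          have hmem : (⟨P, hP⟩ : PrimeSpectrum S) ∈ PrimeSpectrum.zeroLocus
              (PrimeSpectrum.vanishingIdeal
                {p : PrimeSpectrum S | ¬ HasProjectiveDimensionLE (ModuleCat.of
                  (Localization.AtPrime p.asIdeal) (LocalizedModule p.asIdeal.primeCompl M))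
                  (h - i - 1)} : Set S) := by
            rw [PrimeSpectrum.mem_zeroLocus]
            exact hcP
          rw [zeroLocus_vanishingIdeal_pd] at hmem
          apply hmem
          have h5 := pdLT_of_lt_minAdjDepth S a b q₁ haq h hq₁h M i hi ⟨P, hP⟩ hPq hbP
          have he : h - i = h - i - 1 + 1 := by omega
          rw [he] at h5
          exact h5
      · refine ⟨Module.annihilator S M, 1, ?_, ?_⟩
        · rw [pow_one]
          intro r hr
          rw [Module.mem_annihilator] at hr ⊢
          intro y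
          have h1 : (r • LinearMap.id : M →ₗ[S] M) = 0 :=
            LinearMap.ext fun m => by simpa using hr m
          have h2 : Hmap a i (r • (LinearMap.id : M →ₗ[S] M)) y =
              (r • Hmap a i (LinearMap.id : M →ₗ[S] M)) y := by rw [Hmap_smul]
          rw [h1, Hmap_zero, Hmap_id] at h2
          exact h2.symm
        · intro P hP hPq hcP
          by_contra hbP
          have h5 := pdLT_of_lt_minAdjDepth S a b q₁ haq h hq₁h M i hi ⟨P, hP⟩ hPq hbP
          have he : h - i = 0 := by omega
          rw [he, pdLT_zero_iff] at h5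
          have hsupp : (⟨P, hP⟩ : PrimeSpectrum S) ∈ Module.support S M :=
            Module.mem_support_iff_of_finite.mpr hcP
          rw [Module.mem_support_iff] at hsupp
          exact not_subsingleton _ h5
    obtain ⟨c, n, hcn, hstar⟩ := hkey
    refine tail S a b c q₁ haq M i n hcn hstar (fun a' ha' => IH a' ha' ?_)
    exact lt_of_lt_of_le hi (minAdjDepth_mono ha'.le b M)

/-- **Faltings' annihilator theorem** (`λ ≤ f`) over a homomorphic image of a regular ring. -/
theorem TB (S : Type u) [CommRing S] [IsRegularRing S] (R : Type u) [CommRing R]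
    [IsNoetherianRing R] [Algebra S R] (hπ : Function.Surjective (algebraMap S R))
    (a b : Ideal R) (M : Type u) [AddCommGroup M] [Module R M] [Module S M] [IsScalarTower S R M]
    [Module.Finite R M] : LocCoh.minAdjDepth a b M ≤ LocCoh.finDimRel a b M := by
  haveI : Module.Finite S R := Module.Finite.of_surjective (Algebra.linearMap S R) hπ
  haveI : Module.Finite S M := Module.Finite.trans R M
  unfold LocCoh.finDimRel
  refine le_iInf₂ fun i hi => ?_
  by_contra hlt
  rw [not_le] at hlt
  apply hi
  have ha' : (a.comap (algebraMap S R)).map (algebraMap S R) = a :=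
    Ideal.map_comap_of_surjective _ hπ a
  have hb' : (b.comap (algebraMap S R)).map (algebraMap S R) = b :=
    Ideal.map_comap_of_surjective _ hπ b
  have hB2 := Groth.Agent.H72.FaltLoc.minAdjDepth_eq_of_surjective S R hπ M
    (a.comap (algebraMap S R)) (b.comap (algebraMap S R))
  rw [ha', hb'] at hB2
  rw [← hB2] at hlt
  have hTA := TA S (b.comap (algebraMap S R)) M i (a.comap (algebraMap S R)) hlt
  have h14 := Groth.Agent.S11614.result S R (a.comap (algebraMap S R)) M i
  rw [ha'] at h14
  obtain ⟨φ, hφ⟩ := h14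
  intro z hz
  obtain ⟨s, rfl⟩ := hπ z
  have hs : s ∈ b.comap (algebraMap S R) := hz
  obtain ⟨k, hk⟩ := Ideal.mem_radical_iff.mp (hTA hs)
  refine Ideal.mem_radical_iff.mpr ⟨k, ?_⟩
  rw [Module.mem_annihilator]
  intro x
  apply φ.injective
  rw [← map_pow, hφ, map_zero]
  exact Module.mem_annihilator.mp hk (φ x)

end Groth.Agent.H72.Faltings
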