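import Groth.Agent.H72.LDLoc
import Groth.Agent.H2.Matlis7
import Groth.Agent.S0302

/-!
# Existence of canonical modules over homomorphic images of Gorenstein local rings

For a surjection `R' → R` of local rings with `R'` Gorenstein of dimension `n'` and `dim R = n`,
the module `X = Ext^{n'-n}_{R'}(R, R')` (with its natural `R`-module structure) satisfies
`Hom_R(X, E) ≃ H^n_m(R)` for every injective hull `E` of the residue field of `R`.

* `smul_ext_eq_zero`: elements killing `R` kill `Ext^i_{R'}(R, Y)`.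
* `XT`, `moduleXT`: the module `Ext^t_{R'}(R, R')` and its `R`-module structure.
* `fwd`, `bwd`: the adjunction `Hom_R(X, Hom_{R'}(R, E')) ≃ Hom_{R'}(X, E')`.
* `exists_canon`.
-/

set_option autoImplicit false
universe u

namespace Groth.Agent.H72.CanonMod

open CategoryTheory Groth.Agent.H2.Matlis

section Kill

variable (R' R : Type u) [CommRing R'] [CommRing R] [Algebra R' R]

lemma smul_ext_eq_zero (r' : R') (h : algebraMap R' R r' = 0) {Y : ModuleCat.{u} R'} {i : ℕ}
    (x : Abelian.Ext.{u} (ModuleCat.of R' R) Y i) : r' • x = 0 := by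
  have e2 : r' • 𝟙 (ModuleCat.of R' R) = 0 := by
    refine ModuleCat.hom_ext (LinearMap.ext fun y => ?_)
    exact (by rw [Algebra.smul_def, h, zero_mul] : r' • (y : R) = 0)
  have h3 : (Abelian.Ext.mk₀ (r' • 𝟙 (ModuleCat.of R' R))).comp x (zero_add i) = r' • x := by
    rw [Abelian.Ext.mk₀_smul, Abelian.Ext.smul_comp, Abelian.Ext.mk₀_id_comp]
  rw [← h3, e2, Abelian.Ext.mk₀_zero, Abelian.Ext.zero_comp]

/-- `Ext^t_{R'}(R, R')` -/
abbrev XT (t : ℕ) : Type u := Abelian.Ext.{u} (ModuleCat.of R' R) (ModuleCat.of R' R') t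

variable (hπ : Function.Surjective (algebraMap R' R))

include hπ in
lemma surjInv_smul (t : ℕ) (c : R') (x : XT R' R t) :
    Function.surjInv hπ (algebraMap R' R c) • x = c • x := by
  have h1 : algebraMap R' R (Function.surjInv hπ (algebraMap R' R c) - c) = 0 := by
    rw [map_sub, Function.surjInv_eq hπ, sub_self]
  have h2 := smul_ext_eq_zero R' R _ h1 x
  rw [sub_smul, sub_eq_zero] at h2
  exact h2

/-- The `R`-module structure on `Ext^t_{R'}(R, R')`. -/
@[reducible] noncomputable def moduleXT (t : ℕ) : Module R (XT R' R t) :=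
  letI : SMul R (XT R' R t) := ⟨fun r x => Function.surjInv hπ r • x⟩
  Function.Surjective.moduleLeft (algebraMap R' R) hπ (fun c x => surjInv_smul R' R hπ t c x)

lemma moduleXT_algebraMap_smul (t : ℕ) (c : R') (x : XT R' R t) :
    letI := moduleXT R' R hπ t
    algebraMap R' R c • x = c • x :=
  surjInv_smul R' R hπ t c x

end Kill

section Adj

variable {R' R : Type u} [CommRing R'] [CommRing R] [Algebra R' R] {X : Type u} [AddCommGroup X]
  [Module R' X] [Module R X] [IsScalarTower R' R X] {E E' : Type u} [AddCommGroup E] [Module R E]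
  [AddCommGroup E'] [Module R' E']

lemma coe_eval_algebraMap (g : CoE R' R E') (r' : R') : g (algebraMap R' R r') = r' • g (1 : R) := by
  have h := CoE.map_algebraMap_mul g r' (1 : R)
  rw [mul_one] at h
  exact h

/-- `Hom_R(X, E) → Hom_{R'}(X, E')` for `E ≃ Hom_{R'}(R, E')`. -/
noncomputable def fwd (e : E ≃ₗ[R] CoE R' R E') (φ : X →ₗ[R] E) : X →ₗ[R'] E' where
  toFun x := (e (φ x)) (1 : R)
  map_add' x y := by rw [map_add, map_add, CoE.add_apply]
  map_smul' r' x := by
    rw [RingHom.id_apply, ← algebraMap_smul R r' x, map_smul, map_smul, CoE.smul_apply, one_mul,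
      coe_eval_algebraMap]

lemma fwd_apply (e : E ≃ₗ[R] CoE R' R E') (φ : X →ₗ[R] E) (x : X) :
    fwd e φ x = (e (φ x)) (1 : R) := rfl

/-- `Hom_{R'}(X, E') → Hom_R(X, E)`. -/
noncomputable def bwd (e : E ≃ₗ[R] CoE R' R E') (ψ : X →ₗ[R'] E') : X →ₗ[R] E where
  toFun x := e.symm (CoE.mk' (fun s => ψ (s • x)) (fun s t => by rw [add_smul, map_add])
    (fun a s => by rw [mul_smul, algebraMap_smul, map_smul]))
  map_add' x y := by
    rw [← map_add]
    congr 1
    refine CoE.ext' fun s => ?_
    rw [CoE.add_apply, CoE.mk'_apply, CoE.mk'_apply, CoE.mk'_apply, smul_add, map_add]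
  map_smul' b x := by
    rw [RingHom.id_apply, ← map_smul]
    congr 1
    refine CoE.ext' fun s => ?_
    rw [CoE.smul_apply, CoE.mk'_apply, CoE.mk'_apply, mul_smul]

lemma bwd_apply (e : E ≃ₗ[R] CoE R' R E') (ψ : X →ₗ[R'] E') (x : X) :
    e (bwd e ψ x) = CoE.mk' (fun s => ψ (s • x)) (fun s t => by rw [add_smul, map_add])
      (fun a s => by rw [mul_smul, algebraMap_smul, map_smul]) :=
  e.apply_symm_apply _

lemma fwd_bwd (e : E ≃ₗ[R] CoE R' R E') (ψ : X →ₗ[R'] E') : fwd e (bwd e ψ) = ψ := by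
  refine LinearMap.ext fun x => ?_
  rw [fwd_apply, bwd_apply, CoE.mk'_apply, one_smul]

lemma bwd_fwd (e : E ≃ₗ[R] CoE R' R E') (φ : X →ₗ[R] E) : bwd e (fwd e φ) = φ := by
  refine LinearMap.ext fun x => ?_
  apply e.injective
  rw [bwd_apply]
  refine CoE.ext' fun s => ?_
  rw [CoE.mk'_apply, fwd_apply, map_smul, map_smul, CoE.smul_apply, one_mul]

lemma fwd_add (e : E ≃ₗ[R] CoE R' R E') (φ₁ φ₂ : X →ₗ[R] E) :
    fwd e (φ₁ + φ₂) = fwd e φ₁ + fwd e φ₂ := by
  refine LinearMap.ext fun x => ?_
  rw [LinearMap.add_apply, fwd_apply, fwd_apply, fwd_apply, LinearMap.add_apply, map_add,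
    CoE.add_apply]

lemma fwd_smul (e : E ≃ₗ[R] CoE R' R E') (r' : R') (φ : X →ₗ[R] E) :
    fwd e (algebraMap R' R r' • φ) = r' • fwd e φ := by
  refine LinearMap.ext fun x => ?_
  rw [LinearMap.smul_apply, fwd_apply, fwd_apply, LinearMap.smul_apply, map_smul,
    CoE.smul_apply, one_mul, coe_eval_algebraMap]

end Adj

/-- The module `Ext^t_{R'}(R, R')`, `t = dim R' - dim R`, is a canonical module of `R`. -/
theorem canon_XT (R' R : Type u) [CommRing R'] [LocCoh.IsGorensteinLocalRing R'] [CommRing R]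
    [IsNoetherianRing R] [IsLocalRing R] [Algebra R' R]
    (hπ : Function.Surjective (algebraMap R' R)) (n' n : ℕ)
    (hn' : ringKrullDim R' = (n' : WithBot ℕ∞)) (hn : ringKrullDim R = (n : WithBot ℕ∞))
    (t : ℕ) (ht : t + n = n')
    (E : Type u) [AddCommGroup E] [Module R E] (f : IsLocalRing.ResidueField R →ₗ[R] E)
    (hf : InjHull.IsInjectiveHull f) :
    letI := moduleXT R' R hπ t
    Nonempty ((XT R' R t →ₗ[R] E) ≃ₗ[R] LocCoh.H (IsLocalRing.maximalIdeal R) n R) := by
  obtain ⟨f', hf'⟩ := Groth.Agent.S11665.result R' n' hn'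
  haveI : Module.Finite R' R := Module.Finite.of_surjective (Algebra.linearMap R' R) hπ
  letI : Module R (XT R' R t) := moduleXT R' R hπ t
  haveI : IsScalarTower R' R (XT R' R t) :=
    IsScalarTower.of_algebraMap_smul (fun c x => moduleXT_algebraMap_smul R' R hπ t c x)
  obtain ⟨g1, hg1⟩ := Groth.Agent.H2.Matlis.exists_isInjectiveHull_coext (A := R') (B := R) hf'
  obtain ⟨e, -⟩ := Groth.Agent.S0302.result R (IsLocalRing.ResidueField R) E _ f hf g1 hg1
  obtain ⟨e4⟩ := Groth.Agent.H72.LDGor.ld_gorenstein R' n' hn' _ f' hf' R t (by omega)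
  have hnn : n' - t = n := by omega
  rw [hnn] at e4
  have hmax : (IsLocalRing.maximalIdeal R').map (algebraMap R' R) = IsLocalRing.maximalIdeal R :=
    IsLocalRing.map_maximalIdeal_of_surjective (algebraMap R' R) hπ
  have h14 := Groth.Agent.S11614.result R' R (IsLocalRing.maximalIdeal R') R n
  rw [hmax] at h14
  obtain ⟨ψ5, hψ5⟩ := h14
  have hψ5' : ∀ (r' : R') (y : LocCoh.H (IsLocalRing.maximalIdeal R') n R),
      ψ5.symm (r' • y) = algebraMap R' R r' • ψ5.symm y := by
    intro r' y
    apply ψ5.injective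
    rw [AddEquiv.apply_symm_apply, hψ5, AddEquiv.apply_symm_apply]
  exact ⟨{ toFun := fun φ => ψ5.symm (e4.symm (fwd e φ))
           invFun := fun y => bwd e (e4 (ψ5 y))
           map_add' := fun φ₁ φ₂ => by rw [fwd_add, map_add, map_add]
           map_smul' := fun r φ => by
             obtain ⟨r', rfl⟩ := hπ r
             rw [RingHom.id_apply, fwd_smul, map_smul, hψ5']
           left_inv := fun φ => by
             show bwd e (e4 (ψ5 (ψ5.symm (e4.symm (fwd e φ))))) = φ
             rw [AddEquiv.apply_symm_apply, LinearEquiv.apply_symm_apply, bwd_fwd]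
           right_inv := fun y => by
             show ψ5.symm (e4.symm (fwd e (bwd e (e4 (ψ5 y))))) = y
             rw [fwd_bwd, LinearEquiv.symm_apply_apply, AddEquiv.symm_apply_apply] }⟩

/-- **Existence of a canonical module** over a homomorphic image of a Gorenstein local ring. -/
theorem exists_canon (R' R : Type u) [CommRing R'] [LocCoh.IsGorensteinLocalRing R'] [CommRing R]
    [IsNoetherianRing R] [IsLocalRing R] [Algebra R' R]
    (hπ : Function.Surjective (algebraMap R' R)) (n : ℕ) (hn : ringKrullDim R = (n : WithBot ℕ∞))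
    (E : Type u) [AddCommGroup E] [Module R E] (f : IsLocalRing.ResidueField R →ₗ[R] E)
    (hf : InjHull.IsInjectiveHull f) :
    ∃ (X : Type u) (_ : AddCommGroup X) (_ : Module R X), Module.Finite R X ∧
      Nonempty ((X →ₗ[R] E) ≃ₗ[R] LocCoh.H (IsLocalRing.maximalIdeal R) n R) := by
  obtain ⟨n', hn'0⟩ := Groth.Agent.H29.CM.exists_nat_supportDim (A := R') (M := R')
  rw [Module.supportDim_self_eq_ringKrullDim] at hn'0
  have hn' : ringKrullDim R' = (n' : WithBot ℕ∞) := by exact_mod_cast hn'0
  have hle : n ≤ n' := by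
    have h1 := ringKrullDim_le_of_surjective (algebraMap R' R) hπ
    rw [hn, hn'] at h1
    exact_mod_cast h1
  obtain ⟨f', hf'⟩ := Groth.Agent.S11665.result R' n' hn'
  haveI : Module.Finite R' R := Module.Finite.of_surjective (Algebra.linearMap R' R) hπ
  letI : Module R (XT R' R (n' - n)) := moduleXT R' R hπ (n' - n)
  haveI : IsScalarTower R' R (XT R' R (n' - n)) :=
    IsScalarTower.of_algebraMap_smul (fun c x => moduleXT_algebraMap_smul R' R hπ (n' - n) c x)
  haveI : Module.Finite R' (XT R' R (n' - n)) := Groth.Agent.H72.LDLoc.finite_ext R' (n' - n) R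
  haveI : Module.Finite R (XT R' R (n' - n)) :=
    Module.Finite.of_restrictScalars_finite R' R (XT R' R (n' - n))
  refine ⟨XT R' R (n' - n), inferInstance, inferInstance, inferInstance, ?_⟩
  obtain ⟨g1, hg1⟩ := Groth.Agent.H2.Matlis.exists_isInjectiveHull_coext (A := R') (B := R) hf'
  obtain ⟨e, -⟩ := Groth.Agent.S0302.result R (IsLocalRing.ResidueField R) E _ f hf g1 hg1
  obtain ⟨e4⟩ := Groth.Agent.H72.LDGor.ld_gorenstein R' n' hn' _ f' hf' R (n' - n)
    (Nat.sub_le n' n)
  have hnn : n' - (n' - n) = n := by omega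
  rw [hnn] at e4
  have hmax : (IsLocalRing.maximalIdeal R').map (algebraMap R' R) = IsLocalRing.maximalIdeal R :=
    IsLocalRing.map_maximalIdeal_of_surjective (algebraMap R' R) hπ
  have h14 := Groth.Agent.S11614.result R' R (IsLocalRing.maximalIdeal R') R n
  rw [hmax] at h14
  obtain ⟨ψ5, hψ5⟩ := h14
  have hψ5' : ∀ (r' : R') (y : LocCoh.H (IsLocalRing.maximalIdeal R') n R),
      ψ5.symm (r' • y) = algebraMap R' R r' • ψ5.symm y := by
    intro r' y
    apply ψ5.injective
    rw [AddEquiv.apply_symm_apply, hψ5, AddEquiv.apply_symm_apply]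
  exact ⟨{ toFun := fun φ => ψ5.symm (e4.symm (fwd e φ))
           invFun := fun y => bwd e (e4 (ψ5 y))
           map_add' := fun φ₁ φ₂ => by rw [fwd_add, map_add, map_add]
           map_smul' := fun r φ => by
             obtain ⟨r', rfl⟩ := hπ r
             rw [RingHom.id_apply, fwd_smul, map_smul, hψ5']
           left_inv := fun φ => by
             show bwd e (e4 (ψ5 (ψ5.symm (e4.symm (fwd e φ))))) = φ
             rw [AddEquiv.apply_symm_apply, LinearEquiv.apply_symm_apply, bwd_fwd]
           right_inv := fun y => by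
             show ψ5.symm (e4.symm (fwd e (bwd e (e4 (ψ5 y))))) = y
             rw [fwd_bwd, LinearEquiv.symm_apply_apply, AddEquiv.symm_apply_apply] }⟩

end Groth.Agent.H72.CanonMod
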