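import Groth.Agent.H72.CanonMod
import Groth.Agent.S7691

/-!
# Localization of canonical modules over homomorphic images of Gorenstein local rings

For a surjection `A → B` and a prime `p` of `B` with preimage `P`:

* `locAlg`, `locAlg_surjective`: the surjection `A_P → B_p`.
* `exists_locEquiv`: `M_P ≃ M_p`, semilinear along `A_P → B_p`.
* `exists_ext_loc`: `Ext^t_A(B, A)_P ≃ Ext^t_{A_P}(B_p, A_P)`.
* `exists_XT_loc`: the same as `B_p`-modules, for the localization at `p`.
* `canon_localization`: the localization of a canonical module at a prime of its support is a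
  canonical module.
-/

set_option autoImplicit false
universe u

namespace Groth.Agent.H72.CanonLoc

open CategoryTheory Groth.Agent.H72.CanonMod

section Loc

variable (A B : Type u) [CommRing A] [CommRing B] [Algebra A B]
  (hπ : Function.Surjective (algebraMap A B)) (p : Ideal B) [p.IsPrime]

/-- the algebra structure `A_P → B_p` -/
@[reducible] noncomputable def locAlg :
    Algebra (Localization.AtPrime (p.comap (algebraMap A B))) (Localization.AtPrime p) :=
  (Localization.localRingHom (p.comap (algebraMap A B)) p (algebraMap A B) rfl).toAlgebra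

include hπ in
lemma locAlg_surjective :
    letI := locAlg A B p
    Function.Surjective (algebraMap (Localization.AtPrime (p.comap (algebraMap A B)))
      (Localization.AtPrime p)) := by
  intro y
  obtain ⟨r, s, rfl⟩ := IsLocalization.exists_mk'_eq p.primeCompl y
  obtain ⟨r', rfl⟩ := hπ r
  obtain ⟨s', hs'⟩ := hπ s.1
  have hs'mem : s' ∈ (p.comap (algebraMap A B)).primeCompl := by
    show s' ∉ p.comap (algebraMap A B)
    rw [Ideal.mem_comap, hs']
    exact s.2
  refine ⟨IsLocalization.mk' _ r' ⟨s', hs'mem⟩, ?_⟩
  show Localization.localRingHom (p.comap (algebraMap A B)) p (algebraMap A B) rfl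
    (IsLocalization.mk' _ r' ⟨s', hs'mem⟩) = _
  rw [Localization.localRingHom_mk']
  congr 1
  exact Subtype.ext hs'

include hπ in
/-- `M_P ≃ M_p`, semilinear along `A_P → B_p`. -/
theorem exists_locEquiv (M : Type u) [AddCommGroup M] [Module A M] [Module B M]
    [IsScalarTower A B M] :
    ∃ φ : LocalizedModule (p.comap (algebraMap A B)).primeCompl M ≃+
        LocalizedModule p.primeCompl M,
      ∀ (a : Localization.AtPrime (p.comap (algebraMap A B)))
        (x : LocalizedModule (p.comap (algebraMap A B)).primeCompl M),
        φ (a • x) =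
          Localization.localRingHom (p.comap (algebraMap A B)) p (algebraMap A B) rfl a • φ x := by
  let f : Localization.AtPrime (p.comap (algebraMap A B)) →+* Localization.AtPrime p :=
    Localization.localRingHom (p.comap (algebraMap A B)) p (algebraMap A B) rfl
  letI : Algebra (Localization.AtPrime (p.comap (algebraMap A B))) (Localization.AtPrime p) :=
    f.toAlgebra
  letI : Module (Localization.AtPrime (p.comap (algebraMap A B)))
      (LocalizedModule p.primeCompl M) := Module.compHom (LocalizedModule p.primeCompl M) f
  haveI : IsScalarTower (Localization.AtPrime (p.comap (algebraMap A B)))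
      (Localization.AtPrime p) (LocalizedModule p.primeCompl M) :=
    IsScalarTower.of_algebraMap_smul (fun _ _ => rfl)
  haveI : IsScalarTower A (Localization.AtPrime (p.comap (algebraMap A B)))
      (LocalizedModule p.primeCompl M) :=
    IsScalarTower.of_algebraMap_smul (fun s y => by
      show f (algebraMap A (Localization.AtPrime (p.comap (algebraMap A B))) s) • y = s • y
      rw [Localization.localRingHom_to_map, algebraMap_smul, algebraMap_smul])
  haveI : IsLocalizedModule (Algebra.algebraMapSubmonoid B (p.comap (algebraMap A B)).primeCompl)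
      (LocalizedModule.mkLinearMap p.primeCompl M) := by
    rw [Groth.Agent.H72.FaltLoc.algebraMapSubmonoid_primeCompl A B hπ p]
    infer_instance
  haveI : IsLocalizedModule (p.comap (algebraMap A B)).primeCompl
      ((LocalizedModule.mkLinearMap p.primeCompl M).restrictScalars A) :=
    IsLocalizedModule.restrictScalars (p.comap (algebraMap A B)).primeCompl
      (LocalizedModule.mkLinearMap p.primeCompl M)
  let φ₀ : LocalizedModule (p.comap (algebraMap A B)).primeCompl M ≃ₗ[A]
      LocalizedModule p.primeCompl M :=
    IsLocalizedModule.iso (p.comap (algebraMap A B)).primeCompl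
      ((LocalizedModule.mkLinearMap p.primeCompl M).restrictScalars A)
  let φ : LocalizedModule (p.comap (algebraMap A B)).primeCompl M ≃ₗ[Localization.AtPrime
      (p.comap (algebraMap A B))] LocalizedModule p.primeCompl M :=
    LinearEquiv.extendScalarsOfIsLocalization (p.comap (algebraMap A B)).primeCompl
      (Localization.AtPrime (p.comap (algebraMap A B))) φ₀
  exact ⟨φ.toAddEquiv, fun a x => φ.map_smul a x⟩

include hπ in
/-- `Ext^t_A(B, A)_P ≃ Ext^t_{A_P}(B_p, A_P)` -/
theorem exists_ext_loc [IsNoetherianRing A] (t : ℕ) :
    letI := locAlg A B p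
    Nonempty (LocalizedModule (p.comap (algebraMap A B)).primeCompl (XT A B t)
      ≃ₗ[Localization.AtPrime (p.comap (algebraMap A B))]
      XT (Localization.AtPrime (p.comap (algebraMap A B))) (Localization.AtPrime p) t) := by
  letI := locAlg A B p
  haveI : Module.Finite A B := Module.Finite.of_surjective (Algebra.linearMap A B) hπ
  obtain ⟨e1⟩ := Groth.Agent.S11916.result A
    (Localization.AtPrime (p.comap (algebraMap A B))) B A t
  let e2 := Groth.Agent.H72.PdLocal.locEquiv (p.comap (algebraMap A B)).primeCompl (XT A B t)
  obtain ⟨φB, hφB⟩ := exists_locEquiv A B hπ p B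
  let θ : TensorProduct A (Localization.AtPrime (p.comap (algebraMap A B))) B
      ≃ₗ[Localization.AtPrime (p.comap (algebraMap A B))] Localization.AtPrime p :=
    { toFun := fun z => Groth.Agent.H72.RegLoc.selfEquiv p.primeCompl
        (φB (Groth.Agent.H72.PdLocal.locEquiv (p.comap (algebraMap A B)).primeCompl B z))
      invFun := fun y => (Groth.Agent.H72.PdLocal.locEquiv
        (p.comap (algebraMap A B)).primeCompl B).symm
          (φB.symm ((Groth.Agent.H72.RegLoc.selfEquiv p.primeCompl).symm y))
      map_add' := fun z w => by rw [map_add, map_add, map_add]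
      map_smul' := fun a z => by
        rw [RingHom.id_apply, map_smul, hφB, map_smul]
        rfl
      left_inv := fun z => by
        show (Groth.Agent.H72.PdLocal.locEquiv (p.comap (algebraMap A B)).primeCompl B).symm
          (φB.symm ((Groth.Agent.H72.RegLoc.selfEquiv p.primeCompl).symm
            (Groth.Agent.H72.RegLoc.selfEquiv p.primeCompl
              (φB (Groth.Agent.H72.PdLocal.locEquiv
                (p.comap (algebraMap A B)).primeCompl B z))))) = z
        rw [LinearEquiv.symm_apply_apply, AddEquiv.symm_apply_apply,
          LinearEquiv.symm_apply_apply]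
      right_inv := fun y => by
        show Groth.Agent.H72.RegLoc.selfEquiv p.primeCompl
          (φB (Groth.Agent.H72.PdLocal.locEquiv (p.comap (algebraMap A B)).primeCompl B
            ((Groth.Agent.H72.PdLocal.locEquiv (p.comap (algebraMap A B)).primeCompl B).symm
              (φB.symm ((Groth.Agent.H72.RegLoc.selfEquiv p.primeCompl).symm y))))) = y
        rw [LinearEquiv.apply_symm_apply, AddEquiv.apply_symm_apply,
          LinearEquiv.apply_symm_apply] }
  let e3 := Groth.Agent.H72.ExtType.extIsoLeft θ.toModuleIso
    (ModuleCat.of (Localization.AtPrime (p.comap (algebraMap A B)))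
      (TensorProduct A (Localization.AtPrime (p.comap (algebraMap A B))) A)) t
  let e4 := Groth.Agent.H72.ExtType.extIsoRight
    (ModuleCat.of (Localization.AtPrime (p.comap (algebraMap A B))) (Localization.AtPrime p))
    (TensorProduct.AlgebraTensorModule.rid A (Localization.AtPrime (p.comap (algebraMap A B)))
      (Localization.AtPrime (p.comap (algebraMap A B)))).toModuleIso t
  exact ⟨e2.symm.trans (e1.trans (e3.trans e4))⟩

include hπ in
/-- `Ext^t_A(B, A)_p ≃ Ext^t_{A_P}(B_p, A_P)` as `B_p`-modules. -/
theorem exists_XT_loc [IsNoetherianRing A] (t : ℕ) :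
    letI := locAlg A B p
    letI := moduleXT A B hπ t
    letI := moduleXT (Localization.AtPrime (p.comap (algebraMap A B))) (Localization.AtPrime p)
      (locAlg_surjective A B hπ p) t
    Nonempty (LocalizedModule p.primeCompl (XT A B t) ≃ₗ[Localization.AtPrime p]
      XT (Localization.AtPrime (p.comap (algebraMap A B))) (Localization.AtPrime p) t) := by
  letI := locAlg A B p
  letI := moduleXT A B hπ t
  letI := moduleXT (Localization.AtPrime (p.comap (algebraMap A B))) (Localization.AtPrime p)
    (locAlg_surjective A B hπ p) t
  haveI : IsScalarTower A B (XT A B t) :=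
    IsScalarTower.of_algebraMap_smul (fun c x => moduleXT_algebraMap_smul A B hπ t c x)
  obtain ⟨Ψ⟩ := exists_ext_loc A B hπ p t
  obtain ⟨φX, hφX⟩ := exists_locEquiv A B hπ p (XT A B t)
  have hφX' : ∀ (a : Localization.AtPrime (p.comap (algebraMap A B)))
      (y : LocalizedModule p.primeCompl (XT A B t)),
      φX.symm (Localization.localRingHom (p.comap (algebraMap A B)) p (algebraMap A B) rfl a • y) =
        a • φX.symm y := by
    intro a y
    apply φX.injective
    rw [AddEquiv.apply_symm_apply, hφX, AddEquiv.apply_symm_apply]
  exact ⟨{ toFun := fun x => Ψ (φX.symm x)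
           invFun := fun y => φX (Ψ.symm y)
           map_add' := fun x y => by rw [map_add, map_add]
           map_smul' := fun b x => by
             obtain ⟨a, rfl⟩ := locAlg_surjective A B hπ p b
             rw [RingHom.id_apply]
             show Ψ (φX.symm (Localization.localRingHom (p.comap (algebraMap A B)) p
               (algebraMap A B) rfl a • x)) =
               algebraMap (Localization.AtPrime (p.comap (algebraMap A B)))
                 (Localization.AtPrime p) a • Ψ (φX.symm x)
             rw [hφX', map_smul]
             exact (moduleXT_algebraMap_smul (Localization.AtPrime (p.comap (algebraMap A B)))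
               (Localization.AtPrime p) (locAlg_surjective A B hπ p) t a _).symm
           left_inv := fun x => by
             show φX (Ψ.symm (Ψ (φX.symm x))) = x
             rw [LinearEquiv.symm_apply_apply, AddEquiv.apply_symm_apply]
           right_inv := fun y => by
             show Ψ (φX.symm (φX (Ψ.symm y))) = y
             rw [AddEquiv.symm_apply_apply, LinearEquiv.apply_symm_apply] }⟩

end Loc

/-- The localization of a canonical module at a prime of its support is a canonical module
(over a homomorphic image of a Gorenstein local ring). -/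
theorem canon_localization (R' R : Type u) [CommRing R'] [LocCoh.IsGorensteinLocalRing R']
    [CommRing R] [IsNoetherianRing R] [IsLocalRing R] [Algebra R' R]
    (hπ : Function.Surjective (algebraMap R' R)) (n : ℕ)
    (hn : ringKrullDim R = (n : WithBot ℕ∞)) (E : Type u) [AddCommGroup E] [Module R E]
    (f : IsLocalRing.ResidueField R →ₗ[R] E) (hf : InjHull.IsInjectiveHull f)
    (K : Type u) [AddCommGroup K] [Module R K] [Module.Finite R K]
    (eK : (K →ₗ[R] E) ≃ₗ[R] LocCoh.H (IsLocalRing.maximalIdeal R) n R)
    (p : Ideal R) [hpp : p.IsPrime] (hp : Nontrivial (LocalizedModule p.primeCompl K))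
    (h : ℕ) (hh : ringKrullDim (Localization.AtPrime p) = (h : WithBot ℕ∞))
    (E' : Type u) [AddCommGroup E'] [Module (Localization.AtPrime p) E']
    (f' : IsLocalRing.ResidueField (Localization.AtPrime p) →ₗ[Localization.AtPrime p] E')
    (hf' : InjHull.IsInjectiveHull f') :
    Nonempty ((LocalizedModule p.primeCompl K →ₗ[Localization.AtPrime p] E')
      ≃ₗ[Localization.AtPrime p]
      LocCoh.H (IsLocalRing.maximalIdeal (Localization.AtPrime p)) h (Localization.AtPrime p)) := by
  have hCM : LocCoh.IsCohenMacaulayModule R' R' :=
    (Groth.Agent.S0341.result R').supportDim_eq_depth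
  obtain ⟨n', hn'0⟩ := Groth.Agent.H29.CM.exists_nat_supportDim (A := R') (M := R')
  rw [Module.supportDim_self_eq_ringKrullDim] at hn'0
  have hn' : ringKrullDim R' = (n' : WithBot ℕ∞) := by exact_mod_cast hn'0
  have hle : n ≤ n' := by
    have h1 := ringKrullDim_le_of_surjective (algebraMap R' R) hπ
    rw [hn, hn'] at h1
    exact_mod_cast h1
  obtain ⟨t, ht⟩ : ∃ t : ℕ, t + n = n' := ⟨n' - n, by omega⟩
  letI := moduleXT R' R hπ t
  haveI : IsScalarTower R' R (XT R' R t) :=
    IsScalarTower.of_algebraMap_smul (fun c x => moduleXT_algebraMap_smul R' R hπ t c x)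
  haveI : Module.Finite R' R := Module.Finite.of_surjective (Algebra.linearMap R' R) hπ
  haveI : Module.Finite R' (XT R' R t) := Groth.Agent.H72.LDLoc.finite_ext R' t R
  haveI : Module.Finite R (XT R' R t) := Module.Finite.of_restrictScalars_finite R' R (XT R' R t)
  obtain ⟨eX⟩ := canon_XT R' R hπ n' n hn' hn t ht E f hf
  obtain ⟨eKX⟩ := Groth.Agent.S7691.result R n hn E f hf K eK (XT R' R t) eX
  let eloc : LocalizedModule p.primeCompl K ≃ₗ[Localization.AtPrime p]
      LocalizedModule p.primeCompl (XT R' R t) :=
    LinearEquiv.ofBijective (LocalizedModule.map p.primeCompl eKX.toLinearMap)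
      ⟨LocalizedModule.map_injective _ _ eKX.injective,
        LocalizedModule.map_surjective _ _ eKX.surjective⟩
  letI := locAlg R' R p
  have hπl := locAlg_surjective R' R hπ p
  letI := moduleXT (Localization.AtPrime (p.comap (algebraMap R' R))) (Localization.AtPrime p)
    hπl t
  obtain ⟨eY⟩ := exists_XT_loc R' R hπ p t
  haveI hGP : LocCoh.IsGorensteinLocalRing (Localization.AtPrime (p.comap (algebraMap R' R))) :=
    ((Groth.Agent.S0345.result R').mp
      LocCoh.IsGorensteinLocalRing.exists_hasInjectiveDimensionLT).1.isGorensteinLocalRing_localization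
        (p.comap (algebraMap R' R))
  obtain ⟨r, q, hr, hq, hqr⟩ :=
    Groth.Agent.H72.LDLoc.exists_height_dim R' hCM (p.comap (algebraMap R' R))
  have hh' : ringKrullDim (Localization.AtPrime (p.comap (algebraMap R' R))) =
      (r : WithBot ℕ∞) := by
    rw [IsLocalization.AtPrime.ringKrullDim_eq_height (p.comap (algebraMap R' R))
      (Localization.AtPrime (p.comap (algebraMap R' R))), hr]
    rfl
  have hn'qr : n' = q + r := by
    rw [hn'0] at hqr
    exact_mod_cast hqr
  -- the localized Ext module is nonzero
  haveI := hp
  haveI hYnt : Nontrivial (XT (Localization.AtPrime (p.comap (algebraMap R' R)))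
      (Localization.AtPrime p) t) := (eloc.trans eY).symm.toEquiv.nontrivial
  have htr : t ≤ r := by
    by_contra hlt
    rw [not_le] at hlt
    have hs : Subsingleton (XT (Localization.AtPrime (p.comap (algebraMap R' R)))
        (Localization.AtPrime p) t) :=
      Groth.Agent.H72.PdExt.subsingleton_of_forall_eq_zero fun z =>
        Groth.Agent.H72.LDLoc.ext_eq_zero_above
          (Localization.AtPrime (p.comap (algebraMap R' R))) r hh' _ t hlt z
    exact not_subsingleton _ hs
  haveI : Module.Finite (Localization.AtPrime (p.comap (algebraMap R' R)))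
      (Localization.AtPrime p) :=
    Module.Finite.of_surjective (Algebra.linearMap
      (Localization.AtPrime (p.comap (algebraMap R' R))) (Localization.AtPrime p)) hπl
  have h1 : ¬ Subsingleton (LocCoh.H (IsLocalRing.maximalIdeal
      (Localization.AtPrime (p.comap (algebraMap R' R)))) (r - t) (Localization.AtPrime p)) :=
    fun hs => not_subsingleton (XT (Localization.AtPrime (p.comap (algebraMap R' R)))
      (Localization.AtPrime p) t)
      ((Groth.Agent.H72.LDLoc.subsingleton_ext_iff_H
        (Localization.AtPrime (p.comap (algebraMap R' R))) r hh' (Localization.AtPrime p) t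
          htr).mpr hs)
  have hmaxl : (IsLocalRing.maximalIdeal (Localization.AtPrime (p.comap (algebraMap R' R)))).map
      (algebraMap (Localization.AtPrime (p.comap (algebraMap R' R))) (Localization.AtPrime p)) =
      IsLocalRing.maximalIdeal (Localization.AtPrime p) :=
    IsLocalRing.map_maximalIdeal_of_surjective _ hπl
  have h14 := Groth.Agent.S11614.result (Localization.AtPrime (p.comap (algebraMap R' R)))
    (Localization.AtPrime p)
    (IsLocalRing.maximalIdeal (Localization.AtPrime (p.comap (algebraMap R' R))))
    (Localization.AtPrime p) (r - t)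
  rw [hmaxl] at h14
  obtain ⟨ψ, -⟩ := h14
  have h2 : ¬ Subsingleton (LocCoh.H (IsLocalRing.maximalIdeal (Localization.AtPrime p)) (r - t)
      (Localization.AtPrime p)) := fun hs => h1 (ψ.symm.toEquiv.subsingleton)
  have h3 : r - t ≤ h := by
    by_contra hlt
    rw [not_le] at hlt
    exact h2 (Groth.Agent.S0333.vanish_above (IsLocalRing.maximalIdeal (Localization.AtPrime p))
      h hh _ (r - t) hlt)
  -- the other inequality
  have hntR : Nontrivial (LocalizedModule p.primeCompl R) :=
    (Groth.Agent.H72.RegLoc.selfEquiv p.primeCompl).toEquiv.nontrivial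
  have hsupp : (⟨p, hpp⟩ : PrimeSpectrum R) ∈ Module.support R R :=
    Module.mem_support_iff.mpr hntR
  have h4 := Groth.Agent.H29.CM.supportDim_atPrime_add_ringKrullDim_quotient_le (M := R)
    ⟨p, hpp⟩ hsupp
  rw [Module.supportDim_eq_of_equiv (Groth.Agent.H72.RegLoc.selfEquiv p.primeCompl),
    Module.supportDim_self_eq_ringKrullDim, Module.supportDim_self_eq_ringKrullDim, hh, hn,
    ← Groth.Agent.H72.LDLoc.dim_quot_eq R' R hπ p, hq] at h4
  have h4' : h + q ≤ n := by exact_mod_cast h4
  have hth : t + h = r := by omega
  obtain ⟨eZ⟩ := canon_XT (Localization.AtPrime (p.comap (algebraMap R' R)))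
    (Localization.AtPrime p) hπl r h hh' hh t hth E' f' hf'
  exact ⟨(LinearEquiv.congrLeft E' (Localization.AtPrime p) (eloc.trans eY)).trans eZ⟩

end Groth.Agent.H72.CanonLoc
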