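import Groth.Agent.H72.RegLoc
import Groth.Agent.H9.RegLocalSeq
import Mathlib.RingTheory.Regular.Category
import Mathlib.RingTheory.Length

/-!
# `Ext(k, -)` along regular sequences; `Ext(-, A)` on modules of finite length

* `extIsoRight`, `extIsoLeft`: `Ext` is invariant under isomorphisms, linearly.
* `step_vanish`, `step_equiv`: for `x ∈ 𝔪` regular on `N`:
  `Ext^{r+1}(k, N) ≅ Ext^r(k, N/xN)` once `Ext^r(k, N) = 0`.
* `ext_kk_of_isWeaklyRegular`: for a weakly regular sequence `xs ⊆ 𝔪` on `N` of length `r`,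
  `Ext^i(k, N) = 0` for `i < r` and `Ext^r(k, N) ≅ Hom(k, N/(xs)N)`.
* `length_ext_zero_kk`: `Hom(k, k)` has length one.
* `ext_kk_self_of_isRegularLocalRing`: for `A` regular local of dimension `n`,
  `Ext^i(k, A) = 0` for `i ≠ n` and `Ext^n(k, A)` has length one.
* `ext_length_of_isFiniteLength`: dévissage over modules of finite length.
-/

set_option autoImplicit false
universe u

namespace Groth.Agent.H72.ExtType

open CategoryTheory Abelian IsLocalRing Module RingTheory.Sequence Groth.Agent.H72.PdLocal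
  Groth.Agent.H72.PdExt Groth.Agent.H72.AB Groth.Agent.H72.RegLoc
open scoped Pointwise

section Iso

variable {R : Type u} [CommRing R]

/-- `Ext` is invariant under isomorphisms in the second variable. -/
noncomputable def extIsoRight (X : ModuleCat.{u} R) {Y Y' : ModuleCat.{u} R} (φ : Y ≅ Y') (i : ℕ) :
    Ext.{u} X Y i ≃ₗ[R] Ext.{u} X Y' i :=
  LinearEquiv.ofLinear (Ext.postcompOfLinear (Ext.mk₀ φ.hom) R X (add_zero i))
    (Ext.postcompOfLinear (Ext.mk₀ φ.inv) R X (add_zero i))
    (LinearMap.ext fun x => by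
      show (x.comp (Ext.mk₀ φ.inv) (add_zero i)).comp (Ext.mk₀ φ.hom) (add_zero i) = x
      rw [Ext.comp_assoc_of_third_deg_zero, Ext.mk₀_comp_mk₀, Iso.inv_hom_id, Ext.comp_mk₀_id])
    (LinearMap.ext fun x => by
      show (x.comp (Ext.mk₀ φ.hom) (add_zero i)).comp (Ext.mk₀ φ.inv) (add_zero i) = x
      rw [Ext.comp_assoc_of_third_deg_zero, Ext.mk₀_comp_mk₀, Iso.hom_inv_id, Ext.comp_mk₀_id])

/-- `Ext` is invariant under isomorphisms in the first variable. -/
noncomputable def extIsoLeft {X X' : ModuleCat.{u} R} (φ : X ≅ X') (Y : ModuleCat.{u} R) (i : ℕ) :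
    Ext.{u} X Y i ≃ₗ[R] Ext.{u} X' Y i :=
  LinearEquiv.ofLinear (Ext.precompOfLinear (Ext.mk₀ φ.inv) R Y (zero_add i))
    (Ext.precompOfLinear (Ext.mk₀ φ.hom) R Y (zero_add i))
    (LinearMap.ext fun x => by
      show (Ext.mk₀ φ.inv).comp ((Ext.mk₀ φ.hom).comp x (zero_add i)) (zero_add i) = x
      rw [Ext.mk₀_comp_mk₀_assoc, Iso.inv_hom_id, Ext.mk₀_id_comp])
    (LinearMap.ext fun x => by
      show (Ext.mk₀ φ.hom).comp ((Ext.mk₀ φ.inv).comp x (zero_add i)) (zero_add i) = x
      rw [Ext.mk₀_comp_mk₀_assoc, Iso.hom_inv_id, Ext.mk₀_id_comp])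

lemma subsingleton_ext_of_isZero_left {X Y : ModuleCat.{u} R} (hX : Limits.IsZero X) (i : ℕ) :
    Subsingleton (Ext.{u} X Y i) :=
  subsingleton_of_forall_eq_zero fun e => by
    rw [← e.mk₀_id_comp, hX.eq_of_src (𝟙 X) 0, Ext.mk₀_zero, Ext.zero_comp]

end Iso

section Step

variable {R : Type u} [CommRing R] [IsLocalRing R]

/-- The short complex `N →x N → N/xN`. -/
noncomputable abbrev smulSC (N : Type u) [AddCommGroup N] [Module R N] (x : R) :
    ShortComplex (ModuleCat.{u} R) :=
  ModuleCat.shortComplexOfCompEqZero (LinearMap.lsmul R N x) (x • (⊤ : Submodule R N)).mkQ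
    (LinearMap.exact_lsmul_mkQ_smul_top N x).linearMap_comp_eq_zero

lemma smulSC_shortExact (N : Type u) [AddCommGroup N] [Module R N] (x : R)
    (hreg : IsSMulRegular N x) : (smulSC N x).ShortExact :=
  ModuleCat.shortComplex_shortExact _ (LinearMap.exact_lsmul_mkQ_smul_top N x) hreg
    (Submodule.mkQ_surjective _)

lemma comp_smulSC_f_eq_zero (N : Type u) [AddCommGroup N] [Module R N] (x : R)
    (hx : x ∈ maximalIdeal R) {i : ℕ} (e : E R i N) :
    e.comp (Ext.mk₀ (smulSC N x).f) (add_zero i) = 0 := by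
  have h1 : (smulSC N x).f = x • 𝟙 (ModuleCat.of R N) := rfl
  rw [h1, ← Ext.smul_eq_comp_mk₀]
  exact smul_ext_zero x hx e

lemma step_vanish (N : Type u) [AddCommGroup N] [Module R N] (x : R) (hx : x ∈ maximalIdeal R)
    (hreg : IsSMulRegular N x) (r : ℕ) (h : ∀ i < r, Subsingleton (E R i (QuotSMulTop x N))) :
    ∀ i < r + 1, Subsingleton (E R i N) := by
  have hS : (smulSC N x).ShortExact := smulSC_shortExact N x hreg
  intro i hi
  refine subsingleton_of_forall_eq_zero fun e => ?_
  have h0 := comp_smulSC_f_eq_zero N x hx e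
  cases i with
  | zero =>
    obtain ⟨φ, rfl⟩ := (Ext.mk₀_bijective _ _).2 e
    rw [Ext.mk₀_comp_mk₀] at h0
    have h4 : φ ≫ (smulSC N x).f = 0 :=
      (Ext.mk₀_bijective _ _).1 (by rw [h0, Ext.mk₀_zero])
    have hmono : Mono (smulSC N x).f := hS.mono_f
    rw [Limits.zero_of_comp_mono _ h4, Ext.mk₀_zero]
  | succ j =>
    have hsub : Subsingleton (E R j (QuotSMulTop x N)) := h j (by omega)
    obtain ⟨x₃, rfl⟩ := Ext.covariant_sequence_exact₁ (kk R) hS e h0 (n₀ := j) rfl
    rw [hsub.elim x₃ 0, Ext.zero_comp]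

lemma step_equiv (N : Type u) [AddCommGroup N] [Module R N] (x : R) (hx : x ∈ maximalIdeal R)
    (hreg : IsSMulRegular N x) (r : ℕ) (h : Subsingleton (E R r N)) :
    Nonempty (E R (r + 1) N ≃ₗ[R] E R r (QuotSMulTop x N)) := by
  have hS : (smulSC N x).ShortExact := smulSC_shortExact N x hreg
  let δ : E R r (QuotSMulTop x N) →ₗ[R] E R (r + 1) N :=
    Ext.postcompOfLinear hS.extClass R (kk R) rfl
  have hinj : Function.Injective δ := by
    rw [injective_iff_map_eq_zero]
    intro x₃ hx₃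
    obtain ⟨x₂, rfl⟩ := Ext.covariant_sequence_exact₃ (kk R) hS x₃ rfl hx₃
    rw [h.elim x₂ 0, Ext.zero_comp]
  have hsurj : Function.Surjective δ := by
    intro x₁
    obtain ⟨x₃, hx₃⟩ := Ext.covariant_sequence_exact₁ (kk R) hS x₁
      (comp_smulSC_f_eq_zero N x hx x₁) (n₀ := r) rfl
    exact ⟨x₃, hx₃⟩
  exact ⟨(LinearEquiv.ofBijective δ ⟨hinj, hsurj⟩).symm⟩

theorem ext_kk_of_isWeaklyRegular : ∀ (xs : List R) (N : Type u) [AddCommGroup N] [Module R N],
    IsWeaklyRegular N xs → (∀ x ∈ xs, x ∈ maximalIdeal R) →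
    (∀ i < xs.length, Subsingleton (E R i N)) ∧
    Nonempty (E R xs.length N ≃ₗ[R] E R 0 (N ⧸ (Ideal.ofList xs • (⊤ : Submodule R N)))) := by
  intro xs
  induction xs with
  | nil =>
    intro N _ _ _ _
    refine ⟨fun i hi => absurd hi (Nat.not_lt_zero i), ⟨?_⟩⟩
    have hbot : Ideal.ofList ([] : List R) • (⊤ : Submodule R N) = ⊥ := by
      rw [Ideal.ofList_nil, Submodule.bot_smul]
    exact extIsoRight (kk R) (Submodule.quotEquivOfEqBot _ hbot).symm.toModuleIso 0
  | cons x rs ih =>
    intro N _ _ hw hmem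
    obtain ⟨hx, hrs⟩ := (isWeaklyRegular_cons_iff N x rs).mp hw
    have hxm : x ∈ maximalIdeal R := hmem x List.mem_cons_self
    obtain ⟨ih1, ⟨ih2⟩⟩ := ih (QuotSMulTop x N) hrs
      (fun y hy => hmem y (List.mem_cons_of_mem x hy))
    have hv := step_vanish N x hxm hx rs.length ih1
    obtain ⟨e1⟩ := step_equiv N x hxm hx rs.length (hv rs.length (Nat.lt_succ_self _))
    refine ⟨hv, ⟨?_⟩⟩
    exact e1.trans (ih2.trans (extIsoRight (kk R)
      (Submodule.quotOfListConsSMulTopEquivQuotSMulTopInner N x rs).symm.toModuleIso 0))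

end Step

section K

variable (R : Type u) [CommRing R] [IsLocalRing R]

lemma smul_one_eq_mk (a : R) :
    a • (1 : R ⧸ maximalIdeal R) = Ideal.Quotient.mk (maximalIdeal R) a := by
  rw [Algebra.smul_def, mul_one]
  rfl

/-- Evaluation at `1` identifies `Hom(k, k)` with `k`. -/
noncomputable def homKKEquiv :
    ((R ⧸ maximalIdeal R) →ₗ[R] (R ⧸ maximalIdeal R)) ≃ₗ[R] (R ⧸ maximalIdeal R) :=
  LinearEquiv.ofBijective (LinearMap.applyₗ (1 : R ⧸ maximalIdeal R))
    ⟨(injective_iff_map_eq_zero _).mpr fun f hf => LinearMap.ext fun c => by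
        have hf' : f 1 = 0 := hf
        obtain ⟨a, rfl⟩ := Ideal.Quotient.mk_surjective c
        rw [← smul_one_eq_mk, map_smul, hf', smul_zero, LinearMap.zero_apply],
      fun y => by
        obtain ⟨b, rfl⟩ := Ideal.Quotient.mk_surjective y
        refine ⟨b • LinearMap.id, ?_⟩
        show b • (1 : R ⧸ maximalIdeal R) = _
        exact smul_one_eq_mk R b⟩

instance isSimpleModule_kk : IsSimpleModule R (R ⧸ maximalIdeal R) :=
  isSimpleModule_iff_quot_maximal.mpr ⟨maximalIdeal R, inferInstance, ⟨LinearEquiv.refl _ _⟩⟩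

lemma length_ext_zero_kk : Module.length R (E R 0 (R ⧸ maximalIdeal R)) = 1 := by
  have e1 : E R 0 (R ⧸ maximalIdeal R) ≃ₗ[R] (kk R ⟶ kk R) := Ext.linearEquiv₀
  have e2 : (kk R ⟶ kk R) ≃ₗ[R] ((R ⧸ maximalIdeal R) →ₗ[R] (R ⧸ maximalIdeal R)) :=
    ModuleCat.homLinearEquiv
  rw [(e1.trans (e2.trans (homKKEquiv R))).length_eq]
  exact Module.length_eq_one R (R ⧸ maximalIdeal R)

end K

section Regular

theorem ext_kk_self_of_isRegularLocalRing (A : Type u) [CommRing A] [IsRegularLocalRing A] (n : ℕ)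
    (hn : ringKrullDim A = n) :
    (∀ i, i ≠ n → Subsingleton (E A i A)) ∧ Module.length A (E A n A) = 1 := by
  classical
  letI : Field (A ⧸ maximalIdeal A) := Ideal.Quotient.field (maximalIdeal A)
  haveI : IsRegularLocalRing (A ⧸ maximalIdeal A) := inferInstance
  obtain ⟨rs, hrs, hm⟩ := (Groth.Agent.H9.exists_isRegular_iff_isRegularLocalRing A
    (maximalIdeal A) (maximalIdeal.isMaximal A).ne_top).mpr inferInstance
  have hmem : ∀ x ∈ rs, x ∈ maximalIdeal A := fun r hr => by
    rw [hm]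
    exact Ideal.subset_span hr
  obtain ⟨hv, ⟨e⟩⟩ := ext_kk_of_isWeaklyRegular rs A hrs.toIsWeaklyRegular hmem
  have hsm : Ideal.ofList rs • (⊤ : Submodule A A) = maximalIdeal A := by
    rw [← hm, Ideal.smul_eq_mul, Ideal.mul_top]
  have e2 : E A 0 (A ⧸ (Ideal.ofList rs • (⊤ : Submodule A A))) ≃ₗ[A]
      E A 0 (A ⧸ maximalIdeal A) :=
    extIsoRight (kk A) (Submodule.quotEquivOfEq _ _ hsm).toModuleIso 0
  have hlen : Module.length A (E A rs.length A) = 1 := by
    rw [(e.trans e2).length_eq]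
    exact length_ext_zero_kk A
  have hnt : ¬ Subsingleton (E A rs.length A) := by
    intro hsub
    rw [Module.length_eq_zero] at hlen
    exact zero_ne_one hlen
  have hdepth : LocCoh.depth A A = rs.length := (depth_eq_iff A A rs.length).mpr ⟨hv, hnt⟩
  have hdn : LocCoh.depth A A = n := depth_self_eq A n hn
  have hrn : rs.length = n := by
    have h3 := hdepth.symm.trans hdn
    exact_mod_cast h3
  subst hrn
  refine ⟨fun i hi => ?_, hlen⟩
  rcases lt_or_gt_of_ne hi with h | h
  · exact hv i h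
  · have hpd : PdLT A (A ⧸ maximalIdeal A) (rs.length + 1) := by
      have h1 := pdLT_of_isRegularLocalRing A (A ⧸ maximalIdeal A)
      have h2 : (maximalIdeal A).spanFinrank = rs.length := by
        have h3 : ((maximalIdeal A).spanFinrank : WithBot ℕ∞) = ringKrullDim A :=
          IsRegularLocalRing.spanFinrank_maximalIdeal
        rw [hn] at h3
        exact_mod_cast h3
      rwa [h2] at h1
    have hpd' : HasProjectiveDimensionLT (kk A) (rs.length + 1) := hpd
    exact HasProjectiveDimensionLT.subsingleton (kk A) (rs.length + 1) i (by omega)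
      (ModuleCat.of A A)

end Regular

section FiniteLength

variable {R : Type u} [CommRing R]

/-- Dévissage: if `Ext^i(S, Y) = 0` for `i ≠ n` and `Ext^n(S, Y)` has length one for every simple
module `S`, then for `M` of finite length `Ext^i(M, Y) = 0` for `i ≠ n` and `Ext^n(M, Y)` has the
length of `M`. -/
theorem ext_length_of_isFiniteLength (Y : ModuleCat.{u} R) (n : ℕ)
    (hs : ∀ (S : Type u) [AddCommGroup S] [Module R S] [IsSimpleModule R S],
      (∀ i, i ≠ n → Subsingleton (Ext.{u} (ModuleCat.of R S) Y i)) ∧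
        Module.length R (Ext.{u} (ModuleCat.of R S) Y n) = 1)
    (M : Type u) [AddCommGroup M] [Module R M] (hM : IsFiniteLength R M) :
    (∀ i, i ≠ n → Subsingleton (Ext.{u} (ModuleCat.of R M) Y i)) ∧
      Module.length R (Ext.{u} (ModuleCat.of R M) Y n) = Module.length R M := by
  induction hM with
  | @of_subsingleton M _ _ _ =>
    have hz : Limits.IsZero (ModuleCat.of R M) := ModuleCat.isZero_iff_subsingleton.mpr inferInstance
    refine ⟨fun i _ => subsingleton_ext_of_isZero_left hz i, ?_⟩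
    have hsub := subsingleton_ext_of_isZero_left (Y := Y) hz n
    rw [Module.length_eq_zero, Module.length_eq_zero]
  | @of_simple_quotient M _ _ N _ hN ih =>
    obtain ⟨hs1, hs2⟩ := hs (M ⧸ N)
    obtain ⟨ih1, ih2⟩ := ih
    have hex : Function.Exact N.subtype N.mkQ := LinearMap.exact_subtype_mkQ N
    have hS : (ModuleCat.shortComplexOfCompEqZero N.subtype N.mkQ
        hex.linearMap_comp_eq_zero).ShortExact :=
      ModuleCat.shortComplex_shortExact _ hex (Submodule.subtype_injective N)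
        (Submodule.mkQ_surjective N)
    constructor
    · intro i hi
      refine subsingleton_of_forall_eq_zero fun x₂ => ?_
      have hsN := ih1 i hi
      have hsS := hs1 i hi
      obtain ⟨x₃, rfl⟩ := Ext.contravariant_sequence_exact₂ hS Y x₂ (hsN.elim _ _)
      rw [hsS.elim x₃ 0, Ext.comp_zero]
    · let α : Ext.{u} (ModuleCat.of R (M ⧸ N)) Y n →ₗ[R] Ext.{u} (ModuleCat.of R M) Y n :=
        Ext.precompOfLinear (Ext.mk₀ (ModuleCat.ofHom N.mkQ)) R Y (zero_add n)
      let β : Ext.{u} (ModuleCat.of R M) Y n →ₗ[R] Ext.{u} (ModuleCat.of R N) Y n :=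
        Ext.precompOfLinear (Ext.mk₀ (ModuleCat.ofHom N.subtype)) R Y (zero_add n)
      have hα : Function.Injective α := by
        rw [injective_iff_map_eq_zero]
        intro x₃ hx₃
        rcases Nat.eq_zero_or_pos n with h0 | hpos
        · subst h0
          have hepi : Epi (ModuleCat.ofHom N.mkQ) := hS.epi_g
          exact (Ext.precomp_mk₀_injective_of_epi Y (ModuleCat.ofHom N.mkQ))
            (hx₃.trans (map_zero ((Ext.mk₀ (ModuleCat.ofHom N.mkQ)).precomp Y (zero_add 0))).symm)
        · obtain ⟨n₀, rfl⟩ : ∃ n₀, n = n₀ + 1 := ⟨n - 1, by omega⟩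
          obtain ⟨x₁, rfl⟩ := Ext.contravariant_sequence_exact₃ hS Y x₃ hx₃
            (show 1 + n₀ = n₀ + 1 by omega)
          have hsN := ih1 n₀ (by omega)
          rw [hsN.elim x₁ 0, Ext.comp_zero]
      have hβ : Function.Surjective β := by
        intro x₁
        have hsS := hs1 (1 + n) (by omega)
        obtain ⟨x₂, hx₂⟩ := Ext.contravariant_sequence_exact₁ hS Y x₁ rfl (hsS.elim _ _)
        exact ⟨x₂, hx₂⟩
      have hαβ : Function.Exact α β := by
        intro x₂
        constructor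
        · intro hx₂
          obtain ⟨x₃, hx₃⟩ := Ext.contravariant_sequence_exact₂ hS Y x₂ hx₂
          exact ⟨x₃, hx₃⟩
        · rintro ⟨x₃, rfl⟩
          show (Ext.mk₀ (ModuleCat.ofHom N.subtype)).comp
            ((Ext.mk₀ (ModuleCat.ofHom N.mkQ)).comp x₃ (zero_add n)) (zero_add n) = 0
          rw [Ext.mk₀_comp_mk₀_assoc]
          have hz : ModuleCat.ofHom N.subtype ≫ ModuleCat.ofHom N.mkQ = 0 :=
            (ModuleCat.shortComplexOfCompEqZero N.subtype N.mkQ
              hex.linearMap_comp_eq_zero).zero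
          rw [hz, Ext.mk₀_zero, Ext.zero_comp]
      have hlen := Module.length_eq_add_of_exact α β hα hβ hαβ
      have hMl := Module.length_eq_add_of_exact N.subtype N.mkQ (Submodule.subtype_injective N)
        (Submodule.mkQ_surjective N) hex
      rw [hlen, hs2, ih2, hMl, Module.length_eq_one R (M ⧸ N), add_comm]

end FiniteLength

end Groth.Agent.H72.ExtType
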