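import Groth.Agent.S5162
import Groth.Agent.H72.ExtType

/-!
# Representability of `Ext^n(-, G)` on torsion modules by local cohomology

* `rep`: over a Noetherian ring, if `H^i_J(G) = 0` for `i < n` and `N` is killed by a power of `J`,
  then `Hom(N, H^n_J(G)) ≃ Ext^n(N, G)` (dimension shifting along injective essential extensions).
-/

set_option autoImplicit false
universe u

namespace Groth.Agent.H72.LCRep

open CategoryTheory Abelian
open Groth.Agent.H58.LC Groth.Agent.S5162

variable {A : Type u} [CommRing A]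

theorem hom_eq_zero' (J : Ideal A) (N : Type u) [AddCommGroup N] [Module A N] (k : ℕ)
    (hk : J ^ k ≤ Module.annihilator A N) (E : Type u) [AddCommGroup E] [Module A E]
    (hE : DRing.torsionSub J E = ⊥) (φ : N →ₗ[A] E) : φ = 0 := by
  apply LinearMap.ext
  intro x
  rw [LinearMap.zero_apply]
  have hmem : φ x ∈ DRing.torsionSub J E := by
    show ∃ n : ℕ, ∀ a ∈ J ^ n, a • φ x = 0
    refine ⟨k, fun a ha => ?_⟩
    rw [← map_smul, Module.mem_annihilator.1 (hk ha) x, map_zero]
  rw [hE, Submodule.mem_bot] at hmem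
  exact hmem

/-- Maps from a module killed by `J ^ k` land in the `J`-power torsion. -/
noncomputable def homTorsEquiv (J : Ideal A) (N : Type u) [AddCommGroup N] [Module A N] (k : ℕ)
    (hk : J ^ k ≤ Module.annihilator A N) (G : Type u) [AddCommGroup G] [Module A G] :
    (N →ₗ[A] ↥(DRing.torsionSub J G)) ≃ₗ[A] (N →ₗ[A] G) where
  toFun φ := (DRing.torsionSub J G).subtype ∘ₗ φ
  map_add' _ _ := LinearMap.ext fun _ => rfl
  map_smul' _ _ := LinearMap.ext fun _ => rfl
  invFun ψ := LinearMap.codRestrict (DRing.torsionSub J G) ψ (fun x => by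
    show ∃ n : ℕ, ∀ a ∈ J ^ n, a • ψ x = 0
    exact ⟨k, fun a ha => by rw [← map_smul, Module.mem_annihilator.1 (hk ha) x, map_zero]⟩)
  left_inv _ := LinearMap.ext fun _ => Subtype.ext rfl
  right_inv _ := LinearMap.ext fun _ => rfl

/-- If `H^i_J(G) = 0` for `i < n` and `N` is killed by `J ^ k` then
`Hom(N, H^n_J(G)) ≃ Ext^n(N, G)`. -/
theorem rep [IsNoetherianRing A] (J : Ideal A) (N : Type u) [AddCommGroup N] [Module A N] (k : ℕ)
    (hk : J ^ k ≤ Module.annihilator A N) :
    ∀ (n : ℕ) (G : Type u) [AddCommGroup G] [Module A G],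
      (∀ i, i < n → Subsingleton (LocCoh.H J i G)) →
      Nonempty ((N →ₗ[A] LocCoh.H J n G) ≃ₗ[A]
        Ext.{u} (ModuleCat.of A N) (ModuleCat.of A G) n) := by
  intro n
  induction n with
  | zero =>
    intro G _ _ _
    have e1 : (N →ₗ[A] LocCoh.H J 0 G) ≃ₗ[A] (N →ₗ[A] ↥(DRing.torsionSub J G)) :=
      LinearEquiv.congrRight (H0equiv J G)
    have e2 := homTorsEquiv J N k hk G
    have e3 : (ModuleCat.of A N ⟶ ModuleCat.of A G) ≃ₗ[A] (N →ₗ[A] G) := ModuleCat.homLinearEquiv
    have e4 : Ext.{u} (ModuleCat.of A N) (ModuleCat.of A G) 0 ≃ₗ[A]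
        (ModuleCat.of A N ⟶ ModuleCat.of A G) := Ext.linearEquiv₀
    exact ⟨e1.trans (e2.trans (e3.symm.trans e4.symm))⟩
  | succ n ih =>
    intro G _ _ hvan
    have hG : DRing.torsionSub J G = ⊥ := (H0_subsingleton_iff J G).1 (hvan 0 (Nat.succ_pos n))
    obtain ⟨E, _, _, hEinj, f, hf, hess⟩ := exists_ess (A := A) G
    have hE : DRing.torsionSub J E = ⊥ := by
      rw [eq_bot_iff]
      intro x hx
      rw [Submodule.mem_bot]
      by_contra hx0
      obtain ⟨r, ⟨z, hz⟩, hr0⟩ := hess x hx0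
      have hz' : z ∈ DRing.torsionSub J G := by
        obtain ⟨k', hk'⟩ := hx
        show ∃ n : ℕ, ∀ a ∈ J ^ n, a • z = 0
        refine ⟨k', fun a ha => hf ?_⟩
        rw [map_smul, hz, map_zero, smul_comm, hk' a ha, smul_zero]
      rw [hG, Submodule.mem_bot] at hz'
      rw [hz', map_zero] at hz
      exact hr0 hz.symm
    let g : E →ₗ[A] (E ⧸ LinearMap.range f) := (LinearMap.range f).mkQ
    have hg : Function.Surjective g := Submodule.mkQ_surjective _
    have hfg : Function.Exact f g := LinearMap.exact_map_mkQ_range f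
    have hHE : ∀ i, Subsingleton (LocCoh.H J i E) := by
      intro i
      rcases Nat.eq_zero_or_pos i with rfl | hi
      · exact (H0_subsingleton_iff J E).2 hE
      · exact subsingleton_H_of_injective J i hi
    have hδ : ∀ i, ∃ δ : LocCoh.H J i (E ⧸ LinearMap.range f) →ₗ[A] LocCoh.H J (i + 1) G,
        Function.Bijective δ := by
      intro i
      obtain ⟨δ, -, h2, h3, -⟩ := les_mod J f g hf hg hfg i
      refine ⟨δ, ?_, ?_⟩
      · rw [injective_iff_map_eq_zero]
        intro y hy
        obtain ⟨z, rfl⟩ := (h2 y).1 hy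
        rw [@Subsingleton.elim _ (hHE i) z 0, map_zero]
      · intro w
        exact (h3 w).1 (@Subsingleton.elim _ (hHE (i + 1)) _ _)
    have hvan' : ∀ i, i < n → Subsingleton (LocCoh.H J i (E ⧸ LinearMap.range f)) := by
      intro i hi
      obtain ⟨δ, hδb⟩ := hδ i
      haveI := hvan (i + 1) (Nat.succ_lt_succ hi)
      exact hδb.1.subsingleton
    obtain ⟨e1⟩ := ih (E ⧸ LinearMap.range f) hvan'
    obtain ⟨δ, hδb⟩ := hδ n
    have e2 : (N →ₗ[A] LocCoh.H J n (E ⧸ LinearMap.range f)) ≃ₗ[A]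
        (N →ₗ[A] LocCoh.H J (n + 1) G) :=
      LinearEquiv.congrRight (LinearEquiv.ofBijective δ hδb)
    let S : ShortComplex (ModuleCat.{u} A) :=
      ShortComplex.mk (ModuleCat.ofHom f) (ModuleCat.ofHom g)
        (ModuleCat.hom_ext (LinearMap.ext fun x => hfg.apply_apply_eq_zero x))
    have hS : S.ShortExact :=
      { exact := (ShortComplex.ShortExact.moduleCat_exact_iff_function_exact S).2 hfg
        mono_f := (ModuleCat.mono_iff_injective _).2 hf
        epi_g := (ModuleCat.epi_iff_surjective _).2 hg }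
    haveI : CategoryTheory.Injective (ModuleCat.of A E) :=
      Module.injective_object_of_injective_module A E
    have hExtE : ∀ j, Subsingleton (Ext.{u} (ModuleCat.of A N) (ModuleCat.of A E) j) := by
      intro j
      rcases Nat.eq_zero_or_pos j with rfl | hj
      · have hsub : Subsingleton (N →ₗ[A] E) :=
          ⟨fun a b => (hom_eq_zero' J N k hk E hE a).trans (hom_eq_zero' J N k hk E hE b).symm⟩
        exact (Abelian.Ext.addEquiv₀.trans (ModuleCat.homAddEquiv
          (M := ModuleCat.of A N) (N := ModuleCat.of A E))).subsingleton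
      · obtain ⟨j', rfl⟩ := Nat.exists_eq_succ_of_ne_zero (Nat.pos_iff_ne_zero.1 hj)
        exact Abelian.Ext.subsingleton_of_injective _ _ j'
    let δ' : Ext.{u} (ModuleCat.of A N) (ModuleCat.of A (E ⧸ LinearMap.range f)) n →ₗ[A]
        Ext.{u} (ModuleCat.of A N) (ModuleCat.of A G) (n + 1) :=
      Ext.postcompOfLinear hS.extClass A (ModuleCat.of A N) rfl
    have hinj : Function.Injective δ' := by
      rw [injective_iff_map_eq_zero]
      intro x₃ hx₃
      obtain ⟨x₂, rfl⟩ := Ext.covariant_sequence_exact₃ (ModuleCat.of A N) hS x₃ rfl hx₃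
      rw [(hExtE n).elim x₂ 0, Ext.zero_comp]
    have hsurj : Function.Surjective δ' := by
      intro x₁
      obtain ⟨x₃, hx₃⟩ := Ext.covariant_sequence_exact₁ (ModuleCat.of A N) hS x₁
        ((hExtE (n + 1)).elim _ _) (n₀ := n) rfl
      exact ⟨x₃, hx₃⟩
    exact ⟨e2.symm.trans (e1.trans (LinearEquiv.ofBijective δ' ⟨hinj, hsurj⟩))⟩

end Groth.Agent.H72.LCRep
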