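import Groth.Agent.H72.LDGor
import Groth.Agent.H72.FaltLoc
import Groth.Agent.H72.RegLoc
import Groth.Agent.S11916
import Groth.Agent.S11614
import Groth.Agent.S0341
import Groth.Agent.S0345
import Groth.Agent.H2.Matlis3
import Groth.Agent.H2.LCArtin
import Groth.Agent.H98.LCArt
import Groth.Agent.H60.Bass

/-!
# Annihilators of local cohomology over homomorphic images of Gorenstein local rings

* `exists_height_dim`: `ht p + dim B/p = dim B` in a Cohen–Macaulay local ring.
* `ext_eq_zero_above`: `Ext^i(X, A) = 0` for `i > dim A` over a Gorenstein local ring.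
* `finite_ext`: `Ext^t(M, A)` is finite for finite `M` over Noetherian `A`.
* `subsingleton_ext_loc_iff`: `Ext^t(M, A)_P = 0 ↔ Ext^t(M_P, A_P) = 0`.
* `le_radical_annihilator_iff`: `J ≤ √Ann X` iff `X_P = 0` for all primes `P ⊉ J`.
* `subsingleton_ext_iff_H`: local duality, vanishing form.
* `core`: `J ≤ √Ann H^i_m(M)` iff `H^{i - dim A/P}(M_P) = 0` for all primes `P ⊉ J`
  (Gorenstein local `A`).
* `TBG`: the same over a homomorphic image of a Gorenstein local ring.
* `isFiniteLength_H_iff`: `H^i_m(M)` has finite length iff `m ≤ √Ann H^i_m(M)`.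
-/

set_option autoImplicit false
universe u

namespace Groth.Agent.H72.LDLoc

open CategoryTheory

/-- In a Cohen–Macaulay local ring, `ht p + dim B/p = dim B`. -/
lemma exists_height_dim (B : Type u) [CommRing B] [IsNoetherianRing B] [IsLocalRing B]
    (hCM : LocCoh.IsCohenMacaulayModule B B) (p : Ideal B) [hpp : p.IsPrime] :
    ∃ r q : ℕ, p.height = r ∧ ringKrullDim (B ⧸ p) = ((q : ℕ∞) : WithBot ℕ∞) ∧
      ringKrullDim B = (((q + r : ℕ) : ℕ∞) : WithBot ℕ∞) := by
  have hntB : Nontrivial (LocalizedModule p.primeCompl B) :=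
    (Groth.Agent.H72.RegLoc.selfEquiv p.primeCompl).toEquiv.nontrivial
  have hsupp : (⟨p, hpp⟩ : PrimeSpectrum B) ∈ Module.support B B :=
    Module.mem_support_iff.mpr hntB
  obtain ⟨r, hq, hdim, -⟩ := Groth.Agent.H29.CM.isCM_atPrime_aux hCM ⟨p, hpp⟩ hsupp
  obtain ⟨q, hqq⟩ := Groth.Agent.H29.CM.exists_nat_ringKrullDim_quotient p
  refine ⟨r, q, ?_, hqq, ?_⟩
  · rw [Module.supportDim_eq_of_equiv (Groth.Agent.H72.RegLoc.selfEquiv p.primeCompl),
      Module.supportDim_self_eq_ringKrullDim,
      IsLocalization.AtPrime.ringKrullDim_eq_height p (Localization.AtPrime p),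
      WithBot.coe_inj] at hdim
    exact hdim
  · rw [Groth.Agent.H29.CM.supportDim_quotient_prime_smul_top ⟨p, hpp⟩ hsupp,
      Module.supportDim_self_eq_ringKrullDim, hqq] at hq
    rw [← hq]
    norm_cast

/-- Over a Gorenstein local ring of dimension `n`, `Ext^i(X, A) = 0` for `i > n`. -/
theorem ext_eq_zero_above (A : Type u) [CommRing A] [LocCoh.IsGorensteinLocalRing A] (n : ℕ)
    (hn : ringKrullDim A = (n : WithBot ℕ∞)) (X : ModuleCat.{u} A) (i : ℕ) (hi : n < i)
    (z : Abelian.Ext.{u} X (ModuleCat.of A A) i) : z = 0 := by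
  haveI : Nontrivial (ModuleCat.of A A) := inferInstanceAs (Nontrivial A)
  obtain ⟨r, hr1, hr2⟩ := Groth.Agent.H60.Bass.exists_r (ModuleCat.of A A)
    LocCoh.IsGorensteinLocalRing.exists_hasInjectiveDimensionLT
  have hdepth : LocCoh.depth A A = r := Groth.Agent.H60.Bass.depth_self_eq r hr1 hr2
  have hcm := Groth.Agent.H60.Bass.isCM_of_data r hr1 hr2
  have hrn : r = n := by
    rw [Module.supportDim_self_eq_ringKrullDim, hn, hdepth] at hcm
    exact_mod_cast hcm.symm
  subst hrn
  exact hr1 X i hi z

/-- `Ext^t(M, A)` is a finite module. -/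
theorem finite_ext (A : Type u) [CommRing A] [IsNoetherianRing A] :
    ∀ (t : ℕ) (M : Type u) [AddCommGroup M] [Module A M] [Module.Finite A M],
      Module.Finite A (Abelian.Ext.{u} (ModuleCat.of A M) (ModuleCat.of A A) t) := by
  intro t
  induction t with
  | zero =>
    intro M _ _ _
    haveI : Module.Finite A (M →ₗ[A] A) := inferInstance
    exact Module.Finite.equiv (Groth.Agent.H72.LD.e0 M).symm
  | succ t ih =>
    intro M _ _ _
    obtain ⟨r, ε, hε⟩ := Module.Finite.exists_fin' A M
    haveI : IsNoetherian A (Fin r → A) := inferInstance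
    haveI : Module.Finite A (LinearMap.ker ε) := inferInstance
    haveI := ih (LinearMap.ker ε)
    exact Module.Finite.of_surjective (Groth.Agent.H72.LD.del ε hε t)
      (Groth.Agent.H72.LD.del_surjective ε hε t)

/-- Flat base change for `Ext^t(M, A)` along `A → A_P`, vanishing form. -/
theorem subsingleton_ext_loc_iff (A : Type u) [CommRing A] [IsNoetherianRing A] (P : Ideal A)
    [P.IsPrime] (M : Type u) [AddCommGroup M] [Module A M] [Module.Finite A M] (t : ℕ) :
    Subsingleton (LocalizedModule P.primeCompl
        (Abelian.Ext.{u} (ModuleCat.of A M) (ModuleCat.of A A) t)) ↔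
      Subsingleton (Abelian.Ext.{u}
        (ModuleCat.of (Localization.AtPrime P) (LocalizedModule P.primeCompl M))
        (ModuleCat.of (Localization.AtPrime P) (Localization.AtPrime P)) t) := by
  obtain ⟨e1⟩ := Groth.Agent.S11916.result A (Localization.AtPrime P) M A t
  let e2 := Groth.Agent.H72.PdLocal.locEquiv P.primeCompl
    (Abelian.Ext.{u} (ModuleCat.of A M) (ModuleCat.of A A) t)
  let e3 := Groth.Agent.H72.ExtType.extIsoLeft
    (Groth.Agent.H72.PdLocal.locEquiv P.primeCompl M).toModuleIso
    (ModuleCat.of (Localization.AtPrime P) (TensorProduct A (Localization.AtPrime P) A)) t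
  let e4 := Groth.Agent.H72.ExtType.extIsoRight
    (ModuleCat.of (Localization.AtPrime P) (LocalizedModule P.primeCompl M))
    (TensorProduct.AlgebraTensorModule.rid A (Localization.AtPrime P)
      (Localization.AtPrime P)).toModuleIso t
  exact (e2.symm.trans (e1.trans (e3.trans e4))).toEquiv.subsingleton_congr

/-- For a finite module `X`: `J ≤ √Ann X` iff `X_P = 0` for all primes `P` not containing `J`. -/
theorem le_radical_annihilator_iff (A : Type u) [CommRing A] (X : Type u) [AddCommGroup X]
    [Module A X] [Module.Finite A X] (J : Ideal A) :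
    J ≤ (Module.annihilator A X).radical ↔
      ∀ (P : Ideal A) [P.IsPrime], ¬ J ≤ P → Subsingleton (LocalizedModule P.primeCompl X) := by
  constructor
  · intro h P hP hJP
    by_contra hns
    rw [not_subsingleton_iff_nontrivial] at hns
    have hsupp : (⟨P, hP⟩ : PrimeSpectrum A) ∈ Module.support A X :=
      Module.mem_support_iff.mpr hns
    rw [Module.mem_support_iff_of_finite] at hsupp
    exact hJP (h.trans (hP.radical_le_iff.mpr hsupp))
  · intro h
    rw [Ideal.radical_eq_sInf]
    refine le_sInf fun P hP => ?_
    obtain ⟨hle, hPp⟩ := hP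
    by_contra hJP
    haveI := hPp
    have hsub := h P hJP
    have hsupp : (⟨P, hPp⟩ : PrimeSpectrum A) ∈ Module.support A X :=
      Module.mem_support_iff_of_finite.mpr hle
    rw [Module.mem_support_iff] at hsupp
    haveI := hsupp
    exact not_subsingleton _ hsub

/-- Local duality over a Gorenstein local ring, vanishing form. -/
theorem subsingleton_ext_iff_H (B : Type u) [CommRing B] [LocCoh.IsGorensteinLocalRing B] (h : ℕ)
    (hh : ringKrullDim B = (h : WithBot ℕ∞)) (N : Type u) [AddCommGroup N] [Module B N]
    [Module.Finite B N] (t : ℕ) (ht : t ≤ h) :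
    Subsingleton (Abelian.Ext.{u} (ModuleCat.of B N) (ModuleCat.of B B) t) ↔
      Subsingleton (LocCoh.H (IsLocalRing.maximalIdeal B) (h - t) N) := by
  obtain ⟨g, hg⟩ := Groth.Agent.S11665.result B h hh
  obtain ⟨e1⟩ := Groth.Agent.H72.LDGor.ld_gorenstein B h hh _ g hg N t ht
  constructor
  · intro hs
    haveI : Subsingleton (Abelian.Ext.{u} (ModuleCat.of B N) (ModuleCat.of B B) t →ₗ[B]
        LocCoh.H (IsLocalRing.maximalIdeal B) h B) :=
      ⟨fun φ ψ => LinearMap.ext fun x => by
        rw [Subsingleton.elim x 0, map_zero, map_zero]⟩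
    exact e1.toEquiv.subsingleton
  · intro hs
    haveI : Subsingleton (Abelian.Ext.{u} (ModuleCat.of B N) (ModuleCat.of B B) t →ₗ[B]
        LocCoh.H (IsLocalRing.maximalIdeal B) h B) := e1.symm.toEquiv.subsingleton
    refine Groth.Agent.H72.PdExt.subsingleton_of_forall_eq_zero fun x => ?_
    by_contra hx
    obtain ⟨φ, hφ⟩ := Groth.Agent.H2.Matlis.cogen hg _ x hx
    exact hφ (by rw [Subsingleton.elim φ 0]; rfl)

/-- The annihilator theorem for `H^i_m(M)` over a Gorenstein local ring. -/
theorem core (A : Type u) [CommRing A] [LocCoh.IsGorensteinLocalRing A] (M : Type u)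
    [AddCommGroup M] [Module A M] [Module.Finite A M] (J : Ideal A) (i : ℕ) :
    J ≤ (Module.annihilator A (LocCoh.H (IsLocalRing.maximalIdeal A) i M)).radical ↔
      ∀ (P : Ideal A) [P.IsPrime], ¬ J ≤ P → ∀ j e : ℕ,
        ringKrullDim (A ⧸ P) = (e : WithBot ℕ∞) → j + e = i →
        Subsingleton (LocCoh.H (IsLocalRing.maximalIdeal (Localization.AtPrime P)) j
          (LocalizedModule P.primeCompl M)) := by
  have hCM : LocCoh.IsCohenMacaulayModule A A :=
    (Groth.Agent.S0341.result A).supportDim_eq_depth
  obtain ⟨n, hn0⟩ := Groth.Agent.H29.CM.exists_nat_supportDim (A := A) (M := A)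
  rw [Module.supportDim_self_eq_ringKrullDim] at hn0
  have hn : ringKrullDim A = (n : WithBot ℕ∞) := by exact_mod_cast hn0
  have hP : ∀ (P : Ideal A) [P.IsPrime], ∃ h q : ℕ,
      ringKrullDim (Localization.AtPrime P) = (h : WithBot ℕ∞) ∧
      ringKrullDim (A ⧸ P) = (q : WithBot ℕ∞) ∧ n = q + h := by
    intro P _
    obtain ⟨r, q, hr, hq, hqr⟩ := exists_height_dim A hCM P
    refine ⟨r, q, ?_, by exact_mod_cast hq, ?_⟩
    · rw [IsLocalization.AtPrime.ringKrullDim_eq_height P (Localization.AtPrime P), hr]
      rfl
    · rw [hn0] at hqr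
      exact_mod_cast hqr
  have hGor : ∀ (P : Ideal A) [P.IsPrime],
      LocCoh.IsGorensteinLocalRing (Localization.AtPrime P) := by
    intro P _
    exact ((Groth.Agent.S0345.result A).mp
      LocCoh.IsGorensteinLocalRing.exists_hasInjectiveDimensionLT).1.isGorensteinLocalRing_localization
        P
  by_cases hin : i ≤ n
  · obtain ⟨g, hg⟩ := Groth.Agent.S11665.result A n hn
    obtain ⟨e1⟩ := Groth.Agent.H72.LDGor.ld_gorenstein A n hn _ g hg M (n - i) (Nat.sub_le n i)
    have hni : n - (n - i) = i := by omega
    rw [hni] at e1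
    have hann : Module.annihilator A (LocCoh.H (IsLocalRing.maximalIdeal A) i M) =
        Module.annihilator A (Abelian.Ext.{u} (ModuleCat.of A M) (ModuleCat.of A A) (n - i)) :=
      e1.annihilator_eq.trans (Groth.Agent.H2.Matlis.annihilator_dual hg _).symm
    haveI := finite_ext A (n - i) M
    rw [hann, le_radical_annihilator_iff A _ J]
    have key : ∀ (P : Ideal A) [P.IsPrime],
        Subsingleton (LocalizedModule P.primeCompl
          (Abelian.Ext.{u} (ModuleCat.of A M) (ModuleCat.of A A) (n - i))) ↔
        ∀ j e : ℕ, ringKrullDim (A ⧸ P) = (e : WithBot ℕ∞) → j + e = i →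
          Subsingleton (LocCoh.H (IsLocalRing.maximalIdeal (Localization.AtPrime P)) j
            (LocalizedModule P.primeCompl M)) := by
      intro P _
      obtain ⟨h, q, hh, hq, hnq⟩ := hP P
      haveI hGP : LocCoh.IsGorensteinLocalRing (Localization.AtPrime P) := hGor P
      rw [subsingleton_ext_loc_iff A P M (n - i)]
      by_cases hqi : q ≤ i
      · have ht : n - i ≤ h := by omega
        rw [subsingleton_ext_iff_H (Localization.AtPrime P) h hh
          (LocalizedModule P.primeCompl M) (n - i) ht]
        have hj0 : h - (n - i) = i - q := by omega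
        rw [hj0]
        constructor
        · intro hs j e he hje
          have heq : e = q := by
            rw [hq] at he
            exact_mod_cast he.symm
          have hj : j = i - q := by omega
          rw [hj]
          exact hs
        · intro hs
          exact hs (i - q) q hq (by omega)
      · have ht : h < n - i := by omega
        constructor
        · intro _ j e he hje
          exfalso
          have heq : e = q := by
            rw [hq] at he
            exact_mod_cast he.symm
          omega
        · intro _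
          exact Groth.Agent.H72.PdExt.subsingleton_of_forall_eq_zero fun z =>
            ext_eq_zero_above (Localization.AtPrime P) h hh _ (n - i) ht z
    constructor
    · intro hall P hP' hJP
      exact (key P).mp (hall P hJP)
    · intro hall P hP' hJP
      exact (key P).mpr (hall P hJP)
  · have hlt : n < i := by omega
    haveI hsub : Subsingleton (LocCoh.H (IsLocalRing.maximalIdeal A) i M) :=
      Groth.Agent.S0333.vanish_above (IsLocalRing.maximalIdeal A) n hn M i hlt
    refine iff_of_true ?_ ?_
    · rw [Module.annihilator_eq_top_iff.mpr hsub, Ideal.radical_top]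
      exact le_top
    · intro P _ hJP j e he hje
      obtain ⟨h, q, hh, hq, hnq⟩ := hP P
      have heq : e = q := by
        rw [hq] at he
        exact_mod_cast he.symm
      exact Groth.Agent.S0333.vanish_above
        (IsLocalRing.maximalIdeal (Localization.AtPrime P)) h hh _ j (by omega)

section Transfer

variable (S R : Type u) [CommRing S] [IsNoetherianRing S] [CommRing R] [IsNoetherianRing R]
  [Algebra S R] (hπ : Function.Surjective (algebraMap S R))

include hπ

lemma dim_quot_eq (p : Ideal R) :
    ringKrullDim (S ⧸ p.comap (algebraMap S R)) = ringKrullDim (R ⧸ p) := by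
  let g : S ⧸ p.comap (algebraMap S R) →+* R ⧸ p :=
    Ideal.quotientMap p (algebraMap S R) le_rfl
  have hginj : Function.Injective g := Ideal.quotientMap_injective
  have hgsurj : Function.Surjective g := Ideal.quotientMap_surjective hπ
  exact ringKrullDim_eq_of_ringEquiv (RingEquiv.ofBijective g ⟨hginj, hgsurj⟩)

variable (M : Type u) [AddCommGroup M] [Module S M] [Module R M] [IsScalarTower S R M]
  [Module.Finite S M]

/-- `H^j_{max S_P}(M_P) = 0 ↔ H^j_{max R_p}(M_p) = 0` where `P` is the preimage of `p`. -/
theorem subsingleton_H_loc_iff (p : Ideal R) [p.IsPrime] (j : ℕ) :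
    Subsingleton (LocCoh.H
        (IsLocalRing.maximalIdeal (Localization.AtPrime (p.comap (algebraMap S R)))) j
        (LocalizedModule (p.comap (algebraMap S R)).primeCompl M)) ↔
      Subsingleton (LocCoh.H (IsLocalRing.maximalIdeal (Localization.AtPrime p)) j
        (LocalizedModule p.primeCompl M)) := by
  let f : Localization.AtPrime (p.comap (algebraMap S R)) →+* Localization.AtPrime p :=
    Localization.localRingHom (p.comap (algebraMap S R)) p (algebraMap S R) rfl
  letI : Algebra (Localization.AtPrime (p.comap (algebraMap S R))) (Localization.AtPrime p) :=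
    f.toAlgebra
  letI : Module (Localization.AtPrime (p.comap (algebraMap S R)))
      (LocalizedModule p.primeCompl M) := Module.compHom (LocalizedModule p.primeCompl M) f
  haveI : IsScalarTower (Localization.AtPrime (p.comap (algebraMap S R)))
      (Localization.AtPrime p) (LocalizedModule p.primeCompl M) :=
    IsScalarTower.of_algebraMap_smul (fun _ _ => rfl)
  haveI : IsScalarTower S (Localization.AtPrime (p.comap (algebraMap S R)))
      (LocalizedModule p.primeCompl M) :=
    IsScalarTower.of_algebraMap_smul (fun s y => by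
      show f (algebraMap S (Localization.AtPrime (p.comap (algebraMap S R))) s) • y = s • y
      rw [Localization.localRingHom_to_map, algebraMap_smul, algebraMap_smul])
  haveI : IsLocalizedModule (Algebra.algebraMapSubmonoid R (p.comap (algebraMap S R)).primeCompl)
      (LocalizedModule.mkLinearMap p.primeCompl M) := by
    rw [Groth.Agent.H72.FaltLoc.algebraMapSubmonoid_primeCompl S R hπ p]
    infer_instance
  haveI : IsLocalizedModule (p.comap (algebraMap S R)).primeCompl
      ((LocalizedModule.mkLinearMap p.primeCompl M).restrictScalars S) :=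
    IsLocalizedModule.restrictScalars (p.comap (algebraMap S R)).primeCompl
      (LocalizedModule.mkLinearMap p.primeCompl M)
  let φ₀ : LocalizedModule (p.comap (algebraMap S R)).primeCompl M ≃ₗ[S]
      LocalizedModule p.primeCompl M :=
    IsLocalizedModule.iso (p.comap (algebraMap S R)).primeCompl
      ((LocalizedModule.mkLinearMap p.primeCompl M).restrictScalars S)
  let φ : LocalizedModule (p.comap (algebraMap S R)).primeCompl M ≃ₗ[Localization.AtPrime
      (p.comap (algebraMap S R))] LocalizedModule p.primeCompl M :=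
    LinearEquiv.extendScalarsOfIsLocalization (p.comap (algebraMap S R)).primeCompl
      (Localization.AtPrime (p.comap (algebraMap S R))) φ₀
  have hmax : (IsLocalRing.maximalIdeal (Localization.AtPrime (p.comap (algebraMap S R)))).map
      (algebraMap (Localization.AtPrime (p.comap (algebraMap S R))) (Localization.AtPrime p)) =
      IsLocalRing.maximalIdeal (Localization.AtPrime p) := by
    rw [← IsLocalization.AtPrime.map_eq_maximalIdeal (p.comap (algebraMap S R))
        (Localization.AtPrime (p.comap (algebraMap S R))),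
      ← IsLocalization.AtPrime.map_eq_maximalIdeal p (Localization.AtPrime p), Ideal.map_map]
    have hcomp : (algebraMap (Localization.AtPrime (p.comap (algebraMap S R)))
        (Localization.AtPrime p)).comp
          (algebraMap S (Localization.AtPrime (p.comap (algebraMap S R)))) =
        (algebraMap R (Localization.AtPrime p)).comp (algebraMap S R) :=
      RingHom.ext fun s => Localization.localRingHom_to_map _ p (algebraMap S R) rfl s
    rw [hcomp, ← Ideal.map_map, Ideal.map_comap_of_surjective _ hπ]
  have h14 := Groth.Agent.S11614.result (Localization.AtPrime (p.comap (algebraMap S R)))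
    (Localization.AtPrime p)
    (IsLocalRing.maximalIdeal (Localization.AtPrime (p.comap (algebraMap S R))))
    (LocalizedModule p.primeCompl M) j
  rw [hmax] at h14
  obtain ⟨ψ, -⟩ := h14
  exact ((Groth.Agent.H58.LC.Hcongr
    (IsLocalRing.maximalIdeal (Localization.AtPrime (p.comap (algebraMap S R)))) j
      φ).toEquiv.trans ψ.symm.toEquiv).subsingleton_congr

end Transfer

/-- The annihilator theorem for `H^i_m(M)` over a homomorphic image of a Gorenstein local ring. -/
theorem TBG (R' : Type u) [CommRing R'] [LocCoh.IsGorensteinLocalRing R'] (R : Type u)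
    [CommRing R] [IsNoetherianRing R] [IsLocalRing R] [Algebra R' R]
    (hπ : Function.Surjective (algebraMap R' R)) (M : Type u) [AddCommGroup M] [Module R M]
    [Module R' M] [IsScalarTower R' R M] [Module.Finite R M] (J : Ideal R) (i : ℕ) :
    J ≤ (Module.annihilator R (LocCoh.H (IsLocalRing.maximalIdeal R) i M)).radical ↔
      ∀ (p : Ideal R) [p.IsPrime], ¬ J ≤ p → ∀ j e : ℕ,
        ringKrullDim (R ⧸ p) = (e : WithBot ℕ∞) → j + e = i →
        Subsingleton (LocCoh.H (IsLocalRing.maximalIdeal (Localization.AtPrime p)) j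
          (LocalizedModule p.primeCompl M)) := by
  haveI : Module.Finite R' R := Module.Finite.of_surjective (Algebra.linearMap R' R) hπ
  haveI : Module.Finite R' M := Module.Finite.trans R M
  have hJ' : (J.comap (algebraMap R' R)).map (algebraMap R' R) = J :=
    Ideal.map_comap_of_surjective _ hπ J
  have hmax : (IsLocalRing.maximalIdeal R').map (algebraMap R' R) = IsLocalRing.maximalIdeal R :=
    IsLocalRing.map_maximalIdeal_of_surjective (algebraMap R' R) hπ
  have h14 := Groth.Agent.S11614.result R' R (IsLocalRing.maximalIdeal R') M i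
  rw [hmax] at h14
  obtain ⟨φ, hφ⟩ := h14
  have hL : J ≤ (Module.annihilator R (LocCoh.H (IsLocalRing.maximalIdeal R) i M)).radical ↔
      J.comap (algebraMap R' R) ≤
        (Module.annihilator R' (LocCoh.H (IsLocalRing.maximalIdeal R') i M)).radical := by
    constructor
    · intro h s hs
      obtain ⟨k, hk⟩ := Ideal.mem_radical_iff.mp (h (show algebraMap R' R s ∈ J from hs))
      refine Ideal.mem_radical_iff.mpr ⟨k, ?_⟩
      rw [Module.mem_annihilator] at hk ⊢
      intro y
      obtain ⟨x, rfl⟩ := φ.surjective y
      rw [← hφ, map_pow, hk x, map_zero]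
    · intro h z hz
      obtain ⟨s, rfl⟩ := hπ z
      obtain ⟨k, hk⟩ := Ideal.mem_radical_iff.mp
        (h (show s ∈ J.comap (algebraMap R' R) from hz))
      refine Ideal.mem_radical_iff.mpr ⟨k, ?_⟩
      rw [Module.mem_annihilator] at hk ⊢
      intro x
      apply φ.injective
      rw [← map_pow, hφ, map_zero]
      exact hk (φ x)
  rw [hL, core R' M (J.comap (algebraMap R' R)) i]
  constructor
  · intro h p hp hJp j e he hje
    have hJP : ¬ J.comap (algebraMap R' R) ≤ p.comap (algebraMap R' R) := by
      intro hle
      apply hJp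
      rw [← hJ']
      exact Ideal.map_le_iff_le_comap.mpr hle
    have hdim : ringKrullDim (R' ⧸ p.comap (algebraMap R' R)) = (e : WithBot ℕ∞) := by
      rw [← he]
      exact dim_quot_eq R' R hπ p
    exact (subsingleton_H_loc_iff R' R hπ M p j).mp
      (h (p.comap (algebraMap R' R)) hJP j e hdim hje)
  · intro h P hP hJP j e he hje
    by_cases hker : RingHom.ker (algebraMap R' R) ≤ P
    · obtain ⟨p, hp⟩ := Groth.Agent.H72.FaltLoc.exists_comap_eq R' R hπ ⟨P, hP⟩ hker
      have hPp : P = p.asIdeal.comap (algebraMap R' R) := congrArg PrimeSpectrum.asIdeal hp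
      subst hPp
      have hJp : ¬ J ≤ p.asIdeal := fun hle => hJP (Ideal.comap_mono hle)
      have hdim : ringKrullDim (R ⧸ p.asIdeal) = (e : WithBot ℕ∞) := by
        rw [← he]
        exact (dim_quot_eq R' R hπ p.asIdeal).symm
      exact (subsingleton_H_loc_iff R' R hπ M p.asIdeal j).mpr (h p.asIdeal hJp j e hdim hje)
    · obtain ⟨s, hsker, hsP⟩ := SetLike.not_le_iff_exists.mp hker
      haveI hsub : Subsingleton (LocalizedModule P.primeCompl M) := by
        rw [LocalizedModule.subsingleton_iff]
        intro m
        refine ⟨s, hsP, ?_⟩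
        rw [← algebraMap_smul R s m, (RingHom.mem_ker).mp hsker, zero_smul]
      exact Groth.Agent.H58.LC.subsingleton_H_of_subsingleton _ j

/-- `H^i_m(M)` has finite length iff it is killed by a power of the maximal ideal. -/
theorem isFiniteLength_H_iff (A : Type u) [CommRing A] [IsNoetherianRing A] [IsLocalRing A]
    (M : Type u) [AddCommGroup M] [Module A M] [Module.Finite A M] (i : ℕ) :
    IsFiniteLength A (LocCoh.H (IsLocalRing.maximalIdeal A) i M) ↔
      IsLocalRing.maximalIdeal A ≤
        (Module.annihilator A (LocCoh.H (IsLocalRing.maximalIdeal A) i M)).radical := by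
  constructor
  · intro hfl
    obtain ⟨hN, -⟩ := isFiniteLength_iff_isNoetherian_isArtinian.mp hfl
    haveI := hN
    haveI : Module.Finite A (LocCoh.H (IsLocalRing.maximalIdeal A) i M) := inferInstance
    obtain ⟨k, hk⟩ := Groth.Agent.H2.LCArtin.exists_pow_kill
      (LocCoh.H (IsLocalRing.maximalIdeal A) i M)
      (Groth.Agent.H58.LC.isPowerTorsion_H (IsLocalRing.maximalIdeal A) i)
    intro a ha
    refine Ideal.mem_radical_iff.mpr ⟨k, ?_⟩
    rw [Module.mem_annihilator]
    intro x
    exact hk (a ^ k) (Ideal.pow_mem_pow ha k) x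
  · intro hle
    obtain ⟨k, hk⟩ := Ideal.exists_pow_le_of_le_radical_of_fg hle
      (IsNoetherian.noetherian (IsLocalRing.maximalIdeal A))
    have hArt : IsArtinian A (LocCoh.H (IsLocalRing.maximalIdeal A) i M) :=
      Groth.Agent.H2.LCArtin.isArtinian_H i M
    have htors : Module.IsTorsionBySet A (LocCoh.H (IsLocalRing.maximalIdeal A) i M)
        ((IsLocalRing.maximalIdeal A ^ k : Ideal A) : Set A) := by
      intro z a
      exact Module.mem_annihilator.mp (hk a.2) z
    letI : Module (A ⧸ IsLocalRing.maximalIdeal A ^ k)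
        (LocCoh.H (IsLocalRing.maximalIdeal A) i M) := htors.module
    haveI : IsScalarTower A (A ⧸ IsLocalRing.maximalIdeal A ^ k)
        (LocCoh.H (IsLocalRing.maximalIdeal A) i M) := htors.isScalarTower
    haveI : IsArtinianRing (A ⧸ IsLocalRing.maximalIdeal A ^ k) :=
      Groth.Agent.H98.LCArt.isArtinianRing_quot_pow (IsLocalRing.maximalIdeal A) k
    haveI : IsArtinian (A ⧸ IsLocalRing.maximalIdeal A ^ k)
        (LocCoh.H (IsLocalRing.maximalIdeal A) i M) := isArtinian_of_tower A hArt
    haveI : IsNoetherian (A ⧸ IsLocalRing.maximalIdeal A ^ k)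
        (LocCoh.H (IsLocalRing.maximalIdeal A) i M) :=
      IsSemiprimaryRing.isNoetherian_iff_isArtinian.mpr inferInstance
    haveI : Module.Finite (A ⧸ IsLocalRing.maximalIdeal A ^ k)
        (LocCoh.H (IsLocalRing.maximalIdeal A) i M) := inferInstance
    haveI : Module.Finite A (LocCoh.H (IsLocalRing.maximalIdeal A) i M) :=
      Module.Finite.trans (A ⧸ IsLocalRing.maximalIdeal A ^ k) _
    exact isFiniteLength_iff_isNoetherian_isArtinian.mpr
      ⟨isNoetherian_of_isNoetherianRing_of_finite A _, hArt⟩

end Groth.Agent.H72.LDLoc
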