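import Groth.Agent.H72.ExtType
import Groth.Agent.H60.Bass
import Groth.Agent.S5665
import Mathlib.RingTheory.KrullDimension.Regular
import Mathlib.RingTheory.HopkinsLevitzki

/-!
# Gorenstein local rings have type one

* `ext_length_mul`: dévissage, `length Ext^n(M, Y) = c * length M` when `Ext^i(S, Y) = 0` for
  `i ≠ n` and `length Ext^n(S, Y) = c` for simple `S`.
* `ext_kk_gorenstein`: for `A` Gorenstein local of dimension `n`, `Ext^i(k, A) = 0` for `i ≠ n`
  and `Ext^n(k, A)` has length one.
-/

set_option autoImplicit false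
universe u

namespace Groth.Agent.H72.GorType

open CategoryTheory Abelian IsLocalRing Module RingTheory.Sequence Groth.Agent.H72.PdLocal
  Groth.Agent.H72.PdExt Groth.Agent.H72.AB Groth.Agent.H72.ExtType
open scoped Pointwise

section Devissage

variable {R : Type u} [CommRing R]

/-- Dévissage with an arbitrary length `c` on simple modules. -/
theorem ext_length_mul (Y : ModuleCat.{u} R) (n : ℕ) (c : ℕ∞)
    (hs : ∀ (S : Type u) [AddCommGroup S] [Module R S] [IsSimpleModule R S],
      (∀ i, i ≠ n → Subsingleton (Ext.{u} (ModuleCat.of R S) Y i)) ∧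
        Module.length R (Ext.{u} (ModuleCat.of R S) Y n) = c)
    (M : Type u) [AddCommGroup M] [Module R M] (hM : IsFiniteLength R M) :
    (∀ i, i ≠ n → Subsingleton (Ext.{u} (ModuleCat.of R M) Y i)) ∧
      Module.length R (Ext.{u} (ModuleCat.of R M) Y n) = c * Module.length R M := by
  induction hM with
  | @of_subsingleton M _ _ _ =>
    have hz : Limits.IsZero (ModuleCat.of R M) := ModuleCat.isZero_iff_subsingleton.mpr inferInstance
    refine ⟨fun i _ => subsingleton_ext_of_isZero_left hz i, ?_⟩
    have hsub := subsingleton_ext_of_isZero_left (Y := Y) hz n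
    rw [Module.length_eq_zero, Module.length_eq_zero, mul_zero]
  | @of_simple_quotient M _ _ N _ hN ih =>
    obtain ⟨hs1, hs2⟩ := hs (M ⧸ N)
    obtain ⟨ih1, ih2⟩ := ih
    have hex : Function.Exact N.subtype N.mkQ := LinearMap.exact_subtype_mkQ N
    have hS : (ModuleCat.shortComplexOfCompEqZero N.subtype N.mkQ
        hex.linearMap_comp_eq_zero).ShortExact :=
      ModuleCat.shortComplex_shortExact _ hex (Submodule.subtype_injective N)
        (Submodule.mkQ_surjective N)
    constructor
    · intro i hi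
      refine subsingleton_of_forall_eq_zero fun x₂ => ?_
      have hsN := ih1 i hi
      have hsS := hs1 i hi
      obtain ⟨x₃, rfl⟩ := Ext.contravariant_sequence_exact₂ hS Y x₂ (hsN.elim _ _)
      rw [hsS.elim x₃ 0, Ext.comp_zero]
    · let α : Ext.{u} (ModuleCat.of R (M ⧸ N)) Y n →ₗ[R] Ext.{u} (ModuleCat.of R M) Y n :=
        Ext.precompOfLinear (Ext.mk₀ (ModuleCat.ofHom N.mkQ)) R Y (zero_add n)
      let β : Ext.{u} (ModuleCat.of R M) Y n →ₗ[R] Ext.{u} (ModuleCat.of R N) Y n :=
        Ext.precompOfLinear (Ext.mk₀ (ModuleCat.ofHom N.subtype)) R Y (zero_add n)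
      have hα : Function.Injective α := by
        rw [injective_iff_map_eq_zero]
        intro x₃ hx₃
        rcases Nat.eq_zero_or_pos n with h0 | hpos
        · subst h0
          have hepi : Epi (ModuleCat.ofHom N.mkQ) := hS.epi_g
          exact (Ext.precomp_mk₀_injective_of_epi Y (ModuleCat.ofHom N.mkQ))
            (hx₃.trans (map_zero ((Ext.mk₀ (ModuleCat.ofHom N.mkQ)).precomp Y (zero_add 0))).symm)
        · obtain ⟨n₀, rfl⟩ : ∃ n₀, n = n₀ + 1 := ⟨n - 1, by omega⟩
          obtain ⟨x₁, rfl⟩ := Ext.contravariant_sequence_exact₃ hS Y x₃ hx₃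
            (show 1 + n₀ = n₀ + 1 by omega)
          have hsN := ih1 n₀ (by omega)
          rw [hsN.elim x₁ 0, Ext.comp_zero]
      have hβ : Function.Surjective β := by
        intro x₁
        have hsS := hs1 (1 + n) (by omega)
        obtain ⟨x₂, hx₂⟩ := Ext.contravariant_sequence_exact₁ hS Y x₁ rfl (hsS.elim _ _)
        exact ⟨x₂, hx₂⟩
      have hαβ : Function.Exact α β := by
        intro x₂
        constructor
        · intro hx₂
          obtain ⟨x₃, hx₃⟩ := Ext.contravariant_sequence_exact₂ hS Y x₂ hx₂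
          exact ⟨x₃, hx₃⟩
        · rintro ⟨x₃, rfl⟩
          show (Ext.mk₀ (ModuleCat.ofHom N.subtype)).comp
            ((Ext.mk₀ (ModuleCat.ofHom N.mkQ)).comp x₃ (zero_add n)) (zero_add n) = 0
          rw [Ext.mk₀_comp_mk₀_assoc]
          have hz : ModuleCat.ofHom N.subtype ≫ ModuleCat.ofHom N.mkQ = 0 :=
            (ModuleCat.shortComplexOfCompEqZero N.subtype N.mkQ
              hex.linearMap_comp_eq_zero).zero
          rw [hz, Ext.mk₀_zero, Ext.zero_comp]
      have hlen := Module.length_eq_add_of_exact α β hα hβ hαβ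
      have hMl := Module.length_eq_add_of_exact N.subtype N.mkQ (Submodule.subtype_injective N)
        (Submodule.mkQ_surjective N) hex
      rw [hlen, hs2, ih2, hMl, Module.length_eq_one R (M ⧸ N), mul_add, mul_one, add_comm]

lemma enat_mul_cancel (c l : ℕ∞) (h0 : l ≠ 0) (ht : l ≠ ⊤) (h : c * l = l) : c = 1 := by
  obtain ⟨l', rfl⟩ := ENat.ne_top_iff_exists.mp ht
  have hl0 : l' ≠ 0 := by
    intro h0'
    exact h0 (by rw [h0']; rfl)
  induction c using ENat.recTopCoe with
  | top =>
    exfalso
    rw [ENat.top_mul (by exact_mod_cast hl0)] at h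
    exact ENat.top_ne_natCast l' h
  | coe c' =>
    have h3 : c' * l' = l' := by exact_mod_cast h
    have h4 : c' = 1 := by
      have : c' * l' = 1 * l' := by rw [one_mul]; exact h3
      exact Nat.eq_of_mul_eq_mul_right (Nat.pos_of_ne_zero hl0) this
    rw [h4]
    rfl

end Devissage

section Gorenstein

/-- Over a local ring every simple module is `k`: transfer statements about `Ext(k, Y)`. -/
theorem simple_transfer {R : Type u} [CommRing R] [IsLocalRing R] (S : Type u) [AddCommGroup S]
    [Module R S] [hS : IsSimpleModule R S] (Y : ModuleCat.{u} R) (i : ℕ) :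
    Nonempty (Ext.{u} (ModuleCat.of R S) Y i ≃ₗ[R] Ext.{u} (kk R) Y i) := by
  obtain ⟨I, hI, ⟨e⟩⟩ := isSimpleModule_iff_quot_maximal.mp hS
  obtain rfl : I = IsLocalRing.maximalIdeal R := IsLocalRing.eq_maximalIdeal hI
  exact ⟨extIsoLeft e.toModuleIso Y i⟩

theorem ext_kk_gorenstein (A : Type u) [CommRing A] [LocCoh.IsGorensteinLocalRing A] (n : ℕ)
    (hn : ringKrullDim A = n) :
    (∀ i, i ≠ n → Subsingleton (E A i A)) ∧ Module.length A (E A n A) = 1 := by
  classical
  obtain ⟨r, hr1, hr2⟩ := Groth.Agent.H60.Bass.exists_r (ModuleCat.of A A)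
    LocCoh.IsGorensteinLocalRing.exists_hasInjectiveDimensionLT
  have hdepth : LocCoh.depth A A = r := Groth.Agent.H60.Bass.depth_self_eq r hr1 hr2
  have hcm := Groth.Agent.H60.Bass.isCM_of_data r hr1 hr2
  have hrn : r = n := by
    rw [Module.supportDim_self_eq_ringKrullDim, hn, hdepth] at hcm
    exact_mod_cast hcm.symm
  subst hrn
  have hvan : ∀ i, i ≠ r → Subsingleton (E A i A) := by
    intro i hi
    rcases lt_or_gt_of_ne hi with h | h
    · exact ((depth_eq_iff A A r).mp hdepth).1 i h
    · exact subsingleton_of_forall_eq_zero fun z => hr1 (kk A) i h z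
  refine ⟨hvan, ?_⟩
  obtain ⟨rs, hW, hmem, hlen, -⟩ := Groth.Agent.S8149.exists_max_seq A r hdepth
  subst hlen
  have hsm : Ideal.ofList rs • (⊤ : Submodule A A) = Ideal.ofList rs := by
    rw [Ideal.smul_eq_mul, Ideal.mul_top]
  -- finite length of `B = A / (rs)`
  have hreg : IsRegular A rs := IsRegular.of_isWeaklyRegular_of_mem_maximalIdeal A hmem hW
  have hdim : ringKrullDim (A ⧸ Ideal.ofList rs) ≤ 0 := by
    have h1 := ringKrullDim_add_length_eq_ringKrullDim_of_isRegular rs hreg
    rw [hn] at h1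
    induction hd : ringKrullDim (A ⧸ Ideal.ofList rs) using WithBot.recBotCoe with
    | bot => exact bot_le
    | coe d =>
      rw [hd] at h1
      induction d using ENat.recTopCoe with
      | top =>
        exfalso
        have h2 : ((⊤ : ℕ∞) : WithBot ℕ∞) + ((rs.length : ℕ∞) : WithBot ℕ∞) =
            ((rs.length : ℕ∞) : WithBot ℕ∞) := by exact_mod_cast h1
        rw [← WithBot.coe_add, WithBot.coe_inj, top_add] at h2
        exact ENat.top_ne_natCast _ h2
      | coe d' =>
        have h2 : d' + rs.length = rs.length := by exact_mod_cast h1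
        have h3 : d' = 0 := by omega
        rw [h3]
        rfl
  haveI : Ring.KrullDimLE 0 (A ⧸ Ideal.ofList rs) := Ring.krullDimLE_iff.mpr (by simpa using hdim)
  haveI : IsArtinianRing (A ⧸ Ideal.ofList rs) := IsNoetherianRing.isArtinianRing_of_krullDimLE_zero
  haveI : IsArtinian A (A ⧸ Ideal.ofList rs) :=
    isArtinian_of_surjective_algebraMap (R := A ⧸ Ideal.ofList rs) (S := A)
      Ideal.Quotient.mk_surjective
  have hfl : IsFiniteLength A (A ⧸ Ideal.ofList rs) :=
    isFiniteLength_iff_isNoetherian_isArtinian.mpr ⟨inferInstance, inferInstance⟩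
  haveI : Nontrivial (A ⧸ Ideal.ofList rs) := by
    apply Ideal.Quotient.nontrivial_iff.mpr
    intro htop
    have hle : Ideal.ofList rs ≤ maximalIdeal A := Ideal.span_le.mpr (fun x hx => hmem x hx)
    rw [htop] at hle
    exact (maximalIdeal.isMaximal A).ne_top (top_le_iff.mp hle)
  -- dévissage for `Ext^n(-, A)`
  have hs : ∀ (S : Type u) [AddCommGroup S] [Module A S] [IsSimpleModule A S],
      (∀ i, i ≠ rs.length → Subsingleton (Ext.{u} (ModuleCat.of A S) (ModuleCat.of A A) i)) ∧
        Module.length A (Ext.{u} (ModuleCat.of A S) (ModuleCat.of A A) rs.length)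
          = Module.length A (E A rs.length A) := by
    intro S _ _ _
    refine ⟨fun i hi => ?_, ?_⟩
    · obtain ⟨e1⟩ := simple_transfer S (ModuleCat.of A A) i
      haveI := hvan i hi
      exact e1.injective.subsingleton
    · obtain ⟨e0⟩ := simple_transfer S (ModuleCat.of A A) rs.length
      rw [e0.length_eq]
  obtain ⟨-, h2⟩ := ext_length_mul (ModuleCat.of A A) rs.length _ hs (A ⧸ Ideal.ofList rs) hfl
  obtain ⟨e5⟩ := Groth.Agent.S5665.result A rs hW A
  have e6 : (A ⧸ (Ideal.ofList rs • (⊤ : Submodule A A))) ≃ₗ[A] (A ⧸ Ideal.ofList rs) :=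
    Submodule.quotEquivOfEq _ _ hsm
  rw [(e5.trans e6).length_eq] at h2
  have hpos : Module.length A (A ⧸ Ideal.ofList rs) ≠ 0 := by
    rw [Ne, Module.length_eq_zero_iff]
    exact not_subsingleton _
  have hfin : Module.length A (A ⧸ Ideal.ofList rs) ≠ ⊤ := Module.length_ne_top_iff.mpr hfl
  exact enat_mul_cancel _ _ hpos hfin h2.symm

end Gorenstein

end Groth.Agent.H72.GorType
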