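import Groth.Agent.H72.PdLocal
import Groth.Agent.S0563
import Groth.Agent.S5791

/-!
# Projective dimension of finite modules via `Ext` into the ring

* `pdLT_of_ext_ring`: over a Noetherian ring, a finite module `M` with `pd M ≤ n` and
  `Ext^n(M, A) = 0` has `pd M < n`.
* `pdLT_of_forall_ext_ring`: finite `pd` and `Ext^i(M, A) = 0` for `i > q` give `pd M ≤ q`.
* `exists_pdLT_of_forall_maximal`: if `M_m` has finite `pd` over `A_m` for every maximal `m`,
  then `M` has finite `pd` over `A` (quasi-compactness of `Spec A`).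
-/

set_option autoImplicit false
universe u

namespace Groth.Agent.H72.PdExt

open CategoryTheory Abelian Groth.Agent.H72.PdLocal

lemma subsingleton_of_forall_eq_zero {G : Type*} [Zero G] (h : ∀ x : G, x = 0) :
    Subsingleton G :=
  ⟨fun a b => by rw [h a, h b]⟩

section ExtLemmas

variable {A : Type u} [CommRing A]

lemma subsingleton_ext_of_isZero {X Z : ModuleCat.{u} A} (hZ : Limits.IsZero Z) (n : ℕ) :
    Subsingleton (Ext.{u} X Z n) :=
  subsingleton_of_forall_eq_zero fun e => by
    rw [← e.comp_mk₀_id, hZ.eq_of_src (𝟙 Z) 0, Ext.mk₀_zero, Ext.comp_zero]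

lemma subsingleton_ext_X₂ (X : ModuleCat.{u} A) {S : ShortComplex (ModuleCat.{u} A)}
    (hS : S.ShortExact) (n : ℕ) (h1 : Subsingleton (Ext.{u} X S.X₁ n))
    (h3 : Subsingleton (Ext.{u} X S.X₃ n)) : Subsingleton (Ext.{u} X S.X₂ n) :=
  subsingleton_of_forall_eq_zero fun x₂ => by
    obtain ⟨x₁, rfl⟩ := Ext.covariant_sequence_exact₂ X hS x₂ (Subsingleton.elim _ _)
    rw [Subsingleton.elim x₁ 0, Ext.zero_comp]

variable (A)

/-- inclusion of the first coordinate -/
def ιk (k : ℕ) : A →ₗ[A] (Fin (k + 1) → A) := LinearMap.single A (fun _ : Fin (k + 1) => A) 0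

/-- forgetting the first coordinate -/
def πk (k : ℕ) : (Fin (k + 1) → A) →ₗ[A] (Fin k → A) := LinearMap.funLeft A A Fin.succ

lemma ιk_apply (k : ℕ) (a : A) : ιk A k a = Pi.single 0 a := rfl

lemma πk_apply (k : ℕ) (f : Fin (k + 1) → A) (j : Fin k) : πk A k f j = f j.succ := rfl

lemma ιk_injective (k : ℕ) : Function.Injective (ιk A k) := fun a b h => by
  have h0 := congrFun h 0
  rw [ιk_apply, ιk_apply, Pi.single_eq_same, Pi.single_eq_same] at h0
  exact h0

lemma πk_surjective (k : ℕ) : Function.Surjective (πk A k) := fun h =>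
  ⟨Fin.cons 0 h, by ext j; rw [πk_apply, Fin.cons_succ]⟩

lemma ιπ_exact (k : ℕ) : Function.Exact (ιk A k) (πk A k) := by
  intro f
  constructor
  · intro hf
    refine ⟨f 0, ?_⟩
    ext i
    refine Fin.cases ?_ (fun j => ?_) i
    · rw [ιk_apply, Pi.single_eq_same]
    · have hj := congrFun hf j
      rw [πk_apply, Pi.zero_apply] at hj
      rw [ιk_apply, Pi.single_eq_of_ne (Fin.succ_ne_zero j), hj]
  · rintro ⟨a, rfl⟩
    ext j
    rw [πk_apply, ιk_apply, Pi.single_eq_of_ne (Fin.succ_ne_zero j), Pi.zero_apply]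

lemma ext_pi_subsingleton (X : ModuleCat.{u} A) (n : ℕ)
    (h : Subsingleton (Ext.{u} X (ModuleCat.of A A) n)) :
    ∀ k : ℕ, Subsingleton (Ext.{u} X (ModuleCat.of A (Fin k → A)) n)
  | 0 => subsingleton_ext_of_isZero (ModuleCat.isZero_of_subsingleton _) n
  | k + 1 => by
    have hS : (ModuleCat.shortComplexOfCompEqZero (ιk A k) (πk A k)
        (ιπ_exact A k).linearMap_comp_eq_zero).ShortExact :=
      ModuleCat.shortComplex_shortExact _ (ιπ_exact A k) (ιk_injective A k) (πk_surjective A k)
    exact subsingleton_ext_X₂ X hS n h (ext_pi_subsingleton X n h k)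

variable {A}

/-- Over a Noetherian ring, a finite module with `pd ≤ n` and `Ext^n(M, A) = 0` has `pd < n`. -/
theorem pdLT_of_ext_ring [IsNoetherianRing A] (M : Type u) [AddCommGroup M] [Module A M]
    [Module.Finite A M] (n : ℕ)
    (hpd : HasProjectiveDimensionLT (ModuleCat.of A M) (n + 1))
    (hext : Subsingleton (Ext.{u} (ModuleCat.of A M) (ModuleCat.of A A) n)) :
    HasProjectiveDimensionLT (ModuleCat.of A M) n := by
  apply ModuleCat.hasProjectiveDimensionLT_of_forall_finite
  intro L hL
  obtain ⟨k, g, hg⟩ := Module.Finite.exists_fin' A L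
  have hex : Function.Exact (LinearMap.ker g).subtype g := LinearMap.exact_subtype_ker_map g
  have hS : (ModuleCat.shortComplexOfCompEqZero (LinearMap.ker g).subtype g
      hex.linearMap_comp_eq_zero).ShortExact :=
    ModuleCat.shortComplex_shortExact _ hex (Submodule.subtype_injective _) hg
  have hfree := ext_pi_subsingleton A (ModuleCat.of A M) n hext k
  refine subsingleton_of_forall_eq_zero fun x₃ => ?_
  obtain ⟨x₂, rfl⟩ := Ext.covariant_sequence_exact₃ (ModuleCat.of A M) hS x₃ rfl
    (Ext.eq_zero_of_hasProjectiveDimensionLT _ (n + 1) le_rfl)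
  rw [Subsingleton.elim x₂ 0, Ext.zero_comp]

/-- Finite `pd` plus vanishing of `Ext^i(M, A)` for `i > q` gives `pd M ≤ q`. -/
theorem pdLT_of_forall_ext_ring [IsNoetherianRing A] (M : Type u) [AddCommGroup M] [Module A M]
    [Module.Finite A M] (q N : ℕ)
    (hN : HasProjectiveDimensionLT (ModuleCat.of A M) (N + 1))
    (h : ∀ i : ℕ, q < i → Subsingleton (Ext.{u} (ModuleCat.of A M) (ModuleCat.of A A) i)) :
    HasProjectiveDimensionLT (ModuleCat.of A M) (q + 1) := by
  have step : ∀ t : ℕ, HasProjectiveDimensionLT (ModuleCat.of A M) (q + 1 + t) →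
      HasProjectiveDimensionLT (ModuleCat.of A M) (q + 1) := by
    intro t
    induction t with
    | zero => exact id
    | succ t ih =>
      intro ht
      exact ih (pdLT_of_ext_ring M (q + 1 + t) ht (h _ (by omega)))
  exact step N (hasProjectiveDimensionLT_of_ge _ (N + 1) (q + 1 + N) (by omega))

end ExtLemmas

section Global

variable (A : Type u) [CommRing A] [IsNoetherianRing A] (M : Type u) [AddCommGroup M] [Module A M]
  [Module.Finite A M]

theorem isOpen_setOf_pdLT (n : ℕ) :
    IsOpen {p : PrimeSpectrum A | PdLT (Localization.AtPrime p.asIdeal)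
      (LocalizedModule p.asIdeal.primeCompl M) (n + 1)} := by
  obtain ⟨K, i1, i2, i3, -, -, hS⟩ := exists_syzygy_loc A n M
  have hfp : Module.FinitePresentation A K := Module.finitePresentation_of_finite A K
  have heq : {p : PrimeSpectrum A | PdLT (Localization.AtPrime p.asIdeal)
      (LocalizedModule p.asIdeal.primeCompl M) (n + 1)} = Module.freeLocus A K := by
    ext p
    rw [Set.mem_ofPred_eq, Module.mem_freeLocus]
    refine Iff.trans (hS p.asIdeal.primeCompl) ?_
    exact ⟨fun _ => Module.free_of_flat_of_isLocalRing, fun _ => inferInstance⟩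
  rw [heq]
  exact Module.isOpen_freeLocus

/-- If all localizations at maximal ideals have finite projective dimension, so does `M`. -/
theorem exists_pdLT_of_forall_maximal
    (h : ∀ p : PrimeSpectrum A, p.asIdeal.IsMaximal → ∃ n : ℕ,
      PdLT (Localization.AtPrime p.asIdeal) (LocalizedModule p.asIdeal.primeCompl M) (n + 1)) :
    ∃ N : ℕ, PdLT A M (N + 1) := by
  let U : ℕ → Set (PrimeSpectrum A) := fun n => {p | PdLT (Localization.AtPrime p.asIdeal)
      (LocalizedModule p.asIdeal.primeCompl M) (n + 1)}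
  have hopen : ∀ n, IsOpen (U n) := fun n => isOpen_setOf_pdLT A M n
  have hmono : ∀ ⦃a b : ℕ⦄, a ≤ b → U a ⊆ U b := by
    intro a b hab p hp
    have hp' : HasProjectiveDimensionLT (ModuleCat.of (Localization.AtPrime p.asIdeal)
      (LocalizedModule p.asIdeal.primeCompl M)) (a + 1) := hp
    exact hasProjectiveDimensionLT_of_ge _ (a + 1) (b + 1) (by omega)
  have hcover : (Set.univ : Set (PrimeSpectrum A)) ⊆ ⋃ n, U n := by
    intro p _
    obtain ⟨m, hm, hpm⟩ := Ideal.exists_le_maximal p.asIdeal p.isPrime.ne_top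
    obtain ⟨n, hn⟩ := h ⟨m, hm.isPrime⟩ hm
    refine Set.mem_iUnion.mpr ⟨n, ?_⟩
    have hsp : p ⤳ (⟨m, hm.isPrime⟩ : PrimeSpectrum A) :=
      (PrimeSpectrum.le_iff_specializes _ _).mp hpm
    exact hsp.mem_open (hopen n) hn
  obtain ⟨N, hN⟩ := isCompact_univ.elim_directed_cover U hopen hcover
    (directed_of_isDirected_le hmono)
  exact ⟨N, (Groth.Agent.S5791.result A M N).mpr fun p => hN (Set.mem_univ p)⟩

end Global

/-- Over a regular local ring every module has projective dimension at most the dimension. -/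
theorem pdLT_of_isRegularLocalRing (A : Type u) [CommRing A] [IsRegularLocalRing A]
    (M : Type u) [AddCommGroup M] [Module A M] :
    PdLT A M ((IsLocalRing.maximalIdeal A).spanFinrank + 1) :=
  Groth.Agent.S0563.result A _ (IsRegularLocalRing.spanFinrank_maximalIdeal).symm M

end Groth.Agent.H72.PdExt
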