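import Mathlib
import Groth.Agent.S0389
import Groth.Agent.H57.RelAssGen.Defs
import Groth.Agent.H51.RA_B1
import Groth.Agent.H83.RA_B2a
import Groth.Agent.H11.NoetherDomain2
import Groth.Agent.H72.SU_COPcore
import Groth.Agent.H66.SU_C1
import Groth.Agent.H29.SU_C2

/-!
# (COP) for helper57's S5872 / S5873 squad, exact statement

The coprimary case: if `M` is `q₀`-coprimary with `q₀ ∩ A = 0`, then near the generic point the
associated points of the fibres of `M` are fibre-generic points of `V(q₀)`.
Assembled from `coprimary_socAt_core` (H72), (C1) (helper66) and (C2) (helper29).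
-/

set_option autoImplicit false
universe u

open Groth.Agent.H57.RelAssGen

namespace Groth.Agent.H72.SU_COP

section Domain

variable {A B M : Type u} [CommRing A] [IsDomain A] [CommRing B] [Algebra A B]
  [Algebra.FiniteType A B] [AddCommGroup M] [Module B M] [Module A M] [IsScalarTower A B M]
  [Module.Finite B M]

/-- (COP) the coprimary case: if `M` is `q₀`-coprimary with `q₀ ∩ A = 0`, then near the generic
point the associated points of the fibres of `M` are fibre-generic points of `V(q₀)`. -/
theorem coprimary_socAt (q₀ : Ideal B) [q₀.IsPrime] (hq₀ : q₀.comap (algebraMap A B) = ⊥)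
    (hnil : ∀ b ∈ q₀, ∃ k : ℕ, ∀ n : M, b ^ k • n = 0)
    (hreg : ∀ b : B, b ∉ q₀ → ∀ n : M, b • n = 0 → n = 0) :
    ∃ a : A, a ≠ 0 ∧ ∀ q : Ideal B, q.IsPrime → algebraMap A B a ∉ q →
      SocAt (fibI A q) q M → q₀ ≤ q ∧
        ∀ q' : Ideal B, q'.IsPrime → q₀ ≤ q' → q' ≤ q →
          q'.comap (algebraMap A B) = q.comap (algebraMap A B) → q' = q :=
  coprimary_socAt_core
    (fun 𝔞 h => Groth.Agent.H66.SU_C1.exists_noether_normalization 𝔞 h)
    (fun φ h => Groth.Agent.H29.SU_C2.fibre_torsionFree φ h) q₀ hq₀ hnil hreg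

end Domain

end Groth.Agent.H72.SU_COP
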