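import Mathlib

set_option autoImplicit false

/-!
# S1851 squad pieces (DIM2), (DIM2') for helper34: primes in a 2-dimensional local ring.
-/

universe u

open IsLocalRing

namespace Groth.Agent.H72.KatoDim2

private lemma enat_chain {a b c : ℕ∞} (h1 : 1 ≤ a) (h2 : a < b) (h3 : b < c) (h4 : c ≤ 2) :
    False := by
  have hc : c ≠ ⊤ := ne_top_of_le_ne_top (by exact_mod_cast ENat.coe_ne_top 2) h4
  have hb : b ≠ ⊤ := ne_top_of_lt h3
  have ha : a ≠ ⊤ := ne_top_of_lt h2
  lift a to ℕ using ha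
  lift b to ℕ using hb
  lift c to ℕ using hc
  norm_cast at h1 h2 h3 h4
  omega

private lemma enat_chain' {a b : ℕ∞} (h2 : a < b) (h4 : b ≤ 2) : a ≤ 1 := by
  have hb : b ≠ ⊤ := ne_top_of_le_ne_top (by exact_mod_cast ENat.coe_ne_top 2) h4
  have ha : a ≠ ⊤ := ne_top_of_lt h2
  lift a to ℕ using ha
  lift b to ℕ using hb
  norm_cast at h2 h4 ⊢
  omega

/-- (DIM2) -/
theorem dim_two_structure (R : Type u) [CommRing R] [IsNoetherianRing R] [IsLocalRing R]
    (hR : ringKrullDim R ≤ 2) (t : R) (ht : t ∈ nonZeroDivisors R) (p : Ideal R) [p.IsPrime]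
    (htp : t ∈ p) (hpm : p ≠ maximalIdeal R) :
    p ∈ (Ideal.span {t}).minimalPrimes ∧
      (∀ p' : Ideal R, p'.IsPrime → p < p' → p' = maximalIdeal R) ∧
      (ringKrullDim R = 2 → p.height = 1) := by
  have hmax : (maximalIdeal R).height ≤ 2 := by
    have h := Ideal.height_le_ringKrullDim_of_ne_top (I := maximalIdeal R) Ideal.IsPrime.ne_top'
    have h2 : ((maximalIdeal R).height : WithBot ℕ∞) ≤ ((2 : ℕ∞) : WithBot ℕ∞) :=
      h.trans (by exact_mod_cast hR)
    exact_mod_cast h2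
  have hnz : ∀ P : Ideal R, P.IsPrime → t ∈ P → 1 ≤ P.height := by
    intro P hP htP
    rw [Order.one_le_iff_pos, pos_iff_ne_zero]
    intro h0
    rw [Ideal.height_eq_zero_iff] at h0
    exact notMem_nonZeroDivisors_of_mem_mem_minimalPrimes htP h0 ht
  have hlt : ∀ P P' : Ideal R, P.IsPrime → P'.IsPrime → P < P' → P.height < P'.height := by
    intro P P' hP hP' h
    exact Ideal.height_strict_mono_of_isPrime_of_isPrime h
  have hpm' : p < maximalIdeal R :=
    lt_of_le_of_ne (IsLocalRing.le_maximalIdeal Ideal.IsPrime.ne_top') hpm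
  have hp1 : p.height = 1 :=
    le_antisymm (enat_chain' (hlt p (maximalIdeal R) inferInstance inferInstance hpm') hmax)
      (hnz p inferInstance htp)
  refine ⟨?_, ?_, fun _ => hp1⟩
  · refine And.intro ⟨inferInstance, (Ideal.span_singleton_le_iff_mem _).mpr htp⟩ ?_
    rintro P ⟨hP, hIP⟩ hPp
    by_contra hne
    have hlt' : P < p := lt_of_le_of_ne hPp (fun h => hne (h ▸ le_rfl))
    have h1 : 1 ≤ P.height := hnz P hP (hIP (Ideal.mem_span_singleton_self t))
    have h2 : P.height < p.height := hlt P p hP inferInstance hlt'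
    rw [hp1] at h2
    exact absurd (lt_of_le_of_lt h1 h2) (lt_irrefl _)
  · intro p' hp' hpp'
    by_contra hne
    have hp'm : p' < maximalIdeal R :=
      lt_of_le_of_ne (IsLocalRing.le_maximalIdeal hp'.ne_top) hne
    exact enat_chain (hnz p inferInstance htp) (hlt p p' inferInstance hp' hpp')
      (hlt p' (maximalIdeal R) hp' inferInstance hp'm) hmax

/-- A prime of positive height drops the dimension of the quotient. -/
theorem ringKrullDim_quotient_succ_le_of_height_ne_zero (R : Type u) [CommRing R] [Nontrivial R]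
    (p : Ideal R) [p.IsPrime] (hp : p.height ≠ 0) :
    ringKrullDim (R ⧸ p) + 1 ≤ ringKrullDim R := by
  have hne : Nonempty (PrimeSpectrum.zeroLocus (R := R) (p : Set R)) :=
    ⟨⟨⟨p, inferInstance⟩, by rw [PrimeSpectrum.mem_zeroLocus]⟩⟩
  rw [ringKrullDim_quotient, Order.krullDim_eq_iSup_length, ringKrullDim,
    Order.krullDim_eq_iSup_length, ← WithBot.coe_one, ← WithBot.coe_add,
    ENat.iSup_add, WithBot.coe_le_coe, iSup_le_iff]
  intro l
  obtain ⟨p₀, hp₀, hp₀'⟩ := Ideal.exists_minimalPrimes_le (J := p) bot_le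
  let p' : PrimeSpectrum R := ⟨p₀, hp₀.1.1⟩
  have hne' : p₀ ≠ p := by
    rintro rfl
    exact hp (Ideal.height_eq_zero_iff.mpr hp₀)
  have hle : p ≤ l.head.1.asIdeal :=
    SetLike.coe_subset_coe.mp ((PrimeSpectrum.mem_zeroLocus _ _).mp l.head.2)
  have hp' : p' < l.head.1 := by
    rw [← PrimeSpectrum.asIdeal_lt_asIdeal]
    exact lt_of_lt_of_le (lt_of_le_of_ne hp₀' hne') hle
  refine le_trans ?_ (le_iSup _ ((l.map Subtype.val (fun _ _ ↦ id)).cons p' hp'))
  simp

/-- (DIM2') -/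
theorem height_one_ne_maximal (R : Type u) [CommRing R] [IsNoetherianRing R] [IsLocalRing R]
    (hR : ringKrullDim R = 2) (p : Ideal R) [p.IsPrime] (hp : p.height = 1) :
    p ≠ maximalIdeal R ∧ ringKrullDim (R ⧸ p) = 1 := by
  have hpm : p ≠ maximalIdeal R := by
    intro h
    have h2 := IsLocalRing.maximalIdeal_height_eq_ringKrullDim (R := R)
    rw [← h, hp, hR] at h2
    have h3 : ((1 : ℕ∞) : WithBot ℕ∞) = ((2 : ℕ∞) : WithBot ℕ∞) := h2
    have h4 : (1 : ℕ∞) = 2 := WithBot.coe_injective h3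
    exact absurd h4 (by norm_num)
  have hge : 1 ≤ ringKrullDim (R ⧸ p) := by
    rw [ringKrullDim_quotient, Order.one_le_krullDim_iff]
    have hlt : p < maximalIdeal R :=
      lt_of_le_of_ne (IsLocalRing.le_maximalIdeal Ideal.IsPrime.ne_top') hpm
    refine ⟨⟨⟨p, inferInstance⟩, by rw [PrimeSpectrum.mem_zeroLocus]⟩,
      ⟨⟨maximalIdeal R, inferInstance⟩, by
        rw [PrimeSpectrum.mem_zeroLocus]; exact SetLike.coe_subset_coe.mpr hlt.le⟩, ?_⟩
    show (⟨p, inferInstance⟩ : PrimeSpectrum R) < ⟨maximalIdeal R, inferInstance⟩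
    rw [← PrimeSpectrum.asIdeal_lt_asIdeal]
    exact hlt
  refine ⟨hpm, le_antisymm ?_ hge⟩
  have h1 := ringKrullDim_quotient_succ_le_of_height_ne_zero R p (by rw [hp]; exact one_ne_zero)
  rw [hR] at h1
  obtain ⟨d, hd⟩ := WithBot.ne_bot_iff_exists.mp (ne_bot_of_le_ne_bot (by simp) hge)
  rw [← hd] at h1 ⊢
  have h2 : ((d + 1 : ℕ∞) : WithBot ℕ∞) ≤ ((2:ℕ∞) : WithBot ℕ∞) := h1
  have h3 : d + 1 ≤ (2 : ℕ∞) := WithBot.coe_le_coe.mp h2
  have hd' : d ≠ ⊤ := by
    rintro rfl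
    simp at h3
  lift d to ℕ using hd'
  have h4 : d + 1 ≤ 2 := by exact_mod_cast h3
  have h5 : d ≤ 1 := by omega
  have h6 : (((d : ℕ) : ℕ∞) : WithBot ℕ∞) ≤ ((1 : ℕ∞) : WithBot ℕ∞) :=
    WithBot.coe_le_coe.mpr (by exact_mod_cast h5)
  exact h6

end Groth.Agent.H72.KatoDim2
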