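import Mathlib

set_option autoImplicit false

/-!
# S1851 squad pieces (PP), (HF) for helper34: the `p`-primary component of `(t)`.
-/

universe u

open IsLocalRing

namespace Groth.Agent.H72.KatoPP

/-- the `p`-primary component of `(t)` : kernel of `R → R_p / t R_p`. -/
abbrev Pp {R : Type u} [CommRing R] (p : Ideal R) [p.IsPrime] (t : R) : Ideal R :=
  Ideal.comap (algebraMap R (Localization.AtPrime p))
    (Ideal.span {algebraMap R (Localization.AtPrime p) t})

/-- (PP) -/
theorem mem_Pp_iff {R : Type u} [CommRing R] (p : Ideal R) [p.IsPrime] (t x : R) :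
    x ∈ Pp p t ↔ ∃ s : R, s ∉ p ∧ s * x ∈ Ideal.span {t} := by
  rw [Ideal.mem_comap, Ideal.mem_span_singleton']
  constructor
  · rintro ⟨c, hc⟩
    obtain ⟨r, s, rfl⟩ := IsLocalization.exists_mk'_eq p.primeCompl c
    have h1 : algebraMap R (Localization.AtPrime p) (r * t) =
        algebraMap R (Localization.AtPrime p) ((s : R) * x) := by
      rw [map_mul, map_mul, ← hc, ← mul_assoc, IsLocalization.mk'_spec']
    obtain ⟨c', hc'⟩ := (IsLocalization.eq_iff_exists p.primeCompl _).mp h1
    refine ⟨(c' : R) * (s : R), ?_, ?_⟩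
    · exact fun h => (Ideal.IsPrime.mem_or_mem ‹p.IsPrime› h).elim c'.2 s.2
    · rw [Ideal.mem_span_singleton']
      exact ⟨(c' : R) * r, by rw [mul_assoc, mul_assoc, hc']⟩
  · rintro ⟨s, hs, hsx⟩
    rw [Ideal.mem_span_singleton'] at hsx
    obtain ⟨r, hr⟩ := hsx
    refine ⟨IsLocalization.mk' _ r (⟨s, hs⟩ : p.primeCompl), ?_⟩
    calc IsLocalization.mk' (Localization.AtPrime p) r (⟨s, hs⟩ : p.primeCompl) *
          algebraMap R (Localization.AtPrime p) t
        = algebraMap R (Localization.AtPrime p) t *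
          IsLocalization.mk' (Localization.AtPrime p) r (⟨s, hs⟩ : p.primeCompl) := mul_comm _ _
      _ = IsLocalization.mk' (Localization.AtPrime p) (t * r) (⟨s, hs⟩ : p.primeCompl) :=
          IsLocalization.mul_mk'_eq_mk'_of_mul _ _ _
      _ = IsLocalization.mk' (Localization.AtPrime p) (s * x) (⟨s, hs⟩ : p.primeCompl) := by
          rw [mul_comm t r, hr]
      _ = algebraMap R (Localization.AtPrime p) x :=
          IsLocalization.mk'_mul_cancel_left x ⟨s, hs⟩

/-- `t` itself lies in the `p`-primary component. -/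
theorem self_mem_Pp {R : Type u} [CommRing R] (p : Ideal R) [p.IsPrime] (t : R) : t ∈ Pp p t :=
  Ideal.mem_comap.mpr (Ideal.mem_span_singleton_self _)

/-- Key lemma: if `p` is minimal over `(t)` and `x ∈ p`, some `w * x ^ N` with `w ∉ p` lies in
`(t)`. -/
theorem exists_mul_pow_mem {R : Type u} [CommRing R] (p : Ideal R) [p.IsPrime] (t : R)
    (hpt : p ∈ (Ideal.span {t}).minimalPrimes) (x : R) (hx : x ∈ p) :
    ∃ (N : ℕ) (w : R), w ∉ p ∧ w * x ^ N ∈ Ideal.span {t} := by
  by_contra hcon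
  push Not at hcon
  have hdisj : Disjoint ((Ideal.span {t} : Ideal R) : Set R)
      ((p.primeCompl ⊔ Submonoid.powers x : Submonoid R) : Set R) := by
    rw [Set.disjoint_left]
    intro z hz hzT
    obtain ⟨w, hw, y, hy, rfl⟩ := Submonoid.mem_sup.mp hzT
    obtain ⟨N, rfl⟩ := (Submonoid.mem_powers_iff _ _).mp hy
    exact hcon N w hw hz
  obtain ⟨P, hP, hIP, hPT⟩ := Ideal.exists_le_prime_disjoint _ _ hdisj
  have hPp : P ≤ p := by
    intro y hy
    by_contra hyp
    exact Set.disjoint_left.mp hPT hy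
      ((show p.primeCompl ≤ p.primeCompl ⊔ Submonoid.powers x from le_sup_left) hyp)
  have hpP : p ≤ P := hpt.2 ⟨hP, hIP⟩ hPp
  exact Set.disjoint_left.mp hPT (hpP hx)
    ((show Submonoid.powers x ≤ p.primeCompl ⊔ Submonoid.powers x from le_sup_right)
      (Submonoid.mem_powers x))

/-- Every element of a prime minimal over `(t)` has a power in the primary component. -/
theorem exists_pow_mem_Pp {R : Type u} [CommRing R] (p : Ideal R) [p.IsPrime] (t : R)
    (hpt : p ∈ (Ideal.span {t}).minimalPrimes) (x : R) (hx : x ∈ p) :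
    ∃ N : ℕ, x ^ N ∈ Pp p t := by
  obtain ⟨N, w, hw, hwx⟩ := exists_mul_pow_mem p t hpt x hx
  exact ⟨N, (mem_Pp_iff p t _).mpr ⟨w, hw, hwx⟩⟩

section Herb
variable (R : Type u) [CommRing R] [IsNoetherianRing R] [IsLocalRing R] (p : Ideal R) [p.IsPrime]

/-- (HF) -/
theorem support_quot_Pp (t : R) (hpt : p ∈ (Ideal.span {t}).minimalPrimes) :
    ∀ q ∈ Module.support R (R ⧸ Pp p t), p ≤ q.asIdeal := by
  intro q hq x hx
  obtain ⟨N, hN⟩ := exists_pow_mem_Pp p t hpt x hx
  obtain ⟨m, hm⟩ := Module.mem_support_iff_exists_annihilator.mp hq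
  obtain ⟨y, rfl⟩ := Submodule.Quotient.mk_surjective _ m
  refine q.2.mem_of_pow_mem N (hm ?_)
  rw [Submodule.mem_annihilator_span_singleton, ← Submodule.Quotient.mk_smul,
    Submodule.Quotient.mk_eq_zero, smul_eq_mul]
  exact Ideal.mul_mem_right _ _ hN

end Herb

end Groth.Agent.H72.KatoPP
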