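import Mathlib
import Groth.Agent.S3406
import Groth.Agent.H72.KatoPP

set_option autoImplicit false

/-!
# S1851 squad piece (GB) for helper34: `R/(t) → ∏_p R/P_p(t)` has finite length kernel and cokernel.
-/

universe u

open IsLocalRing

namespace Groth.Agent.H72.KatoGB

open Groth.Agent.H72.KatoPP

/-- A finite module over a Noetherian local ring, each of whose elements is killed by an element
outside any given non-maximal prime, has finite length. -/
theorem length_lt_top_of_forall {R : Type u} [CommRing R] [IsNoetherianRing R] [IsLocalRing R]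
    (N : Type u) [AddCommGroup N] [Module R N] [Module.Finite R N]
    (h : ∀ (m : N) (q : PrimeSpectrum R), q.asIdeal ≠ maximalIdeal R →
      ∃ r : R, r ∉ q.asIdeal ∧ r • m = 0) :
    Module.length R N < ⊤ := by
  refine lt_top_iff_ne_top.mpr (Module.length_ne_top_iff.mpr ?_)
  rw [Groth.Agent.S3406.isFiniteLength_iff_supportDim_le_zero]
  refine Groth.Agent.S3406.krullDim_le_zero_of_forall_isMaximal (T := Module.support R N)
    (fun P hP => ?_)
  have hPm : P.asIdeal = maximalIdeal R := by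
    by_contra hne
    obtain ⟨m, hm⟩ := Module.mem_support_iff_exists_annihilator.mp hP
    obtain ⟨r, hr, hrm⟩ := h m P hne
    exact hr (hm ((Submodule.mem_annihilator_span_singleton _ _).mpr hrm))
  rw [hPm]
  infer_instance

/-- (GB) -/
theorem exists_map_pi (R : Type u) [CommRing R] [IsNoetherianRing R] [IsLocalRing R] (t : R)
    (s : Finset (PrimeSpectrum R))
    (h1 : ∀ p ∈ s, t ∈ p.asIdeal)
    (h2 : ∀ q : PrimeSpectrum R, t ∈ q.asIdeal → q.asIdeal ≠ maximalIdeal R → q ∈ s)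
    (h3 : ∀ p ∈ s, ∀ p' ∈ s, p.asIdeal ≤ p'.asIdeal → p = p')
    (h4 : ∀ p ∈ s, p.asIdeal ≠ maximalIdeal R) :
    ∃ F : (R ⧸ Ideal.span {t}) →ₗ[R] ((p : ↥s) → R ⧸ Pp p.1.asIdeal t),
      (∀ (x : R) (p : ↥s), F (Ideal.Quotient.mk _ x) p = Ideal.Quotient.mk _ x) ∧
      Module.length R (LinearMap.ker F) < ⊤ ∧
      Module.length R (((p : ↥s) → R ⧸ Pp p.1.asIdeal t) ⧸ LinearMap.range F) < ⊤ := by
  classical
  have hle : ∀ p : ↥s, (Ideal.span {t} : Ideal R) ≤ Pp p.1.asIdeal t := fun p =>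
    (Ideal.span_singleton_le_iff_mem _).mpr (self_mem_Pp _ t)
  have hmin' : ∀ p ∈ s, p.asIdeal ∈ (Ideal.span {t}).minimalPrimes := by
    intro p hp
    refine And.intro ⟨p.2, (Ideal.span_singleton_le_iff_mem _).mpr (h1 p hp)⟩ ?_
    rintro P ⟨hP, hIP⟩ hPp
    have htP : t ∈ P := hIP (Ideal.mem_span_singleton_self t)
    have hPm : P ≠ maximalIdeal R := by
      intro h
      apply h4 p hp
      exact le_antisymm (IsLocalRing.le_maximalIdeal p.2.ne_top) (h ▸ hPp)
    have hPs : (⟨P, hP⟩ : PrimeSpectrum R) ∈ s := h2 ⟨P, hP⟩ htP hPm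
    have h5 : P = p.asIdeal := congrArg PrimeSpectrum.asIdeal (h3 ⟨P, hP⟩ hPs p hp hPp)
    exact h5.ge
  let Fp : ∀ p : ↥s, (R ⧸ Ideal.span {t}) →ₗ[R] (R ⧸ Pp p.1.asIdeal t) := fun p =>
    Submodule.liftQ (Ideal.span {t}) (Submodule.mkQ (Pp p.1.asIdeal t))
      (by rw [Submodule.ker_mkQ]; exact hle p)
  have hFp : ∀ (p : ↥s) (x : R), Fp p (Submodule.Quotient.mk x) =
      (Submodule.Quotient.mk x : R ⧸ Pp p.1.asIdeal t) := fun p x => rfl
  refine ⟨LinearMap.pi Fp, fun x p => rfl, ?_, ?_⟩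
  · -- kernel
    apply length_lt_top_of_forall
    rintro ⟨m, hm⟩ q hqm
    obtain ⟨x, rfl⟩ := Submodule.Quotient.mk_surjective _ m
    by_cases htq : t ∈ q.asIdeal
    · have hqs : q ∈ s := h2 q htq hqm
      have hx0 : (Submodule.Quotient.mk x : R ⧸ Pp q.asIdeal t) = 0 :=
        congrFun (LinearMap.mem_ker.mp hm) ⟨q, hqs⟩
      have hx : x ∈ Pp q.asIdeal t := (Submodule.Quotient.mk_eq_zero _).mp hx0
      obtain ⟨σ, hσ, hσx⟩ := (mem_Pp_iff q.asIdeal t x).mp hx
      refine ⟨σ, hσ, ?_⟩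
      apply Subtype.ext
      show σ • (Submodule.Quotient.mk x : R ⧸ Ideal.span {t}) = 0
      rw [← Submodule.Quotient.mk_smul, Submodule.Quotient.mk_eq_zero]
      exact hσx
    · refine ⟨t, htq, ?_⟩
      apply Subtype.ext
      show t • (Submodule.Quotient.mk x : R ⧸ Ideal.span {t}) = 0
      rw [← Submodule.Quotient.mk_smul, Submodule.Quotient.mk_eq_zero, smul_eq_mul]
      exact Ideal.mul_mem_right x _ (Ideal.mem_span_singleton_self t)
  · -- cokernel
    apply length_lt_top_of_forall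
    intro m q hqm
    obtain ⟨y, rfl⟩ := Submodule.Quotient.mk_surjective _ m
    have hrep : ∀ p : ↥s, ∃ z : R, (Submodule.Quotient.mk z : R ⧸ Pp p.1.asIdeal t) = y p :=
      fun p => Submodule.Quotient.mk_surjective _ (y p)
    choose z hz using hrep
    by_cases htq : t ∈ q.asIdeal
    · have hqs : q ∈ s := h2 q htq hqm
      have hσ : ∀ p : ↥s, ∃ σ : R, σ ∉ q.asIdeal ∧ (p.1 ≠ q → σ ∈ Pp p.1.asIdeal t) := by
        intro p
        by_cases hpq : p.1 = q
        · exact ⟨1, (Ideal.ne_top_iff_one _).mp q.2.ne_top, fun h => absurd hpq h⟩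
        · have hnle : ¬ p.1.asIdeal ≤ q.asIdeal := fun hle' => hpq (h3 p.1 p.2 q hqs hle')
          obtain ⟨w, hwp, hwq⟩ := SetLike.not_le_iff_exists.mp hnle
          obtain ⟨N, hN⟩ := exists_pow_mem_Pp p.1.asIdeal t (hmin' p.1 p.2) w hwp
          exact ⟨w ^ N, fun h => hwq (q.2.mem_of_pow_mem N h), fun _ => hN⟩
      choose σ hσ2 hσ1 using hσ
      have hrq : (∏ p : ↥s, σ p) ∉ q.asIdeal := by
        intro h
        obtain ⟨p, _, hp⟩ := (Ideal.IsPrime.prod_mem_iff (hp := q.2)).mp h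
        exact hσ2 p hp
      have hrp : ∀ p : ↥s, p.1 ≠ q → (∏ p : ↥s, σ p) ∈ Pp p.1.asIdeal t := by
        intro p hpq
        obtain ⟨c, hc⟩ := Finset.dvd_prod_of_mem σ (Finset.mem_univ p)
        rw [hc]
        exact Ideal.mul_mem_right _ _ (hσ1 p hpq)
      refine ⟨∏ p : ↥s, σ p, hrq, ?_⟩
      rw [← Submodule.Quotient.mk_smul, Submodule.Quotient.mk_eq_zero]
      refine ⟨Submodule.Quotient.mk ((∏ p : ↥s, σ p) * z ⟨q, hqs⟩), ?_⟩
      funext p
      show (Submodule.Quotient.mk ((∏ p : ↥s, σ p) * z ⟨q, hqs⟩) : R ⧸ Pp p.1.asIdeal t) =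
        (∏ p : ↥s, σ p) • y p
      rw [← hz p, ← Submodule.Quotient.mk_smul, smul_eq_mul]
      by_cases hpq : p.1 = q
      · have hp' : p = ⟨q, hqs⟩ := Subtype.ext hpq
        rw [hp']
      · rw [Submodule.Quotient.eq]
        exact Ideal.sub_mem _ (Ideal.mul_mem_right _ _ (hrp p hpq))
          (Ideal.mul_mem_right _ _ (hrp p hpq))
    · refine ⟨t, htq, ?_⟩
      rw [← Submodule.Quotient.mk_smul, Submodule.Quotient.mk_eq_zero]
      refine ⟨0, ?_⟩
      rw [map_zero]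
      funext p
      show (0 : R ⧸ Pp p.1.asIdeal t) = t • y p
      rw [← hz p, ← Submodule.Quotient.mk_smul, smul_eq_mul, eq_comm,
        Submodule.Quotient.mk_eq_zero]
      exact Ideal.mul_mem_right _ _ (self_mem_Pp _ t)

end Groth.Agent.H72.KatoGB
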