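import Mathlib
import Groth.Prelude.Def_Rees
import Groth.Prelude.Def_BlowUp2
import Groth.Prelude.Def_ega3
import Groth.Agent.H95.ReesProjDefs

/-!
# (E1) for helper95's S16054 squad: the ring map `(R(I)_{aX})_0 → B` induced by `φ : A → B` with
`φ(I) B = (φ a)` and `φ a` a non-zero-divisor.
-/

set_option autoImplicit false
universe u
open CategoryTheory AlgebraicGeometry
open Groth.Agent.H95.ReesProj

namespace Groth.Agent.H72.RP_E1

variable (A : Type u) [CommRing A] (I : Ideal A)

theorem E1 (a : A) (ha : a ∈ I) {B : Type u} [CommRing B] (φ : A →+* B)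
    (hgen : I.map φ = Ideal.span {φ a}) (hnzd : φ a ∈ nonZeroDivisors B) :
    ∃ ψ : HomogeneousLocalization.Away (Rees.deg (reesAlgebra I)) (gen A I a ha) →+* B,
      ψ.comp (toAway A I a ha) = φ := by
  classical
  -- notation
  obtain ⟨g, hg⟩ : ∃ g : ↥(reesAlgebra I), g = gen A I a ha := ⟨_, rfl⟩
  have hf : gen A I a ha ∈ Rees.deg (reesAlgebra I) 1 := gen_mem A I a ha
  obtain ⟨ι, hι⟩ : ∃ ι : B →+* Localization.Away (φ a),
      ι = algebraMap B (Localization.Away (φ a)) := ⟨_, rfl⟩
  obtain ⟨u, hu'⟩ : ∃ u : Localization.Away (φ a),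
      u = IsLocalization.Away.invSelf (S := Localization.Away (φ a)) (φ a) := ⟨_, rfl⟩
  have hu : ι (φ a) * u = 1 := by
    rw [hι, hu']
    exact IsLocalization.Away.mul_invSelf (φ a)
  have hιinj : Function.Injective ι := by
    rw [hι]
    exact IsLocalization.injective (Localization.Away (φ a))
      (Submonoid.powers_le.mpr hnzd)
  -- the map from the Rees algebra
  obtain ⟨θ, hθ⟩ : ∃ θ : ↥(reesAlgebra I) →+* Localization.Away (φ a),
      ∀ r : ↥(reesAlgebra I), θ r = Polynomial.eval₂ (ι.comp φ) u (r : Polynomial A) :=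
    ⟨(Polynomial.eval₂RingHom (ι.comp φ) u).comp (reesAlgebra I).val.toRingHom, fun r => rfl⟩
  have hθg : θ (gen A I a ha) = 1 := by
    rw [hθ]
    show Polynomial.eval₂ (ι.comp φ) u (Polynomial.monomial 1 a) = 1
    rw [Polynomial.eval₂_monomial, RingHom.comp_apply, pow_one, hu]
  have hθC : ∀ c : A, θ (algebraMap A ↥(reesAlgebra I) c) = ι (φ c) := by
    intro c
    rw [hθ]
    show Polynomial.eval₂ (ι.comp φ) u (Polynomial.C c) = ι (φ c)
    rw [Polynomial.eval₂_C, RingHom.comp_apply]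
  have hθr : ∀ (n : ℕ) (r : ↥(reesAlgebra I)), r ∈ Rees.deg (reesAlgebra I) n →
      ∃ b : B, θ r = ι b := by
    intro n r hr
    obtain ⟨c, hc⟩ := (Rees.degEquiv I n).surjective ⟨r, hr⟩
    have hrc : (r : Polynomial A) = Polynomial.monomial n (c : A) := by
      have := congrArg (fun t : Rees.deg (reesAlgebra I) n =>
        ((t : ↥(reesAlgebra I)) : Polynomial A)) hc
      exact this.symm
    have hcI : φ (c : A) ∈ Ideal.span {φ a ^ n} := by
      have h1 : φ (c : A) ∈ (I ^ n).map φ := Ideal.mem_map_of_mem φ c.2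
      rwa [Ideal.map_pow, hgen, Ideal.span_singleton_pow] at h1
    obtain ⟨b, hb⟩ := Ideal.mem_span_singleton'.mp hcI
    refine ⟨b, ?_⟩
    rw [hθ, hrc, Polynomial.eval₂_monomial, RingHom.comp_apply, ← hb, map_mul, map_pow,
      mul_assoc, ← mul_pow, hu, one_pow, mul_one]
  -- extend to the localization away from `aX`
  have hθu : ∀ y : Submonoid.powers (gen A I a ha), IsUnit (θ y) := by
    rintro ⟨_, k, rfl⟩
    show IsUnit (θ (gen A I a ha ^ k))
    rw [map_pow, hθg, one_pow]
    exact isUnit_one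
  obtain ⟨Θ, hΘ⟩ : ∃ Θ : Localization.Away (gen A I a ha) →+* Localization.Away (φ a),
      Θ = IsLocalization.lift (M := Submonoid.powers (gen A I a ha))
        (S := Localization.Away (gen A I a ha)) hθu := ⟨_, rfl⟩
  have hΘmk : ∀ (n : ℕ) (r : ↥(reesAlgebra I))
      (hr : r ∈ Rees.deg (reesAlgebra I) (n • 1)),
      Θ (HomogeneousLocalization.Away.mk (Rees.deg (reesAlgebra I)) hf n r hr).val = θ r := by
    intro n r hr
    rw [HomogeneousLocalization.Away.val_mk, Localization.mk_eq_mk', hΘ,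
      IsLocalization.lift_mk'_spec]
    show θ r = θ (gen A I a ha ^ n) * θ r
    rw [map_pow, hθg, one_pow, one_mul]
  have hΘalg : ∀ r : ↥(reesAlgebra I),
      Θ (algebraMap ↥(reesAlgebra I) (Localization.Away (gen A I a ha)) r) = θ r := by
    intro r
    rw [hΘ]
    exact IsLocalization.lift_eq hθu r
  -- restrict to the homogeneous localization
  obtain ⟨Ψ, hΨ⟩ : ∃ Ψ : HomogeneousLocalization.Away (Rees.deg (reesAlgebra I)) (gen A I a ha) →+*
      Localization.Away (φ a), ∀ z, Ψ z = Θ z.val :=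
    ⟨Θ.comp (algebraMap (HomogeneousLocalization.Away (Rees.deg (reesAlgebra I)) (gen A I a ha))
      (Localization.Away (gen A I a ha))), fun z => rfl⟩
  have hrange : ∀ z, Ψ z ∈ ι.range := by
    intro z
    obtain ⟨n, r, hr, rfl⟩ :=
      HomogeneousLocalization.Away.mk_surjective (Rees.deg (reesAlgebra I)) hf z
    rw [hΨ, hΘmk n r hr]
    have hr' : r ∈ Rees.deg (reesAlgebra I) n := by
      have hn : n • 1 = n := by simp
      rw [hn] at hr
      exact hr
    obtain ⟨b, hb⟩ := hθr n r hr'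
    exact ⟨b, hb.symm⟩
  -- pull back along the injective `ι`
  have hbij : Function.Bijective ι.rangeRestrict :=
    ⟨fun x y h => hιinj (congrArg Subtype.val h), ι.rangeRestrict_surjective⟩
  obtain ⟨e, he⟩ : ∃ e : B ≃+* ι.range, ∀ x, ((e x : ι.range) : Localization.Away (φ a)) = ι x :=
    ⟨RingEquiv.ofBijective ι.rangeRestrict hbij, fun x => rfl⟩
  obtain ⟨ψ, hψ⟩ : ∃ ψ : HomogeneousLocalization.Away (Rees.deg (reesAlgebra I)) (gen A I a ha) →+* B,
      ∀ z, ι (ψ z) = Ψ z := by
    refine ⟨e.symm.toRingHom.comp (Ψ.codRestrict ι.range hrange), fun z => ?_⟩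
    have h1 := he (e.symm (Ψ.codRestrict ι.range hrange z))
    rw [RingEquiv.apply_symm_apply] at h1
    exact h1.symm
  refine ⟨ψ, RingHom.ext fun c => hιinj ?_⟩
  rw [RingHom.comp_apply, hψ, hΨ]
  have hval : (toAway A I a ha c).val =
      algebraMap ↥(reesAlgebra I) (Localization.Away (gen A I a ha))
        (algebraMap A ↥(reesAlgebra I) c) := by
    rw [← Localization.mk_one_eq_algebraMap]
    rfl
  rw [hval, hΘalg, hθC]

end Groth.Agent.H72.RP_E1
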