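import Mathlib
import Groth.Agent.H60.Bass
import Groth.Agent.H26.DepthLib
import Groth.Agent.H29.CM
import Groth.Agent.S0339

/-!
# Duality with respect to a canonical ideal in dimension one

`O` is a Noetherian local ring, `L` an `O`-algebra which is a domain, and `ω ⊆ L` a finitely
generated `O`-submodule containing `1` whose injective dimension is at most one.

* `ext_van`: `Ext^i(M, Y) = 0` for `i ≥ 1` if `inj dim Y ≤ 1` and `M` is finite with a regular
  element in the maximal ideal.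
* `ext_kk_ne`: `Ext^1(k, Y) ≠ 0` if moreover `Y` has a regular element in the maximal ideal.
* `cover`: if `I ⊂ J` are submodules of `L` with `J = I + O g`, `𝔪 g ⊆ I`, `g ∉ I` (so `J / I ≅ k`),
  then there is `u ∈ L` with `u I ⊆ ω` and `u g ∉ ω`.
-/

set_option autoImplicit false
universe u

namespace Groth.Agent.H72.CanonDual

open CategoryTheory Abelian IsLocalRing
open Groth.Agent.H72.AB (kk)

variable {O : Type u} [CommRing O] [IsNoetherianRing O] [IsLocalRing O]

theorem ext_van (Y : ModuleCat.{u} O) [Module.Finite O Y] [Nontrivial Y]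
    (hY : HasInjectiveDimensionLT Y 2)
    (M : Type u) [AddCommGroup M] [Module O M] [Module.Finite O M]
    (x : O) (hxm : x ∈ maximalIdeal O) (hreg : IsSMulRegular M x)
    (i : ℕ) (hi : 1 ≤ i) (z : Ext (ModuleCat.of O M) Y i) : z = 0 := by
  classical
  obtain ⟨r, hr1, hr2⟩ := Groth.Agent.H60.Bass.exists_r Y ⟨2, hY⟩
  have hr : r ≤ 1 := by
    by_contra hlt
    obtain ⟨z, hz⟩ := hr2
    exact hz (z.eq_zero_of_hasInjectiveDimensionLT 2 (by omega))
  by_cases hM : Subsingleton M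
  · exact Groth.Agent.S0339.ext_eq_zero_of_isZero_src (ModuleCat.isZero_of_subsingleton _) z
  · haveI : Nontrivial M := not_subsingleton_iff_nontrivial.mp hM
    obtain ⟨t, ht⟩ := Groth.Agent.H29.CM.exists_nat_depth (A := O) (M := M)
    obtain ⟨htr, -, hvan⟩ := Groth.Agent.H60.Bass.F2 Y r hr1 hr2 t M ht
    have ht1 : 1 ≤ t := by
      have hW : RingTheory.Sequence.IsWeaklyRegular M [x] :=
        (RingTheory.Sequence.isWeaklyRegular_cons_iff M x []).2
          ⟨hreg, RingTheory.Sequence.IsWeaklyRegular.nil O _⟩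
      have h1 := Groth.Agent.H26.DepthLib.length_le_idealDepth (IsLocalRing.maximalIdeal O) hW
        (fun r hr => by rw [List.mem_singleton] at hr; rw [hr]; exact hxm)
      rw [show LocCoh.idealDepth (IsLocalRing.maximalIdeal O) M = (t : ℕ∞) from ht] at h1
      exact_mod_cast h1
    exact hvan i (by omega) z

theorem ext_kk_ne (Y : ModuleCat.{u} O) [Module.Finite O Y] [Nontrivial Y]
    (hY : HasInjectiveDimensionLT Y 2)
    (x : O) (hxm : x ∈ maximalIdeal O) (hreg : IsSMulRegular Y x) :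
    ∃ z : Ext (kk O) Y 1, z ≠ 0 := by
  classical
  obtain ⟨r, hr1, hr2⟩ := Groth.Agent.H60.Bass.exists_r Y ⟨2, hY⟩
  have hr : r ≤ 1 := by
    by_contra hlt
    obtain ⟨z, hz⟩ := hr2
    exact hz (z.eq_zero_of_hasInjectiveDimensionLT 2 (by omega))
  obtain ⟨z, hz⟩ := hr2
  rcases Nat.lt_or_ge r 1 with h0 | h1
  · have hr0 : r = 0 := by omega
    subst hr0
    exfalso
    obtain ⟨φ, rfl⟩ := (Ext.mk₀_bijective _ _).2 z
    apply hz
    have hφ : φ = 0 := by
      apply ModuleCat.hom_ext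
      apply LinearMap.ext
      intro c
      apply hreg
      change x • φ.hom c = x • (0 : kk O ⟶ Y).hom c
      rw [← map_smul]
      obtain ⟨a, rfl⟩ := Submodule.Quotient.mk_surjective _ c
      have h0 : x • (Submodule.Quotient.mk a : O ⧸ maximalIdeal O) = 0 := by
        rw [← Submodule.Quotient.mk_smul, Submodule.Quotient.mk_eq_zero, smul_eq_mul]
        exact Ideal.mul_mem_right a _ hxm
      rw [h0, map_zero]
      simp
    rw [hφ, Ext.mk₀_zero]
  · have hr1' : r = 1 := by omega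
    subst hr1'
    exact ⟨z, hz⟩

variable {L : Type u} [CommRing L] [IsDomain L] [Algebra O L]

theorem cover (hinj : Function.Injective (algebraMap O L))
    (hfrac : ∀ l : L, ∃ b : O, b ≠ 0 ∧ ∃ a : O, b • l = algebraMap O L a)
    (hnf : ∃ x : O, x ∈ maximalIdeal O ∧ x ≠ 0)
    (ω : Submodule O L) (hω1 : (1 : L) ∈ ω) (hωfg : ω.FG)
    (hωinj : HasInjectiveDimensionLT (ModuleCat.of O ↥ω) 2)
    (I J : Submodule O L) (hIJ : I ≤ J) (hJfg : J.FG)
    (i₀ : L) (hi₀ : i₀ ∈ I) (hu₀ : IsUnit i₀)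
    (g : L) (hgJ : g ∈ J) (hJ : J ≤ I ⊔ Submodule.span O {g}) (hgI : g ∉ I)
    (hmg : ∀ a ∈ maximalIdeal O, a • g ∈ I) :
    ∃ u : L, (∀ i ∈ I, u * i ∈ ω) ∧ u * g ∉ ω := by
  classical
  obtain ⟨x, hxm, hx0⟩ := hnf
  have hne : ∀ b : O, b ≠ 0 → algebraMap O L b ≠ 0 :=
    fun b hb h => hb (hinj (h.trans (map_zero _).symm))
  have hcancel : ∀ (b : O), b ≠ 0 → ∀ p q : L, b • p = b • q → p = q := by
    intro b hb p q h
    rw [Algebra.smul_def, Algebra.smul_def] at h
    exact mul_left_cancel₀ (hne b hb) h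
  have hregL : ∀ (N : Submodule O L), IsSMulRegular ↥N x := by
    intro N a b hab
    apply Subtype.ext
    have h1 : x • (a : L) = x • (b : L) := congrArg Subtype.val hab
    exact hcancel x hx0 _ _ h1
  haveI : Module.Finite O ↥ω := Module.Finite.iff_fg.mpr hωfg
  haveI : Module.Finite O ↥J := Module.Finite.iff_fg.mpr hJfg
  haveI : Nontrivial ↥ω :=
    ⟨⟨⟨1, hω1⟩, 0, fun h => one_ne_zero (congrArg Subtype.val h)⟩⟩
  let Y : ModuleCat.{u} O := ModuleCat.of O ↥ω
  haveI : Module.Finite O Y := inferInstanceAs (Module.Finite O ↥ω)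
  haveI : Nontrivial Y := inferInstanceAs (Nontrivial ↥ω)
  obtain ⟨z, hz⟩ := ext_kk_ne Y hωinj x hxm (hregL ω)
  -- the quotient `J / I`
  let I' : Submodule O ↥J := Submodule.comap J.subtype I
  let gJ : ↥J := ⟨g, hgJ⟩
  let f : O →ₗ[O] (↥J ⧸ I') := LinearMap.toSpanSingleton O (↥J ⧸ I') (I'.mkQ gJ)
  have hf_apply : ∀ a : O, f a = Submodule.Quotient.mk (a • gJ) := by
    intro a
    change a • (I'.mkQ gJ) = _
    rw [Submodule.mkQ_apply, ← Submodule.Quotient.mk_smul]
  have hf_surj : Function.Surjective f := by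
    intro q
    obtain ⟨⟨j, hj⟩, rfl⟩ := Submodule.Quotient.mk_surjective I' q
    obtain ⟨i, hi, y, hy, hsum⟩ := Submodule.mem_sup.1 (hJ hj)
    obtain ⟨a, rfl⟩ := Submodule.mem_span_singleton.1 hy
    refine ⟨a, ?_⟩
    rw [hf_apply, Submodule.Quotient.eq, Submodule.mem_comap]
    have e1 : J.subtype (a • gJ - ⟨j, hj⟩) = -i := by
      change a • g - j = -i
      rw [← hsum]; abel
    rw [e1]
    exact I.neg_mem hi
  have hker : LinearMap.ker f = maximalIdeal O := by
    have h1 : maximalIdeal O ≤ LinearMap.ker f := by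
      intro a ha
      rw [LinearMap.mem_ker, hf_apply, Submodule.Quotient.mk_eq_zero]
      exact hmg a ha
    have h2 : LinearMap.ker f ≠ ⊤ := by
      intro h
      have h3 : (1 : O) ∈ LinearMap.ker f := h ▸ Submodule.mem_top
      rw [LinearMap.mem_ker, hf_apply, one_smul, Submodule.Quotient.mk_eq_zero] at h3
      exact hgI h3
    exact ((maximalIdeal.isMaximal O).eq_of_le h2 h1).symm
  let e' : (O ⧸ maximalIdeal O) ≃ₗ[O] (↥J ⧸ I') :=
    (Submodule.quotEquivOfEq (LinearMap.ker f) (maximalIdeal O) hker).symm.trans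
      (f.quotKerEquivOfSurjective hf_surj)
  let eIso : ModuleCat.of O (↥J ⧸ I') ≅ kk O := (e'.toModuleIso).symm
  -- the short exact sequence
  have hfg : Function.Exact (Submodule.inclusion hIJ) I'.mkQ := by
    intro y
    rw [Submodule.mkQ_apply, Submodule.Quotient.mk_eq_zero]
    constructor
    · intro hy
      exact ⟨⟨y.1, hy⟩, Subtype.ext rfl⟩
    · rintro ⟨i, rfl⟩
      exact i.2
  let S : ShortComplex (ModuleCat.{u} O) :=
    ShortComplex.mk (ModuleCat.ofHom (Submodule.inclusion hIJ)) (ModuleCat.ofHom I'.mkQ)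
      (ModuleCat.hom_ext (LinearMap.ext fun y => hfg.apply_apply_eq_zero y))
  have hS : S.ShortExact :=
    { exact := (ShortComplex.ShortExact.moduleCat_exact_iff_function_exact S).2 hfg
      mono_f := (ModuleCat.mono_iff_injective _).2 (Submodule.inclusion_injective hIJ)
      epi_g := (ModuleCat.epi_iff_surjective _).2 (Submodule.mkQ_surjective I') }
  let z' : Ext S.X₃ Y 1 := (Ext.mk₀ eIso.hom).comp z (zero_add 1)
  have hz' : z' ≠ 0 := by
    intro h
    apply hz
    have h2 : (Ext.mk₀ eIso.inv).comp z' (zero_add 1) = z := by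
      change (Ext.mk₀ eIso.inv).comp ((Ext.mk₀ eIso.hom).comp z (zero_add 1)) (zero_add 1) = z
      rw [Ext.mk₀_comp_mk₀_assoc, eIso.inv_hom_id, Ext.mk₀_id_comp]
    rw [← h2, h, Ext.comp_zero]
  have hx₃ : (Ext.mk₀ S.g).comp z' (zero_add 1) = 0 :=
    ext_van Y hωinj ↥J x hxm (hregL J) 1 le_rfl _
  obtain ⟨x₁, hx₁⟩ := Ext.contravariant_sequence_exact₃ hS Y z' hx₃ (show 1 + 0 = 1 by omega)
  obtain ⟨ψ, rfl⟩ := (Ext.mk₀_bijective _ _).2 x₁
  let ψl : ↥I →ₗ[O] ↥ω := ψ.hom
  obtain ⟨v, hv⟩ := hu₀.exists_right_inv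
  let p : L := (ψl ⟨i₀, hi₀⟩ : L)
  let u : L := p * v
  have hψ : ∀ (i : L) (hi : i ∈ I), (ψl ⟨i, hi⟩ : L) = u * i := by
    intro i hi
    obtain ⟨b, hb0, a, hab⟩ := hfrac (i * v)
    have h1 : b • i = a • i₀ := by
      have h2 : b • i = (b • (i * v)) * i₀ := by
        rw [smul_mul_assoc, mul_assoc, mul_comm v i₀, hv, mul_one]
      rw [h2, hab, Algebra.smul_def]
    apply hcancel b hb0
    have e1 : b • ψl ⟨i, hi⟩ = a • ψl ⟨i₀, hi₀⟩ := by
      rw [← map_smul, ← map_smul]
      congr 1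
      exact Subtype.ext h1
    have e2 : b • (ψl ⟨i, hi⟩ : L) = a • p := congrArg Subtype.val e1
    rw [e2]
    calc a • p = a • (p * (v * i₀)) := by rw [mul_comm v i₀, hv, mul_one]
      _ = p * v * (a • i₀) := by rw [mul_smul_comm, mul_assoc]
      _ = p * v * (b • i) := by rw [h1]
      _ = b • (u * i) := by rw [mul_smul_comm]
  refine ⟨u, fun i hi => ?_, fun hug => ?_⟩
  · rw [← hψ i hi]
    exact (ψl ⟨i, hi⟩).2
  · have hJω : ∀ j ∈ J, u * j ∈ ω := by
      intro j hj
      obtain ⟨i, hi, y, hy, rfl⟩ := Submodule.mem_sup.1 (hJ hj)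
      obtain ⟨a, rfl⟩ := Submodule.mem_span_singleton.1 hy
      rw [mul_add, mul_smul_comm]
      refine ω.add_mem ?_ (ω.smul_mem a hug)
      rw [← hψ i hi]
      exact (ψl ⟨i, hi⟩).2
    let ψ' : ↥J →ₗ[O] ↥ω :=
      { toFun := fun j => ⟨u * j, hJω j j.2⟩
        map_add' := fun j j' => Subtype.ext (mul_add u j j')
        map_smul' := fun a j => Subtype.ext (mul_smul_comm a u (j : L)) }
    have hcomp : ψ = S.f ≫ ModuleCat.ofHom ψ' := by
      apply ModuleCat.hom_ext
      apply LinearMap.ext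
      rintro ⟨i, hi⟩
      apply Subtype.ext
      exact hψ i hi
    apply hz'
    rw [← hx₁, hcomp, ← Ext.mk₀_comp_mk₀]
    exact hS.extClass_comp_assoc _

end Groth.Agent.H72.CanonDual
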