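import Mathlib
import Groth.Agent.H72.CanonDual

/-!
# Reflexivity and length duality with respect to a canonical ideal in dimension one

Continuation of `H72/CanonDual`.  `O` is a one-dimensional Noetherian local domain, `L` an
`O`-algebra which is a domain, `ω ⊆ L` a finitely generated `O`-submodule containing `1` of
injective dimension at most one.

* `refl_div`: `ω / (ω / I) = I` for finitely generated `I ⊆ L` containing a unit of `L`.
* `div_self_eq_one`: `ω / ω = 1`.
* `iccIso`, `coe_length_quot`: `length (N₂ / N₁)` is the Krull dimension of the interval `[N₁, N₂]`.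
* `len_add`: additivity of `length (N₂ / N₁)` along `N₁ ≤ N₂ ≤ N₃`.
* `length_dual`: `length (N₂ / N₁) = length ((ω / N₁) / (ω / N₂))` when both intervals consist of
  reflexive modules.
-/

set_option autoImplicit false
universe u

namespace Groth.Agent.H72.CanonDual

open CategoryTheory Abelian IsLocalRing

section div

variable {O : Type u} [CommRing O] {L : Type u} [CommRing L] [Algebra O L]

theorem le_div_div (ω I : Submodule O L) : I ≤ ω / (ω / I) := by
  rw [Submodule.le_div_iff]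
  intro x hx y hy
  rw [mul_comm]
  exact Submodule.mem_div_iff_forall_mul_mem.1 hy x hx

theorem div_anti (ω : Submodule O L) {I J : Submodule O L} (h : I ≤ J) : ω / J ≤ ω / I := by
  intro x hx
  rw [Submodule.mem_div_iff_forall_mul_mem] at hx ⊢
  exact fun y hy => hx y (h hy)

theorem div_one_eq (ω : Submodule O L) : ω / 1 = ω := by
  apply le_antisymm
  · intro x hx
    have h := Submodule.mem_div_iff_forall_mul_mem.1 hx 1 (Submodule.one_le.1 le_rfl)
    rw [mul_one] at h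
    exact h
  · rw [Submodule.le_div_iff]
    intro x hx z hz
    obtain ⟨a, rfl⟩ := Submodule.mem_one.1 hz
    rw [mul_comm, ← Algebra.smul_def]
    exact ω.smul_mem a hx

end div

section refl

variable {O : Type u} [CommRing O] [IsDomain O] [IsNoetherianRing O] [IsLocalRing O]
  {L : Type u} [CommRing L] [IsDomain L] [Algebra O L]

theorem refl_div [Ring.KrullDimLE 1 O]
    (hinj : Function.Injective (algebraMap O L))
    (hfrac : ∀ l : L, ∃ b : O, b ≠ 0 ∧ ∃ a : O, b • l = algebraMap O L a)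
    (hnf : ∃ x : O, x ∈ maximalIdeal O ∧ x ≠ 0)
    (ω : Submodule O L) (hω1 : (1 : L) ∈ ω) (hωfg : ω.FG)
    (hωinj : HasInjectiveDimensionLT (ModuleCat.of O ↥ω) 2)
    (I : Submodule O L) (hIfg : I.FG) (i₀ : L) (hi₀ : i₀ ∈ I) (hu₀ : IsUnit i₀) :
    ω / (ω / I) = I := by
  classical
  refine le_antisymm ?_ (le_div_div ω I)
  intro x hx
  by_contra hxI
  obtain ⟨v, hv⟩ := hu₀.exists_right_inv
  obtain ⟨b, hb0, a, hab⟩ := hfrac (x * v)
  have hbx : b • x ∈ I := by
    have h2 : b • x = (b • (x * v)) * i₀ := by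
      rw [smul_mul_assoc, mul_assoc, mul_comm v i₀, hv, mul_one]
    rw [h2, hab, ← Algebra.smul_def]
    exact I.smul_mem a hi₀
  let 𝔞 : Ideal O := Submodule.comap (LinearMap.toSpanSingleton O L x) I
  have h𝔞 : ∀ r : O, r ∈ 𝔞 ↔ r • x ∈ I := fun r => by
    change LinearMap.toSpanSingleton O L x r ∈ I ↔ _
    rw [LinearMap.toSpanSingleton_apply]
  have hm_le : maximalIdeal O ≤ 𝔞.radical := by
    rw [Ideal.radical_eq_sInf]
    refine le_sInf ?_
    rintro p ⟨hp1, hp2⟩
    have hp0 : p ≠ ⊥ := by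
      intro h
      have h3 : b ∈ p := hp1 ((h𝔞 b).2 hbx)
      rw [h, Ideal.mem_bot] at h3
      exact hb0 h3
    have hpmax : p.IsMaximal := hp2.isMaximal_of_ne_bot hp0
    rw [IsLocalRing.eq_maximalIdeal hpmax]
  obtain ⟨n, hn⟩ := Ideal.exists_radical_pow_le_of_fg 𝔞 (IsNoetherian.noetherian _)
  have hex : ∃ n : ℕ, maximalIdeal O ^ n ≤ 𝔞 :=
    ⟨n, le_trans (Ideal.pow_right_mono hm_le n) hn⟩
  have hfind_spec := Nat.find_spec hex
  have hn0 : Nat.find hex ≠ 0 := by
    intro h0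
    rw [h0, pow_zero, Ideal.one_eq_top] at hfind_spec
    have h3 : (1 : O) ∈ 𝔞 := hfind_spec Submodule.mem_top
    rw [h𝔞, one_smul] at h3
    exact hxI h3
  obtain ⟨k', hk'⟩ : ∃ k', Nat.find hex = k' + 1 := ⟨Nat.find hex - 1, by omega⟩
  have hnot : ¬ maximalIdeal O ^ k' ≤ 𝔞 := Nat.find_min hex (by omega)
  obtain ⟨a', ha'1, ha'2⟩ := SetLike.not_le_iff_exists.1 hnot
  let g : L := a' • x
  have hgI : g ∉ I := fun h => ha'2 ((h𝔞 a').2 h)
  have hmg : ∀ r ∈ maximalIdeal O, r • g ∈ I := by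
    intro r hr
    change r • a' • x ∈ I
    rw [smul_smul]
    apply (h𝔞 _).1
    apply hfind_spec
    rw [hk', pow_succ']
    exact Ideal.mul_mem_mul hr ha'1
  have hgdd : g ∈ ω / (ω / I) := Submodule.smul_mem _ a' hx
  let J : Submodule O L := I ⊔ Submodule.span O {g}
  obtain ⟨u, hu1, hu2⟩ := cover hinj hfrac hnf ω hω1 hωfg hωinj I J le_sup_left
    (hIfg.sup (Submodule.fg_span_singleton g)) i₀ hi₀ hu₀ g
    (Submodule.mem_sup_right (Submodule.mem_span_singleton_self g)) le_rfl hgI hmg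
  apply hu2
  have hu : u ∈ ω / I := Submodule.mem_div_iff_forall_mul_mem.2 hu1
  have h4 := Submodule.mem_div_iff_forall_mul_mem.1 hgdd u hu
  rw [mul_comm] at h4
  exact h4

theorem div_self_eq_one [Ring.KrullDimLE 1 O]
    (hinj : Function.Injective (algebraMap O L))
    (hfrac : ∀ l : L, ∃ b : O, b ≠ 0 ∧ ∃ a : O, b • l = algebraMap O L a)
    (hnf : ∃ x : O, x ∈ maximalIdeal O ∧ x ≠ 0)
    (ω : Submodule O L) (hω1 : (1 : L) ∈ ω) (hωfg : ω.FG)
    (hωinj : HasInjectiveDimensionLT (ModuleCat.of O ↥ω) 2) :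
    ω / ω = 1 := by
  have h := refl_div hinj hfrac hnf ω hω1 hωfg hωinj 1
    (by rw [Submodule.one_eq_span]; exact Submodule.fg_span_singleton _) 1
    (Submodule.one_le.1 le_rfl) isUnit_one
  rw [div_one_eq] at h
  exact h

end refl

section icc

variable {R : Type*} [CommRing R] {M : Type*} [AddCommGroup M] [Module R M]

/-- `length (N₂ / N₁)`. -/
noncomputable abbrev len (N₁ N₂ : Submodule R M) : ℕ∞ :=
  Module.length R (↥N₂ ⧸ Submodule.comap N₂.subtype N₁)

theorem icc_left (N₁ N₂ Q : Submodule R M) (hQ1 : N₁ ≤ Q) (hQ2 : Q ≤ N₂) :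
    (Submodule.comap (Submodule.comap N₂.subtype N₁).mkQ
      ((Submodule.comap N₂.subtype Q).map (Submodule.comap N₂.subtype N₁).mkQ)).map N₂.subtype
      = Q := by
  rw [Submodule.comap_map_mkQ, sup_eq_right.2 (Submodule.comap_mono hQ1),
    Submodule.map_comap_subtype, inf_eq_right.2 hQ2]

/-- Submodules of `N₂ / N₁` correspond to the interval `[N₁, N₂]`. -/
noncomputable def iccEquiv (N₁ N₂ : Submodule R M) (h : N₁ ≤ N₂) :
    Set.Icc N₁ N₂ ≃ Submodule R (↥N₂ ⧸ Submodule.comap N₂.subtype N₁) where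
  toFun Q := (Submodule.comap N₂.subtype Q.1).map (Submodule.comap N₂.subtype N₁).mkQ
  invFun P := ⟨(Submodule.comap (Submodule.comap N₂.subtype N₁).mkQ P).map N₂.subtype, by
      intro x hx
      refine ⟨⟨x, h hx⟩, ?_, rfl⟩
      change (Submodule.comap N₂.subtype N₁).mkQ ⟨x, h hx⟩ ∈ P
      have h0 : (Submodule.comap N₂.subtype N₁).mkQ ⟨x, h hx⟩ = 0 := by
        rw [Submodule.mkQ_apply, Submodule.Quotient.mk_eq_zero]
        exact hx
      rw [h0]
      exact P.zero_mem,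
    Submodule.map_subtype_le N₂ _⟩
  left_inv := by
    rintro ⟨Q, hQ1, hQ2⟩
    apply Subtype.ext
    exact icc_left N₁ N₂ Q hQ1 hQ2
  right_inv := by
    intro P
    change (Submodule.comap N₂.subtype
      ((Submodule.comap (Submodule.comap N₂.subtype N₁).mkQ P).map N₂.subtype)).map
      (Submodule.comap N₂.subtype N₁).mkQ = P
    rw [Submodule.comap_map_eq_of_injective N₂.subtype_injective,
      Submodule.map_comap_eq_of_surjective (Submodule.mkQ_surjective _)]

noncomputable def iccIso (N₁ N₂ : Submodule R M) (h : N₁ ≤ N₂) :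
    Set.Icc N₁ N₂ ≃o Submodule R (↥N₂ ⧸ Submodule.comap N₂.subtype N₁) where
  toEquiv := iccEquiv N₁ N₂ h
  map_rel_iff' := by
    rintro ⟨Q, hQ1, hQ2⟩ ⟨Q', hQ'1, hQ'2⟩
    constructor
    · intro hle
      change Q ≤ Q'
      have h1 : (Submodule.comap N₂.subtype Q).map (Submodule.comap N₂.subtype N₁).mkQ ≤
          (Submodule.comap N₂.subtype Q').map (Submodule.comap N₂.subtype N₁).mkQ := hle
      have h2 := Submodule.map_mono (f := N₂.subtype)
        (Submodule.comap_mono (f := (Submodule.comap N₂.subtype N₁).mkQ) h1)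
      rw [icc_left N₁ N₂ Q hQ1 hQ2, icc_left N₁ N₂ Q' hQ'1 hQ'2] at h2
      exact h2
    · intro hle
      have hle' : Q ≤ Q' := hle
      exact Submodule.map_mono (Submodule.comap_mono hle')

theorem coe_length_quot (N₁ N₂ : Submodule R M) (h : N₁ ≤ N₂) :
    (len N₁ N₂ : WithBot ℕ∞) = Order.krullDim (Set.Icc N₁ N₂) := by
  rw [Module.coe_length, Order.krullDim_eq_of_orderIso (iccIso N₁ N₂ h)]

theorem len_add (N₁ N₂ N₃ : Submodule R M) (h12 : N₁ ≤ N₂) (h23 : N₂ ≤ N₃) :
    len N₁ N₃ = len N₁ N₂ + len N₂ N₃ := by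
  let f : (↥N₂ ⧸ Submodule.comap N₂.subtype N₁) →ₗ[R] (↥N₃ ⧸ Submodule.comap N₃.subtype N₁) :=
    Submodule.mapQ _ _ (Submodule.inclusion h23) (fun y hy => hy)
  let g : (↥N₃ ⧸ Submodule.comap N₃.subtype N₁) →ₗ[R] (↥N₃ ⧸ Submodule.comap N₃.subtype N₂) :=
    Submodule.mapQ _ _ LinearMap.id (fun y hy => h12 hy)
  have hf : Function.Injective f := by
    rw [injective_iff_map_eq_zero]
    intro z hz
    obtain ⟨y, rfl⟩ := Submodule.Quotient.mk_surjective _ z
    rw [Submodule.mapQ_apply, Submodule.Quotient.mk_eq_zero] at hz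
    rw [Submodule.Quotient.mk_eq_zero]
    exact hz
  have hg : Function.Surjective g := by
    intro z
    obtain ⟨y, rfl⟩ := Submodule.Quotient.mk_surjective _ z
    exact ⟨Submodule.Quotient.mk y, by rw [Submodule.mapQ_apply]; rfl⟩
  have hfg : Function.Exact f g := by
    intro z
    obtain ⟨y, rfl⟩ := Submodule.Quotient.mk_surjective _ z
    rw [Submodule.mapQ_apply, Submodule.Quotient.mk_eq_zero]
    constructor
    · intro hy
      refine ⟨Submodule.Quotient.mk ⟨y.1, hy⟩, ?_⟩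
      rw [Submodule.mapQ_apply]
      rfl
    · rintro ⟨w, hw⟩
      obtain ⟨y', rfl⟩ := Submodule.Quotient.mk_surjective _ w
      rw [Submodule.mapQ_apply, Submodule.Quotient.eq] at hw
      have h1 : (y' : M) - (y : M) ∈ N₁ := hw
      have h2 : (y : M) = (y' : M) - ((y' : M) - (y : M)) := by abel
      change (y : M) ∈ N₂
      rw [h2]
      exact N₂.sub_mem y'.2 (h12 h1)
  exact Module.length_eq_add_of_exact f g hf hg hfg

end icc

section dual

variable {O : Type u} [CommRing O] {L : Type u} [CommRing L] [Algebra O L]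

/-- The order anti-isomorphism `Q ↦ ω / Q` between `[N₁, N₂]` and `[ω / N₂, ω / N₁]`. -/
noncomputable def dualIso (ω N₁ N₂ : Submodule O L)
    (hr1 : ∀ Q, N₁ ≤ Q → Q ≤ N₂ → ω / (ω / Q) = Q)
    (hr2 : ∀ Q, ω / N₂ ≤ Q → Q ≤ ω / N₁ → ω / (ω / Q) = Q) (h12 : N₁ ≤ N₂) :
    Set.Icc N₁ N₂ ≃o (Set.Icc (ω / N₂) (ω / N₁))ᵒᵈ where
  toFun Q := OrderDual.toDual ⟨ω / Q.1, div_anti ω Q.2.2, div_anti ω Q.2.1⟩
  invFun Q := ⟨ω / (OrderDual.ofDual Q).1, by
      have h := div_anti ω (OrderDual.ofDual Q).2.2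
      rw [hr1 N₁ le_rfl h12] at h
      exact h, by
      have h := div_anti ω (OrderDual.ofDual Q).2.1
      rw [hr1 N₂ h12 le_rfl] at h
      exact h⟩
  left_inv := by
    rintro ⟨Q, hQ1, hQ2⟩
    apply Subtype.ext
    exact hr1 Q hQ1 hQ2
  right_inv := by
    intro Q
    obtain ⟨Q', hQ'1, hQ'2⟩ := OrderDual.ofDual Q
    apply OrderDual.ofDual.injective
    apply Subtype.ext
    exact hr2 _ (OrderDual.ofDual Q).2.1 (OrderDual.ofDual Q).2.2
  map_rel_iff' := by
    rintro ⟨Q, hQ1, hQ2⟩ ⟨Q', hQ'1, hQ'2⟩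
    constructor
    · intro hle
      have h1 : ω / Q' ≤ ω / Q := hle
      have h2 := div_anti ω h1
      rw [hr1 Q hQ1 hQ2, hr1 Q' hQ'1 hQ'2] at h2
      exact h2
    · intro hle
      have hle' : Q ≤ Q' := hle
      exact div_anti ω hle'

theorem length_dual (ω N₁ N₂ D₁ D₂ : Submodule O L) (h12 : N₁ ≤ N₂)
    (hD₁ : ω / N₁ = D₁) (hD₂ : ω / N₂ = D₂)
    (hr1 : ∀ Q, N₁ ≤ Q → Q ≤ N₂ → ω / (ω / Q) = Q)
    (hr2 : ∀ Q, D₂ ≤ Q → Q ≤ D₁ → ω / (ω / Q) = Q) :
    len N₁ N₂ = len D₂ D₁ := by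
  subst hD₁ hD₂
  apply WithBot.coe_injective
  rw [coe_length_quot _ _ h12, coe_length_quot _ _ (div_anti ω h12),
    ← Order.krullDim_orderDual (α := Set.Icc (ω / N₂) (ω / N₁))]
  exact Order.krullDim_eq_of_orderIso (dualIso ω N₁ N₂ hr1 hr2 h12)

end dual

end Groth.Agent.H72.CanonDual
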