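import Mathlib
import Groth.Agent.H13.OmegaBC
import Groth.Agent.H60.Soc

/-!
# Invertibility of `ω_{B/A} = Hom_A(B, A)` for a finite free algebra and Gorenstein fibres

* `invertible_of_data`: a module with a "partition of unity" of one-generator charts is invertible
  (no localization needed).
* `gram`, `psi`: for `w ∈ ω` the Gram matrix of `(x, y) ↦ w (x y)` in a basis, and the adjugate
  `B`-linear map `psi w : ω → B` with `psi w v • w = d² v`, `psi w w = d²`, `d = det (gram w)`.
* `exists_det_notMem`: a nondegenerate functional on the fibre at `p` lifts to `w` with `d ∉ p`.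
* `exists_nondeg`: a finite-dimensional Gorenstein algebra over a field is Frobenius.
* `gor_of_equiv`: a finite-dimensional algebra `C` over a field with `Hom_K(C, K) ≅ C` is Gorenstein.
* `invertible_of_fibres`, `gor_fibre_of_invertible`: the two directions of S2217.
-/

set_option autoImplicit false
universe u

namespace Groth.Agent.H72.OmegaInv

open TensorProduct

section Inv
variable {B M : Type*} [CommRing B] [AddCommGroup M] [Module B M]

theorem invertible_of_data {κ : Type*} (w : κ → M) (ψ : κ → Module.Dual B M) (g : κ → B)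
    (h1 : ∀ k v, (ψ k v) • w k = g k • v) (h2 : ∀ k, ψ k (w k) = g k)
    (hg : Ideal.span (Set.range g) = ⊤) : Module.Invertible B M := by
  refine ⟨⟨?_, ?_⟩⟩
  · have key : ∀ (k : κ) (t : Module.Dual B M ⊗[B] M),
        (g k ^ 2) • t = g k • (contractLeft B M t • (ψ k ⊗ₜ[B] w k)) := by
      intro k t
      induction t using TensorProduct.induction_on with
      | zero => simp
      | add x y hx hy => rw [smul_add, hx, hy, map_add, add_smul, smul_add]
      | tmul f v =>
        rw [contractLeft_apply]
        have e2 : ∀ v' : M, ψ k v' * f (w k) = g k * f v' := by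
          intro v'
          have := congrArg f (h1 k v')
          rwa [map_smul, map_smul, smul_eq_mul, smul_eq_mul] at this
        have e1 : g k • f = f (w k) • ψ k := by
          ext u
          simp only [LinearMap.smul_apply, smul_eq_mul]
          rw [← e2 u, mul_comm]
        calc (g k ^ 2) • (f ⊗ₜ[B] v) = (g k • f) ⊗ₜ[B] (g k • v) := by
              rw [TensorProduct.smul_tmul_smul, sq]
          _ = (f (w k) • ψ k) ⊗ₜ[B] (ψ k v • w k) := by rw [e1, h1 k v]
          _ = (f (w k) * ψ k v) • (ψ k ⊗ₜ[B] w k) := by rw [TensorProduct.smul_tmul_smul]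
          _ = g k • (f v • (ψ k ⊗ₜ[B] w k)) := by
              rw [mul_comm (f (w k)) (ψ k v), e2 v, mul_smul]
    rw [injective_iff_map_eq_zero]
    intro t ht
    let I : Ideal B := LinearMap.ker (LinearMap.toSpanSingleton B _ t)
    have hI : ∀ k, g k ^ 2 ∈ I := by
      intro k
      show LinearMap.toSpanSingleton B _ t (g k ^ 2) = 0
      rw [LinearMap.toSpanSingleton_apply, key k t, ht, zero_smul, smul_zero]
    have htop : I = ⊤ := by
      rw [eq_top_iff, ← Ideal.span_pow_eq_top _ hg 2, Ideal.span_le]
      rintro _ ⟨_, ⟨k, rfl⟩, rfl⟩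
      exact hI k
    have h1I : (1 : B) ∈ I := htop ▸ Submodule.mem_top
    have h1' : LinearMap.toSpanSingleton B _ t 1 = 0 := h1I
    rwa [LinearMap.toSpanSingleton_apply, one_smul] at h1'
  · rw [← LinearMap.range_eq_top]
    have hle : Ideal.span (Set.range g) ≤ LinearMap.range (contractLeft B M) := by
      rw [Ideal.span_le]
      rintro _ ⟨k, rfl⟩
      exact ⟨ψ k ⊗ₜ[B] w k, by rw [contractLeft_apply, h2]⟩
    rw [hg] at hle
    exact eq_top_iff.2 hle

end Inv

section Gram
variable {A B : Type*} [CommRing A] [CommRing B] [Algebra A B] {ι : Type*} [Fintype ι]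
  [DecidableEq ι] (b : Module.Basis ι A B)

/-- Gram matrix of the form `(x, y) ↦ w (x y)`. -/
noncomputable def gram (w : Disc.Omega A B) : Matrix ι ι A := Matrix.of fun i j => w.toLinearMap (b i * b j)

/-- Coordinates of a functional. -/
noncomputable def hat (φ : Disc.Omega A B) : ι → A := fun j => φ.toLinearMap (b j)

theorem hat_injective : Function.Injective (hat b) := by
  intro φ φ' h
  apply Disc.Omega.ext
  apply b.ext
  intro j
  exact congrFun h j

theorem hat_add (φ φ' : Disc.Omega A B) : hat b (φ + φ') = hat b φ + hat b φ' := by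
  funext j
  simp [hat]

theorem hat_algebraMap_smul (a : A) (φ : Disc.Omega A B) :
    hat b (algebraMap A B a • φ) = a • hat b φ := by
  funext j
  simp only [hat, Disc.Omega.smul_toLinearMap_apply, Pi.smul_apply, smul_eq_mul]
  rw [← Algebra.smul_def, map_smul, smul_eq_mul]

theorem hat_smul (x : B) (w : Disc.Omega A B) :
    hat b (x • w) = Matrix.vecMul (b.equivFun x) (gram b w) := by
  funext j
  simp only [hat, Disc.Omega.smul_toLinearMap_apply, Matrix.vecMul, dotProduct, gram,
    Matrix.of_apply]
  conv_lhs => rw [← b.sum_equivFun x]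
  rw [Finset.sum_mul, map_sum]
  refine Finset.sum_congr rfl fun l _ => ?_
  rw [smul_mul_assoc, map_smul, smul_eq_mul]

/-- The adjugate "inverse" of `x ↦ x • w`. -/
noncomputable def psi0 (w φ : Disc.Omega A B) : B :=
  b.equivFun.symm (Matrix.vecMul (hat b φ) (gram b w).adjugate)

theorem equivFun_psi0 (w φ : Disc.Omega A B) :
    b.equivFun (psi0 b w φ) = Matrix.vecMul (hat b φ) (gram b w).adjugate :=
  LinearEquiv.apply_symm_apply _ _

theorem psi0_smul_self (w φ : Disc.Omega A B) :
    psi0 b w φ • w = algebraMap A B (gram b w).det • φ := by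
  apply hat_injective b
  rw [hat_smul, equivFun_psi0, Matrix.vecMul_vecMul, Matrix.adjugate_mul, Matrix.vecMul_smul,
    Matrix.vecMul_one, hat_algebraMap_smul]

theorem psi0_self_smul (w : Disc.Omega A B) (x : B) :
    psi0 b w (x • w) = algebraMap A B (gram b w).det * x := by
  apply b.equivFun.injective
  rw [equivFun_psi0, hat_smul, Matrix.vecMul_vecMul, Matrix.mul_adjugate, Matrix.vecMul_smul,
    Matrix.vecMul_one, ← Algebra.smul_def, map_smul]

theorem psi0_add (w φ φ' : Disc.Omega A B) :
    psi0 b w (φ + φ') = psi0 b w φ + psi0 b w φ' := by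
  unfold psi0
  rw [hat_add, Matrix.add_vecMul, map_add]

theorem psi0_algebraMap_smul (w : Disc.Omega A B) (a : A) (φ : Disc.Omega A B) :
    psi0 b w (algebraMap A B a • φ) = algebraMap A B a * psi0 b w φ := by
  unfold psi0
  rw [hat_algebraMap_smul, Matrix.smul_vecMul, map_smul, Algebra.smul_def]

/-- `B`-linear map `ω → B` with `psi w v • w = d² v` and `psi w w = d²`. -/
noncomputable def psi (w : Disc.Omega A B) : Disc.Omega A B →ₗ[B] B where
  toFun φ := algebraMap A B (gram b w).det * psi0 b w φ
  map_add' φ φ' := by rw [psi0_add, mul_add]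
  map_smul' x φ := by
    simp only [RingHom.id_apply, smul_eq_mul]
    rw [← psi0_algebraMap_smul, smul_comm (algebraMap A B (gram b w).det) x φ, ← psi0_smul_self,
      ← mul_smul, psi0_self_smul]
    ring

theorem psi_smul (w v : Disc.Omega A B) :
    psi b w v • w = algebraMap A B ((gram b w).det ^ 2) • v := by
  show (algebraMap A B (gram b w).det * psi0 b w v) • w = _
  rw [mul_smul, psi0_smul_self, ← mul_smul, ← map_mul, ← sq]

theorem psi_self (w : Disc.Omega A B) : psi b w w = algebraMap A B ((gram b w).det ^ 2) := by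
  show algebraMap A B (gram b w).det * psi0 b w w = _
  have h := psi0_self_smul b w 1
  rw [one_smul, mul_one] at h
  rw [h, ← map_mul, ← sq]

end Gram

section Frob
variable (K C : Type u) [Field K] [CommRing C] [Algebra K C] [Module.Finite K C]

open Groth.Agent.H60.Soc in
/-- A finite-dimensional commutative Gorenstein algebra over a field is a Frobenius algebra. -/
theorem exists_nondeg [LocCoh.IsGorensteinRing C] :
    ∃ w : Disc.Omega K C, ∀ c : C, c • w = 0 → c = 0 := by
  classical
  haveI : IsArtinianRing C := IsArtinianRing.of_finite K C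
  haveI : Fintype (PrimeSpectrum C) := Fintype.ofFinite _
  have hloc : ∀ q : PrimeSpectrum C, ∃ s : Localization.AtPrime q.asIdeal,
      s ≠ 0 ∧ InSoc s ∧ ∀ x : Localization.AtPrime q.asIdeal, InSoc x → ∃ c, x = c * s := by
    intro q
    have hg : LocCoh.IsGorensteinLocalRing (Localization.AtPrime q.asIdeal) :=
      LocCoh.IsGorensteinRing.isGorensteinLocalRing_localization q.asIdeal
    exact typeOne_of_gor hg.exists_hasInjectiveDimensionLT
  choose s hs0 hsoc hgen using hloc
  have hfun : ∀ q : PrimeSpectrum C,
      ∃ φ : Module.Dual K (Localization.AtPrime q.asIdeal), φ (s q) ≠ 0 := by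
    intro q
    by_contra h
    push Not at h
    exact hs0 q ((Module.forall_dual_apply_eq_zero_iff K (s q)).1 h)
  choose φ hφ using hfun
  let W : C →ₗ[K] K := ∑ q : PrimeSpectrum C,
    (φ q) ∘ₗ (IsScalarTower.toAlgHom K C (Localization.AtPrime q.asIdeal)).toLinearMap
  have hW : ∀ x : C, W x =
      ∑ q : PrimeSpectrum C, φ q (algebraMap C (Localization.AtPrime q.asIdeal) x) := by
    intro x
    simp only [W, LinearMap.sum_apply, LinearMap.comp_apply]
    rfl
  refine ⟨⟨W⟩, fun c hc => ?_⟩
  have hc' : ∀ x : C, W (c * x) = 0 := fun x => by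
    have := congrArg (fun ψ : Disc.Omega K C => ψ.toLinearMap x) hc
    simpa using this
  by_contra hc0
  have hq : ∃ q : PrimeSpectrum C, algebraMap C (Localization.AtPrime q.asIdeal) c ≠ 0 := by
    by_contra h
    push Not at h
    apply hc0
    apply (PrimeSpectrum.toPiLocalization_bijective (R := C)).injective
    funext q
    show algebraMap C (Localization.AtPrime q.asIdeal) c =
      algebraMap C (Localization.AtPrime q.asIdeal) 0
    rw [h q, map_zero]
  obtain ⟨q, hq⟩ := hq
  have hJ : Ideal.span {algebraMap C (Localization.AtPrime q.asIdeal) c} ≠ ⊥ := by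
    rw [Ne, Ideal.span_singleton_eq_bot]
    exact hq
  obtain ⟨y, hyJ, hy0, hysoc⟩ := exists_inSoc_of_ne_bot _ hJ
  obtain ⟨z, hz⟩ := Ideal.mem_span_singleton'.1 hyJ
  obtain ⟨c', hc'y⟩ := hgen q y hysoc
  have hc'u : IsUnit c' := by
    by_contra hnu
    have hmem : c' ∈ IsLocalRing.maximalIdeal (Localization.AtPrime q.asIdeal) :=
      (IsLocalRing.mem_maximalIdeal c').2 hnu
    exact hy0 (by rw [hc'y]; exact hsoc q c' hmem)
  obtain ⟨u, rfl⟩ := hc'u
  have hsq : s q = (↑u⁻¹ * z) * algebraMap C (Localization.AtPrime q.asIdeal) c := by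
    rw [mul_assoc, hz, hc'y, ← mul_assoc, Units.inv_mul, one_mul]
  obtain ⟨x', hx'⟩ := IsArtinianRing.localization_surjective q.asIdeal.primeCompl
    (Localization.AtPrime q.asIdeal) (↑u⁻¹ * z)
  obtain ⟨ε, hε⟩ := (PrimeSpectrum.toPiLocalization_bijective (R := C)).surjective
    (Pi.single q 1)
  have hεq : ∀ q' : PrimeSpectrum C, algebraMap C (Localization.AtPrime q'.asIdeal) ε =
      (Pi.single q (1 : Localization.AtPrime q.asIdeal) :
        ∀ q' : PrimeSpectrum C, Localization.AtPrime q'.asIdeal) q' := fun q' => congrFun hε q'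
  have hval := hc' (x' * ε)
  rw [hW, Finset.sum_eq_single q] at hval
  · have e : algebraMap C (Localization.AtPrime q.asIdeal) (c * (x' * ε)) = s q := by
      rw [map_mul, map_mul, hεq q, Pi.single_eq_same, mul_one, hx', hsq, mul_comm]
    rw [e] at hval
    exact hφ q hval
  · intro q' _ hne
    have e' : algebraMap C (Localization.AtPrime q'.asIdeal) (c * (x' * ε)) = 0 := by
      rw [map_mul, map_mul, hεq q', Pi.single_eq_of_ne hne, mul_zero, mul_zero]
    rw [e', map_zero]
  · intro h
    exact absurd (Finset.mem_univ q) h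

lemma injective_of_linearEquiv {R : Type u} [CommRing R] {Q Q' : Type u} [AddCommGroup Q]
    [Module R Q] [AddCommGroup Q'] [Module R Q'] (e : Q ≃ₗ[R] Q') (h : Module.Injective R Q) :
    Module.Injective R Q' where
  out X Y _ _ _ _ f hf g := by
    obtain ⟨h', hh'⟩ := h.out f hf (e.symm.toLinearMap ∘ₗ g)
    refine ⟨e.toLinearMap ∘ₗ h', fun x => ?_⟩
    rw [LinearMap.comp_apply, hh' x, LinearMap.comp_apply]
    exact e.apply_symm_apply (g x)

omit [Module.Finite K C] in
/-- `Hom_K(C, K)` is an injective `C`-module. -/
theorem injective_omega : Module.Injective C (Disc.Omega K C) := by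
  apply Module.Baer.injective
  intro I g
  let g0 : (I.restrictScalars K) →ₗ[K] K :=
    { toFun := fun x => (g ⟨x.1, x.2⟩).toLinearMap 1
      map_add' := fun x y => by
        have e : (⟨(x + y).1, (x + y).2⟩ : I) = (⟨x.1, x.2⟩ : I) + ⟨y.1, y.2⟩ := rfl
        rw [e, map_add, Disc.Omega.add_toLinearMap, LinearMap.add_apply]
      map_smul' := fun k x => by
        have e : (⟨(k • x).1, (k • x).2⟩ : I) = algebraMap K C k • (⟨x.1, x.2⟩ : I) :=
          Subtype.ext (Algebra.smul_def k x.1)
        simp only [RingHom.id_apply]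
        rw [e, map_smul, Disc.Omega.smul_toLinearMap_apply, ← Algebra.smul_def, map_smul] }
  obtain ⟨G, hG⟩ := LinearMap.exists_extend g0
  refine ⟨LinearMap.toSpanSingleton C (Disc.Omega K C) ⟨G⟩, fun x hx => ?_⟩
  apply Disc.Omega.ext
  apply LinearMap.ext
  intro c
  have hxc : x * c ∈ I := I.mul_mem_right c hx
  have e1 : G (x * c) = g0 ⟨x * c, hxc⟩ := by
    rw [← hG]
    rfl
  have e2 : (⟨x * c, hxc⟩ : I) = c • (⟨x, hx⟩ : I) := Subtype.ext (mul_comm x c)
  show G (x * c) = (g ⟨x, hx⟩).toLinearMap c
  rw [e1]
  show (g ⟨x * c, hxc⟩).toLinearMap 1 = _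
  rw [e2, map_smul, Disc.Omega.smul_toLinearMap_apply, mul_one]

open CategoryTheory in
/-- A finite-dimensional algebra with `Hom_K(C, K) ≅ C` is a Gorenstein ring. -/
theorem gor_of_equiv (e : Disc.Omega K C ≃ₗ[C] C) : LocCoh.IsGorensteinRing C := by
  haveI : IsArtinianRing C := IsArtinianRing.of_finite K C
  haveI : IsNoetherianRing C := inferInstance
  haveI hinj : Module.Injective C C := injective_of_linearEquiv e (injective_omega K C)
  refine { isGorensteinLocalRing_localization := fun q _ => ?_ }
  haveI : Module.Injective (Localization.AtPrime q) (Localization.AtPrime q) :=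
    Module.injective_of_isLocalizedModule q.primeCompl
      (Algebra.linearMap C (Localization.AtPrime q))
  haveI : Injective (ModuleCat.of (Localization.AtPrime q) (Localization.AtPrime q)) :=
    Module.injective_object_of_injective_module _ _
  exact { exists_hasInjectiveDimensionLT :=
    ⟨1, injective_iff_hasInjectiveDimensionLT_one.mp inferInstance⟩ }

end Frob

section Fibre
attribute [local instance] Algebra.TensorProduct.rightAlgebra

variable {A B : Type u} [CommRing A] [CommRing B] [Algebra A B]

/-- A nondegenerate functional on the fibre gives `w` with Gram determinant outside `p`. -/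
theorem exists_det_notMem {ι : Type*} [Fintype ι] [DecidableEq ι] (b : Module.Basis ι A B)
    (p : Ideal A) [p.IsPrime] (wbar : Disc.Omega p.ResidueField (p.Fiber B))
    (hnd : ∀ c : p.Fiber B, c • wbar = 0 → c = 0) :
    ∃ w : Disc.Omega A B, (gram b w).det ∉ p := by
  have hB : Algebra.IsPushout A p.ResidueField B (p.Fiber B) := inferInstance
  let b' : Module.Basis ι p.ResidueField (p.Fiber B) := H13.OmegaBC.basis' hB b
  have hb' : ∀ i, b' i = algebraMap B (p.Fiber B) (b i) := H13.OmegaBC.basis'_apply hB b
  have hdet : (gram b' wbar).det ≠ 0 := by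
    intro h0
    obtain ⟨v, hv0, hv⟩ := Matrix.exists_vecMul_eq_zero_iff.2 h0
    have h1 : hat b' (b'.equivFun.symm v • wbar) = 0 := by
      rw [hat_smul, LinearEquiv.apply_symm_apply, hv]
    have h2 : b'.equivFun.symm v • wbar = 0 := by
      apply hat_injective b'
      rw [h1]
      funext j
      simp [hat]
    have h3 := hnd _ h2
    apply hv0
    have h4 := congrArg b'.equivFun h3
    rwa [LinearEquiv.apply_symm_apply, map_zero] at h4
  have hres : ∀ j, ∃ y : Localization.AtPrime p,
      algebraMap (Localization.AtPrime p) p.ResidueField y = wbar.toLinearMap (b' j) :=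
    fun j => IsLocalRing.residue_surjective _
  choose y hy using hres
  obtain ⟨s, hs⟩ := IsLocalization.exist_integer_multiples p.primeCompl Finset.univ y
  have hs' : ∀ j, ∃ a : A, algebraMap A (Localization.AtPrime p) a = (s : A) • y j :=
    fun j => hs j (Finset.mem_univ j)
  choose a ha using hs'
  have haK : ∀ j, algebraMap A p.ResidueField (a j) =
      algebraMap A p.ResidueField (s : A) * wbar.toLinearMap (b' j) := by
    intro j
    calc algebraMap A p.ResidueField (a j)
        = algebraMap (Localization.AtPrime p) p.ResidueField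
            (algebraMap A (Localization.AtPrime p) (a j)) :=
          IsScalarTower.algebraMap_apply A (Localization.AtPrime p) p.ResidueField (a j)
      _ = algebraMap (Localization.AtPrime p) p.ResidueField
            (algebraMap A (Localization.AtPrime p) (s : A) * y j) := by
          rw [ha j, Algebra.smul_def]
      _ = algebraMap (Localization.AtPrime p) p.ResidueField
            (algebraMap A (Localization.AtPrime p) (s : A)) *
            algebraMap (Localization.AtPrime p) p.ResidueField (y j) := map_mul _ _ _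
      _ = algebraMap A p.ResidueField (s : A) * wbar.toLinearMap (b' j) := by
          rw [← IsScalarTower.algebraMap_apply A (Localization.AtPrime p) p.ResidueField, hy j]
  let w : Disc.Omega A B := ⟨b.constr A a⟩
  let L1 : B →ₗ[A] p.ResidueField := (Algebra.linearMap A p.ResidueField) ∘ₗ (b.constr A a)
  let L2 : B →ₗ[A] p.ResidueField := (s : A) •
    ((wbar.toLinearMap.restrictScalars A) ∘ₗ (IsScalarTower.toAlgHom A B (p.Fiber B)).toLinearMap)
  have hL2 : ∀ x, L2 x = algebraMap A p.ResidueField (s : A) *
      wbar.toLinearMap (algebraMap B (p.Fiber B) x) := fun x => by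
    show (s : A) • wbar.toLinearMap (algebraMap B (p.Fiber B) x) = _
    rw [Algebra.smul_def]
  have hL : L1 = L2 := by
    apply b.ext
    intro j
    rw [hL2, ← hb' j, ← haK j]
    show algebraMap A p.ResidueField ((b.constr A a) (b j)) = _
    rw [Module.Basis.constr_basis]
  have hw : ∀ x : B, algebraMap A p.ResidueField (w.toLinearMap x) =
      algebraMap A p.ResidueField (s : A) * wbar.toLinearMap (algebraMap B (p.Fiber B) x) :=
    fun x => by
      rw [← hL2, ← hL]
      rfl
  have hG : (algebraMap A p.ResidueField).mapMatrix (gram b w) =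
      (algebraMap A p.ResidueField (s : A)) • gram b' wbar := by
    ext i j
    simp only [RingHom.mapMatrix_apply, Matrix.map_apply, gram, Matrix.of_apply, Matrix.smul_apply,
      smul_eq_mul]
    rw [hw (b i * b j), map_mul, hb' i, hb' j]
  refine ⟨w, fun hmem => ?_⟩
  have h0 : algebraMap A p.ResidueField (gram b w).det = 0 :=
    Ideal.algebraMap_residueField_eq_zero.2 hmem
  rw [RingHom.map_det, hG, Matrix.det_smul] at h0
  have hs0 : algebraMap A p.ResidueField (s : A) ≠ 0 := fun h =>
    s.2 (Ideal.algebraMap_residueField_eq_zero.1 h)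
  exact hdet ((mul_eq_zero.1 h0).resolve_left (pow_ne_zero _ hs0))

variable [Module.Finite A B] [Module.Free A B]

/-- Gorenstein fibres imply that `ω_{B/A}` is invertible. -/
theorem invertible_of_fibres
    (h : ∀ (p : Ideal A) [p.IsPrime], LocCoh.IsGorensteinRing (p.Fiber B)) :
    Module.Invertible B (Disc.Omega A B) := by
  classical
  let b := Module.Free.chooseBasis A B
  have hex : ∀ p : PrimeSpectrum A, ∃ w : Disc.Omega A B, (gram b w).det ∉ p.asIdeal := by
    intro p
    haveI := h p.asIdeal
    obtain ⟨wbar, hnd⟩ := exists_nondeg p.asIdeal.ResidueField (p.asIdeal.Fiber B)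
    exact exists_det_notMem b p.asIdeal wbar hnd
  choose w hw using hex
  refine invertible_of_data (κ := PrimeSpectrum A) w (fun k => psi b (w k))
    (fun k => algebraMap A B ((gram b (w k)).det ^ 2)) (fun k v => psi_smul b (w k) v)
    (fun k => psi_self b (w k)) ?_
  have hA : Ideal.span (Set.range fun k : PrimeSpectrum A => (gram b (w k)).det ^ 2) = ⊤ := by
    by_contra hne
    obtain ⟨m, hm, hle⟩ := Ideal.exists_le_maximal _ hne
    have h1 : (gram b (w ⟨m, hm.isPrime⟩)).det ^ 2 ∈ m :=
      hle (Ideal.subset_span ⟨⟨m, hm.isPrime⟩, rfl⟩)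
    exact hw ⟨m, hm.isPrime⟩ (hm.isPrime.mem_of_pow_mem 2 h1)
  have hrange : Ideal.span (Set.range fun k : PrimeSpectrum A =>
        algebraMap A B ((gram b (w k)).det ^ 2)) =
      Ideal.map (algebraMap A B)
        (Ideal.span (Set.range fun k : PrimeSpectrum A => (gram b (w k)).det ^ 2)) := by
    rw [Ideal.map_span, ← Set.range_comp]
    rfl
  rw [hrange, hA, Ideal.map_top]

/-- If `ω_{B/A}` is invertible then all fibres are Gorenstein. -/
theorem gor_fibre_of_invertible [Module.Invertible B (Disc.Omega A B)] (p : Ideal A)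
    [p.IsPrime] : LocCoh.IsGorensteinRing (p.Fiber B) := by
  classical
  haveI : IsArtinianRing (p.Fiber B) := IsArtinianRing.of_finite p.ResidueField (p.Fiber B)
  have hB : Algebra.IsPushout A p.ResidueField B (p.Fiber B) := inferInstance
  haveI : Module.Invertible (p.Fiber B) (Disc.Omega p.ResidueField (p.Fiber B)) :=
    Module.Invertible.congr (H13.OmegaBC.theta hB (Module.Free.chooseBasis A B))
  haveI : Module.Free (p.Fiber B) (Disc.Omega p.ResidueField (p.Fiber B)) := inferInstance
  obtain ⟨e⟩ := Module.Invertible.free_iff_linearEquiv.1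
    (inferInstance : Module.Free (p.Fiber B) (Disc.Omega p.ResidueField (p.Fiber B)))
  exact gor_of_equiv p.ResidueField (p.Fiber B) e

end Fibre

end Groth.Agent.H72.OmegaInv
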