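import Groth.Agent.H72.Syz

/-!
# Auslander–Buchsbaum, inequality form

`exists_depth_add_eq`: over a Noetherian local ring `R` with `depth R = r`, a nonzero finite module
`M` of projective dimension `≤ n` satisfies `depth M + e = r` for some `e ≤ n`.
-/

set_option autoImplicit false
universe u

namespace Groth.Agent.H72.ABLe

open CategoryTheory IsLocalRing Module Groth.Agent.H72.PdLocal Groth.Agent.H72.PdExt

lemma exists_depth_add_eq' {R : Type u} [CommRing R] [IsLocalRing R] [IsNoetherianRing R]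
    (M : Type u) [AddCommGroup M] [Module R M] [Module.Finite R M] [Nontrivial M] (n : ℕ)
    (h : PdLT R M (n + 1)) (r : ℕ) (hr : LocCoh.depth R R = r) :
    ∃ s e : ℕ, LocCoh.depth R M = s ∧ s + e = r ∧ e ≤ n ∧ PdLT R M (e + 1) ∧ ¬ PdLT R M e := by
  classical
  have hex : ∃ k, PdLT R M k := ⟨n + 1, h⟩
  have hspec : PdLT R M (Nat.find hex) := Nat.find_spec hex
  have hle : Nat.find hex ≤ n + 1 := Nat.find_min' hex h
  have hne : Nat.find hex ≠ 0 := by
    intro h0
    rw [h0] at hspec
    exact not_subsingleton M ((pdLT_zero_iff M).mp hspec)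
  obtain ⟨e, he⟩ := Nat.exists_eq_succ_of_ne_zero hne
  have hnot : ¬ PdLT R M e := Nat.find_min hex (by rw [he]; exact Nat.lt_succ_self e)
  rw [he] at hspec hle
  obtain ⟨s, hs, hse⟩ := AB.core e M hspec hnot r hr
  exact ⟨s, e, hs, hse, by omega, hspec, hnot⟩

lemma exists_depth_add_eq {R : Type u} [CommRing R] [IsLocalRing R] [IsNoetherianRing R]
    (M : Type u) [AddCommGroup M] [Module R M] [Module.Finite R M] [Nontrivial M] (n : ℕ)
    (h : PdLT R M (n + 1)) (r : ℕ) (hr : LocCoh.depth R R = r) :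
    ∃ s e : ℕ, LocCoh.depth R M = s ∧ s + e = r ∧ e ≤ n := by
  obtain ⟨s, e, h1, h2, h3, -, -⟩ := exists_depth_add_eq' M n h r hr
  exact ⟨s, e, h1, h2, h3⟩

end Groth.Agent.H72.ABLe
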