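import Mathlib
import Groth.Prelude.Def_Wider
import Groth.Agent.H55.CE.Defs

/-!
# (C1) for helper55's S17775 squad: the inductive step on the Čech side (helper72)

`locCoker b (M_{t'} ⧸ Σ') ≃ M_t ⧸ Σ`, `t = t' * b`.  Route: the canonical map
`g : M_{t'} → M_t` is a localization at `b` (`gmap_isLoc`); by exactness of localization the
induced map `μ : M_t → (M_{t'} ⧸ Σ')_b` is surjective with kernel the image of `(Σ')_b`;
composing with the quotient by the image of `M_{t'} ⧸ Σ'` gives a surjection with kernel `Σ`.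
-/

set_option autoImplicit false
universe u
open Groth.Agent.H55.CE

namespace Groth.Agent.H72.CE_C1

variable {R : Type u} [CommRing R]

theorem pow_mem_powers (r : R) (n : ℕ) : r ^ n ∈ Submonoid.powers r :=
  Submonoid.pow_mem _ (Submonoid.mem_powers _) n

/-- equality of fractions from cross-multiplication -/
theorem mk_eq_of {M : Type u} [AddCommGroup M] [Module R M] {S : Submonoid R} {m₁ m₂ : M}
    {r₁ r₂ : R} (h₁ : r₁ ∈ S) (h₂ : r₂ ∈ S) (hm : r₂ • m₁ = r₁ • m₂) :
    (LocalizedModule.mk m₁ ⟨r₁, h₁⟩ : LocalizedModule S M) = LocalizedModule.mk m₂ ⟨r₂, h₂⟩ :=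
  LocalizedModule.mk_eq.mpr ⟨1, by simp only [one_smul, Submonoid.mk_smul]; exact hm⟩

theorem mk_eq_zero_of {M : Type u} [AddCommGroup M] [Module R M] {S : Submonoid R} {m : M}
    {r u : R} (hr : r ∈ S) (hu : u ∈ S) (h : u • m = 0) :
    (LocalizedModule.mk m ⟨r, hr⟩ : LocalizedModule S M) = 0 := by
  rw [← LocalizedModule.zero_mk (⟨r, hr⟩ : S)]
  refine LocalizedModule.mk_eq.mpr ⟨⟨u, hu⟩, ?_⟩
  simp only [Submonoid.mk_smul, smul_zero]
  rw [smul_comm, h, smul_zero]

theorem exists_of_mk_eq_zero {M : Type u} [AddCommGroup M] [Module R M] {S : Submonoid R} {m : M}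
    {s : S} (h : (LocalizedModule.mk m s : LocalizedModule S M) = 0) : ∃ u ∈ S, u • m = 0 := by
  rw [← LocalizedModule.zero_mk s, LocalizedModule.mk_eq] at h
  obtain ⟨⟨u, hu⟩, hu'⟩ := h
  refine ⟨u * s, S.mul_mem hu s.2, ?_⟩
  simp only [Submonoid.mk_smul, Submonoid.smul_def, smul_zero] at hu'
  rw [mul_smul]; exact hu'

theorem smul_inj_of_isUnit {N : Type u} [AddCommGroup N] [Module R N] {r : R}
    (hu : IsUnit (algebraMap R (Module.End R N) r)) {y₁ y₂ : N} (h : r • y₁ = r • y₂) :
    y₁ = y₂ := by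
  apply ((Module.End.isUnit_iff _).mp hu).injective
  rw [Module.algebraMap_end_apply, Module.algebraMap_end_apply]; exact h

theorem isUnit_t (t : R) (M : Type u) [AddCommGroup M] [Module R M] :
    IsUnit (algebraMap R (Module.End R (LocalizedModule (Submonoid.powers t) M)) t) :=
  IsLocalizedModule.map_units (LocalizedModule.mkLinearMap (Submonoid.powers t) M)
    ⟨t, Submonoid.mem_powers t⟩

theorem isUnit_t'_b (t' b t : R) (ht : t' * b = t) (M : Type u) [AddCommGroup M] [Module R M] :
    IsUnit (algebraMap R (Module.End R (LocalizedModule (Submonoid.powers t) M)) t') ∧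
    IsUnit (algebraMap R (Module.End R (LocalizedModule (Submonoid.powers t) M)) b) := by
  have h := isUnit_t t M
  have e : algebraMap R (Module.End R (LocalizedModule (Submonoid.powers t) M)) t =
      algebraMap R _ t' * algebraMap R _ b := by rw [← map_mul, ht]
  rw [e] at h
  exact (Algebra.commute_algebraMap_left t' _).isUnit_mul_iff.mp h

theorem isUnit_of_mem_powers_t' (t' b t : R) (ht : t' * b = t) (M : Type u) [AddCommGroup M]
    [Module R M] (s : Submonoid.powers t') :
    IsUnit (algebraMap R (Module.End R (LocalizedModule (Submonoid.powers t) M)) (s : R)) := by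
  obtain ⟨s, hs⟩ := s
  obtain ⟨n, rfl⟩ := (Submonoid.mem_powers_iff _ _).mp hs
  show IsUnit (algebraMap R _ (t' ^ n))
  rw [map_pow]
  exact (isUnit_t'_b t' b t ht M).1.pow n

/-- the canonical map `M_{t'} → M_t` for `t = t' * b` -/
noncomputable def gmap (t' b t : R) (ht : t' * b = t) (M : Type u) [AddCommGroup M] [Module R M] :
    LocalizedModule (Submonoid.powers t') M →ₗ[R] LocalizedModule (Submonoid.powers t) M :=
  LocalizedModule.lift (Submonoid.powers t')
    (LocalizedModule.mkLinearMap (Submonoid.powers t) M)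
    (isUnit_of_mem_powers_t' t' b t ht M)

theorem gmap_mk (t' b t : R) (ht : t' * b = t) (M : Type u) [AddCommGroup M] [Module R M]
    (a : M) (n : ℕ) (h' : t' ^ n ∈ Submonoid.powers t') (h : t ^ n ∈ Submonoid.powers t) :
    gmap t' b t ht M (LocalizedModule.mk a ⟨t' ^ n, h'⟩) =
      LocalizedModule.mk (b ^ n • a) ⟨t ^ n, h⟩ := by
  unfold gmap
  rw [LocalizedModule.lift_mk, Module.End.algebraMap_isUnit_inv_apply_eq_iff,
    LocalizedModule.mkLinearMap_apply]
  change LocalizedModule.mk a 1 = (t' ^ n) • LocalizedModule.mk (b ^ n • a) ⟨t ^ n, h⟩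
  rw [LocalizedModule.smul'_mk]
  refine LocalizedModule.mk_eq.mpr ⟨1, ?_⟩
  simp only [one_smul, Submonoid.mk_smul]
  rw [smul_smul, ← mul_pow, ht]

theorem gmap_isLoc (t' b t : R) (ht : t' * b = t) (M : Type u) [AddCommGroup M] [Module R M] :
    IsLocalizedModule (Submonoid.powers b) (gmap t' b t ht M) := by
  refine IsLocalizedModule.Away.mk_of_addCommGroup (isUnit_t'_b t' b t ht M).2 ?_ ?_
  · intro y
    induction y using LocalizedModule.induction_on with
    | h m s =>
      obtain ⟨s, hs⟩ := s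
      obtain ⟨n, rfl⟩ := (Submonoid.mem_powers_iff _ _).mp hs
      refine ⟨n, LocalizedModule.mk m ⟨t' ^ n, pow_mem_powers t' n⟩, ?_⟩
      rw [gmap_mk t' b t ht M m n _ hs, LocalizedModule.smul'_mk]
  · intro z hz
    induction z using LocalizedModule.induction_on with
    | h m s =>
      obtain ⟨s, hs⟩ := s
      obtain ⟨k, rfl⟩ := (Submonoid.mem_powers_iff _ _).mp hs
      rw [gmap_mk t' b t ht M m k hs (pow_mem_powers t k)] at hz
      obtain ⟨u, hu, hum⟩ := exists_of_mk_eq_zero hz
      obtain ⟨j, rfl⟩ := (Submonoid.mem_powers_iff _ _).mp hu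
      refine ⟨j + k, ?_⟩
      rw [LocalizedModule.smul'_mk]
      refine mk_eq_zero_of hs (pow_mem_powers t' j) ?_
      have e : t' ^ j • b ^ (j + k) • m = t ^ j • b ^ k • m := by
        rw [← ht, smul_smul, smul_smul]; congr 1; ring
      rw [e]; exact hum

theorem exists_maps (t' b t : R) (ht : t' * b = t) (M : Type u) [AddCommGroup M] [Module R M]
    (P' : Submodule R (LocalizedModule (Submonoid.powers t') M)) :
    ∃ (μ : LocalizedModule (Submonoid.powers t) M →ₗ[R]
          LocalizedModule (Submonoid.powers b) (LocalizedModule (Submonoid.powers t') M ⧸ P'))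
      (ν : LocalizedModule (Submonoid.powers b) P' →ₗ[R]
          LocalizedModule (Submonoid.powers t) M),
      (∀ z, μ (gmap t' b t ht M z) =
        LocalizedModule.mkLinearMap (Submonoid.powers b) _ (P'.mkQ z)) ∧
      Function.Surjective μ ∧
      (∀ σ : P', ν (LocalizedModule.mkLinearMap (Submonoid.powers b) P' σ) =
        gmap t' b t ht M (σ : LocalizedModule (Submonoid.powers t') M)) ∧
      Function.Exact ν μ := by
  haveI := gmap_isLoc t' b t ht M
  exact ⟨IsLocalizedModule.map (Submonoid.powers b) (gmap t' b t ht M)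
      (LocalizedModule.mkLinearMap (Submonoid.powers b) _) P'.mkQ,
    IsLocalizedModule.map (Submonoid.powers b)
      (LocalizedModule.mkLinearMap (Submonoid.powers b) P') (gmap t' b t ht M) P'.subtype,
    fun z => IsLocalizedModule.map_apply _ _ _ _ z,
    IsLocalizedModule.map_surjective _ _ _ _ P'.mkQ_surjective,
    fun σ => IsLocalizedModule.map_apply _ _ _ _ σ,
    IsLocalizedModule.map_exact (Submonoid.powers b) _ _ _ P'.subtype P'.mkQ
      (LinearMap.exact_subtype_mkQ P')⟩

theorem abstract_iso (t' b t : R) (ht : t' * b = t) (M : Type u) [AddCommGroup M] [Module R M]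
    (P' : Submodule R (LocalizedModule (Submonoid.powers t') M))
    (P : Submodule R (LocalizedModule (Submonoid.powers t) M))
    (h1 : ∀ z, gmap t' b t ht M z ∈ P)
    (h2 : ∀ z ∈ P', ∀ k : ℕ, ∃ y ∈ P, b ^ k • y = gmap t' b t ht M z)
    (h3 : P ≤ Submodule.span R {y | (∃ z, gmap t' b t ht M z = y) ∨
        ∃ (k : ℕ) (z : LocalizedModule (Submonoid.powers t') M),
          z ∈ P' ∧ b ^ k • y = gmap t' b t ht M z}) :
    Nonempty (locCoker b (LocalizedModule (Submonoid.powers t') M ⧸ P') ≃ₗ[R]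
      (LocalizedModule (Submonoid.powers t) M ⧸ P)) := by
  obtain ⟨μ, ν, hμ, hμs, hν, hex⟩ := exists_maps t' b t ht M P'
  have hbk : ∀ k : ℕ, IsUnit (algebraMap R
      (Module.End R (LocalizedModule (Submonoid.powers t) M)) (b ^ k)) := by
    intro k; rw [map_pow]; exact (isUnit_t'_b t' b t ht M).2.pow k
  have hbk' : ∀ k : ℕ, IsUnit (algebraMap R (Module.End R (LocalizedModule (Submonoid.powers b)
      (LocalizedModule (Submonoid.powers t') M ⧸ P'))) (b ^ k)) := by
    intro k
    exact IsLocalizedModule.map_units (LocalizedModule.mkLinearMap (Submonoid.powers b)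
      (LocalizedModule (Submonoid.powers t') M ⧸ P')) ⟨b ^ k, pow_mem_powers b k⟩
  obtain ⟨Θ, hΘ⟩ : ∃ Θ : LocalizedModule (Submonoid.powers t) M →ₗ[R]
      locCoker b (LocalizedModule (Submonoid.powers t') M ⧸ P'),
      ∀ y, Θ y = Submodule.Quotient.mk (μ y) :=
    ⟨(LinearMap.range (LocalizedModule.mkLinearMap (Submonoid.powers b)
      (LocalizedModule (Submonoid.powers t') M ⧸ P'))).mkQ ∘ₗ μ, fun y => rfl⟩
  have hΘs : Function.Surjective Θ := by
    intro q
    obtain ⟨n, rfl⟩ := Submodule.Quotient.mk_surjective _ q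
    obtain ⟨y, rfl⟩ := hμs n
    exact ⟨y, hΘ y⟩
  have hν' : ∀ w, ν w ∈ P := by
    intro w
    induction w using LocalizedModule.induction_on with
    | h σ s =>
      obtain ⟨s, hs⟩ := s
      obtain ⟨k, rfl⟩ := (Submonoid.mem_powers_iff _ _).mp hs
      obtain ⟨y, hyP, hy⟩ := h2 σ.1 σ.2 k
      have e0 : b ^ k • (LocalizedModule.mk σ ⟨b ^ k, hs⟩ :
          LocalizedModule (Submonoid.powers b) P') =
          LocalizedModule.mkLinearMap (Submonoid.powers b) P' σ := by
        rw [LocalizedModule.smul'_mk, LocalizedModule.mkLinearMap_apply]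
        exact LocalizedModule.mk_cancel ⟨b ^ k, hs⟩ σ
      have e1 : b ^ k • ν (LocalizedModule.mk σ ⟨b ^ k, hs⟩) = gmap t' b t ht M σ.1 := by
        rw [← ν.map_smul, e0, hν σ]
      have e2 : ν (LocalizedModule.mk σ ⟨b ^ k, hs⟩) = y :=
        smul_inj_of_isUnit (hbk k) (e1.trans hy.symm)
      rw [e2]; exact hyP
  have hker : LinearMap.ker Θ = P := by
    apply le_antisymm
    · intro y hy
      rw [LinearMap.mem_ker, hΘ, Submodule.Quotient.mk_eq_zero] at hy
      obtain ⟨n, hn⟩ := LinearMap.mem_range.mp hy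
      obtain ⟨z, rfl⟩ := Submodule.mkQ_surjective P' n
      have hz : μ (y - gmap t' b t ht M z) = 0 := by rw [map_sub, hμ z, hn, sub_self]
      obtain ⟨w, hw⟩ := (hex _).mp hz
      have e : y = gmap t' b t ht M z + ν w := by rw [hw]; abel
      rw [e]; exact P.add_mem (h1 z) (hν' w)
    · refine h3.trans (Submodule.span_le.mpr ?_)
      rintro y (⟨z, rfl⟩ | ⟨k, z, hz, hy⟩)
      · rw [SetLike.mem_coe, LinearMap.mem_ker, hΘ, Submodule.Quotient.mk_eq_zero]
        exact LinearMap.mem_range.mpr ⟨P'.mkQ z, (hμ z).symm⟩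
      · rw [SetLike.mem_coe, LinearMap.mem_ker, hΘ, Submodule.Quotient.mk_eq_zero]
        have hz0 : P'.mkQ z = 0 := by
          rw [Submodule.mkQ_apply]; exact (Submodule.Quotient.mk_eq_zero P').mpr hz
        have e : μ y = 0 := by
          apply smul_inj_of_isUnit (hbk' k)
          rw [smul_zero, ← μ.map_smul, hy, hμ z, hz0, map_zero]
        rw [e]; exact Submodule.zero_mem _
  exact ⟨((Submodule.quotEquivOfEq _ _ hker).symm ≪≫ₗ
    Θ.quotKerEquivOfSurjective hΘs).symm⟩

theorem concrete (d : ℕ) (x : Fin (d + 1) → R) (x' : Fin d → R) (b : R)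
    (hx' : ∀ i : Fin d, x i.castSucc = x' i) (hb : x (Fin.last d) = b)
    (M : Type u) [AddCommGroup M] [Module R M] :
    Nonempty (locCoker b (cechTop x' M) ≃ₗ[R] cechTop x M) := by
  have ht : (∏ i, x' i) * b = ∏ i, x i := by
    rw [Fin.prod_univ_castSucc x, hb]
    simp only [hx']
  refine abstract_iso (∏ i, x' i) b (∏ i, x i) ht M (cechSub x' M) (cechSub x M) ?_ ?_ ?_
  · intro z
    induction z using LocalizedModule.induction_on with
    | h m s =>
      obtain ⟨s, hs⟩ := s
      obtain ⟨n, rfl⟩ := (Submonoid.mem_powers_iff _ _).mp hs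
      rw [gmap_mk _ _ _ ht M m n hs (pow_mem_powers _ n)]
      refine Submodule.subset_span ⟨Fin.last d, n, m, ?_⟩
      rw [hb]
  · intro z hz
    change z ∈ Submodule.span R _ at hz
    induction hz using Submodule.span_induction with
    | mem z hz =>
      obtain ⟨j, n, m, rfl⟩ := hz
      intro k
      obtain ⟨c, hc⟩ : ∃ c, x' j * c = ∏ i, x' i :=
        ⟨_, Finset.mul_prod_erase Finset.univ x' (Finset.mem_univ j)⟩
      refine ⟨LocalizedModule.mk (x j.castSucc ^ (n + k) • ((c ^ k * b ^ n) • m))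
        ⟨(∏ u, x u) ^ (n + k), Submonoid.pow_mem _ (Submonoid.mem_powers _) (n + k)⟩,
        Submodule.subset_span ⟨j.castSucc, n + k, (c ^ k * b ^ n) • m, rfl⟩, ?_⟩
      rw [gmap_mk _ _ _ ht M _ n _ (pow_mem_powers _ n), LocalizedModule.smul'_mk]
      refine mk_eq_of _ _ ?_
      rw [hx' j, ← ht, ← hc]
      simp only [smul_smul]
      congr 1
      ring
    | zero =>
      intro k
      exact ⟨0, Submodule.zero_mem _, by rw [smul_zero, map_zero]⟩
    | add z w _ _ ihz ihw =>
      intro k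
      obtain ⟨y₁, hy₁, e₁⟩ := ihz k
      obtain ⟨y₂, hy₂, e₂⟩ := ihw k
      exact ⟨y₁ + y₂, Submodule.add_mem _ hy₁ hy₂, by rw [smul_add, e₁, e₂, map_add]⟩
    | smul a z _ ih =>
      intro k
      obtain ⟨y, hy, e⟩ := ih k
      exact ⟨a • y, Submodule.smul_mem _ a hy, by rw [smul_comm, e, map_smul]⟩
  · change Submodule.span R _ ≤ Submodule.span R _
    apply Submodule.span_mono
    rintro y ⟨i, n, m, rfl⟩
    induction i using Fin.lastCases with
    | last =>
      refine Or.inl ⟨LocalizedModule.mk m ⟨(∏ i, x' i) ^ n, pow_mem_powers _ n⟩, ?_⟩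
      rw [gmap_mk _ _ _ ht M m n _ (pow_mem_powers _ n), hb]
    | cast j =>
      refine Or.inr ⟨n, LocalizedModule.mk (x' j ^ n • m) ⟨(∏ i, x' i) ^ n, pow_mem_powers _ n⟩,
        Submodule.subset_span ⟨j, n, m, rfl⟩, ?_⟩
      rw [gmap_mk _ _ _ ht M _ n _ (pow_mem_powers _ n), LocalizedModule.smul'_mk, hx' j]

/-- (C1) the inductive step on the Čech side (pure algebra of localizations). -/
theorem C1 (R : Type u) [CommRing R] (d : ℕ) (x : Fin (d + 1) → R) (M : Type u)
    [AddCommGroup M] [Module R M] :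
    Nonempty (locCoker (x (Fin.last d)) (cechTop (fun i : Fin d => x i.castSucc) M) ≃ₗ[R]
      cechTop x M) :=
  concrete d x (fun i : Fin d => x i.castSucc) (x (Fin.last d)) (fun _ => rfl) rfl M

end Groth.Agent.H72.CE_C1
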