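import Mathlib

/-!
# An elementary proof of Tate's trace formula (finite free global complete intersections)

`Groth.Agent.H72.Tate`: Koszul-free route to `Hom_A(B, A) = B · τ`, `Tr = J · τ` for
`B = A[x_1..x_n]/(f_1..f_n)` finite free over `A`.

Part 1 (this file): determinant independence lemma, monic univariate sequences, and the core
non-vanishing statement `core`.
-/

set_option autoImplicit false

namespace Groth.Agent.H72.Tate

open Matrix

section indep

variable {S : Type*} [CommRing S] {n : ℕ}

theorem det_sub_det_mem_of_row (y F : Fin n → S) (M M' : Matrix (Fin n) (Fin n) S) (k : Fin n)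
    (hM : M *ᵥ y = F) (hM' : M' *ᵥ y = F) (hrows : ∀ i, i ≠ k → M i = M' i)
    (hreg : ∀ a : S, a * F k ∈ Ideal.span (F '' {l | l ≠ k}) →
      a ∈ Ideal.span (F '' {l | l ≠ k})) :
    M.det - M'.det ∈ Ideal.span (Set.range F) := by
  classical
  set N : Matrix (Fin n) (Fin n) S := M.updateRow k (M k - M' k) with hN
  have hM'eq : M' = M.updateRow k (M' k) := by
    funext i
    by_cases hik : i = k
    · subst hik; rw [Matrix.updateRow_self]
    · rw [Matrix.updateRow_ne hik, hrows i hik]
  have hdet : M.det - M'.det = N.det := by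
    have h1 : M.det = (M.updateRow k ((M k - M' k) + M' k)).det := by
      rw [sub_add_cancel, Matrix.updateRow_eq_self]
    rw [h1, Matrix.det_updateRow_add, ← hM'eq, add_sub_cancel_right]
  rw [hdet]
  have hNy : ∀ i, (N *ᵥ y) i = if i = k then 0 else F i := by
    intro i
    by_cases hik : i = k
    · subst hik
      rw [if_pos rfl]
      have h0 : (N *ᵥ y) i = (M i - M' i) ⬝ᵥ y := by
        show (N i) ⬝ᵥ y = _
        rw [hN, Matrix.updateRow_self]
      rw [h0, sub_dotProduct]
      have e1 : M i ⬝ᵥ y = F i := congrFun hM i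
      have e2 : M' i ⬝ᵥ y = F i := congrFun hM' i
      rw [e1, e2, sub_self]
    · rw [if_neg hik]
      have h0 : (N *ᵥ y) i = M i ⬝ᵥ y := by
        show (N i) ⬝ᵥ y = _
        rw [hN, Matrix.updateRow_ne hik]
      rw [h0]; exact congrFun hM i
  have hadj : ∀ j, N.det * y j ∈ Ideal.span (F '' {l | l ≠ k}) := by
    intro j
    have h1 : N.adjugate *ᵥ (N *ᵥ y) = N.det • y := by
      rw [Matrix.mulVec_mulVec, Matrix.adjugate_mul, Matrix.smul_mulVec, Matrix.one_mulVec]
    have h2 := congrFun h1 j
    rw [Pi.smul_apply, smul_eq_mul] at h2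
    rw [← h2]
    show ∑ l, N.adjugate j l * (N *ᵥ y) l ∈ _
    refine Ideal.sum_mem _ (fun l _ => ?_)
    rw [hNy l]
    by_cases hlk : l = k
    · rw [if_pos hlk, mul_zero]; exact Ideal.zero_mem _
    · rw [if_neg hlk]
      exact Ideal.mul_mem_left _ _ (Ideal.subset_span ⟨l, hlk, rfl⟩)
  have hFk : N.det * F k ∈ Ideal.span (F '' {l | l ≠ k}) := by
    have h0 : F k = ∑ j, M k j * y j := (congrFun hM k).symm
    rw [h0, Finset.mul_sum]
    refine Ideal.sum_mem _ (fun j _ => ?_)
    have := Ideal.mul_mem_left _ (M k j) (hadj j)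
    convert this using 1; ring
  refine Ideal.span_mono ?_ (hreg _ hFk)
  rintro _ ⟨l, _, rfl⟩
  exact ⟨l, rfl⟩

theorem cramer_mem (c : Matrix (Fin n) (Fin n) S) (y F : Fin n → S)
    (hc : ∀ i, F i = ∑ j, c i j * y j) (j : Fin n) :
    c.det * y j = ∑ i, c.adjugate j i * F i := by
  have hcy : c *ᵥ y = F := by funext i; rw [hc i]; rfl
  have h1 : c.adjugate *ᵥ (c *ᵥ y) = c.det • y := by
    rw [Matrix.mulVec_mulVec, Matrix.adjugate_mul, Matrix.smul_mulVec, Matrix.one_mulVec]
  have h2 := congrFun h1 j
  rw [Pi.smul_apply, smul_eq_mul, hcy] at h2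
  rw [← h2]
  rfl

theorem det_sub_det_mem (y F : Fin n → S) (c c' : Matrix (Fin n) (Fin n) S)
    (hc : c *ᵥ y = F) (hc' : c' *ᵥ y = F)
    (hreg : ∀ (k : Fin n) (a : S), a * F k ∈ Ideal.span (F '' {l | l ≠ k}) →
      a ∈ Ideal.span (F '' {l | l ≠ k})) :
    c.det - c'.det ∈ Ideal.span (Set.range F) := by
  classical
  let H : ℕ → Matrix (Fin n) (Fin n) S := fun m i => if (i : ℕ) < m then c' i else c i
  have hH : ∀ m, H m *ᵥ y = F := by
    intro m; funext i
    show (H m i) ⬝ᵥ y = F i
    by_cases h : (i : ℕ) < m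
    · have h0 : H m i = c' i := if_pos h
      rw [h0]; exact congrFun hc' i
    · have h0 : H m i = c i := if_neg h
      rw [h0]; exact congrFun hc i
  have key : ∀ m, m ≤ n → c.det - (H m).det ∈ Ideal.span (Set.range F) := by
    intro m
    induction m with
    | zero =>
      intro _
      have h0 : H 0 = c := by funext i; exact if_neg (Nat.not_lt_zero _)
      rw [h0, sub_self]; exact Ideal.zero_mem _
    | succ m ih =>
      intro hm
      have h1 := ih (Nat.le_of_succ_le hm)
      have h2 : (H m).det - (H (m+1)).det ∈ Ideal.span (Set.range F) := by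
        refine det_sub_det_mem_of_row y F (H m) (H (m+1)) ⟨m, hm⟩ (hH m) (hH (m+1)) ?_ (hreg _)
        intro i hik
        have hne : (i : ℕ) ≠ m := fun h => hik (Fin.ext h)
        show (if (i : ℕ) < m then c' i else c i) = (if (i : ℕ) < m + 1 then c' i else c i)
        by_cases h : (i : ℕ) < m
        · rw [if_pos h, if_pos (Nat.lt_succ_of_lt h)]
        · rw [if_neg h, if_neg (by omega)]
      have := Ideal.add_mem _ h1 h2
      convert this using 1; ring
  have hn : H n = c' := by funext i; exact if_pos i.2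
  have := key n le_rfl
  rwa [hn] at this

end indep

section mono

variable {σ : Type*} [DecidableEq σ] {C : Type*} [CommRing C]

/-- send `X_t` to the polynomial variable, the other variables to constants -/
noncomputable def phi (t : σ) : MvPolynomial σ C →ₐ[C] Polynomial (MvPolynomial σ C) :=
  MvPolynomial.aeval (fun k => if k = t then Polynomial.X else Polynomial.C (MvPolynomial.X k))

theorem phi_X_self (t : σ) : phi t (MvPolynomial.X t : MvPolynomial σ C) = Polynomial.X := by
  simp [phi]

theorem phi_X_ne (t k : σ) (hk : k ≠ t) :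
    phi t (MvPolynomial.X k : MvPolynomial σ C) = Polynomial.C (MvPolynomial.X k) := by
  simp [phi, hk]

theorem ev_phi (t : σ) (a : MvPolynomial σ C) :
    Polynomial.aeval (MvPolynomial.X t : MvPolynomial σ C) (phi t a) = a := by
  induction a using MvPolynomial.induction_on with
  | C r =>
    have : phi t (MvPolynomial.C r : MvPolynomial σ C) =
        Polynomial.C (MvPolynomial.C r) := by
      simp [phi, Polynomial.algebraMap_apply, MvPolynomial.algebraMap_eq]
    rw [this, Polynomial.aeval_C]; rfl
  | add p q hp hq => rw [map_add, map_add, hp, hq]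
  | mul_X p k hp =>
    rw [map_mul, map_mul, hp]
    congr 1
    by_cases hk : k = t
    · subst hk; rw [phi_X_self, Polynomial.aeval_X]
    · rw [phi_X_ne t k hk, Polynomial.aeval_C]; rfl

theorem phi_aeval_ne (t k : σ) (hk : k ≠ t) (p : Polynomial C) :
    phi t (Polynomial.aeval (MvPolynomial.X k : MvPolynomial σ C) p) =
      Polynomial.C (Polynomial.aeval (MvPolynomial.X k : MvPolynomial σ C) p) := by
  rw [← Polynomial.aeval_algHom_apply, phi_X_ne t k hk]
  exact Polynomial.aeval_algHom_apply (Polynomial.CAlgHom (R := C) (A := MvPolynomial σ C)) _ p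

theorem phi_aeval_self (t : σ) (p : Polynomial C) :
    phi t (Polynomial.aeval (MvPolynomial.X t : MvPolynomial σ C) p) =
      p.map (algebraMap C (MvPolynomial σ C)) := by
  rw [← Polynomial.aeval_algHom_apply, phi_X_self, Polynomial.aeval_X_left_eq_map]

noncomputable def psi (t : σ) (I : Ideal (MvPolynomial σ C)) :
    MvPolynomial σ C →+* Polynomial (MvPolynomial σ C ⧸ I) :=
  (Polynomial.mapRingHom (Ideal.Quotient.mk I)).comp (phi t).toRingHom

theorem psi_apply (t : σ) (I : Ideal (MvPolynomial σ C)) (a : MvPolynomial σ C) :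
    psi t I a = (phi t a).map (Ideal.Quotient.mk I) := rfl

theorem psi_of_const (t : σ) (I : Ideal (MvPolynomial σ C)) (w : MvPolynomial σ C)
    (hw : phi t w = Polynomial.C w) : psi t I w = Polynomial.C (Ideal.Quotient.mk I w) := by
  rw [psi_apply, hw, Polynomial.map_C]

theorem psi_aeval_self (t : σ) (I : Ideal (MvPolynomial σ C)) (p : Polynomial C) :
    psi t I (Polynomial.aeval (MvPolynomial.X t : MvPolynomial σ C) p) =
      p.map ((Ideal.Quotient.mk I).comp (algebraMap C (MvPolynomial σ C))) := by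
  rw [psi_apply, phi_aeval_self, Polynomial.map_map]

theorem psi_eq_zero_of_mem (t : σ) (G : Set (MvPolynomial σ C))
    (hG : ∀ g ∈ G, phi t g = Polynomial.C g) (z : MvPolynomial σ C) (hz : z ∈ Ideal.span G) :
    psi t (Ideal.span G) z = 0 := by
  have hle : Ideal.span G ≤ RingHom.ker (psi t (Ideal.span G)) := by
    rw [Ideal.span_le]
    intro g hg
    rw [SetLike.mem_coe, RingHom.mem_ker, psi_of_const t _ g (hG g hg),
      Ideal.Quotient.eq_zero_iff_mem.mpr (Ideal.subset_span hg), map_zero]
  exact hle hz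

theorem mem_of_psi_eq_zero (t : σ) (I : Ideal (MvPolynomial σ C)) (a : MvPolynomial σ C)
    (h : psi t I a = 0) : a ∈ I := by
  have hc : ∀ m, (phi t a).coeff m ∈ I := by
    intro m
    have h1 := congrArg (fun P => Polynomial.coeff P m) h
    simp only [psi_apply, Polynomial.coeff_map, Polynomial.coeff_zero] at h1
    exact Ideal.Quotient.eq_zero_iff_mem.mp h1
  rw [← ev_phi t a, Polynomial.aeval_eq_sum_range]
  refine Ideal.sum_mem _ (fun i _ => ?_)
  rw [smul_eq_mul]
  exact Ideal.mul_mem_right _ _ (hc i)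

theorem nz (t : σ) (p : Polynomial C) (hp : p.Monic) (G : Set (MvPolynomial σ C))
    (hG : ∀ g ∈ G, phi t g = Polynomial.C g) (a : MvPolynomial σ C)
    (h : a * Polynomial.aeval (MvPolynomial.X t : MvPolynomial σ C) p ∈ Ideal.span G) :
    a ∈ Ideal.span G := by
  apply mem_of_psi_eq_zero t
  have h0 := psi_eq_zero_of_mem t G hG _ h
  rw [map_mul] at h0
  have hm : (psi t (Ideal.span G)
      (Polynomial.aeval (MvPolynomial.X t : MvPolynomial σ C) p)).Monic := by
    rw [psi_aeval_self]; exact hp.map _
  exact hm.mul_left_eq_zero_iff.mp h0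

theorem sl (t : σ) (p ξ : Polynomial C) (hp : p.Monic) (hξ : ξ.Monic)
    (hdeg : ξ.natDegree < p.natDegree)
    (G : Set (MvPolynomial σ C)) (hG : ∀ g ∈ G, phi t g = Polynomial.C g)
    (w : MvPolynomial σ C) (hw : phi t w = Polynomial.C w)
    (h : w * Polynomial.aeval (MvPolynomial.X t : MvPolynomial σ C) ξ ∈
      Ideal.span (insert (Polynomial.aeval (MvPolynomial.X t : MvPolynomial σ C) p) G)) :
    w ∈ Ideal.span G := by
  rcases subsingleton_or_nontrivial (MvPolynomial σ C ⧸ Ideal.span G) with hs | hnt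
  · exact Ideal.Quotient.eq_zero_iff_mem.mp (Subsingleton.elim _ _)
  set I := Ideal.span G with hI
  set f := (Ideal.Quotient.mk I).comp (algebraMap C (MvPolynomial σ C)) with hf
  have hle : Ideal.span (insert (Polynomial.aeval (MvPolynomial.X t : MvPolynomial σ C) p) G) ≤
      Ideal.comap (psi t I) (Ideal.span {p.map f}) := by
    rw [Ideal.span_le]
    rintro z (rfl | hz)
    · rw [SetLike.mem_coe, Ideal.mem_comap, psi_aeval_self]
      exact Ideal.subset_span rfl
    · rw [SetLike.mem_coe, Ideal.mem_comap,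
        psi_eq_zero_of_mem t G hG z (Ideal.subset_span hz)]
      exact Ideal.zero_mem _
  have h1 := hle h
  rw [Ideal.mem_comap, map_mul, psi_aeval_self, psi_of_const t I w hw] at h1
  obtain ⟨r, hr⟩ := Ideal.mem_span_singleton'.mp h1
  have hdvd : p.map f ∣ Polynomial.C (Ideal.Quotient.mk I w) * ξ.map f := Dvd.intro_left r hr
  by_contra hwn
  have hne : Polynomial.C (Ideal.Quotient.mk I w) * ξ.map f ≠ 0 := by
    intro h0
    have h2 := (hξ.map f).mul_left_eq_zero_iff.mp h0
    rw [Polynomial.C_eq_zero] at h2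
    exact hwn (Ideal.Quotient.eq_zero_iff_mem.mp h2)
  refine (hp.map f).not_dvd_of_natDegree_lt hne ?_ hdvd
  calc (Polynomial.C (Ideal.Quotient.mk I w) * ξ.map f).natDegree
      ≤ (ξ.map f).natDegree := Polynomial.natDegree_C_mul_le _ _
    _ = ξ.natDegree := hξ.natDegree_map f
    _ < p.natDegree := hdeg
    _ = (p.map f).natDegree := (hp.natDegree_map f).symm

theorem prod_aux (p ξ : σ → Polynomial C) (hp : ∀ i, (p i).Monic) (hξ : ∀ i, (ξ i).Monic)
    (hdeg : ∀ i, (ξ i).natDegree < (p i).natDegree) (T : Finset σ) :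
    ∀ u : MvPolynomial σ C, (∀ t ∈ T, phi t u = Polynomial.C u) →
      u * ∏ i ∈ T, Polynomial.aeval (MvPolynomial.X i : MvPolynomial σ C) (ξ i) ∈
        Ideal.span ((fun i => Polynomial.aeval (MvPolynomial.X i : MvPolynomial σ C) (p i)) ''
          (T : Set σ)) →
      u = 0 := by
  induction T using Finset.induction_on with
  | empty =>
    intro u _ h
    simpa using h
  | insert t T' ht ih =>
    intro u hu h
    rw [Finset.prod_insert ht] at h
    set w := u * ∏ i ∈ T', Polynomial.aeval (MvPolynomial.X i : MvPolynomial σ C) (ξ i) with hwdef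
    have hw : phi t w = Polynomial.C w := by
      rw [hwdef, map_mul, hu t (Finset.mem_insert_self _ _), map_prod, Polynomial.C_mul]
      congr 1
      rw [map_prod]
      refine Finset.prod_congr rfl (fun i hi => ?_)
      exact phi_aeval_ne t i (fun h => ht (h ▸ hi)) (ξ i)
    have hmem : w * Polynomial.aeval (MvPolynomial.X t : MvPolynomial σ C) (ξ t) ∈
        Ideal.span (insert (Polynomial.aeval (MvPolynomial.X t : MvPolynomial σ C) (p t))
          ((fun i => Polynomial.aeval (MvPolynomial.X i : MvPolynomial σ C) (p i)) ''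
            (T' : Set σ))) := by
      have h0 : w * Polynomial.aeval (MvPolynomial.X t : MvPolynomial σ C) (ξ t) =
          u * (Polynomial.aeval (MvPolynomial.X t : MvPolynomial σ C) (ξ t) *
            ∏ i ∈ T', Polynomial.aeval (MvPolynomial.X i : MvPolynomial σ C) (ξ i)) := by
        rw [hwdef]; ring
      rw [h0]
      rw [Finset.coe_insert, Set.image_insert_eq] at h
      exact h
    have hG : ∀ g ∈ (fun i => Polynomial.aeval (MvPolynomial.X i : MvPolynomial σ C) (p i)) ''
        (T' : Set σ), phi t g = Polynomial.C g := by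
      rintro _ ⟨i, hi, rfl⟩
      exact phi_aeval_ne t i (fun h => ht (h ▸ Finset.mem_coe.mp hi)) (p i)
    have h3 := sl t (p t) (ξ t) (hp t) (hξ t) (hdeg t) _ hG w hw hmem
    exact ih u (fun s hs => hu s (Finset.mem_insert_of_mem hs)) h3

theorem prod_not_mem [Fintype σ] [Nontrivial C] (p ξ : σ → Polynomial C)
    (hp : ∀ i, (p i).Monic) (hξ : ∀ i, (ξ i).Monic)
    (hdeg : ∀ i, (ξ i).natDegree < (p i).natDegree) :
    ∏ i, Polynomial.aeval (MvPolynomial.X i : MvPolynomial σ C) (ξ i) ∉
      Ideal.span (Set.range fun i =>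
        Polynomial.aeval (MvPolynomial.X i : MvPolynomial σ C) (p i)) := by
  intro h
  have h1 := prod_aux p ξ hp hξ hdeg Finset.univ 1 (fun t _ => by simp)
    (by simpa using h)
  exact one_ne_zero h1

end mono

section core

open MvPolynomial

theorem core {L : Type*} [CommRing L] [Nontrivial L] {n : ℕ} (β : Fin n → L)
    (F : Fin n → MvPolynomial (Fin n) L)
    (hq : ∀ i, ∃ q : Polynomial L, q.Monic ∧
      Polynomial.aeval (MvPolynomial.X i : MvPolynomial (Fin n) L) q ∈ Ideal.span (Set.range F))
    (c : Matrix (Fin n) (Fin n) (MvPolynomial (Fin n) L))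
    (hc : ∀ i, F i = ∑ j, c i j * (MvPolynomial.X j - MvPolynomial.C (β j))) :
    c.det ∉ Ideal.span (Set.range F) := by
  classical
  choose q hqm hqF using hq
  intro hdet
  set y : Fin n → MvPolynomial (Fin n) L := fun j => X j - C (β j) with hy
  set p : Fin n → Polynomial L := fun i => q i * (Polynomial.X - Polynomial.C (β i)) with hp
  set h : Fin n → MvPolynomial (Fin n) L :=
    fun i => Polynomial.aeval (X i : MvPolynomial (Fin n) L) (p i) with hh0
  have hpm : ∀ i, (p i).Monic := fun i => (hqm i).mul (Polynomial.monic_X_sub_C _)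
  have hdeg : ∀ i, (q i).natDegree < (p i).natDegree := by
    intro i
    show _ < (q i * (Polynomial.X - Polynomial.C (β i))).natDegree
    rw [(hqm i).natDegree_mul (Polynomial.monic_X_sub_C _), Polynomial.natDegree_X_sub_C]
    exact Nat.lt_succ_self _
  have hh : ∀ i, h i = Polynomial.aeval (X i : MvPolynomial (Fin n) L) (q i) * y i := by
    intro i
    show Polynomial.aeval (X i : MvPolynomial (Fin n) L)
      (q i * (Polynomial.X - Polynomial.C (β i))) = _
    rw [map_mul, map_sub, Polynomial.aeval_X, Polynomial.aeval_C]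
    rfl
  have hhF : ∀ i, h i ∈ Ideal.span (Set.range F) := fun i => by
    rw [hh]; exact Ideal.mul_mem_right _ _ (hqF i)
  have hex : ∀ i, ∃ e : Fin n → MvPolynomial (Fin n) L, ∑ k, e k * F k = h i := fun i =>
    Ideal.mem_span_range_iff_exists_fun.mp (hhF i)
  choose e he using hex
  let eM : Matrix (Fin n) (Fin n) (MvPolynomial (Fin n) L) := Matrix.of e
  let D : Matrix (Fin n) (Fin n) (MvPolynomial (Fin n) L) :=
    Matrix.diagonal fun i => Polynomial.aeval (X i : MvPolynomial (Fin n) L) (q i)
  have hcy : c *ᵥ y = F := by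
    funext i; rw [hc i]; rfl
  have hDy : D *ᵥ y = h := by
    funext i; rw [Matrix.mulVec_diagonal, hh]
  have heF : eM *ᵥ F = h := by funext i; exact he i
  have hey : (eM * c) *ᵥ y = h := by
    rw [← Matrix.mulVec_mulVec, hcy, heF]
  have hreg : ∀ (k : Fin n) (a : MvPolynomial (Fin n) L),
      a * h k ∈ Ideal.span (h '' {l | l ≠ k}) → a ∈ Ideal.span (h '' {l | l ≠ k}) := by
    intro k a ha
    refine nz k (p k) (hpm k) _ ?_ a ha
    rintro _ ⟨l, hl, rfl⟩
    exact phi_aeval_ne k l hl (p l)
  have h1 := det_sub_det_mem y h D (eM * c) hDy hey hreg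
  have h2 : (eM * c).det ∈ Ideal.span (Set.range h) := by
    rw [Matrix.det_mul]
    obtain ⟨a, ha⟩ := Ideal.mem_span_range_iff_exists_fun.mp hdet
    rw [← ha, Finset.mul_sum]
    refine Ideal.sum_mem _ (fun k _ => ?_)
    have hk : eM.det * F k ∈ Ideal.span (Set.range h) := by
      have h3 : eM.adjugate *ᵥ (eM *ᵥ F) = eM.det • F := by
        rw [Matrix.mulVec_mulVec, Matrix.adjugate_mul, Matrix.smul_mulVec, Matrix.one_mulVec]
      have h4 := congrFun h3 k
      rw [Pi.smul_apply, smul_eq_mul] at h4
      rw [← h4, heF]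
      show ∑ l, eM.adjugate k l * h l ∈ _
      exact Ideal.sum_mem _ (fun l _ => Ideal.mul_mem_left _ _ (Ideal.subset_span ⟨l, rfl⟩))
    have := Ideal.mul_mem_left _ (a k) hk
    convert this using 1; ring
  have h3 : D.det ∈ Ideal.span (Set.range h) := by
    have := Ideal.add_mem _ h1 h2
    rwa [sub_add_cancel] at this
  rw [Matrix.det_diagonal] at h3
  exact prod_not_mem p q hpm hqm hdeg h3

end core

end Groth.Agent.H72.Tate
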