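import Mathlib
import Groth.Prelude.Def_Disc
import Groth.Agent.H72.Tate

/-!
# Tate's trace formula, part 2: the Bezoutian, the map `theta`, and the main theorem `tate`.
-/

set_option autoImplicit false
universe u

namespace Groth.Agent.H72.Tate

open TensorProduct MvPolynomial

section bez

variable {A : Type u} [CommRing A] {n : ℕ}

/-- `p ⊗ 1 - 1 ⊗ p` -/
noncomputable def dd (p : MvPolynomial (Fin n) A) :
    MvPolynomial (Fin n) A ⊗[A] MvPolynomial (Fin n) A := p ⊗ₜ[A] 1 - 1 ⊗ₜ[A] p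

theorem dd_add (p q : MvPolynomial (Fin n) A) : dd (p + q) = dd p + dd q := by
  simp only [dd, add_tmul, tmul_add]; abel

theorem dd_mul_X (p : MvPolynomial (Fin n) A) (j : Fin n) :
    dd (p * X j) = (p ⊗ₜ[A] 1) * dd (X j) + dd p * (1 ⊗ₜ[A] X j) := by
  simp only [dd, mul_sub, sub_mul, Algebra.TensorProduct.tmul_mul_tmul, mul_one, one_mul]
  abel

theorem dd_C (a : A) : dd (C a : MvPolynomial (Fin n) A) = 0 := by
  have h : (C a : MvPolynomial (Fin n) A) = a • (1 : MvPolynomial (Fin n) A) := by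
    rw [← MvPolynomial.algebraMap_eq, Algebra.algebraMap_eq_smul_one]
  rw [dd, h, TensorProduct.smul_tmul, sub_self]

theorem dd_mem (p : MvPolynomial (Fin n) A) :
    dd p ∈ Ideal.span (Set.range fun j : Fin n => dd (X j : MvPolynomial (Fin n) A)) := by
  induction p using MvPolynomial.induction_on with
  | C a => rw [dd_C]; exact Ideal.zero_mem _
  | add p q hp hq => rw [dd_add]; exact Ideal.add_mem _ hp hq
  | mul_X p j hp =>
    rw [dd_mul_X]
    refine Ideal.add_mem _ (Ideal.mul_mem_left _ _ (Ideal.subset_span ⟨j, rfl⟩)) ?_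
    exact Ideal.mul_mem_right _ _ hp

theorem exists_bez (f : Fin n → MvPolynomial (Fin n) A) :
    ∃ c : Matrix (Fin n) (Fin n) (MvPolynomial (Fin n) A ⊗[A] MvPolynomial (Fin n) A),
      ∀ i, dd (f i) = ∑ j, c i j * dd (X j : MvPolynomial (Fin n) A) := by
  have h : ∀ i, ∃ ci : Fin n → MvPolynomial (Fin n) A ⊗[A] MvPolynomial (Fin n) A,
      ∑ j, ci j * dd (X j : MvPolynomial (Fin n) A) = dd (f i) := fun i =>
    Ideal.mem_span_range_iff_exists_fun.mp (dd_mem (f i))
  choose c hc using h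
  exact ⟨Matrix.of c, fun i => (hc i).symm⟩

/-- `p ⊗ q ↦ ∂_j p * q` -/
noncomputable def delt (j : Fin n) :
    MvPolynomial (Fin n) A ⊗[A] MvPolynomial (Fin n) A →ₗ[A] MvPolynomial (Fin n) A :=
  TensorProduct.lift ((LinearMap.mul A (MvPolynomial (Fin n) A)).comp
    (MvPolynomial.pderiv j : Derivation A (MvPolynomial (Fin n) A) (MvPolynomial (Fin n) A)).toLinearMap)

theorem delt_tmul (j : Fin n) (p q : MvPolynomial (Fin n) A) :
    delt j (p ⊗ₜ[A] q) = MvPolynomial.pderiv j p * q := by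
  simp [delt]

theorem delt_dd (j : Fin n) (p : MvPolynomial (Fin n) A) : delt j (dd p) = MvPolynomial.pderiv j p := by
  rw [dd, map_sub, delt_tmul, delt_tmul, Derivation.map_one_eq_zero, zero_mul, sub_zero, mul_one]

theorem delt_mul_ddX (j k : Fin n) (z : MvPolynomial (Fin n) A ⊗[A] MvPolynomial (Fin n) A) :
    delt j (z * dd (X k : MvPolynomial (Fin n) A)) =
      if j = k then Algebra.TensorProduct.lmul' A z else 0 := by
  induction z using TensorProduct.induction_on with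
  | zero => simp
  | tmul p q =>
    have h1 : (p ⊗ₜ[A] q) * dd (X k : MvPolynomial (Fin n) A) =
        (p * X k) ⊗ₜ[A] q - p ⊗ₜ[A] (q * X k) := by
      simp only [dd, mul_sub, Algebra.TensorProduct.tmul_mul_tmul, mul_one]
    rw [h1, map_sub, delt_tmul, delt_tmul, Derivation.leibniz, MvPolynomial.pderiv_X,
      Algebra.TensorProduct.lmul'_apply_tmul]
    by_cases hjk : j = k
    · subst hjk
      rw [if_pos rfl, Pi.single_eq_same]
      simp only [smul_eq_mul]; ring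
    · rw [if_neg hjk, Pi.single_eq_of_ne (Ne.symm hjk)]
      simp only [smul_eq_mul]; ring
  | add z w hz hw =>
    rw [add_mul, map_add, hz, hw, map_add]
    split_ifs <;> simp

theorem lmul_bez (f : Fin n → MvPolynomial (Fin n) A)
    (c : Matrix (Fin n) (Fin n) (MvPolynomial (Fin n) A ⊗[A] MvPolynomial (Fin n) A))
    (hc : ∀ i, dd (f i) = ∑ j, c i j * dd (X j : MvPolynomial (Fin n) A)) (i j : Fin n) :
    Algebra.TensorProduct.lmul' A (c i j) = MvPolynomial.pderiv j (f i) := by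
  have h := congrArg (delt j) (hc i)
  rw [delt_dd, map_sum] at h
  simp only [delt_mul_ddX] at h
  rw [h, Finset.sum_ite_eq]
  simp

end bez

section theta

variable {A : Type u} [CommRing A] {B : Type u} [CommRing B] [Algebra A B]

/-- `ξ ↦ (λ ↦ (id ⊗ λ) ξ)` -/
noncomputable def theta (M : Type u) [CommRing M] [Algebra A M] (ξ : M ⊗[A] B) :
    (B →ₗ[A] A) →ₗ[A] M where
  toFun lam := TensorProduct.rid A M (lam.lTensor M ξ)
  map_add' l l' := by rw [LinearMap.lTensor_add, LinearMap.add_apply, map_add]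
  map_smul' a l := by
    rw [LinearMap.lTensor_smul, LinearMap.smul_apply, map_smul, RingHom.id_apply]

theorem theta_apply (M : Type u) [CommRing M] [Algebra A M] (ξ : M ⊗[A] B) (lam : B →ₗ[A] A) :
    theta M ξ lam = TensorProduct.rid A M (lam.lTensor M ξ) := rfl

theorem theta_tmul (M : Type u) [CommRing M] [Algebra A M] (m : M) (v : B) (lam : B →ₗ[A] A) :
    theta M (m ⊗ₜ[A] v) lam = lam v • m := by
  rw [theta_apply, LinearMap.lTensor_tmul, TensorProduct.rid_tmul]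

theorem theta_add (M : Type u) [CommRing M] [Algebra A M] (ξ ξ' : M ⊗[A] B)
    (lam : B →ₗ[A] A) : theta M (ξ + ξ') lam = theta M ξ lam + theta M ξ' lam := by
  simp only [theta_apply, map_add]

theorem theta_zero (M : Type u) [CommRing M] [Algebra A M] (lam : B →ₗ[A] A) :
    theta M (0 : M ⊗[A] B) lam = 0 := by
  simp only [theta_apply, map_zero]

theorem expand {ι : Type*} [Fintype ι] (𝔟 : Module.Basis ι A B) (M : Type u) [CommRing M]
    [Algebra A M] (ξ : M ⊗[A] B) : ξ = ∑ i, theta M ξ (𝔟.coord i) ⊗ₜ[A] 𝔟 i := by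
  induction ξ using TensorProduct.induction_on with
  | zero => simp [theta_zero]
  | tmul m v =>
    simp only [theta_tmul, Module.Basis.coord_apply]
    conv_lhs => rw [← 𝔟.sum_repr v, TensorProduct.tmul_sum]
    refine Finset.sum_congr rfl (fun i _ => ?_)
    rw [TensorProduct.smul_tmul]
  | add ξ ξ' h h' =>
    conv_lhs => rw [h, h']
    rw [← Finset.sum_add_distrib]
    refine Finset.sum_congr rfl (fun i _ => ?_)
    rw [theta_add, TensorProduct.add_tmul]

theorem theta_map {L : Type u} [CommRing L] [Algebra A L] (q : B →ₐ[A] L) (ξ : B ⊗[A] B)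
    (lam : B →ₗ[A] A) :
    theta L (Algebra.TensorProduct.map q (AlgHom.id A B) ξ) lam = q (theta B ξ lam) := by
  induction ξ using TensorProduct.induction_on with
  | zero => simp [theta_zero]
  | tmul u v =>
    rw [Algebra.TensorProduct.map_tmul, theta_tmul, theta_tmul, AlgHom.coe_id, id_eq, map_smul]
  | add ξ ξ' h h' => rw [map_add, theta_add, theta_add, h, h', map_add]

theorem theta_mulLeft (ξ : B ⊗[A] B) (lam : B →ₗ[A] A) (b : B) :
    theta B ξ (lam ∘ₗ LinearMap.mulLeft A b) = theta B ((1 ⊗ₜ[A] b) * ξ) lam := by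
  induction ξ using TensorProduct.induction_on with
  | zero => simp [theta_zero]
  | tmul u v =>
    rw [Algebra.TensorProduct.tmul_mul_tmul, theta_tmul, theta_tmul, one_mul]
    rfl
  | add ξ ξ' h h' => rw [mul_add, theta_add, theta_add, h, h']

theorem theta_mul_left (ξ : B ⊗[A] B) (lam : B →ₗ[A] A) (b : B) :
    theta B ((b ⊗ₜ[A] 1) * ξ) lam = b * theta B ξ lam := by
  induction ξ using TensorProduct.induction_on with
  | zero => simp [theta_zero]
  | tmul u v =>
    rw [Algebra.TensorProduct.tmul_mul_tmul, theta_tmul, theta_tmul, one_mul, mul_smul_comm]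
  | add ξ ξ' h h' => rw [mul_add, theta_add, theta_add, h, h', mul_add]

theorem theta_lin (ξ : B ⊗[A] B) (hξ : ∀ b : B, (b ⊗ₜ[A] 1 - 1 ⊗ₜ[A] b) * ξ = 0)
    (lam : B →ₗ[A] A) (b : B) :
    theta B ξ (lam ∘ₗ LinearMap.mulLeft A b) = b * theta B ξ lam := by
  have h := hξ b
  rw [sub_mul, sub_eq_zero] at h
  rw [theta_mulLeft, ← theta_mul_left, h]

theorem theta_trace [Module.Free A B] [Module.Finite A B] (ξ : B ⊗[A] B)
    (hξ : ∀ b : B, (b ⊗ₜ[A] 1 - 1 ⊗ₜ[A] b) * ξ = 0) :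
    theta B ξ (Algebra.trace A B) = Algebra.TensorProduct.lmul' A ξ := by
  classical
  let 𝔟 := Module.Free.chooseBasis A B
  have htr : Algebra.trace A B = ∑ i, (𝔟.coord i) ∘ₗ LinearMap.mulLeft A (𝔟 i) := by
    ext x
    rw [Algebra.trace_eq_matrix_trace 𝔟, Matrix.trace, LinearMap.sum_apply]
    refine Finset.sum_congr rfl (fun i _ => ?_)
    rw [Matrix.diag_apply, Algebra.leftMulMatrix_eq_repr_mul, LinearMap.comp_apply,
      LinearMap.mulLeft_apply, Module.Basis.coord_apply, mul_comm]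
  rw [htr, map_sum]
  conv_rhs => rw [expand 𝔟 B ξ, map_sum]
  refine Finset.sum_congr rfl (fun i _ => ?_)
  rw [theta_lin ξ hξ, Algebra.TensorProduct.lmul'_apply_tmul, mul_comm]

end theta

section main

variable (A : Type u) [CommRing A] (n : ℕ) (f : Fin n → MvPolynomial (Fin n) A)

/-- non-vanishing of the Bezoutian modulo any proper ideal -/
theorem delta_ne_zero (𝔣 : Ideal (MvPolynomial (Fin n) A)) (h𝔣 : 𝔣 = Ideal.span (Set.range f))
    (c : Matrix (Fin n) (Fin n) (MvPolynomial (Fin n) A ⊗[A] MvPolynomial (Fin n) A))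
    (hc : ∀ i, dd (f i) = ∑ j, c i j * dd (X j : MvPolynomial (Fin n) A))
    (hint : ∀ j, ∃ Q : Polynomial A, Q.Monic ∧
      Polynomial.aeval (X j : MvPolynomial (Fin n) A) Q ∈ 𝔣)
    (L : Type u) [CommRing L] [Nontrivial L] [Algebra A L]
    (q : (MvPolynomial (Fin n) A ⧸ 𝔣) →ₐ[A] L) :
    Algebra.TensorProduct.map q (AlgHom.id A (MvPolynomial (Fin n) A ⧸ 𝔣))
      (Algebra.TensorProduct.map (Ideal.Quotient.mkₐ A 𝔣) (Ideal.Quotient.mkₐ A 𝔣) c.det) ≠ 0 := by
  classical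
  let π := Ideal.Quotient.mkₐ A 𝔣
  -- the polynomial ring over L
  let g₀ : MvPolynomial (Fin n) A →ₐ[A] MvPolynomial (Fin n) L :=
    MvPolynomial.aeval (fun j => (X j : MvPolynomial (Fin n) L))
  let FL : Fin n → MvPolynomial (Fin n) L := fun i => g₀ (f i)
  let IL : Ideal (MvPolynomial (Fin n) L) := Ideal.span (Set.range FL)
  have hg₀𝔣 : ∀ p ∈ 𝔣, g₀ p ∈ IL := by
    intro p hp
    have h1 : 𝔣 ≤ Ideal.comap (g₀ : MvPolynomial (Fin n) A →+* MvPolynomial (Fin n) L) IL := by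
      rw [h𝔣, Ideal.span_le]
      rintro _ ⟨i, rfl⟩
      exact Ideal.subset_span ⟨i, rfl⟩
    exact h1 hp
  have hπf : ∀ i, π (f i) = 0 := fun i =>
    Ideal.Quotient.eq_zero_iff_mem.mpr (by rw [h𝔣]; exact Ideal.subset_span ⟨i, rfl⟩)
  let β : Fin n → L := fun j => q (π (X j))
  let evβ : MvPolynomial (Fin n) A →ₐ[A] MvPolynomial (Fin n) L :=
    (IsScalarTower.toAlgHom A L (MvPolynomial (Fin n) L)).comp (q.comp π)
  let Φ : MvPolynomial (Fin n) A ⊗[A] MvPolynomial (Fin n) A →ₐ[A] MvPolynomial (Fin n) L :=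
    Algebra.TensorProduct.productMap evβ g₀
  have hΦdd : ∀ p, Φ (dd p) = evβ p - g₀ p := by
    intro p
    simp only [dd, map_sub, Φ, Algebra.TensorProduct.productMap_apply_tmul, map_one, mul_one,
      one_mul]
  have hevβ : ∀ p, evβ p = C (q (π p)) := fun p => rfl
  have hg₀X : ∀ j, g₀ (X j) = X j := fun j => by simp [g₀]
  -- the matrix over L[x]
  let cL : Matrix (Fin n) (Fin n) (MvPolynomial (Fin n) L) := Φ.mapMatrix c
  have hcL : ∀ i, FL i = ∑ j, cL i j * (X j - C (β j)) := by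
    intro i
    have h1 := congrArg Φ (hc i)
    rw [hΦdd, map_sum, hevβ, hπf, map_zero, map_zero, zero_sub] at h1
    have h2 : FL i = -(∑ j, Φ (c i j * dd (X j))) := by rw [← h1, neg_neg]
    rw [h2, ← Finset.sum_neg_distrib]
    refine Finset.sum_congr rfl (fun j _ => ?_)
    rw [map_mul, hΦdd, hevβ, hg₀X]
    show -(Φ (c i j) * (C (β j) - X j)) = Φ (c i j) * (X j - C (β j))
    ring
  have hqL : ∀ i, ∃ qL : Polynomial L, qL.Monic ∧
      Polynomial.aeval (X i : MvPolynomial (Fin n) L) qL ∈ Ideal.span (Set.range FL) := by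
    intro i
    obtain ⟨Q, hQm, hQ⟩ := hint i
    refine ⟨Q.map (algebraMap A L), hQm.map _, ?_⟩
    rw [Polynomial.aeval_map_algebraMap]
    have h1 := hg₀𝔣 _ hQ
    rw [← Polynomial.aeval_algHom_apply, hg₀X] at h1
    exact h1
  have hcore := core β FL hqL cL hcL
  have hdetL : cL.det = Φ c.det := (AlgHom.map_det Φ c).symm
  -- the map out of `L ⊗ B`
  let u : L →ₐ[A] (MvPolynomial (Fin n) L ⧸ IL) :=
    (Ideal.Quotient.mkₐ A IL).comp (IsScalarTower.toAlgHom A L (MvPolynomial (Fin n) L))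
  let v : (MvPolynomial (Fin n) A ⧸ 𝔣) →ₐ[A] (MvPolynomial (Fin n) L ⧸ IL) :=
    Ideal.Quotient.liftₐ 𝔣 ((Ideal.Quotient.mkₐ A IL).comp g₀) (fun a ha => by
      rw [AlgHom.comp_apply, Ideal.Quotient.mkₐ_eq_mk]
      exact Ideal.Quotient.eq_zero_iff_mem.mpr (hg₀𝔣 a ha))
  let Ψ : L ⊗[A] (MvPolynomial (Fin n) A ⧸ 𝔣) →ₐ[A] (MvPolynomial (Fin n) L ⧸ IL) :=
    Algebra.TensorProduct.productMap u v
  have hΨ : ∀ z : MvPolynomial (Fin n) A ⊗[A] MvPolynomial (Fin n) A,
      Ψ (Algebra.TensorProduct.map q (AlgHom.id A (MvPolynomial (Fin n) A ⧸ 𝔣))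
        (Algebra.TensorProduct.map π π z)) = Ideal.Quotient.mk IL (Φ z) := by
    intro z
    induction z using TensorProduct.induction_on with
    | zero => simp
    | tmul p p' =>
      rw [Algebra.TensorProduct.map_tmul, Algebra.TensorProduct.map_tmul]
      simp only [Ψ, Φ, Algebra.TensorProduct.productMap_apply_tmul, AlgHom.coe_id, id_eq]
      rw [map_mul]
      rfl
    | add z w hz hw => simp only [map_add, hz, hw]
  intro h0
  have h1 := hΨ c.det
  rw [h0, map_zero] at h1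
  exact hcore (by rw [hdetL]; exact Ideal.Quotient.eq_zero_iff_mem.mp h1.symm)

theorem tate_aux (𝔣 : Ideal (MvPolynomial (Fin n) A)) (h𝔣 : 𝔣 = Ideal.span (Set.range f))
    [Module.Finite A (MvPolynomial (Fin n) A ⧸ 𝔣)]
    [Module.Free A (MvPolynomial (Fin n) A ⧸ 𝔣)] :
    ∃ e : (MvPolynomial (Fin n) A ⧸ 𝔣) ≃ₗ[MvPolynomial (Fin n) A ⧸ 𝔣]
        Disc.Omega A (MvPolynomial (Fin n) A ⧸ 𝔣),
      e (Ideal.Quotient.mk 𝔣
        (Matrix.det (Matrix.of fun i j : Fin n => MvPolynomial.pderiv j (f i)))) =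
        Disc.Omega.trace A (MvPolynomial (Fin n) A ⧸ 𝔣) := by
  classical
  obtain ⟨c, hc⟩ := exists_bez f
  let π := Ideal.Quotient.mkₐ A 𝔣
  have hπsurj : Function.Surjective π := Ideal.Quotient.mkₐ_surjective A 𝔣
  have hπf : ∀ i, π (f i) = 0 := fun i =>
    Ideal.Quotient.eq_zero_iff_mem.mpr (by rw [h𝔣]; exact Ideal.subset_span ⟨i, rfl⟩)
  let ππ := Algebra.TensorProduct.map π π
  let Δ := ππ c.det
  -- Δ kills the kernel of multiplication
  have hππdd : ∀ p, ππ (dd p) = π p ⊗ₜ[A] 1 - 1 ⊗ₜ[A] π p := by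
    intro p
    simp only [dd, map_sub, ππ, Algebra.TensorProduct.map_tmul, map_one]
  have hgkill : ∀ j, Δ * ππ (dd (X j)) = 0 := by
    intro j
    have h1 := cramer_mem c (fun j => dd (X j : MvPolynomial (Fin n) A)) (fun i => dd (f i)) hc j
    have h2 := congrArg ππ h1
    rw [map_mul, map_sum] at h2
    show ππ c.det * ππ (dd (X j)) = 0
    rw [h2]
    refine Finset.sum_eq_zero (fun i _ => ?_)
    rw [map_mul, hππdd, hπf, TensorProduct.zero_tmul, TensorProduct.tmul_zero, sub_zero, mul_zero]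
  have hkill : ∀ b, (b ⊗ₜ[A] 1 - 1 ⊗ₜ[A] b) * Δ = 0 := by
    intro b
    obtain ⟨p, rfl⟩ := hπsurj b
    rw [← hππdd]
    obtain ⟨a, ha⟩ := Ideal.mem_span_range_iff_exists_fun.mp (dd_mem p)
    rw [← ha, map_sum, Finset.sum_mul]
    refine Finset.sum_eq_zero (fun j _ => ?_)
    rw [map_mul, mul_assoc, mul_comm (ππ (dd (X j))), hgkill j, mul_zero]
  -- μ(Δ) = π J
  have hμ : Algebra.TensorProduct.lmul' A Δ =
      π (Matrix.det (Matrix.of fun i j : Fin n => MvPolynomial.pderiv j (f i))) := by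
    have h1 : ∀ z, Algebra.TensorProduct.lmul' A (ππ z) = π (Algebra.TensorProduct.lmul' A z) := by
      intro z
      induction z using TensorProduct.induction_on with
      | zero => simp
      | tmul p p' =>
        simp only [ππ, Algebra.TensorProduct.map_tmul, Algebra.TensorProduct.lmul'_apply_tmul,
          map_mul]
      | add z w hz hw => simp only [map_add, hz, hw]
    show Algebra.TensorProduct.lmul' A (ππ c.det) = _
    rw [h1]
    congr 1
    have h2 : (Algebra.TensorProduct.lmul' A :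
        MvPolynomial (Fin n) A ⊗[A] MvPolynomial (Fin n) A →ₐ[A] MvPolynomial (Fin n) A).mapMatrix c =
        Matrix.of fun i j : Fin n => MvPolynomial.pderiv j (f i) :=
      Matrix.ext (fun i j => lmul_bez f c hc i j)
    rw [← h2, ← AlgHom.map_det]
  -- integrality
  have hint : ∀ j, ∃ Q : Polynomial A, Q.Monic ∧
      Polynomial.aeval (X j : MvPolynomial (Fin n) A) Q ∈ 𝔣 := by
    intro j
    obtain ⟨Q, hQm, hQ⟩ := Algebra.IsIntegral.isIntegral (R := A) (π (X j))
    refine ⟨Q, hQm, ?_⟩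
    rw [← Polynomial.aeval_def, Polynomial.aeval_algHom_apply] at hQ
    exact Ideal.Quotient.eq_zero_iff_mem.mp hQ
  -- surjectivity of theta
  have hlin := theta_lin Δ hkill
  have hone : ∃ τ : (MvPolynomial (Fin n) A ⧸ 𝔣) →ₗ[A] A,
      theta (MvPolynomial (Fin n) A ⧸ 𝔣) Δ τ = 1 := by
    let 𝔞 : Ideal (MvPolynomial (Fin n) A ⧸ 𝔣) :=
      { carrier := Set.range (theta (MvPolynomial (Fin n) A ⧸ 𝔣) Δ)
        add_mem' := by
          rintro _ _ ⟨l, rfl⟩ ⟨l', rfl⟩
          exact ⟨l + l', map_add _ _ _⟩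
        zero_mem' := ⟨0, map_zero _⟩
        smul_mem' := by
          rintro b _ ⟨l, rfl⟩
          exact ⟨l ∘ₗ LinearMap.mulLeft A b, by rw [hlin]; rfl⟩ }
    by_contra hno
    have h𝔞 : 𝔞 ≠ ⊤ := by
      intro htop
      have h1 : (1 : MvPolynomial (Fin n) A ⧸ 𝔣) ∈ 𝔞 := by rw [htop]; trivial
      obtain ⟨τ, hτ⟩ := h1
      exact hno ⟨τ, hτ⟩
    have hnt : Nontrivial ((MvPolynomial (Fin n) A ⧸ 𝔣) ⧸ 𝔞) :=
      Ideal.Quotient.nontrivial_iff.mpr h𝔞
    let q := Ideal.Quotient.mkₐ A 𝔞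
    have hne := delta_ne_zero A n f 𝔣 h𝔣 c hc hint ((MvPolynomial (Fin n) A ⧸ 𝔣) ⧸ 𝔞) q
    apply hne
    let 𝔟 := Module.Free.chooseBasis A (MvPolynomial (Fin n) A ⧸ 𝔣)
    rw [expand 𝔟 ((MvPolynomial (Fin n) A ⧸ 𝔣) ⧸ 𝔞) (Algebra.TensorProduct.map q
      (AlgHom.id A (MvPolynomial (Fin n) A ⧸ 𝔣)) (Algebra.TensorProduct.map π π c.det))]
    refine Finset.sum_eq_zero (fun i _ => ?_)
    rw [theta_map]
    have h2 : q (theta (MvPolynomial (Fin n) A ⧸ 𝔣) (Algebra.TensorProduct.map π π c.det)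
        (𝔟.coord i)) = 0 :=
      Ideal.Quotient.eq_zero_iff_mem.mpr ⟨𝔟.coord i, rfl⟩
    rw [h2, TensorProduct.zero_tmul]
  obtain ⟨τ, hτ⟩ := hone
  have hsec : ∀ b, theta (MvPolynomial (Fin n) A ⧸ 𝔣) Δ (τ ∘ₗ LinearMap.mulLeft A b) = b := by
    intro b; rw [hlin, hτ, mul_one]
  have hsurj : Function.Surjective (theta (MvPolynomial (Fin n) A ⧸ 𝔣) Δ) :=
    fun b => ⟨_, hsec b⟩
  have hinj : Function.Injective (theta (MvPolynomial (Fin n) A ⧸ 𝔣) Δ) := by
    let 𝔟 := Module.Free.chooseBasis A (MvPolynomial (Fin n) A ⧸ 𝔣)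
    let eD := 𝔟.toDualEquiv
    let g : (MvPolynomial (Fin n) A ⧸ 𝔣) →ₗ[A] (MvPolynomial (Fin n) A ⧸ 𝔣) :=
      (theta (MvPolynomial (Fin n) A ⧸ 𝔣) Δ) ∘ₗ eD.toLinearMap
    have hg : Function.Surjective g := by
      intro b
      obtain ⟨l, hl⟩ := hsurj b
      exact ⟨eD.symm l, by simp [g, hl]⟩
    have hgi := OrzechProperty.injective_of_surjective_endomorphism g hg
    intro x y hxy
    have h1 : g (eD.symm x) = g (eD.symm y) := by simp [g, hxy]
    have h2 := hgi h1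
    exact eD.symm.injective h2
  -- the equivalence
  let τΩ : Disc.Omega A (MvPolynomial (Fin n) A ⧸ 𝔣) := ⟨τ⟩
  have hsmul : ∀ b : MvPolynomial (Fin n) A ⧸ 𝔣,
      (b • τΩ).toLinearMap = τ ∘ₗ LinearMap.mulLeft A b := fun b => rfl
  let e₀ : (MvPolynomial (Fin n) A ⧸ 𝔣) →ₗ[MvPolynomial (Fin n) A ⧸ 𝔣]
      Disc.Omega A (MvPolynomial (Fin n) A ⧸ 𝔣) :=
    LinearMap.toSpanSingleton _ _ τΩ
  have he₀ : ∀ b, e₀ b = b • τΩ := fun b => rfl
  have hbij : Function.Bijective e₀ := by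
    constructor
    · intro b b' hbb
      rw [he₀, he₀] at hbb
      have h1 := congrArg Disc.Omega.toLinearMap hbb
      rw [hsmul, hsmul] at h1
      have h2 := congrArg (theta (MvPolynomial (Fin n) A ⧸ 𝔣) Δ) h1
      rwa [hsec, hsec] at h2
    · intro ω₀
      refine ⟨theta (MvPolynomial (Fin n) A ⧸ 𝔣) Δ ω₀.toLinearMap, ?_⟩
      rw [he₀]
      apply Disc.Omega.ext
      rw [hsmul]
      apply hinj
      rw [hsec]
  refine ⟨LinearEquiv.ofBijective e₀ hbij, ?_⟩
  rw [LinearEquiv.ofBijective_apply, he₀]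
  apply Disc.Omega.ext
  rw [hsmul]
  apply hinj
  rw [hsec]
  show _ = theta (MvPolynomial (Fin n) A ⧸ 𝔣) Δ (Algebra.trace A (MvPolynomial (Fin n) A ⧸ 𝔣))
  rw [theta_trace Δ hkill, hμ]
  rfl

theorem tate [Module.Finite A (MvPolynomial (Fin n) A ⧸ Ideal.span (Set.range f))]
    [Module.Free A (MvPolynomial (Fin n) A ⧸ Ideal.span (Set.range f))] :
    ∃ e : (MvPolynomial (Fin n) A ⧸ Ideal.span (Set.range f)) ≃ₗ[MvPolynomial (Fin n) A ⧸
        Ideal.span (Set.range f)] Disc.Omega A (MvPolynomial (Fin n) A ⧸ Ideal.span (Set.range f)),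
      e (Ideal.Quotient.mk (Ideal.span (Set.range f))
        (Matrix.det (Matrix.of fun i j : Fin n => MvPolynomial.pderiv j (f i)))) =
        Disc.Omega.trace A (MvPolynomial (Fin n) A ⧸ Ideal.span (Set.range f)) :=
  tate_aux A n f _ rfl

end main

end Groth.Agent.H72.Tate
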