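import Mathlib
import Groth.Prelude.Def_Disc
import Groth.Prelude.Def_QFDual
import Groth.Prelude.Def_RegImm
import Groth.Agent.H13.FinSyntMain
import Groth.Agent.H13.OmegaBC
import Groth.Agent.H34.Fitting
import Groth.Agent.H34.Fitting3
import Groth.Agent.H64.JacFitt
import Groth.Agent.Lead.SyntLocal
import Groth.Agent.H72.Tate2

/-!
# The different of a finite free syntomic algebra is the Kähler different (helper72)

For `A → B` finite free and syntomic, `QFDual.different B (Disc.Omega.trace A B)` equals
`Fitt.ideal B Ω[B⁄A] 0`.  Locally on `A` (at every prime), `B` has a square presentation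
`A[x_1..x_n]/(f_1..f_n)` (helper13's `FinSyntMain`), for which Tate's theorem (`H72.Tate.tate`)
identifies the different with the ideal generated by the Jacobian determinant, which is also the
zeroth Fitting ideal of the differentials (`H64.JacFitt`).  Both ideals commute with the flat base
change `A → A_p` (`H13.OmegaBC.map_different_eq_of_flat`, `H34.Fit.fittIdeal_baseChange`).
-/

set_option autoImplicit false
universe u

open TensorProduct

namespace Groth.Agent.H72.DiffFitt

/-- `Disc.differentSet` is the underlying set of `QFDual.different` at the trace element. -/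
theorem differentSet_eq (A B : Type u) [CommRing A] [CommRing B] [Algebra A B] [Module.Free A B]
    [Module.Finite A B] :
    Disc.differentSet A B = (QFDual.different B (Disc.Omega.trace A B) : Set B) := by
  ext b
  rw [SetLike.mem_coe, QFDual.mem_different_iff]
  constructor
  · intro h m
    have h' : ∀ φ : B →ₗ[A] A, ∃ c : B, ∀ x : B, φ (b * x) = Algebra.trace A B (c * x) := h
    obtain ⟨c, hc⟩ := h' m.toLinearMap
    refine ⟨c, ?_⟩
    apply Disc.Omega.ext
    apply LinearMap.ext
    intro x
    rw [Disc.Omega.smul_toLinearMap_apply, Disc.Omega.smul_toLinearMap_apply]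
    exact (hc x).symm
  · intro h
    change ∀ φ : B →ₗ[A] A, ∃ c : B, ∀ x : B, φ (b * x) = Algebra.trace A B (c * x)
    intro φ
    obtain ⟨c, hc⟩ := h ⟨φ⟩
    refine ⟨c, fun x => ?_⟩
    have h1 := congrArg (fun w : Disc.Omega A B => w.toLinearMap x) hc
    simp only [Disc.Omega.smul_toLinearMap_apply] at h1
    exact h1.symm

/-- If `M` is free of rank one on a generator corresponding to `1`, and `τ` corresponds to `d`,
then the different of `τ` is `(d)`. -/
theorem different_eq_span {R : Type*} [CommRing R] {M : Type*} [AddCommGroup M] [Module R M]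
    (e : R ≃ₗ[R] M) (d : R) (τ : M) (he : e d = τ) :
    QFDual.different R τ = Ideal.span {d} := by
  ext r
  rw [QFDual.mem_different_iff, Ideal.mem_span_singleton']
  constructor
  · intro h
    obtain ⟨c, hc⟩ := h (e 1)
    refine ⟨c, ?_⟩
    apply e.injective
    have h1 : e (c * d) = c • e d := by rw [← smul_eq_mul, map_smul]
    have h2 : e r = r • e 1 := by rw [← map_smul, smul_eq_mul, mul_one]
    rw [h1, h2, he, hc]
  · rintro ⟨c, rfl⟩ m
    refine ⟨c * e.symm m, ?_⟩
    have h1 : (c * e.symm m) • τ = e ((c * e.symm m) * d) := by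
      rw [← he, ← map_smul, smul_eq_mul]
    have h2 : (c * d) • m = e ((c * d) * e.symm m) := by
      have h3 : e ((c * d) * e.symm m) = (c * d) • e (e.symm m) := by
        rw [← map_smul, smul_eq_mul]
      rw [h3, e.apply_symm_apply]
    rw [h1, h2]
    congr 1
    ring

/-- The zeroth Fitting ideal of the differentials of a square presentation is generated by the
Jacobian determinant (all `n`, including `n = 0`). -/
theorem fitt_gci (A : Type u) [CommRing A] (n : ℕ) (f : Fin n → MvPolynomial (Fin n) A) :
    Fitt.ideal (MvPolynomial (Fin n) A ⧸ Ideal.span (Set.range f))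
      (KaehlerDifferential A (MvPolynomial (Fin n) A ⧸ Ideal.span (Set.range f))) 0 =
    Ideal.span {Ideal.Quotient.mk (Ideal.span (Set.range f))
      (Matrix.det (Matrix.of fun i j : Fin n => MvPolynomial.pderiv j (f i)))} := by
  rw [Groth.Agent.H34.Fit.fittIdeal_eq_D
    (fun j : Fin n => KaehlerDifferential.D A (MvPolynomial (Fin n) A ⧸ Ideal.span (Set.range f))
      (Ideal.Quotient.mk (Ideal.span (Set.range f)) (MvPolynomial.X j)))
    (Groth.Agent.H64.JacFitt.span_eq_top _) 0]
  exact Groth.Agent.H64.JacFitt.D_eq f

/-- For a finite free square presentation, the different is the Kähler different. -/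
theorem different_eq_fitt_gci (A : Type u) [CommRing A] (n : ℕ)
    (f : Fin n → MvPolynomial (Fin n) A)
    [Module.Finite A (MvPolynomial (Fin n) A ⧸ Ideal.span (Set.range f))]
    [Module.Free A (MvPolynomial (Fin n) A ⧸ Ideal.span (Set.range f))] :
    QFDual.different (MvPolynomial (Fin n) A ⧸ Ideal.span (Set.range f))
        (Disc.Omega.trace A (MvPolynomial (Fin n) A ⧸ Ideal.span (Set.range f))) =
      Fitt.ideal (MvPolynomial (Fin n) A ⧸ Ideal.span (Set.range f))
        (KaehlerDifferential A (MvPolynomial (Fin n) A ⧸ Ideal.span (Set.range f))) 0 := by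
  obtain ⟨e, he⟩ := Groth.Agent.H72.Tate.tate A n f
  rw [fitt_gci A n f, different_eq_span e _ _ he]

/-- Base change of the Kähler different along a pushout square. -/
theorem fitt_map {A A' B Q : Type u} [CommRing A] [CommRing A'] [CommRing B] [CommRing Q]
    [Algebra A B] [Algebra A A'] [Algebra B Q] [Algebra A' Q] [Algebra A Q] [IsScalarTower A A' Q]
    [IsScalarTower A B Q] (hpo : Algebra.IsPushout A A' B Q) [Module.Finite B (Ω[B⁄A])] :
    (Fitt.ideal B (Ω[B⁄A]) 0).map (algebraMap B Q) = Fitt.ideal Q (Ω[Q⁄A']) 0 := by
  haveI := hpo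
  rw [← Groth.Agent.H34.Fit.fittIdeal_baseChange Q 0]
  let E : Q ⊗[B] Ω[B⁄A] ≃ₗ[Q] Ω[Q⁄A'] := KaehlerDifferential.tensorKaehlerEquiv A A' B Q
  exact le_antisymm
    (Groth.Agent.H34.Fit.fittIdeal_le_of_surjective E.toLinearMap E.surjective 0)
    (Groth.Agent.H34.Fit.fittIdeal_le_of_surjective E.symm.toLinearMap E.symm.surjective 0)

/-- Transport of "different = Kähler different" along an algebra isomorphism. -/
theorem different_eq_fitt_of_equiv {A' G T : Type u} [CommRing A'] [CommRing G] [CommRing T]
    [Algebra A' G] [Algebra A' T] [Module.Finite A' G] [Module.Free A' G] [Module.Finite A' T]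
    [Module.Free A' T] (e : T ≃ₐ[A'] G)
    (hG : QFDual.different G (Disc.Omega.trace A' G) = Fitt.ideal G (Ω[G⁄A']) 0) :
    QFDual.different T (Disc.Omega.trace A' T) = Fitt.ideal T (Ω[T⁄A']) 0 := by
  letI : Algebra G T := (e.symm : G →+* T).toAlgebra
  haveI : IsScalarTower A' G T :=
    IsScalarTower.of_algebraMap_eq (fun a => (e.symm.commutes a).symm)
  have hbij : Function.Bijective (algebraMap G T) := e.symm.bijective
  have hpo : Algebra.IsPushout A' A' G T := (Algebra.IsPushout.of_bijective_right G T hbij).symm
  rw [← H13.OmegaBC.map_different_eq_of_flat hpo, ← fitt_map hpo, hG]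

/-- Syntomic maps localize at a prime of the base. -/
theorem isSyntomic_localization {A B : Type u} [CommRing A] [CommRing B] [Algebra A B]
    (p : Ideal A) [p.IsPrime] (A' T : Type u) [CommRing A'] [CommRing T] [Algebra A A']
    [Algebra A' T] [Algebra B T] [Algebra A T] [IsScalarTower A A' T] [IsScalarTower A B T]
    [IsLocalization.AtPrime A' p]
    [IsLocalization (Algebra.algebraMapSubmonoid B p.primeCompl) T]
    (h : Synt.IsSyntomic A B) : Synt.IsSyntomic A' T := by
  obtain ⟨hflat, hfp, hfib⟩ := h
  haveI := hflat
  haveI := hfp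
  haveI hpo : Algebra.IsPushout A B A' T :=
    Algebra.isPushout_of_isLocalization p.primeCompl A' B T
  haveI hpo' : Algebra.IsPushout A A' B T := hpo.symm
  refine ⟨?_, ?_, ?_⟩
  · exact Module.Flat.isBaseChange (R := A) (S := A') (M := B) T hpo'.out
  · exact Algebra.FinitePresentation.equiv (Algebra.IsPushout.equiv A A' B T)
  · intro p'
    have hsurj := RingHom.surjectiveOnStalks_of_isLocalization p.primeCompl A'
    exact Groth.Agent.Lead.SyntLocal.isLCIOver_fiber_baseChange (R := A) (S := B) p'.asIdeal
      (hsurj.residueFieldMap_bijective _ p'.asIdeal rfl)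
      (hfib ⟨p'.asIdeal.comap (algebraMap A A'), inferInstance⟩)

/-- The local statement: after localizing at a prime of `A`, the two ideals agree. -/
theorem local_eq {A B : Type u} [CommRing A] [CommRing B] [Algebra A B] [Module.Finite A B]
    [Module.Free A B] (p : Ideal A) [p.IsPrime] (A' T : Type u) [CommRing A'] [CommRing T]
    [Algebra A A'] [Algebra A' T] [Algebra B T] [Algebra A T] [IsScalarTower A A' T]
    [IsScalarTower A B T] [IsLocalization.AtPrime A' p]
    [IsLocalization (Algebra.algebraMapSubmonoid B p.primeCompl) T]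
    (h : Synt.IsSyntomic A B) :
    (QFDual.different B (Disc.Omega.trace A B)).map (algebraMap B T) =
      (Fitt.ideal B (Ω[B⁄A]) 0).map (algebraMap B T) := by
  classical
  haveI : IsLocalRing A' := IsLocalization.AtPrime.isLocalRing A' p
  have hpo : Algebra.IsPushout A A' B T :=
    (Algebra.isPushout_of_isLocalization p.primeCompl A' B T).symm
  haveI : Module.Flat A A' := IsLocalization.flat A' p.primeCompl
  let bT := H13.OmegaBC.basis' hpo (Module.Free.chooseBasis A B)
  haveI : Module.Finite A' T := Module.Finite.of_basis bT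
  haveI : Module.Free A' T := Module.Free.of_basis bT
  have hsynt : Synt.IsSyntomic A' T := isSyntomic_localization p A' T h
  obtain ⟨n, F, ⟨e⟩⟩ := Groth.Agent.H13.FinSyntMain.exists_square_of_isSyntomic A' T hsynt
  haveI : Module.Finite A' (Synt.RelGCIRing A' n n F) := Module.Finite.equiv e.toLinearEquiv
  haveI : Module.Free A' (Synt.RelGCIRing A' n n F) := Module.Free.of_equiv e.toLinearEquiv
  have hT := different_eq_fitt_of_equiv e (different_eq_fitt_gci A' n F)
  rw [H13.OmegaBC.map_different_eq_of_flat hpo, fitt_map hpo, hT]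

/-- Local-global principle for inclusion of ideals of an `A`-algebra, over maximal ideals of `A`. -/
theorem le_of_local {A B : Type*} [CommRing A] [CommRing B] [Algebra A B] (I J : Ideal B)
    (h : ∀ (m : Ideal A) [m.IsMaximal], ∀ x ∈ I, ∃ s ∈ m.primeCompl, algebraMap A B s * x ∈ J) :
    I ≤ J := by
  intro x hx
  by_contra hxJ
  have h𝔞 : (J.colon {x}).comap (algebraMap A B) ≠ ⊤ := by
    intro htop
    have h1 : (1 : A) ∈ (J.colon {x}).comap (algebraMap A B) := by
      rw [htop]; exact Submodule.mem_top
    rw [Ideal.mem_comap, map_one, Submodule.mem_colon_singleton, one_smul] at h1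
    exact hxJ h1
  obtain ⟨m, hm, hle⟩ := Ideal.exists_le_maximal _ h𝔞
  haveI := hm
  obtain ⟨s, hs, hsx⟩ := h m x hx
  have hs' : s ∉ m := hs
  apply hs'
  apply hle
  rw [Ideal.mem_comap, Submodule.mem_colon_singleton, smul_eq_mul]
  exact hsx

/-- Two ideals with the same extension to all localizations over maximal ideals of the base. -/
theorem le_of_map_localization_eq {A B : Type u} [CommRing A] [CommRing B] [Algebra A B]
    (I J : Ideal B)
    (h : ∀ (m : Ideal A) [m.IsMaximal],
      I.map (algebraMap B (Localization (Algebra.algebraMapSubmonoid B m.primeCompl))) =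
      J.map (algebraMap B (Localization (Algebra.algebraMapSubmonoid B m.primeCompl)))) :
    I ≤ J := by
  refine le_of_local (A := A) I J ?_
  intro m hm x hx
  have h1 : algebraMap B (Localization (Algebra.algebraMapSubmonoid B m.primeCompl)) x ∈
      J.map (algebraMap B (Localization (Algebra.algebraMapSubmonoid B m.primeCompl))) := by
    rw [← h m]
    exact Ideal.mem_map_of_mem _ hx
  rw [IsLocalization.algebraMap_mem_map_algebraMap_iff
    (Algebra.algebraMapSubmonoid B m.primeCompl)] at h1
  obtain ⟨_, ⟨s, hs, rfl⟩, hsx⟩ := h1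
  exact ⟨s, hs, hsx⟩

/-- **Different = Kähler different** for a finite free syntomic algebra. -/
theorem different_eq_fitt (A B : Type u) [CommRing A] [CommRing B] [Algebra A B]
    [Module.Finite A B] [Module.Free A B] (h : Synt.IsSyntomic A B) :
    QFDual.different B (Disc.Omega.trace A B) = Fitt.ideal B (Ω[B⁄A]) 0 := by
  have hloc : ∀ (m : Ideal A) [m.IsMaximal],
      (QFDual.different B (Disc.Omega.trace A B)).map
        (algebraMap B (Localization (Algebra.algebraMapSubmonoid B m.primeCompl))) =
      (Fitt.ideal B (Ω[B⁄A]) 0).map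
        (algebraMap B (Localization (Algebra.algebraMapSubmonoid B m.primeCompl))) := by
    intro m hm
    exact local_eq m (Localization.AtPrime m)
      (Localization (Algebra.algebraMapSubmonoid B m.primeCompl)) h
  exact le_antisymm (le_of_map_localization_eq _ _ hloc)
    (le_of_map_localization_eq _ _ (fun m hm => (hloc m).symm))

end Groth.Agent.H72.DiffFitt
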