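import Groth.Agent.H72.ExtType
import Groth.Agent.S5671
import Mathlib.Algebra.Module.Torsion.Basic

/-!
# `Ext^p(M, A) ≅ Hom(M, Ext^p(A/J, A))` for modules killed by `J` (regular local `A`)

* `pb`: pullback on `Ext` as a linear map in the morphism.
* `main`: the statement, for `dim A/J + p ≤ dim A`.
-/

set_option autoImplicit false
universe u

namespace Groth.Agent.H72.ExtHom

open CategoryTheory Abelian IsLocalRing Module Groth.Agent.H72.PdLocal Groth.Agent.H72.PdExt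

section PB

variable {A : Type u} [CommRing A] (Y : ModuleCat.{u} A) (p : ℕ)

/-- Pullback of `Ext` classes along a linear map, linear in the map. -/
noncomputable def pb {N' N : Type u} [AddCommGroup N'] [Module A N'] [AddCommGroup N] [Module A N] :
    (N' →ₗ[A] N) →ₗ[A]
      Ext.{u} (ModuleCat.of A N) Y p →ₗ[A] Ext.{u} (ModuleCat.of A N') Y p where
  toFun u := Ext.precompOfLinear (Ext.mk₀ (ModuleCat.ofHom u)) A Y (zero_add p)
  map_add' u v := by
    refine LinearMap.ext fun ξ => ?_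
    show (Ext.mk₀ (ModuleCat.ofHom (u + v))).comp ξ (zero_add p) =
      (Ext.mk₀ (ModuleCat.ofHom u)).comp ξ (zero_add p) +
        (Ext.mk₀ (ModuleCat.ofHom v)).comp ξ (zero_add p)
    rw [ModuleCat.ofHom_add, Ext.mk₀_add, Ext.add_comp]
  map_smul' c u := by
    refine LinearMap.ext fun ξ => ?_
    show (Ext.mk₀ (ModuleCat.ofHom (c • u))).comp ξ (zero_add p) =
      c • (Ext.mk₀ (ModuleCat.ofHom u)).comp ξ (zero_add p)
    have h1 : ModuleCat.ofHom (c • u) = c • ModuleCat.ofHom u := rfl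
    rw [h1, Ext.mk₀_smul, Ext.smul_comp]

variable {N'' N' N : Type u} [AddCommGroup N''] [Module A N''] [AddCommGroup N'] [Module A N']
  [AddCommGroup N] [Module A N]

lemma pb_apply (u : N' →ₗ[A] N) (ξ : Ext.{u} (ModuleCat.of A N) Y p) :
    pb Y p u ξ = (Ext.mk₀ (ModuleCat.ofHom u)).comp ξ (zero_add p) := rfl

lemma pb_id (ξ : Ext.{u} (ModuleCat.of A N) Y p) : pb Y p (LinearMap.id : N →ₗ[A] N) ξ = ξ := by
  rw [pb_apply, ModuleCat.ofHom_id, Ext.mk₀_id_comp]

lemma pb_comp (u : N' →ₗ[A] N) (v : N'' →ₗ[A] N') (ξ : Ext.{u} (ModuleCat.of A N) Y p) :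
    pb Y p (u ∘ₗ v) ξ = pb Y p v (pb Y p u ξ) := by
  rw [pb_apply, pb_apply, pb_apply, ModuleCat.ofHom_comp, Ext.mk₀_comp_mk₀_assoc]

end PB

section Quot

variable {A : Type u} [CommRing A] (J : Ideal A)

lemma smul_one_eq_mk (a : A) : a • (1 : A ⧸ J) = Ideal.Quotient.mk J a := by
  rw [Algebra.smul_def, mul_one]
  rfl

lemma smul_eq_zero_of_mem {a : A} (ha : a ∈ J) (y : A ⧸ J) : a • y = 0 := by
  rw [Algebra.smul_def, Ideal.Quotient.algebraMap_eq, Ideal.Quotient.eq_zero_iff_mem.mpr ha,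
    zero_mul]

lemma hom_ext_one {N : Type u} [AddCommGroup N] [Module A N] {u v : (A ⧸ J) →ₗ[A] N}
    (h : u 1 = v 1) : u = v := by
  refine LinearMap.ext fun c => ?_
  obtain ⟨a, rfl⟩ := Ideal.Quotient.mk_surjective c
  rw [← smul_one_eq_mk, map_smul, map_smul, h]

/-- A chosen lift of an element of `A/J`. -/
noncomputable def lift (c : A ⧸ J) : A := (Ideal.Quotient.mk_surjective c).choose

lemma mk_lift (c : A ⧸ J) : Ideal.Quotient.mk J (lift J c) = c :=
  (Ideal.Quotient.mk_surjective c).choose_spec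

lemma endo_eq_smul_id (v : (A ⧸ J) →ₗ[A] (A ⧸ J)) : v = lift J (v 1) • LinearMap.id := by
  apply hom_ext_one J
  rw [LinearMap.smul_apply, LinearMap.id_apply, smul_one_eq_mk, mk_lift]

lemma comp_endo {N : Type u} [AddCommGroup N] [Module A N] (h : (A ⧸ J) →ₗ[A] N)
    (v : (A ⧸ J) →ₗ[A] (A ⧸ J)) : h ∘ₗ v = lift J (v 1) • h := by
  conv_lhs => rw [endo_eq_smul_id J v]
  rw [LinearMap.comp_smul, LinearMap.comp_id]

lemma smul_top_eq_bot_iff {N : Type u} [AddCommGroup N] [Module A N] :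
    J • (⊤ : Submodule A N) = ⊥ ↔ ∀ a ∈ J, ∀ n : N, a • n = 0 := by
  rw [← le_bot_iff, Submodule.smul_le]
  constructor
  · intro h a ha n
    exact (Submodule.mem_bot A).mp (h a ha n Submodule.mem_top)
  · intro h a ha n _
    exact (Submodule.mem_bot A).mpr (h a ha n)

lemma exists_pres (N : Type u) [AddCommGroup N] [Module A N] [Module.Finite A N]
    (hJN : J • (⊤ : Submodule A N) = ⊥) :
    ∃ (b : ℕ) (β : (Fin b → A ⧸ J) →ₗ[A] N), Function.Surjective β := by
  have htors : Module.IsTorsionBySet A N (J : Set A) := fun n a =>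
    (smul_top_eq_bot_iff J).mp hJN a.1 a.2 n
  letI : Module (A ⧸ J) N := htors.module
  haveI : IsScalarTower A (A ⧸ J) N := htors.isScalarTower
  haveI : Module.Finite (A ⧸ J) N := Module.Finite.of_restrictScalars_finite A (A ⧸ J) N
  obtain ⟨b, f, hf⟩ := Module.Finite.exists_fin' (A ⧸ J) N
  exact ⟨b, f.restrictScalars A, hf⟩

lemma exists_lift {F N : Type u} [AddCommGroup F] [Module A F] [AddCommGroup N] [Module A N]
    (hJF : ∀ a ∈ J, ∀ f : F, a • f = 0) (β : F →ₗ[A] N) (hβ : Function.Surjective β)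
    (u : (A ⧸ J) →ₗ[A] N) : ∃ ũ : (A ⧸ J) →ₗ[A] F, β ∘ₗ ũ = u := by
  obtain ⟨f, hf⟩ := hβ (u 1)
  have hker : J ≤ LinearMap.ker (LinearMap.toSpanSingleton A F f) := by
    intro a ha
    rw [LinearMap.mem_ker, LinearMap.toSpanSingleton_apply]
    exact hJF a ha f
  refine ⟨J.liftQ (LinearMap.toSpanSingleton A F f) hker, ?_⟩
  apply hom_ext_one J
  show β (J.liftQ (LinearMap.toSpanSingleton A F f) hker (Submodule.Quotient.mk (1 : A))) = u 1
  rw [Submodule.liftQ_apply, LinearMap.toSpanSingleton_apply, one_smul, hf]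

variable (Y : ModuleCat.{u} A) (p : ℕ)

lemma pb_endo (v : (A ⧸ J) →ₗ[A] (A ⧸ J)) (η : Ext.{u} (ModuleCat.of A (A ⧸ J)) Y p) :
    pb Y p v η = lift J (v 1) • η := by
  conv_lhs => rw [endo_eq_smul_id J v]
  rw [map_smul, LinearMap.smul_apply, pb_id]

lemma sum_single_comp_proj (b : ℕ) :
    ∑ j, (LinearMap.single A (fun _ : Fin b => A ⧸ J) j).comp (LinearMap.proj j) =
      LinearMap.id := by
  rw [← LinearMap.lsum_apply A (fun _ : Fin b => A ⧸ J) A, LinearMap.lsum_single]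

lemma eq_zero_of_forall_single (b : ℕ) (ζ : Ext.{u} (ModuleCat.of A (Fin b → A ⧸ J)) Y p)
    (h : ∀ j, pb Y p (LinearMap.single A (fun _ : Fin b => A ⧸ J) j) ζ = 0) : ζ = 0 := by
  have h1 : pb Y p (LinearMap.id : (Fin b → A ⧸ J) →ₗ[A] (Fin b → A ⧸ J)) ζ = ζ := pb_id Y p ζ
  rw [← h1, ← sum_single_comp_proj J b, map_sum, LinearMap.sum_apply]
  refine Finset.sum_eq_zero fun j _ => ?_
  rw [pb_comp, h j, map_zero]

lemma pb_sum_proj {N : Type u} [AddCommGroup N] [Module A N] (b : ℕ)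
    (β : (Fin b → A ⧸ J) →ₗ[A] N)
    (g : ((A ⧸ J) →ₗ[A] N) →ₗ[A] Ext.{u} (ModuleCat.of A (A ⧸ J)) Y p)
    (w : (A ⧸ J) →ₗ[A] (Fin b → A ⧸ J)) :
    pb Y p w (∑ j, pb Y p (LinearMap.proj j : (Fin b → A ⧸ J) →ₗ[A] A ⧸ J)
      (g (β ∘ₗ LinearMap.single A (fun _ : Fin b => A ⧸ J) j))) = g (β ∘ₗ w) := by
  have hw : β ∘ₗ w = ∑ j, lift J (((LinearMap.proj j : (Fin b → A ⧸ J) →ₗ[A] A ⧸ J) ∘ₗ w) 1) •
      (β ∘ₗ LinearMap.single A (fun _ : Fin b => A ⧸ J) j) := by
    calc β ∘ₗ w = β ∘ₗ ((∑ j, (LinearMap.single A (fun _ : Fin b => A ⧸ J) j).comp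
          (LinearMap.proj j)) ∘ₗ w) := by rw [sum_single_comp_proj, LinearMap.id_comp]
      _ = ∑ j, (β ∘ₗ LinearMap.single A (fun _ : Fin b => A ⧸ J) j) ∘ₗ
          ((LinearMap.proj j : (Fin b → A ⧸ J) →ₗ[A] A ⧸ J) ∘ₗ w) := by
        refine LinearMap.ext fun c => ?_
        simp only [LinearMap.comp_apply, LinearMap.sum_apply, map_sum]
      _ = _ := Finset.sum_congr rfl fun j _ => comp_endo J _ _
  rw [hw, map_sum, map_sum]
  refine Finset.sum_congr rfl fun j _ => ?_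
  rw [← pb_comp, pb_endo, map_smul]

end Quot

section Regular

variable (A : Type u) [CommRing A] [IsRegularLocalRing A] (p : ℕ) (J : Ideal A)
  (hJ : ringKrullDim (A ⧸ J) + p ≤ ringKrullDim A)

include hJ

lemma ext_vanish {N : Type u} [AddCommGroup N] [Module A N] [Module.Finite A N]
    (hJN : J • (⊤ : Submodule A N) = ⊥) (i : ℕ) (hi : i < p) :
    Subsingleton (Ext.{u} (ModuleCat.of A N) (ModuleCat.of A A) i) := by
  refine Groth.Agent.S5671.result A N p ?_ i hi
  have h1 : Module.supportDim A N ≤ ringKrullDim (A ⧸ J) := by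
    rw [Module.supportDim_eq_ringKrullDim_quotient_annihilator]
    have hle : J ≤ Module.annihilator A N := by
      intro a ha
      rw [Module.mem_annihilator]
      exact (smul_top_eq_bot_iff J).mp hJN a ha
    exact ringKrullDim_le_of_surjective (Ideal.Quotient.factor hle)
      (Ideal.Quotient.factor_surjective hle)
  calc Module.supportDim A N + (p : WithBot ℕ∞) ≤ ringKrullDim (A ⧸ J) + (p : WithBot ℕ∞) := by
        gcongr
    _ ≤ ringKrullDim A := hJ

lemma pb_injective_of_surjective {F N : Type u} [AddCommGroup F] [Module A F] [Module.Finite A F]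
    [AddCommGroup N] [Module A N] (hJF : J • (⊤ : Submodule A F) = ⊥) (β : F →ₗ[A] N)
    (hβ : Function.Surjective β) : Function.Injective (pb (ModuleCat.of A A) p β) := by
  rw [injective_iff_map_eq_zero]
  intro ξ hξ
  have hex : Function.Exact (LinearMap.ker β).subtype β := LinearMap.exact_subtype_ker_map β
  have hS : (ModuleCat.shortComplexOfCompEqZero (LinearMap.ker β).subtype β
      hex.linearMap_comp_eq_zero).ShortExact :=
    ModuleCat.shortComplex_shortExact _ hex (Submodule.subtype_injective _) hβ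
  have hK : J • (⊤ : Submodule A (LinearMap.ker β)) = ⊥ :=
    (smul_top_eq_bot_iff J).mpr fun a ha k =>
      Subtype.ext ((smul_top_eq_bot_iff J).mp hJF a ha k.1)
  rcases Nat.eq_zero_or_pos p with h0 | hpos
  · subst h0
    have hepi : Epi (ModuleCat.ofHom β) := hS.epi_g
    exact (Ext.precomp_mk₀_injective_of_epi (ModuleCat.of A A) (ModuleCat.ofHom β))
      (hξ.trans (map_zero ((Ext.mk₀ (ModuleCat.ofHom β)).precomp (ModuleCat.of A A)
        (zero_add 0))).symm)
  · obtain ⟨p₀, rfl⟩ : ∃ p₀, p = p₀ + 1 := ⟨p - 1, by omega⟩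
    obtain ⟨x₁, rfl⟩ := Ext.contravariant_sequence_exact₃ hS (ModuleCat.of A A) ξ hξ
      (show 1 + p₀ = p₀ + 1 by omega)
    have hsub := ext_vanish A (p₀ + 1) J hJ hK p₀ (by omega)
    rw [hsub.elim x₁ 0, Ext.comp_zero]

lemma inj_aux {N : Type u} [AddCommGroup N] [Module A N] [Module.Finite A N]
    (hJN : J • (⊤ : Submodule A N) = ⊥)
    (ξ : Ext.{u} (ModuleCat.of A N) (ModuleCat.of A A) p)
    (h : ∀ u : (A ⧸ J) →ₗ[A] N, pb (ModuleCat.of A A) p u ξ = 0) : ξ = 0 := by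
  obtain ⟨b, β, hβ⟩ := exists_pres J N hJN
  have hJF : J • (⊤ : Submodule A (Fin b → A ⧸ J)) = ⊥ :=
    (smul_top_eq_bot_iff J).mpr fun a ha f => funext fun j => smul_eq_zero_of_mem J ha (f j)
  apply pb_injective_of_surjective A p J hJ hJF β hβ
  rw [map_zero]
  apply eq_zero_of_forall_single J (ModuleCat.of A A) p b
  intro j
  rw [← pb_comp]
  exact h _

theorem main (M : Type u) [AddCommGroup M] [Module A M] [Module.Finite A M]
    (hJM : J • (⊤ : Submodule A M) = ⊥) :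
    Function.Injective (fun ξ : Ext.{u} (ModuleCat.of A M) (ModuleCat.of A A) p =>
      fun u : (A ⧸ J) →ₗ[A] M => (Ext.mk₀ (ModuleCat.ofHom u)).comp ξ (zero_add p)) ∧
    ∀ g : ((A ⧸ J) →ₗ[A] M) →ₗ[A] Ext.{u} (ModuleCat.of A (A ⧸ J)) (ModuleCat.of A A) p,
      ∃ ξ : Ext.{u} (ModuleCat.of A M) (ModuleCat.of A A) p, ∀ u : (A ⧸ J) →ₗ[A] M,
        g u = (Ext.mk₀ (ModuleCat.ofHom u)).comp ξ (zero_add p) := by
  constructor
  · intro ξ ξ' h
    rw [← sub_eq_zero]
    apply inj_aux A p J hJ hJM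
    intro u
    rw [map_sub, sub_eq_zero]
    exact congrFun h u
  · intro g
    obtain ⟨b, β, hβ⟩ := exists_pres J M hJM
    have hJF' : ∀ a ∈ J, ∀ f : (Fin b → A ⧸ J), a • f = 0 := fun a ha f =>
      funext fun j => smul_eq_zero_of_mem J ha (f j)
    have hζ := pb_sum_proj J (ModuleCat.of A A) p b β g
    have hex : Function.Exact (LinearMap.ker β).subtype β := LinearMap.exact_subtype_ker_map β
    have hS : (ModuleCat.shortComplexOfCompEqZero (LinearMap.ker β).subtype β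
        hex.linearMap_comp_eq_zero).ShortExact :=
      ModuleCat.shortComplex_shortExact _ hex (Submodule.subtype_injective _) hβ
    have hK : J • (⊤ : Submodule A (LinearMap.ker β)) = ⊥ :=
      (smul_top_eq_bot_iff J).mpr fun a ha k => Subtype.ext (hJF' a ha k.1)
    have hζK : pb (ModuleCat.of A A) p (LinearMap.ker β).subtype
        (∑ j, pb (ModuleCat.of A A) p (LinearMap.proj j : (Fin b → A ⧸ J) →ₗ[A] A ⧸ J)
          (g (β ∘ₗ LinearMap.single A (fun _ : Fin b => A ⧸ J) j))) = 0 := by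
      apply inj_aux A p J hJ hK
      intro v
      rw [← pb_comp, hζ]
      have h0 : β ∘ₗ ((LinearMap.ker β).subtype ∘ₗ v) = 0 :=
        LinearMap.ext fun c => LinearMap.mem_ker.mp (v c).2
      rw [h0, map_zero]
    obtain ⟨ξ, hξ⟩ := Ext.contravariant_sequence_exact₂ hS (ModuleCat.of A A) _ hζK
    refine ⟨ξ, fun u => ?_⟩
    obtain ⟨ũ, rfl⟩ := exists_lift J hJF' β hβ u
    rw [← hζ ũ]
    show pb (ModuleCat.of A A) p ũ _ = pb (ModuleCat.of A A) p (β ∘ₗ ũ) ξ
    rw [pb_comp]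
    exact congrArg _ hξ.symm

end Regular

end Groth.Agent.H72.ExtHom
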