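import Mathlib
import Groth.Agent.H35.PCDescent
import Groth.Agent.H2.IsoDescFam
import Groth.Agent.H10.DevX

/-!
# Descent of exactness and finiteness along a finite jointly surjective flat family

(SQ1), (SQ2) for helper90's S6227: the hypotheses `JointlyReflects` / `FiniteDescends` of
helper35's family descent, for a finite family of flat algebras jointly surjective on spectra,
after adjoining `n` variables.  General versions for arbitrary families of flat ring maps are
`jointlyReflects_of_cover` and `finiteDescends_of_cover`.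
-/

set_option autoImplicit false
universe u
open CategoryTheory TensorProduct

namespace Groth.Agent.H72.FamDesc

open Groth.Agent.H35.FlatBC Groth.Agent.H35.TorDescent

section Alg

variable {P : Type u} [CommRing P] {J : Type} (S : J → Type u) [∀ j, CommRing (S j)]
  [∀ j, Algebra P (S j)]

lemma piLeft_lTensor [Fintype J] [DecidableEq J] {N₁ N₂ : Type u} [AddCommGroup N₁] [Module P N₁]
    [AddCommGroup N₂] [Module P N₂] (w : N₁ →ₗ[P] N₂) (x : (∀ j, S j) ⊗[P] N₁) (j : J) :
    TensorProduct.piLeft P N₂ S (w.lTensor (∀ j, S j) x) j =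
      w.lTensor (S j) (TensorProduct.piLeft P N₁ S x j) := by
  induction x using TensorProduct.induction_on with
  | zero => simp
  | tmul t m => simp
  | add a b ha hb => simp only [map_add, Pi.add_apply, ha, hb]

variable [Finite J]

/-- Exactness is reflected by a finite family of flat algebras jointly surjective on spectra. -/
theorem exact_of_forall_lTensor [∀ j, Module.Flat P (S j)]
    (hcov : ∀ p : PrimeSpectrum P, ∃ j, ∃ q : PrimeSpectrum (S j),
      q.comap (algebraMap P (S j)) = p)
    {M₁ M₂ M₃ : Type u} [AddCommGroup M₁] [Module P M₁] [AddCommGroup M₂] [Module P M₂]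
    [AddCommGroup M₃] [Module P M₃] (f : M₁ →ₗ[P] M₂) (g : M₂ →ₗ[P] M₃)
    (h : ∀ j, Function.Exact (f.lTensor (S j)) (g.lTensor (S j))) : Function.Exact f g := by
  classical
  haveI := Fintype.ofFinite J
  haveI : Module.FaithfullyFlat P (∀ j, S j) :=
    Groth.Agent.H2.IsoDescFam.faithfullyFlat_pi S hcov
  refine Module.FaithfullyFlat.lTensor_reflects_exact P (∀ j, S j) f g ?_
  intro y
  constructor
  · intro hy
    have hy' : ∀ j, g.lTensor (S j) (TensorProduct.piLeft P M₂ S y j) = 0 := by
      intro j
      have := piLeft_lTensor S g y j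
      rw [hy, map_zero] at this
      exact this.symm
    choose x hx using fun j => ((h j) _).1 (hy' j)
    refine ⟨(TensorProduct.piLeft P M₁ S).symm x, ?_⟩
    apply (TensorProduct.piLeft P M₂ S).injective
    funext j
    rw [piLeft_lTensor, LinearEquiv.apply_symm_apply, hx]
  · rintro ⟨x, rfl⟩
    apply (TensorProduct.piLeft P M₃ S).injective
    funext j
    rw [piLeft_lTensor, piLeft_lTensor, map_zero]
    exact ((h j) _).2 ⟨_, rfl⟩

/-- Finiteness descends along a finite family of flat algebras jointly surjective on spectra. -/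
theorem finite_of_forall_tensor [∀ j, Module.Flat P (S j)]
    (hcov : ∀ p : PrimeSpectrum P, ∃ j, ∃ q : PrimeSpectrum (S j),
      q.comap (algebraMap P (S j)) = p)
    {M : Type u} [AddCommGroup M] [Module P M]
    (h : ∀ j, Module.Finite (S j) (S j ⊗[P] M)) : Module.Finite P M := by
  classical
  haveI := Fintype.ofFinite J
  choose n s hs using fun j => Module.Finite.exists_fin (R := S j) (M := S j ⊗[P] M)
  choose k t m hm using fun (j : J) (i : Fin (n j)) => TensorProduct.exists_sum_tmul_eq (s j i)
  let f₀ : ((Σ j : J, Σ i : Fin (n j), Fin (k j i)) → P) →ₗ[P] M :=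
    (Pi.basisFun P _).constr P fun a => m a.1 a.2.1 a.2.2
  apply Module.Finite.of_surjective f₀
  have hsurj : ∀ j, Function.Surjective (f₀.lTensor (S j)) := by
    intro j
    have : Function.Surjective (AlgebraTensorModule.lTensor (S j) (S j) f₀) := by
      rw [← LinearMap.range_eq_top, eq_top_iff, ← hs j, Submodule.span_le, Set.range_subset_iff]
      intro i
      use ∑ l : Fin (k j i), t j i l ⊗ₜ Pi.basisFun P _ ⟨j, i, l⟩
      simp [f₀, -Pi.basisFun_equivFun, -Pi.basisFun_apply, hm j i]
    exact this
  have hex : Function.Exact f₀ (0 : M →ₗ[P] M) := by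
    refine exact_of_forall_lTensor S hcov f₀ 0 (fun j => ?_)
    intro y
    constructor
    · intro _
      exact hsurj j y
    · intro _
      simp
  intro y
  exact (hex y).1 rfl

end Alg

section Bridge

variable {P : Type u} [CommRing P] {J : Type} [Finite J] {S : J → Type u} [∀ j, CommRing (S j)]
  (φ : ∀ j, P →+* S j)

lemma flat_algOf {A B : Type u} [CommRing A] [CommRing B] (ψ : A →+* B) (h : ψ.Flat) :
    @Module.Flat A B _ _ (@Algebra.toModule A B _ _ (algOf ψ)) := by
  have e : ψ.toAlgebra = algOf ψ := Algebra.algebra_ext _ _ (fun _ => rfl)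
  rw [← e]
  exact h

omit [Finite J] in
lemma cover_algOf
    (hcov : ∀ p : PrimeSpectrum P, ∃ j, ∃ q : PrimeSpectrum (S j), q.comap (φ j) = p) :
    letI : ∀ j, Algebra P (S j) := fun j => algOf (φ j)
    ∀ p : PrimeSpectrum P, ∃ j, ∃ q : PrimeSpectrum (S j),
      q.comap (algebraMap P (S j)) = p := by
  letI : ∀ j, Algebra P (S j) := fun j => algOf (φ j)
  intro p
  obtain ⟨j, q, hq⟩ := hcov p
  refine ⟨j, q, ?_⟩
  have e : algebraMap P (S j) = φ j := RingHom.ext fun _ => rfl
  rw [e]
  exact hq

/-- A finite family of flat ring maps jointly surjective on spectra jointly reflects exactness. -/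
theorem jointlyReflects_of_cover (hflat : ∀ j, (φ j).Flat)
    (hcov : ∀ p : PrimeSpectrum P, ∃ j, ∃ q : PrimeSpectrum (S j), q.comap (φ j) = p) :
    JointlyReflects φ := by
  letI : ∀ j, Algebra P (S j) := fun j => algOf (φ j)
  haveI : ∀ j, Module.Flat P (S j) := fun j => flat_algOf (φ j) (hflat j)
  have hcov' := cover_algOf φ hcov
  intro M₁ M₂ M₃ f g h
  refine exact_of_forall_lTensor S hcov' f.hom g.hom (fun j => ?_)
  rw [← LinearMap.baseChange_eq_ltensor, ← LinearMap.baseChange_eq_ltensor]
  exact h j

set_option backward.isDefEq.respectTransparency false in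
/-- Finiteness descends along a finite family of flat ring maps jointly surjective on spectra. -/
theorem finiteDescends_of_cover (hflat : ∀ j, (φ j).Flat)
    (hcov : ∀ p : PrimeSpectrum P, ∃ j, ∃ q : PrimeSpectrum (S j), q.comap (φ j) = p) :
    FiniteDescends φ := by
  letI : ∀ j, Algebra P (S j) := fun j => algOf (φ j)
  haveI : ∀ j, Module.Flat P (S j) := fun j => flat_algOf (φ j) (hflat j)
  have hcov' := cover_algOf φ hcov
  intro M h
  have h' : ∀ j, Module.Finite (S j) (S j ⊗[P] M) := fun j => h j
  exact finite_of_forall_tensor S hcov' h'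

end Bridge

section Poly

attribute [local instance] MvPolynomial.algebraMvPolynomial

lemma flat_map {R R' : Type u} [CommRing R] [CommRing R'] [Algebra R R'] [Module.Flat R R']
    (n : ℕ) :
    (MvPolynomial.map (algebraMap R R') :
      MvPolynomial (Fin n) R →+* MvPolynomial (Fin n) R').Flat := by
  have h : Module.Flat (MvPolynomial (Fin n) R) (MvPolynomial (Fin n) R') :=
    Module.Flat.isBaseChange R (MvPolynomial (Fin n) R) R' (MvPolynomial (Fin n) R')
      (Algebra.IsPushout.out : IsBaseChange (MvPolynomial (Fin n) R)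
        (IsScalarTower.toAlgHom R R' (MvPolynomial (Fin n) R')).toLinearMap)
  have h2 := RingHom.flat_algebraMap_iff.2 h
  rwa [MvPolynomial.algebraMap_def] at h2

lemma cover_map {R R' : Type u} [CommRing R] [CommRing R'] [Algebra R R'] (n : ℕ)
    (pp : PrimeSpectrum (MvPolynomial (Fin n) R)) (q0 : PrimeSpectrum R')
    (h : q0.comap (algebraMap R R') = pp.comap (algebraMap R (MvPolynomial (Fin n) R))) :
    ∃ q : PrimeSpectrum (MvPolynomial (Fin n) R'),
      q.comap (MvPolynomial.map (algebraMap R R')) = pp := by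
  have h0 : pp.asIdeal.comap (algebraMap R (MvPolynomial (Fin n) R)) =
      q0.asIdeal.comap (algebraMap R R') := by
    have := congrArg PrimeSpectrum.asIdeal h
    exact this.symm
  obtain ⟨Jd, hJ, h1, -⟩ := Groth.Agent.H10.DevX.exists_prime_tensor_liesOver R
    (MvPolynomial (Fin n) R) R' pp.asIdeal q0.asIdeal h0
  let e := Algebra.IsPushout.equiv R (MvPolynomial (Fin n) R) R' (MvPolynomial (Fin n) R')
  haveI : (Jd.comap (e.symm : MvPolynomial (Fin n) R' →+*
      MvPolynomial (Fin n) R ⊗[R] R')).IsPrime := Ideal.comap_isPrime _ _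
  refine ⟨⟨Jd.comap (e.symm : MvPolynomial (Fin n) R' →+* MvPolynomial (Fin n) R ⊗[R] R'),
    inferInstance⟩, ?_⟩
  apply PrimeSpectrum.ext
  ext x
  show e.symm (MvPolynomial.map (algebraMap R R') x) ∈ Jd ↔ x ∈ pp.asIdeal
  have hx : e.symm (MvPolynomial.map (algebraMap R R') x) = x ⊗ₜ 1 :=
    Algebra.IsPushout.equiv_symm_algebraMap_left R (MvPolynomial (Fin n) R) R'
      (MvPolynomial (Fin n) R') x
  rw [hx, ← h1]
  exact Iff.rfl

end Poly

/-- (SQ1) -/
theorem jointlyReflects_mvPolynomial {R : Type u} [CommRing R] {J : Type} [Finite J]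
    (R' : J → Type u) [∀ j, CommRing (R' j)] [∀ j, Algebra R (R' j)] [∀ j, Module.Flat R (R' j)]
    (hcov : ∀ p : PrimeSpectrum R, ∃ j, ∃ q : PrimeSpectrum (R' j),
      q.comap (algebraMap R (R' j)) = p) (n : ℕ) :
    Groth.Agent.H35.TorDescent.JointlyReflects
      (fun j => (MvPolynomial.map (algebraMap R (R' j)) :
        MvPolynomial (Fin n) R →+* MvPolynomial (Fin n) (R' j))) := by
  refine jointlyReflects_of_cover _ (fun j => flat_map n) ?_
  intro pp
  obtain ⟨j, q0, hq0⟩ := hcov (pp.comap (algebraMap R (MvPolynomial (Fin n) R)))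
  obtain ⟨q, hq⟩ := cover_map n pp q0 hq0
  exact ⟨j, q, hq⟩

/-- (SQ2) -/
theorem finiteDescends_mvPolynomial {R : Type u} [CommRing R] {J : Type} [Finite J]
    (R' : J → Type u) [∀ j, CommRing (R' j)] [∀ j, Algebra R (R' j)] [∀ j, Module.Flat R (R' j)]
    (hcov : ∀ p : PrimeSpectrum R, ∃ j, ∃ q : PrimeSpectrum (R' j),
      q.comap (algebraMap R (R' j)) = p) (n : ℕ) :
    Groth.Agent.H35.TorDescent.FiniteDescends
      (fun j => (MvPolynomial.map (algebraMap R (R' j)) :
        MvPolynomial (Fin n) R →+* MvPolynomial (Fin n) (R' j))) := by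
  refine finiteDescends_of_cover _ (fun j => flat_map n) ?_
  intro pp
  obtain ⟨j, q0, hq0⟩ := hcov (pp.comap (algebraMap R (MvPolynomial (Fin n) R)))
  obtain ⟨q, hq⟩ := cover_map n pp q0 hq0
  exact ⟨j, q, hq⟩

end Groth.Agent.H72.FamDesc
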