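import Mathlib
import Groth.Prelude.Def_EtLim
import Groth.Agent.H67.HpullBC.Defs

/-!
# (U) for helper67's S14389 squad: coherence of `pullConst` with `Theta` (helper72)

Route: an abstract adjunction-calculus lemma (`abstract_C`) gives the composition coherence
`(pullComp a b).hom ≫ a^*(pullConst b) ≫ pullConst a = pullConst (a ≫ b)` from the coherence (S) of the
`pushGsecIso`'s with `pushComp` (all three are `F.obj.map` of morphisms into a terminal object).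
-/

set_option autoImplicit false
universe u
open CategoryTheory CategoryTheory.Limits AlgebraicGeometry Opposite
open Groth.Agent.H67.HpullBC

namespace Groth.Agent.H72.HpullBC_U

section Abstract

universe v₁ v₂ v₃ v₄ u₁ u₂ u₃ u₄

variable {𝒜 : Type u₁} {ℬ : Type u₂} {𝒞 : Type u₃} {𝒢 : Type u₄}
  [Category.{v₁} 𝒜] [Category.{v₂} ℬ] [Category.{v₃} 𝒞] [Category.{v₄} 𝒢]

theorem core
    {KA : 𝒢 ⥤ 𝒜} {ΓA : 𝒜 ⥤ 𝒢} (adjKA : KA ⊣ ΓA)
    {KB : 𝒢 ⥤ ℬ} {ΓB : ℬ ⥤ 𝒢} (adjKB : KB ⊣ ΓB)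
    {KC : 𝒢 ⥤ 𝒞} {ΓC : 𝒞 ⥤ 𝒢} (adjKC : KC ⊣ ΓC)
    {as : ℬ ⥤ 𝒜} {ap : 𝒜 ⥤ ℬ} (adja : as ⊣ ap)
    {bs : 𝒞 ⥤ ℬ} {bp : ℬ ⥤ 𝒞} (adjb : bs ⊣ bp)
    {cs : 𝒞 ⥤ 𝒜} {cp : 𝒜 ⥤ 𝒞} (adjc : cs ⊣ cp)
    (pc : ap ⋙ bp ≅ cp) (σa : ap ⋙ ΓB ≅ ΓA) (σb : bp ⋙ ΓC ≅ ΓB) (σc : cp ⋙ ΓC ≅ ΓA)
    (hS : ∀ F : 𝒜, ΓC.map (pc.hom.app F) ≫ σc.hom.app F =
      σb.hom.app (ap.obj F) ≫ σa.hom.app F)
    (M : 𝒢)
    (lam : cs.obj (KC.obj M) ⟶ as.obj (bs.obj (KC.obj M)))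
    (kb : bs.obj (KC.obj M) ⟶ KB.obj M) (ka : as.obj (KB.obj M) ⟶ KA.obj M)
    (e1 : adjc.unit.app (KC.obj M) ≫ cp.map lam =
      adjb.unit.app (KC.obj M) ≫ bp.map (adja.unit.app (bs.obj (KC.obj M))) ≫
        pc.hom.app (as.obj (bs.obj (KC.obj M))))
    (e2 : adjKC.unit.app M ≫ ΓC.map (adjb.unit.app (KC.obj M)) ≫
      σb.hom.app (bs.obj (KC.obj M)) ≫ ΓB.map kb = adjKB.unit.app M)
    (e3 : adjKB.unit.app M ≫ ΓB.map (adja.unit.app (KB.obj M)) ≫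
      σa.hom.app (as.obj (KB.obj M)) ≫ ΓA.map ka = adjKA.unit.app M) :
    adjKC.unit.app M ≫ ΓC.map (adjc.unit.app (KC.obj M)) ≫
      ΓC.map (cp.map (lam ≫ as.map kb ≫ ka)) ≫ σc.hom.app (KA.obj M) = adjKA.unit.app M := by
  have n_pc : ∀ ψ : as.obj (bs.obj (KC.obj M)) ⟶ KA.obj M,
      pc.hom.app (as.obj (bs.obj (KC.obj M))) ≫ cp.map ψ =
        bp.map (ap.map ψ) ≫ pc.hom.app (KA.obj M) := fun ψ => (pc.hom.naturality ψ).symm
  have n_a : adja.unit.app (bs.obj (KC.obj M)) ≫ ap.map (as.map kb) =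
      kb ≫ adja.unit.app (KB.obj M) := (adja.unit.naturality kb).symm
  have n_σb_θ : ∀ θ : KB.obj M ⟶ ap.obj (KA.obj M),
      ΓC.map (bp.map θ) ≫ σb.hom.app (ap.obj (KA.obj M)) =
        σb.hom.app (KB.obj M) ≫ ΓB.map θ := fun θ => σb.hom.naturality θ
  have n_σb_kb : ΓC.map (bp.map kb) ≫ σb.hom.app (KB.obj M) =
      σb.hom.app (bs.obj (KC.obj M)) ≫ ΓB.map kb := σb.hom.naturality kb
  have n_σa_ka : ΓB.map (ap.map ka) ≫ σa.hom.app (KA.obj M) =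
      σa.hom.app (as.obj (KB.obj M)) ≫ ΓA.map ka := σa.hom.naturality ka
  have n2 : adja.unit.app (bs.obj (KC.obj M)) ≫ ap.map (as.map kb ≫ ka) =
      kb ≫ adja.unit.app (KB.obj M) ≫ ap.map ka := by
    calc adja.unit.app (bs.obj (KC.obj M)) ≫ ap.map (as.map kb ≫ ka)
        = (adja.unit.app (bs.obj (KC.obj M)) ≫ ap.map (as.map kb)) ≫ ap.map ka := by
          rw [Functor.map_comp, Category.assoc]
      _ = (kb ≫ adja.unit.app (KB.obj M)) ≫ ap.map ka := by rw [n_a]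
      _ = kb ≫ adja.unit.app (KB.obj M) ≫ ap.map ka := Category.assoc _ _ _
  have h1 : adjc.unit.app (KC.obj M) ≫ cp.map (lam ≫ as.map kb ≫ ka) =
      adjb.unit.app (KC.obj M) ≫ bp.map kb ≫
        bp.map (adja.unit.app (KB.obj M) ≫ ap.map ka) ≫ pc.hom.app (KA.obj M) := by
    calc adjc.unit.app (KC.obj M) ≫ cp.map (lam ≫ as.map kb ≫ ka)
        = (adjc.unit.app (KC.obj M) ≫ cp.map lam) ≫ cp.map (as.map kb ≫ ka) := by
          rw [Functor.map_comp, Category.assoc]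
      _ = (adjb.unit.app (KC.obj M) ≫ bp.map (adja.unit.app (bs.obj (KC.obj M))) ≫
            pc.hom.app (as.obj (bs.obj (KC.obj M)))) ≫ cp.map (as.map kb ≫ ka) := by rw [e1]
      _ = adjb.unit.app (KC.obj M) ≫ bp.map (adja.unit.app (bs.obj (KC.obj M))) ≫
            (pc.hom.app (as.obj (bs.obj (KC.obj M))) ≫ cp.map (as.map kb ≫ ka)) := by
          simp only [Category.assoc]
      _ = adjb.unit.app (KC.obj M) ≫ bp.map (adja.unit.app (bs.obj (KC.obj M))) ≫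
            (bp.map (ap.map (as.map kb ≫ ka)) ≫ pc.hom.app (KA.obj M)) := by rw [n_pc]
      _ = adjb.unit.app (KC.obj M) ≫
            bp.map (adja.unit.app (bs.obj (KC.obj M)) ≫ ap.map (as.map kb ≫ ka)) ≫
              pc.hom.app (KA.obj M) := by
          rw [Functor.map_comp bp, Category.assoc]
      _ = adjb.unit.app (KC.obj M) ≫
            bp.map (kb ≫ adja.unit.app (KB.obj M) ≫ ap.map ka) ≫ pc.hom.app (KA.obj M) := by
          rw [n2]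
      _ = adjb.unit.app (KC.obj M) ≫ bp.map kb ≫
            bp.map (adja.unit.app (KB.obj M) ≫ ap.map ka) ≫ pc.hom.app (KA.obj M) := by
          rw [Functor.map_comp bp, Category.assoc]
  calc adjKC.unit.app M ≫ ΓC.map (adjc.unit.app (KC.obj M)) ≫
        ΓC.map (cp.map (lam ≫ as.map kb ≫ ka)) ≫ σc.hom.app (KA.obj M)
      = adjKC.unit.app M ≫
          ΓC.map (adjc.unit.app (KC.obj M) ≫ cp.map (lam ≫ as.map kb ≫ ka)) ≫
            σc.hom.app (KA.obj M) := by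
        rw [Functor.map_comp ΓC, Category.assoc]
    _ = adjKC.unit.app M ≫
          ΓC.map (adjb.unit.app (KC.obj M) ≫ bp.map kb ≫
            bp.map (adja.unit.app (KB.obj M) ≫ ap.map ka) ≫ pc.hom.app (KA.obj M)) ≫
            σc.hom.app (KA.obj M) := by rw [h1]
    _ = adjKC.unit.app M ≫ ΓC.map (adjb.unit.app (KC.obj M)) ≫ ΓC.map (bp.map kb) ≫
          ΓC.map (bp.map (adja.unit.app (KB.obj M) ≫ ap.map ka)) ≫
            (ΓC.map (pc.hom.app (KA.obj M)) ≫ σc.hom.app (KA.obj M)) := by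
        rw [Functor.map_comp ΓC, Functor.map_comp ΓC, Functor.map_comp ΓC]
        simp only [Category.assoc]
    _ = adjKC.unit.app M ≫ ΓC.map (adjb.unit.app (KC.obj M)) ≫ ΓC.map (bp.map kb) ≫
          ΓC.map (bp.map (adja.unit.app (KB.obj M) ≫ ap.map ka)) ≫
            (σb.hom.app (ap.obj (KA.obj M)) ≫ σa.hom.app (KA.obj M)) := by rw [hS]
    _ = adjKC.unit.app M ≫ ΓC.map (adjb.unit.app (KC.obj M)) ≫ ΓC.map (bp.map kb) ≫
          (ΓC.map (bp.map (adja.unit.app (KB.obj M) ≫ ap.map ka)) ≫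
            σb.hom.app (ap.obj (KA.obj M))) ≫ σa.hom.app (KA.obj M) := by
        simp only [Category.assoc]
    _ = adjKC.unit.app M ≫ ΓC.map (adjb.unit.app (KC.obj M)) ≫ ΓC.map (bp.map kb) ≫
          (σb.hom.app (KB.obj M) ≫ ΓB.map (adja.unit.app (KB.obj M) ≫ ap.map ka)) ≫
            σa.hom.app (KA.obj M) := by rw [n_σb_θ]
    _ = adjKC.unit.app M ≫ ΓC.map (adjb.unit.app (KC.obj M)) ≫
          (ΓC.map (bp.map kb) ≫ σb.hom.app (KB.obj M)) ≫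
            ΓB.map (adja.unit.app (KB.obj M) ≫ ap.map ka) ≫ σa.hom.app (KA.obj M) := by
        simp only [Category.assoc]
    _ = adjKC.unit.app M ≫ ΓC.map (adjb.unit.app (KC.obj M)) ≫
          (σb.hom.app (bs.obj (KC.obj M)) ≫ ΓB.map kb) ≫
            ΓB.map (adja.unit.app (KB.obj M) ≫ ap.map ka) ≫ σa.hom.app (KA.obj M) := by
        rw [n_σb_kb]
    _ = (adjKC.unit.app M ≫ ΓC.map (adjb.unit.app (KC.obj M)) ≫
          σb.hom.app (bs.obj (KC.obj M)) ≫ ΓB.map kb) ≫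
            ΓB.map (adja.unit.app (KB.obj M) ≫ ap.map ka) ≫ σa.hom.app (KA.obj M) := by
        simp only [Category.assoc]
    _ = adjKB.unit.app M ≫
          ΓB.map (adja.unit.app (KB.obj M) ≫ ap.map ka) ≫ σa.hom.app (KA.obj M) := by rw [e2]
    _ = adjKB.unit.app M ≫ ΓB.map (adja.unit.app (KB.obj M)) ≫
          (ΓB.map (ap.map ka) ≫ σa.hom.app (KA.obj M)) := by
        rw [Functor.map_comp ΓB, Category.assoc]
    _ = adjKB.unit.app M ≫ ΓB.map (adja.unit.app (KB.obj M)) ≫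
          (σa.hom.app (as.obj (KB.obj M)) ≫ ΓA.map ka) := by rw [n_σa_ka]
    _ = adjKA.unit.app M := e3

theorem abstract_C
    {KA : 𝒢 ⥤ 𝒜} {ΓA : 𝒜 ⥤ 𝒢} (adjKA : KA ⊣ ΓA)
    {KB : 𝒢 ⥤ ℬ} {ΓB : ℬ ⥤ 𝒢} (adjKB : KB ⊣ ΓB)
    {KC : 𝒢 ⥤ 𝒞} {ΓC : 𝒞 ⥤ 𝒢} (adjKC : KC ⊣ ΓC)
    {as : ℬ ⥤ 𝒜} {ap : 𝒜 ⥤ ℬ} (adja : as ⊣ ap)
    {bs : 𝒞 ⥤ ℬ} {bp : ℬ ⥤ 𝒞} (adjb : bs ⊣ bp)
    {cs : 𝒞 ⥤ 𝒜} {cp : 𝒜 ⥤ 𝒞} (adjc : cs ⊣ cp)
    (pc : ap ⋙ bp ≅ cp) (σa : ap ⋙ ΓB ≅ ΓA) (σb : bp ⋙ ΓC ≅ ΓB) (σc : cp ⋙ ΓC ≅ ΓA)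
    (hS : ∀ F : 𝒜, ΓC.map (pc.hom.app F) ≫ σc.hom.app F =
      σb.hom.app (ap.obj F) ≫ σa.hom.app F)
    (M : 𝒢) :
    (Adjunction.leftAdjointUniq adjc ((adjb.comp adja).ofNatIsoRight pc)).hom.app (KC.obj M) ≫
      as.map ((Adjunction.leftAdjointUniq ((adjKC.comp adjb).ofNatIsoRight σb) adjKB).hom.app M) ≫
      (Adjunction.leftAdjointUniq ((adjKB.comp adja).ofNatIsoRight σa) adjKA).hom.app M =
    (Adjunction.leftAdjointUniq ((adjKC.comp adjc).ofNatIsoRight σc) adjKA).hom.app M := by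
  have e1 := Adjunction.unit_leftAdjointUniq_hom_app adjc ((adjb.comp adja).ofNatIsoRight pc)
    (KC.obj M)
  have e2 := Adjunction.unit_leftAdjointUniq_hom_app ((adjKC.comp adjb).ofNatIsoRight σb) adjKB M
  have e3 := Adjunction.unit_leftAdjointUniq_hom_app ((adjKB.comp adja).ofNatIsoRight σa) adjKA M
  simp only [Adjunction.ofNatIsoRight_unit, NatTrans.comp_app, Functor.whiskerLeft_app,
    Adjunction.comp_unit_app, Functor.comp_obj, Functor.id_obj, Category.assoc] at e1 e2 e3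
  have key := core adjKA adjKB adjKC adja adjb adjc pc σa σb σc hS M _ _ _ e1 e2 e3
  apply (((adjKC.comp adjc).ofNatIsoRight σc).homEquiv _ _).injective
  rw [Adjunction.homEquiv_leftAdjointUniq_hom_app, Adjunction.homEquiv_ofNatIsoRight_apply,
    Adjunction.homEquiv_unit, Adjunction.comp_unit_app]
  simpa only [Functor.comp_map, Functor.comp_obj, Functor.id_obj, Category.assoc] using key

end Abstract

/-- coherence (S): the identifications `Γ(Y, f_* F) = Γ(X, F)` are compatible with `pushComp`. -/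
theorem concrete_S {A B C : Scheme.{u}} (a : A ⟶ B) (b : B ⟶ C) (F : EtCoh.Ab A) :
    (EtCore.gsec C).map ((EtCoh.pushComp b a).hom.app F) ≫
        (EtCore.pushGsecIso (a ≫ b)).hom.app F =
      (EtCore.pushGsecIso b).hom.app ((EtCoh.push a).obj F) ≫
        (EtCore.pushGsecIso a).hom.app F := by
  have hT : IsTerminal ((EtCoh.bc a).obj ((EtCoh.bc b).obj (EtCoh.top C))) :=
    IsTerminal.ofIso (EtCore.bcTopIsTerminal a) ((EtCoh.bc a).mapIso (EtCore.bcTopIso b)).symm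
  have hL : ∃ m : EtCoh.top A ⟶ (EtCoh.bc a).obj ((EtCoh.bc b).obj (EtCoh.top C)),
      (EtCore.gsec C).map ((EtCoh.pushComp b a).hom.app F) ≫
        (EtCore.pushGsecIso (a ≫ b)).hom.app F = F.obj.map m.op := by
    refine ⟨(EtCore.bcTopIso (a ≫ b)).inv ≫
      ((MorphismProperty.Over.pullbackComp (P := EtCoh.etaleMP) (Q := ⊤) a b).symm :
        EtCoh.bc b ⋙ EtCoh.bc a ≅ EtCoh.bc (a ≫ b)).inv.app (EtCoh.top C), ?_⟩
    rw [op_comp, Functor.map_comp]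
    rfl
  have hR : ∃ m : EtCoh.top A ⟶ (EtCoh.bc a).obj ((EtCoh.bc b).obj (EtCoh.top C)),
      (EtCore.pushGsecIso b).hom.app ((EtCoh.push a).obj F) ≫
        (EtCore.pushGsecIso a).hom.app F = F.obj.map m.op := by
    refine ⟨(EtCore.bcTopIso a).inv ≫ (EtCoh.bc a).map (EtCore.bcTopIso b).inv, ?_⟩
    rw [op_comp, Functor.map_comp]
    rfl
  obtain ⟨m, hm⟩ := hL
  obtain ⟨m', hm'⟩ := hR
  rw [hm, hm', hT.hom_ext m m']

/-- composition coherence of `pullConst` -/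
theorem compC {A B C : Scheme.{u}} (a : A ⟶ B) (b : B ⟶ C) (M : Type) [AddCommGroup M] :
    (EtCore.pullComp a b).hom.app (EtCoh.const C M) ≫
        (EtCoh.pull a).map (EtCore.pullConst b M).hom ≫ (EtCore.pullConst a M).hom =
      (EtCore.pullConst (a ≫ b) M).hom :=
  abstract_C (EtCore.constAdj A) (EtCore.constAdj B) (EtCore.constAdj C) (EtCoh.pullPushAdj a)
    (EtCoh.pullPushAdj b) (EtCoh.pullPushAdj (a ≫ b)) (EtCoh.pushComp b a)
    (EtCore.pushGsecIso a) (EtCore.pushGsecIso b) (EtCore.pushGsecIso (a ≫ b))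
    (concrete_S a b) (AddCommGrpCat.of (ULift.{u+1} M))

theorem congr_aux {A B : Scheme.{u}} {c c' : A ⟶ B} (h : c = c') (M : Type) [AddCommGroup M] :
    (EtCore.pullCongr h).hom.app (EtCoh.const B M) ≫ (EtCore.pullConst c' M).hom =
      (EtCore.pullConst c M).hom := by
  subst h
  simp [EtCore.pullCongr]

variable {X Y X' Y' : Scheme.{u}} (f : X ⟶ Y) (g : Y' ⟶ Y) (f' : X' ⟶ Y') (g' : X' ⟶ X)
  (w : g' ≫ f = f' ≫ g)

/-- (U) coherence of pullConst -/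
theorem pullConst_theta (M : Type) [AddCommGroup M] :
    (Theta f g f' g' w).hom.app (EtCoh.const Y M) ≫
        (EtCoh.pull f').map (EtCore.pullConst g M).hom ≫ (EtCore.pullConst f' M).hom =
      (EtCoh.pull g').map (EtCore.pullConst f M).hom ≫ (EtCore.pullConst g' M).hom := by
  have h1 := compC f' g M
  have h2 := compC g' f M
  have h3 := congr_aux w M
  simp only [Theta, Iso.trans_hom, Iso.symm_hom, NatTrans.comp_app, Category.assoc]
  rw [h1, h3, ← h2]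
  simp only [Iso.inv_hom_id_app_assoc]

end Groth.Agent.H72.HpullBC_U
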