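import Mathlib
import Groth.Prelude.Def_Wider
import Groth.Agent.H58.IHFlat
import Groth.Agent.H72.GorType
import Groth.Agent.S0311

/-!
Flat base change of the injective hull of the residue field when the closed fibre is an
Artinian Gorenstein local ring.
-/

set_option autoImplicit false
universe u
open InjHull IsLocalRing TensorProduct

namespace Groth.Agent.H72.IHGor

open Groth.Agent.H58.IHFlat

/-- In a zero-dimensional Gorenstein local ring the socle is a simple module. -/
theorem socle_simple (R : Type u) [CommRing R] [LocCoh.IsGorensteinLocalRing R]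
    [IsArtinianRing R] : IsSimpleModule R (LocCoh.torsionBy (maximalIdeal R) R) := by
  have hdim : ringKrullDim R = ((0 : ℕ) : WithBot ℕ∞) := by
    have h : Ring.KrullDimLE 0 R := inferInstance
    have h0 := ringKrullDimZero_iff_ringKrullDim_eq_zero.1 h
    rw [h0, Nat.cast_zero]
  obtain ⟨-, h1⟩ := Groth.Agent.H72.GorType.ext_kk_gorenstein R 0 hdim
  let e1 : Groth.Agent.H72.AB.E R 0 R ≃ₗ[R] ((R ⧸ maximalIdeal R) →ₗ[R] R) :=
    CategoryTheory.Abelian.Ext.linearEquiv₀.trans ModuleCat.homLinearEquiv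
  rw [← Module.length_eq_one_iff, length_tors (maximalIdeal R) R, ← e1.length_eq]
  exact h1

/-- Some power of the maximal ideal lies in `J` when `B ⧸ J` is Artinian. -/
theorem exists_pow_le {B : Type u} [CommRing B] [IsLocalRing B] (J : Ideal B)
    [IsArtinianRing (B ⧸ J)] : ∃ r : ℕ, maximalIdeal B ^ r ≤ J := by
  obtain ⟨N, hN⟩ := IsArtinianRing.isNilpotent_jacobson_bot (R := B ⧸ J)
  refine ⟨N, ?_⟩
  have hle : (maximalIdeal B).map (Ideal.Quotient.mk J) ≤ Ideal.jacobson ⊥ := by
    refine le_sInf fun M hM => ?_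
    rw [Ideal.map_le_iff_le_comap]
    have hMmax : M.IsMaximal := hM.2
    have hcm : (M.comap (Ideal.Quotient.mk J)).IsMaximal :=
      Ideal.comap_isMaximal_of_surjective _ Ideal.Quotient.mk_surjective
    rw [IsLocalRing.eq_maximalIdeal hcm]
  have h2 : (maximalIdeal B ^ N).map (Ideal.Quotient.mk J) = ⊥ := by
    rw [Ideal.map_pow, eq_bot_iff, ← Ideal.zero_eq_bot, ← hN]
    exact Ideal.pow_right_mono hle N
  intro x hx
  have h3 := Ideal.mem_map_of_mem (Ideal.Quotient.mk J) hx
  rw [h2, Ideal.mem_bot, Ideal.Quotient.eq_zero_iff_mem] at h3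
  exact h3

/-- Lifting a generator of the (simple) socle of `B ⧸ J`. -/
theorem exists_socle_lift {B : Type u} [CommRing B] [IsLocalRing B] (J : Ideal B)
    (hJle : J ≤ maximalIdeal B)
    [LocCoh.IsGorensteinLocalRing (B ⧸ J)] [IsArtinianRing (B ⧸ J)] :
    ∃ b₀ : B, b₀ ∉ J ∧ (∀ β ∈ maximalIdeal B, β * b₀ ∈ J) ∧
      ∀ b : B, (∀ β ∈ maximalIdeal B, β * b ∈ J) → ∃ β' : B, b - β' * b₀ ∈ J := by
  haveI hS := socle_simple (B ⧸ J)
  have hmk : ∀ β ∈ maximalIdeal B, Ideal.Quotient.mk J β ∈ maximalIdeal (B ⧸ J) := by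
    intro β hβ
    rw [IsLocalRing.mem_maximalIdeal, mem_nonunits_iff]
    intro hu
    obtain ⟨γ', hγ'⟩ := hu.exists_right_inv
    obtain ⟨γ, rfl⟩ := Ideal.Quotient.mk_surjective γ'
    rw [← map_mul, ← map_one (Ideal.Quotient.mk J), Ideal.Quotient.eq] at hγ'
    have h1 : β * γ - 1 ∈ maximalIdeal B := hJle hγ'
    have h2 : β * γ ∈ maximalIdeal B := Ideal.mul_mem_right _ _ hβ
    have h3 : (1 : B) ∈ maximalIdeal B := by
      have h4 := Ideal.sub_mem _ h2 h1
      rwa [sub_sub_cancel] at h4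
    exact (Ideal.ne_top_iff_one _).1 (Ideal.IsMaximal.ne_top inferInstance) h3
  have hmk' : ∀ β : B, Ideal.Quotient.mk J β ∈ maximalIdeal (B ⧸ J) → β ∈ maximalIdeal B := by
    intro β hβ
    by_contra hn
    have hu : IsUnit β := by
      by_contra h
      exact hn (Groth.Agent.H2.Matlis.mem_maximalIdeal_of_not_isUnit h)
    exact mem_nonunits_iff.1 ((IsLocalRing.mem_maximalIdeal _).1 hβ)
      (hu.map (Ideal.Quotient.mk J))
  haveI := IsSimpleModule.nontrivial (B ⧸ J) (LocCoh.torsionBy (maximalIdeal (B ⧸ J)) (B ⧸ J))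
  obtain ⟨c₀, hc₀⟩ := exists_ne (0 : LocCoh.torsionBy (maximalIdeal (B ⧸ J)) (B ⧸ J))
  obtain ⟨b₀, hb₀⟩ := Ideal.Quotient.mk_surjective c₀.1
  have hc₀mem := (Submodule.mem_torsionBySet_iff _ _).1 c₀.2
  refine ⟨b₀, ?_, ?_, ?_⟩
  · intro hmem
    apply hc₀
    apply Subtype.ext
    rw [← hb₀]
    exact Ideal.Quotient.eq_zero_iff_mem.2 hmem
  · intro β hβ
    rw [← Ideal.Quotient.eq_zero_iff_mem, map_mul, hb₀]
    exact hc₀mem ⟨_, hmk β hβ⟩
  · intro b hb
    have hmem : Ideal.Quotient.mk J b ∈ LocCoh.torsionBy (maximalIdeal (B ⧸ J)) (B ⧸ J) := by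
      rw [Submodule.mem_torsionBySet_iff]
      rintro ⟨a0, ha0⟩
      obtain ⟨β, rfl⟩ := Ideal.Quotient.mk_surjective a0
      show Ideal.Quotient.mk J β * Ideal.Quotient.mk J b = 0
      rw [← map_mul, Ideal.Quotient.eq_zero_iff_mem]
      exact hb β (hmk' β ha0)
    obtain ⟨β0, hβ0⟩ := IsSimpleModule.toSpanSingleton_surjective (B ⧸ J) hc₀ ⟨_, hmem⟩
    rw [LinearMap.toSpanSingleton_apply] at hβ0
    obtain ⟨β', rfl⟩ := Ideal.Quotient.mk_surjective β0
    refine ⟨β', ?_⟩
    have h1 : Ideal.Quotient.mk J β' * Ideal.Quotient.mk J b₀ = Ideal.Quotient.mk J b := by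
      have h2 := congrArg Subtype.val hβ0
      rw [hb₀]
      exact h2
    rw [← Ideal.Quotient.eq, ← h1, map_mul]

variable {A : Type u} [CommRing A] [IsLocalRing A] [IsNoetherianRing A] {B : Type u} [CommRing B]
  [IsLocalRing B] [IsNoetherianRing B] [Algebra A B] [IsLocalHom (algebraMap A B)]
  [Module.Flat A B]
  {E : Type u} [AddCommGroup E] [Module A E]

theorem tmul_f_one_eq_zero_iff (f : ResidueField A →ₗ[A] E) (hf : Function.Injective f) (b : B) :
    (b ⊗ₜ[A] f 1 : B ⊗[A] E) = 0 ↔ b ∈ (maximalIdeal A).map (algebraMap A B) := by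
  constructor
  · intro h0
    have hfl : Function.Injective (f.lTensor B) :=
      Module.Flat.lTensor_preserves_injective_linearMap f hf
    have h1 : f.lTensor B (b ⊗ₜ[A] (1 : ResidueField A)) = 0 := by
      rw [LinearMap.lTensor_tmul]
      exact h0
    have h2 : (b ⊗ₜ[A] (1 : ResidueField A) : B ⊗[A] ResidueField A) = 0 :=
      hfl (h1.trans (map_zero _).symm)
    have h3 : (Algebra.TensorProduct.quotIdealMapEquivTensorQuot B (maximalIdeal A))
        (Ideal.Quotient.mk _ b) = 0 := h2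
    have h4 := (Algebra.TensorProduct.quotIdealMapEquivTensorQuot B (maximalIdeal A)).injective
      (h3.trans (map_zero _).symm)
    exact Ideal.Quotient.eq_zero_iff_mem.1 h4
  · intro hb
    have h1 := smul_tmul_eq_zero (maximalIdeal A) (f 1)
      (fun a ha => Groth.Agent.H2.Matlis.maximalIdeal_smul_f f ha 1) b hb (1 : B)
    rwa [TensorProduct.smul_tmul', smul_eq_mul, mul_one] at h1

/-- The socle of `B ⊗ E` is generated by one element. -/
theorem exists_socle_gen
    [LocCoh.IsGorensteinLocalRing (B ⧸ (maximalIdeal A).map (algebraMap A B))]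
    [IsArtinianRing (B ⧸ (maximalIdeal A).map (algebraMap A B))]
    (f : ResidueField A →ₗ[A] E) (hf : IsInjectiveHull f) :
    ∃ z₀ : B ⊗[A] E, z₀ ≠ 0 ∧ (∀ β ∈ maximalIdeal B, β • z₀ = 0) ∧
      ∀ z : B ⊗[A] E, (∀ β ∈ maximalIdeal B, β • z = 0) → ∃ b : B, z = b • z₀ := by
  have hJle : (maximalIdeal A).map (algebraMap A B) ≤ maximalIdeal B :=
    IsLocalRing.map_maximalIdeal_le (algebraMap A B)
  obtain ⟨b₀, hb₀J, hb₀k, hb₀g⟩ :=
    exists_socle_lift ((maximalIdeal A).map (algebraMap A B)) hJle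
  have hiff := tmul_f_one_eq_zero_iff (B := B) f hf.injective
  refine ⟨b₀ ⊗ₜ[A] f 1, fun h0 => hb₀J ((hiff b₀).1 h0), ?_, ?_⟩
  · intro β hβ
    rw [TensorProduct.smul_tmul', smul_eq_mul]
    exact (hiff _).2 (hb₀k β hβ)
  · intro z hz
    have h1 : z ∈ LinearMap.range (f.lTensor B) := socle_tensor f hf z (fun a ha => by
      rw [← algebraMap_smul B a z]
      exact hz _ (hJle (Ideal.mem_map_of_mem _ ha)))
    obtain ⟨w, hw⟩ := h1
    obtain ⟨b, hb⟩ := exists_tmul_one w
    have hz' : z = b ⊗ₜ[A] f 1 := by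
      rw [← hw, hb, LinearMap.lTensor_tmul]
    have hbk : ∀ β ∈ maximalIdeal B, β * b ∈ (maximalIdeal A).map (algebraMap A B) := by
      intro β hβ
      apply (hiff _).1
      have h2 := hz β hβ
      rw [hz', TensorProduct.smul_tmul', smul_eq_mul] at h2
      exact h2
    obtain ⟨β', hβ'⟩ := hb₀g b hbk
    have h5 := (hiff _).2 hβ'
    rw [TensorProduct.sub_tmul, sub_eq_zero] at h5
    refine ⟨β', ?_⟩
    rw [hz', TensorProduct.smul_tmul', smul_eq_mul]
    exact h5

theorem isPowerTorsion_tensor' (r : ℕ)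
    (hr : maximalIdeal B ^ r ≤ (maximalIdeal A).map (algebraMap A B))
    (hE : LocCoh.IsPowerTorsion (maximalIdeal A) E) :
    LocCoh.IsPowerTorsion (maximalIdeal B) (B ⊗[A] E) := by
  intro z
  obtain ⟨N, hN⟩ := exists_mem_baseChange hE z
  refine ⟨r * N, fun β hβ => smul_baseChange_eq_zero (maximalIdeal A ^ N) β ?_ z hN⟩
  rw [Ideal.map_pow]
  rw [pow_mul] at hβ
  exact Ideal.pow_right_mono hr N hβ

theorem exists_sigma' (z₀ : B ⊗[A] E) (hz₀ : ∀ β ∈ maximalIdeal B, β • z₀ = 0) :
    ∃ σ : ResidueField B →ₗ[B] B ⊗[A] E, ∀ b : B, σ (residue B b) = b • z₀ := by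
  have hle : maximalIdeal B ≤
      LinearMap.ker (LinearMap.toSpanSingleton B (B ⊗[A] E) z₀) := by
    intro β hβ
    rw [LinearMap.mem_ker, LinearMap.toSpanSingleton_apply]
    exact hz₀ β hβ
  exact ⟨Submodule.liftQ (maximalIdeal B) _ hle, fun b => rfl⟩

theorem length_baseChange_tors' (f : ResidueField A →ₗ[A] E) (hf : IsInjectiveHull f) (N : ℕ) :
    Module.length B ((LocCoh.torsionBy (maximalIdeal A ^ N) E).baseChange B) =
      Module.length A (A ⧸ maximalIdeal A ^ N) *
        Module.length B (B ⧸ (maximalIdeal A).map (algebraMap A B)) := by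
  rw [← (Submodule.toBaseChange.toLinearEquiv B
    (LocCoh.torsionBy (maximalIdeal A ^ N) E)).length_eq, IsLocalRing.length_baseChange A B,
    length_tors_hull f hf N]

theorem length_quot_map_pow (N : ℕ) :
    Module.length B (B ⧸ (maximalIdeal A ^ N).map (algebraMap A B)) =
      Module.length A (A ⧸ maximalIdeal A ^ N) *
        Module.length B (B ⧸ (maximalIdeal A).map (algebraMap A B)) := by
  rw [(Algebra.TensorProduct.quotIdealMapEquivTensorQuot B
    (maximalIdeal A ^ N)).toLinearEquiv.length_eq, IsLocalRing.length_baseChange A B]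

/-- Flat base change of the injective hull of the residue field, Artinian Gorenstein fibre. -/
theorem main_gor
    [LocCoh.IsGorensteinLocalRing (B ⧸ (maximalIdeal A).map (algebraMap A B))]
    [IsArtinianRing (B ⧸ (maximalIdeal A).map (algebraMap A B))]
    (f : ResidueField A →ₗ[A] E) (hf : IsInjectiveHull f) :
    ∃ g : ResidueField B →ₗ[B] B ⊗[A] E, IsInjectiveHull g := by
  classical
  have hJle : (maximalIdeal A).map (algebraMap A B) ≤ maximalIdeal B :=
    IsLocalRing.map_maximalIdeal_le (algebraMap A B)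
  obtain ⟨r, hr⟩ := exists_pow_le ((maximalIdeal A).map (algebraMap A B))
  have hL : Module.length B (B ⧸ (maximalIdeal A).map (algebraMap A B)) ≠ ⊤ := by
    rw [Module.length_ne_top_iff, isFiniteLength_iff_isNoetherian_isArtinian]
    haveI : IsArtinian B (B ⧸ (maximalIdeal A).map (algebraMap A B)) :=
      isArtinian_of_surjective_algebraMap
        (R := B ⧸ (maximalIdeal A).map (algebraMap A B)) (S := B) Ideal.Quotient.mk_surjective
    exact ⟨inferInstance, inferInstance⟩
  have hflq : ∀ N, IsFiniteLength B (B ⧸ (maximalIdeal A ^ N).map (algebraMap A B)) := by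
    intro N
    rw [← Module.length_ne_top_iff, length_quot_map_pow N]
    exact WithTop.mul_ne_top (Module.length_ne_top_iff.2
      (Groth.Agent.H2.Matlis.isFiniteLength_quotient_pow A N)) hL
  obtain ⟨EB, _, _, fB, hfB⟩ := Groth.Agent.S0299.result B (ResidueField B)
  haveI := hfB.isInjective
  have hE := Groth.Agent.S0311.result A E f hf
  have hEB := Groth.Agent.S0311.result B EB fB hfB
  have hX : LocCoh.IsPowerTorsion (maximalIdeal B) (B ⊗[A] E) := isPowerTorsion_tensor' r hr hE
  obtain ⟨z₀, hz₀0, hz₀k, hz₀g⟩ := exists_socle_gen (B := B) f hf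
  obtain ⟨σ, hσ⟩ := exists_sigma' z₀ hz₀k
  have hσinj : Function.Injective σ := by
    rw [← LinearMap.ker_eq_bot, LinearMap.ker_eq_bot']
    intro c hc
    obtain ⟨b, rfl⟩ := residue_surjective c
    by_contra hne
    have hb : IsUnit b := by
      by_contra hnu
      exact hne ((residue_eq_zero_iff b).2
        (Groth.Agent.H2.Matlis.mem_maximalIdeal_of_not_isUnit hnu))
    rw [hσ] at hc
    exact hz₀0 (Groth.Agent.H2.Matlis.unit_smul_cancel hb hc)
  obtain ⟨j, hj⟩ := Module.Injective.extension_property B EB (ResidueField B) (B ⊗[A] E) σ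
    hσinj fB
  have hjσ : ∀ c, j (σ c) = fB c := fun c => LinearMap.congr_fun hj c
  have hsoc : ∀ z : B ⊗[A] E, (∀ β ∈ maximalIdeal B, β • z = 0) → z ∈ LinearMap.range σ := by
    intro z hz
    obtain ⟨b, hb⟩ := hz₀g z hz
    exact ⟨residue B b, by rw [hσ, hb]⟩
  have hjinj : Function.Injective j := by
    rw [← LinearMap.ker_eq_bot, LinearMap.ker_eq_bot']
    intro z hz
    by_contra hz0
    obtain ⟨β, hβ0, hβ⟩ := Groth.Agent.H2.Matlis.exists_smul_ne_zero_killed hX z hz0
    obtain ⟨c, hc⟩ := hsoc (β • z) hβ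
    have h1 : fB c = 0 := by rw [← hjσ, hc, map_smul, hz, smul_zero]
    have hc0 : c = 0 := hfB.injective (h1.trans (map_zero fB).symm)
    rw [hc0, map_zero] at hc
    exact hβ0 hc.symm
  have hjsurj : Function.Surjective j := by
    intro y
    obtain ⟨N, hN⟩ := hEB y
    have hpowle : (maximalIdeal A ^ N).map (algebraMap A B) ≤ maximalIdeal B ^ N := by
      rw [Ideal.map_pow]
      exact Ideal.pow_right_mono hJle N
    have hmap : ∀ z ∈ (LocCoh.torsionBy (maximalIdeal A ^ N) E).baseChange B,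
        j z ∈ LocCoh.torsionBy ((maximalIdeal A ^ N).map (algebraMap A B)) EB := by
      intro z hz
      rw [Submodule.mem_torsionBySet_iff]
      rintro ⟨β, hβ⟩
      show β • j z = 0
      rw [← map_smul, smul_baseChange_eq_zero (maximalIdeal A ^ N) β hβ z hz, map_zero]
    have hjN : Function.Injective (j.restrict hmap) := fun a b h =>
      Subtype.ext (hjinj (congrArg Subtype.val h))
    have hlen : Module.length B
        (LocCoh.torsionBy ((maximalIdeal A ^ N).map (algebraMap A B)) EB) =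
        Module.length B ((LocCoh.torsionBy (maximalIdeal A ^ N) E).baseChange B) := by
      rw [length_tors ((maximalIdeal A ^ N).map (algebraMap A B)) EB,
        Groth.Agent.H2.Matlis.length_dual hfB _ (hflq N), length_quot_map_pow N,
        length_baseChange_tors' f hf N]
    have hfin : Module.length B ((LocCoh.torsionBy (maximalIdeal A ^ N) E).baseChange B) ≠ ⊤ := by
      rw [length_baseChange_tors' f hf N]
      exact WithTop.mul_ne_top (Module.length_ne_top_iff.2
        (Groth.Agent.H2.Matlis.isFiniteLength_quotient_pow A N)) hL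
    obtain ⟨x, hx⟩ := Groth.Agent.H2.Matlis.surjective_of_injective_of_length_eq
      (j.restrict hmap) hjN hfin hlen
      ⟨y, (Submodule.mem_torsionBySet_iff _ _).2 fun a => hN a.1 (hpowle a.2)⟩
    exact ⟨x.1, congrArg Subtype.val hx⟩
  let e : (B ⊗[A] E) ≃ₗ[B] EB := LinearEquiv.ofBijective j ⟨hjinj, hjsurj⟩
  have he : ∀ x, e x = j x := fun x => rfl
  obtain ⟨-, hess, -⟩ := (Groth.Agent.H58.IH.isInjectiveHull_iff fB).1 hfB
  refine ⟨e.symm.toLinearMap ∘ₗ fB, (Groth.Agent.H58.IH.isInjectiveHull_iff _).2 ⟨?_, ?_, ?_⟩⟩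
  · exact e.symm.injective.comp hfB.injective
  · intro x hx
    have hex : e x ≠ 0 := fun h0 => hx (e.injective (h0.trans (map_zero e).symm))
    obtain ⟨r', ⟨c, hc⟩, hr0⟩ := hess (e x) hex
    refine ⟨r', ⟨c, ?_⟩, ?_⟩
    · show e.symm (fB c) = r' • x
      rw [hc, ← map_smul, LinearEquiv.symm_apply_apply]
    · intro h0
      apply hr0
      rw [← map_smul, h0, map_zero]
  · exact Module.Baer.injective (Module.Baer.of_equiv e.symm (Module.Baer.of_injective inferInstance))

end Groth.Agent.H72.IHGor
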