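import Mathlib
set_option autoImplicit false

/-!
# Integer matrices of the Koszul complex and of its contracting homotopies

`W i j` is the matrix of `e_j ∧ · : Λ^i(ℤ^N) → Λ^{i+1}(ℤ^N)` and `c i j` the matrix of the
contraction with `e_j^* : Λ^{i+1}(ℤ^N) → Λ^i(ℤ^N)`, in arbitrary bases indexed by
`Fin (N.choose i)`.  (Piece (KM) for helper82's S1071.)
-/

namespace Groth.Agent.H72.KoszulMat

open ExteriorAlgebra

section general

variable {R : Type*} [CommRing R] {M : Type*} [AddCommGroup M] [Module R M]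

theorem ι_mul_mem (m : M) (i : ℕ) {x : ExteriorAlgebra R M} (hx : x ∈ ⋀[R]^i M) :
    ι R m * x ∈ ⋀[R]^(i + 1) M := by
  show ι R m * x ∈ LinearMap.range (ι R : M →ₗ[R] ExteriorAlgebra R M) ^ (i + 1)
  rw [pow_succ']
  exact Submodule.mul_mem_mul (LinearMap.mem_range_self _ m) hx

theorem contract_mem_zero (d : Module.Dual R M) {x : ExteriorAlgebra R M}
    (hx : x ∈ ⋀[R]^0 M) :
    CliffordAlgebra.contractLeft d x = 0 := by
  have e : ⋀[R]^0 M = 1 := pow_zero _
  rw [e] at hx
  obtain ⟨r, rfl⟩ := Submodule.mem_one.mp hx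
  exact CliffordAlgebra.contractLeft_algebraMap _ d r

theorem contract_mem (d : Module.Dual R M) :
    ∀ (i : ℕ) {x : ExteriorAlgebra R M}, x ∈ ⋀[R]^(i + 1) M →
      CliffordAlgebra.contractLeft d x ∈ ⋀[R]^i M := by
  intro i
  induction i with
  | zero =>
    intro x hx
    have e : ⋀[R]^(0 + 1) M =
        LinearMap.range (ι R : M →ₗ[R] ExteriorAlgebra R M) * ⋀[R]^0 M := pow_succ' _ _
    rw [e] at hx
    refine Submodule.mul_induction_on hx ?_ ?_
    · rintro a ⟨m, rfl⟩ b hb
      rw [CliffordAlgebra.contractLeft_ι_mul, contract_mem_zero d hb, mul_zero, sub_zero]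
      exact Submodule.smul_mem _ _ hb
    · intro a b ha hb
      rw [map_add]
      exact Submodule.add_mem _ ha hb
  | succ k ih =>
    intro x hx
    have e : ⋀[R]^(k + 1 + 1) M =
        LinearMap.range (ι R : M →ₗ[R] ExteriorAlgebra R M) * ⋀[R]^(k + 1) M := pow_succ' _ _
    rw [e] at hx
    refine Submodule.mul_induction_on hx ?_ ?_
    · rintro a ⟨m, rfl⟩ b hb
      rw [CliffordAlgebra.contractLeft_ι_mul]
      exact Submodule.sub_mem _ (Submodule.smul_mem _ _ hb) (ι_mul_mem m k (ih hb))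
    · intro a b ha hb
      rw [map_add]
      exact Submodule.add_mem _ ha hb

variable (R) in
/-- `m ∧ ·` on the `i`-th exterior power. -/
noncomputable def wedge (m : M) (i : ℕ) : ⋀[R]^i M →ₗ[R] ⋀[R]^(i + 1) M :=
  (LinearMap.mulLeft R (ι R m)).restrict (fun x hx => by
    rw [LinearMap.mulLeft_apply]; exact ι_mul_mem m i hx)

/-- contraction with `d` on the `(i+1)`-st exterior power. -/
noncomputable def contr (d : Module.Dual R M) (i : ℕ) : ⋀[R]^(i + 1) M →ₗ[R] ⋀[R]^i M :=
  (CliffordAlgebra.contractLeft (Q := (0 : QuadraticForm R M)) d).restrict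
    (fun _ hx => contract_mem d i hx)

theorem wedge_coe (m : M) (i : ℕ) (x : ⋀[R]^i M) :
    ((wedge R m i x : ⋀[R]^(i + 1) M) : ExteriorAlgebra R M) =
      ι R m * (x : ExteriorAlgebra R M) := rfl

theorem contr_coe (d : Module.Dual R M) (i : ℕ) (x : ⋀[R]^(i + 1) M) :
    ((contr d i x : ⋀[R]^i M) : ExteriorAlgebra R M) =
      CliffordAlgebra.contractLeft d (x : ExteriorAlgebra R M) := rfl

theorem wedge_wedge_add (m m' : M) (i : ℕ) :
    wedge R m (i + 1) ∘ₗ wedge R m' i + wedge R m' (i + 1) ∘ₗ wedge R m i = 0 := by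
  refine LinearMap.ext fun x => Subtype.ext ?_
  simp only [LinearMap.add_apply, LinearMap.comp_apply, Submodule.coe_add, wedge_coe,
    LinearMap.zero_apply, Submodule.coe_zero]
  rw [← mul_assoc, ← mul_assoc, ← add_mul, ι_add_mul_swap, zero_mul]

theorem wedge_wedge_self (m : M) (i : ℕ) : wedge R m (i + 1) ∘ₗ wedge R m i = 0 := by
  refine LinearMap.ext fun x => Subtype.ext ?_
  simp only [LinearMap.comp_apply, wedge_coe, LinearMap.zero_apply, Submodule.coe_zero]
  rw [← mul_assoc, ι_sq_zero, zero_mul]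

theorem contr_wedge_zero (d : Module.Dual R M) (m : M) :
    contr d 0 ∘ₗ wedge R m 0 = d m • LinearMap.id := by
  refine LinearMap.ext fun x => Subtype.ext ?_
  simp only [LinearMap.comp_apply, contr_coe, wedge_coe, CliffordAlgebra.contractLeft_ι_mul,
    LinearMap.smul_apply, LinearMap.id_coe, id_eq, Submodule.coe_smul]
  rw [contract_mem_zero d x.2, mul_zero, sub_zero]

theorem wedge_contr_add (d : Module.Dual R M) (m : M) (i : ℕ) :
    wedge R m i ∘ₗ contr d i + contr d (i + 1) ∘ₗ wedge R m (i + 1) = d m • LinearMap.id := by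
  refine LinearMap.ext fun x => Subtype.ext ?_
  simp only [LinearMap.add_apply, LinearMap.comp_apply, Submodule.coe_add, contr_coe, wedge_coe,
    CliffordAlgebra.contractLeft_ι_mul, LinearMap.smul_apply, LinearMap.id_coe, id_eq,
    Submodule.coe_smul]
  abel

end general

open Module

/-- A basis of `Λ^i(ℤ^N)` indexed by `Fin (N.choose i)`. -/
noncomputable def bas (N i : ℕ) : Basis (Fin (N.choose i)) ℤ (⋀[ℤ]^i (Fin N → ℤ)) :=
  Module.finBasisOfFinrankEq ℤ _ (by
    rw [_root_.exteriorPower.finrank_eq ℤ i, Module.finrank_fin_fun])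

theorem exists_koszul_matrices (N : ℕ) :
    ∃ (W : ∀ i : ℕ, Fin N → Matrix (Fin (N.choose (i + 1))) (Fin (N.choose i)) ℤ)
      (c : ∀ i : ℕ, Fin N → Matrix (Fin (N.choose i)) (Fin (N.choose (i + 1))) ℤ),
      (∀ (i : ℕ) (j k : Fin N), W (i + 1) j * W i k + W (i + 1) k * W i j = 0) ∧
      (∀ (i : ℕ) (j : Fin N), W (i + 1) j * W i j = 0) ∧
      (∀ j k : Fin N, c 0 j * W 0 k = if j = k then 1 else 0) ∧
      (∀ (i : ℕ) (j k : Fin N), W i k * c i j + c (i + 1) j * W (i + 1) k =
        if j = k then 1 else 0) := by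
  let e : Fin N → (Fin N → ℤ) := fun j => Pi.single j 1
  let d : Fin N → Module.Dual ℤ (Fin N → ℤ) := fun j => LinearMap.proj j
  have hde : ∀ j k, d j (e k) = if j = k then 1 else 0 := by
    intro j k
    show (Pi.single k (1 : ℤ) : Fin N → ℤ) j = _
    rw [Pi.single_apply]
  refine ⟨fun i j => LinearMap.toMatrix (bas N i) (bas N (i + 1)) (wedge ℤ (e j) i),
    fun i j => LinearMap.toMatrix (bas N (i + 1)) (bas N i) (contr (d j) i), ?_, ?_, ?_, ?_⟩
  · intro i j k
    dsimp only
    rw [← LinearMap.toMatrix_comp, ← LinearMap.toMatrix_comp, ← LinearEquiv.map_add,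
      wedge_wedge_add, LinearEquiv.map_zero]
  · intro i j
    dsimp only
    rw [← LinearMap.toMatrix_comp, wedge_wedge_self, LinearEquiv.map_zero]
  · intro j k
    dsimp only
    rw [← LinearMap.toMatrix_comp, contr_wedge_zero, hde]
    split_ifs with h
    · rw [one_smul, LinearMap.toMatrix_id]
    · rw [zero_smul, LinearEquiv.map_zero]
  · intro i j k
    dsimp only
    rw [← LinearMap.toMatrix_comp, ← LinearMap.toMatrix_comp, ← LinearEquiv.map_add,
      wedge_contr_add, hde]
    split_ifs with h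
    · rw [one_smul, LinearMap.toMatrix_id]
    · rw [zero_smul, LinearEquiv.map_zero]

end Groth.Agent.H72.KoszulMat
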