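import Mathlib

/-!
# Helper library (helper72): Kunz's criterion, abstract form

`ψ : R →ₐ[k] k[X]` is a `k`-algebra map whose image is the set of polynomials supported in a
numerical semigroup `H`; `e ∈ H` is positive.  `J` is the ideal of those `p` with `ψ p` having no
term in the Apéry set `Ap H e`.  We show that `R ⧸ J` is a finite `k`-algebra, that
`J = ker ψ ⊔ (y)` if `ψ y = X ^ e`, and that `R ⧸ J` carries a nondegenerate `k`-linear form
(i.e. is a Frobenius algebra) iff `H` is symmetric.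
-/

set_option autoImplicit false

namespace Groth.Agent.H72.Kunz

open Polynomial

variable {k : Type*} [Field k] {R : Type*} [CommRing R] [Algebra k R]

/-- The Apéry set of `H` with respect to `e`. -/
def Ap (H : Set ℕ) (e : ℕ) : Set ℕ := {w | w ∈ H ∧ ∀ h ∈ H, w ≠ e + h}

theorem exists_of_mem_of_notMem_Ap {H : Set ℕ} {e j : ℕ} (hj : j ∈ H) (hj' : j ∉ Ap H e) :
    ∃ h ∈ H, j = e + h := by
  by_contra hcon
  apply hj'
  exact ⟨hj, fun h hh heq => hcon ⟨h, hh, heq⟩⟩

/-- The ideal of elements whose image under `ψ` has no term in the Apéry set. -/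
def J0 (ψ : R →ₐ[k] k[X]) (H : Set ℕ) (e : ℕ)
    (hs : ∀ p n, (ψ p).coeff n ≠ 0 → n ∈ H) (ha : ∀ a ∈ H, ∀ b ∈ H, a + b ∈ H) : Ideal R where
  carrier := {p | ∀ n ∈ Ap H e, (ψ p).coeff n = 0}
  add_mem' := by
    intro p q hp hq
    simp only [Set.mem_setOf_eq] at hp hq ⊢
    intro n hn
    rw [map_add, coeff_add, hp n hn, hq n hn, add_zero]
  zero_mem' := by
    simp only [Set.mem_setOf_eq]
    intro n _
    rw [map_zero, coeff_zero]
  smul_mem' := by
    intro r p hp
    simp only [Set.mem_setOf_eq] at hp ⊢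
    intro n hn
    rw [smul_eq_mul, map_mul, coeff_mul]
    refine Finset.sum_eq_zero fun x hx => ?_
    have hx' := Finset.HasAntidiagonal.mem_antidiagonal.1 hx
    by_contra hne
    have h1 : (ψ r).coeff x.1 ≠ 0 := left_ne_zero_of_mul hne
    have h2 : (ψ p).coeff x.2 ≠ 0 := right_ne_zero_of_mul hne
    have hi := hs r x.1 h1
    have hj := hs p x.2 h2
    have hj' : x.2 ∉ Ap H e := fun hAp => h2 (hp x.2 hAp)
    obtain ⟨h, hh, heq⟩ := exists_of_mem_of_notMem_Ap hj hj'
    exact hn.2 (x.1 + h) (ha _ hi _ hh) (by omega)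

open Classical in
/-- The Apéry set as a finset. -/
noncomputable def ApF (H : Set ℕ) (e N : ℕ) : Finset ℕ :=
  (Finset.range (N + e)).filter (fun w => w ∈ Ap H e)

/-- The standing hypotheses. -/
structure Data (ψ : R →ₐ[k] k[X]) (H : Set ℕ) (e N : ℕ) : Prop where
  supp : ∀ p n, (ψ p).coeff n ≠ 0 → n ∈ H
  add : ∀ a ∈ H, ∀ b ∈ H, a + b ∈ H
  zero : 0 ∈ H
  big : ∀ n, N ≤ n → n ∈ H
  e_mem : e ∈ H
  e_pos : 0 < e
  lift : ∀ n ∈ H, ∃ s, ψ s = X ^ n

namespace Data

variable {ψ : R →ₐ[k] k[X]} {H : Set ℕ} {e N : ℕ} (D : Data ψ H e N)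

/-- the ideal `J`. -/
def J : Ideal R := J0 ψ H e D.supp D.add

theorem mem_J (p : R) : p ∈ D.J ↔ ∀ n ∈ Ap H e, (ψ p).coeff n = 0 := Iff.rfl

include D in
theorem zero_mem_Ap : 0 ∈ Ap H e :=
  ⟨D.zero, fun h _ heq => by have := D.e_pos; omega⟩

include D in
theorem Ap_lt {w : ℕ} (hw : w ∈ Ap H e) : w < N + e := by
  by_contra hcon
  push Not at hcon
  exact hw.2 (w - e) (D.big _ (by omega)) (by omega)

include D in
theorem e_notMem_Ap : e ∉ Ap H e := fun h => h.2 0 D.zero (by omega)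

include D in
theorem mul_e_mem (j : ℕ) : j * e ∈ H := by
  induction j with
  | zero => rw [Nat.zero_mul]; exact D.zero
  | succ j ih => rw [Nat.succ_mul]; exact D.add _ ih _ D.e_mem

include D in
theorem mem_ApF {w : ℕ} : w ∈ ApF H e N ↔ w ∈ Ap H e := by
  classical
  unfold ApF
  rw [Finset.mem_filter, Finset.mem_range]
  exact ⟨fun h => h.2, fun h => ⟨D.Ap_lt h, h⟩⟩

open Classical in
/-- chosen lifts of the monomials. -/
noncomputable def s (n : ℕ) : R := if h : n ∈ H then (D.lift n h).choose else 0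

theorem psi_s {n : ℕ} (h : n ∈ H) : ψ (D.s n) = X ^ n := by
  unfold s
  rw [dif_pos h]
  exact (D.lift n h).choose_spec

theorem J_eq (y : R) (hy : ψ y = X ^ e) : D.J = RingHom.ker ψ ⊔ Ideal.span {y} := by
  apply le_antisymm
  · intro p hp
    have hp' := (D.mem_J p).1 hp
    have hψ : ψ ((∑ n ∈ (ψ p).support, (ψ p).coeff n • D.s (n - e)) * y) = ψ p := by
      rw [map_mul, hy, map_sum, Finset.sum_mul]
      conv_rhs => rw [(ψ p).as_sum_support_C_mul_X_pow]
      refine Finset.sum_congr rfl fun n hn => ?_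
      have hn0 : (ψ p).coeff n ≠ 0 := mem_support_iff.1 hn
      have hnH := D.supp p n hn0
      have hnAp : n ∉ Ap H e := fun hAp => hn0 (hp' n hAp)
      obtain ⟨h, hh, heq⟩ := exists_of_mem_of_notMem_Ap hnH hnAp
      have hne : n - e = h := by omega
      rw [hne, map_smul, D.psi_s hh, smul_eq_C_mul, mul_assoc, ← pow_add]
      have : h + e = n := by omega
      rw [this]
    have hker : p - (∑ n ∈ (ψ p).support, (ψ p).coeff n • D.s (n - e)) * y ∈ RingHom.ker ψ := by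
      rw [RingHom.mem_ker, map_sub, hψ, sub_self]
    have hdec : p = (p - (∑ n ∈ (ψ p).support, (ψ p).coeff n • D.s (n - e)) * y) +
        (∑ n ∈ (ψ p).support, (ψ p).coeff n • D.s (n - e)) * y := by ring
    rw [hdec]
    exact Ideal.add_mem _ (Ideal.mem_sup_left hker)
      (Ideal.mem_sup_right (Ideal.mul_mem_left _ _ (Ideal.mem_span_singleton_self y)))
  · rw [sup_le_iff, Ideal.span_singleton_le_iff_mem]
    constructor
    · intro p hp
      rw [RingHom.mem_ker] at hp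
      rw [D.mem_J]
      intro n _
      rw [hp, coeff_zero]
    · rw [D.mem_J]
      intro n hn
      rw [hy, coeff_X_pow, if_neg]
      rintro rfl
      exact D.e_notMem_Ap hn

theorem finite_quot : Module.Finite k (R ⧸ D.J) := by
  classical
  let π := Ideal.Quotient.mkₐ k D.J
  let v : (ApF H e N) → (R ⧸ D.J) := fun w => π (D.s w.1)
  refine Module.Finite.of_surjective (Fintype.linearCombination k v) ?_
  intro x
  obtain ⟨p, rfl⟩ := Ideal.Quotient.mkₐ_surjective k D.J x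
  refine ⟨fun w => (ψ p).coeff w.1, ?_⟩
  rw [Fintype.linearCombination_apply]
  have h1 : (∑ w : ApF H e N, (ψ p).coeff w.1 • v w) =
      π (∑ w : ApF H e N, (ψ p).coeff w.1 • D.s w.1) := by
    rw [map_sum]
    refine Finset.sum_congr rfl fun w _ => ?_
    exact (map_smul π _ _).symm
  rw [h1]
  show Ideal.Quotient.mk D.J _ = Ideal.Quotient.mk D.J _
  rw [Ideal.Quotient.eq, D.mem_J]
  intro n hn
  rw [map_sub, coeff_sub, map_sum, finsetSum_coeff]
  rw [Finset.sum_eq_single (⟨n, D.mem_ApF.2 hn⟩ : ApF H e N)]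
  · rw [map_smul, D.psi_s hn.1, coeff_smul, coeff_X_pow, if_pos rfl, smul_eq_mul, mul_one,
      sub_self]
  · intro w _ hne
    have hw : w.1 ∈ H := (D.mem_ApF.1 w.2).1
    rw [map_smul, D.psi_s hw, coeff_smul, coeff_X_pow, if_neg, smul_zero]
    intro h
    exact hne (Subtype.ext h.symm)
  · intro h
    exact absurd (Finset.mem_univ _) h

/-- symmetric semigroups give a nondegenerate form. -/
theorem nondeg_of_symm
    (hsym : ∃ d : ℤ, ∀ n : ℤ, (∃ h ∈ H, (h : ℤ) = n) ↔ ¬ ∃ h ∈ H, (h : ℤ) = d - n) :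
    ∃ lam : R →ₗ[k] k, (∀ p ∈ D.J, lam p = 0) ∧ ∀ p, (∀ q, lam (p * q) = 0) → p ∈ D.J := by
  obtain ⟨d, hd⟩ := hsym
  have h1 : ∃ h ∈ H, (h : ℤ) = d - (-(e : ℤ)) := by
    by_contra hcon
    obtain ⟨h, _, hh⟩ := (hd (-(e : ℤ))).2 hcon
    have := D.e_pos
    omega
  obtain ⟨ws, hwsH, hws⟩ := h1
  have hdH : ¬ ∃ h ∈ H, (h : ℤ) = d := by
    intro hex
    have := (hd d).1 hex
    exact this ⟨0, D.zero, by omega⟩
  have hwsAp : ws ∈ Ap H e := by
    refine ⟨hwsH, fun h hh heq => hdH ⟨h, hh, by omega⟩⟩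
  refine ⟨(lcoeff k ws).comp ψ.toLinearMap, ?_, ?_⟩
  · intro p hp
    exact (D.mem_J p).1 hp ws hwsAp
  · intro p hp
    rw [D.mem_J]
    intro n hn
    have hno : ¬ ∃ h ∈ H, (h : ℤ) = (n : ℤ) - e := by
      rintro ⟨h, hh, heq⟩
      exact hn.2 h hh (by omega)
    have hex : ∃ h ∈ H, (h : ℤ) = d - ((n : ℤ) - e) := by
      by_contra hcon
      exact hno ((hd _).2 hcon)
    obtain ⟨h, hh, heq⟩ := hex
    have hsum : n + h = ws := by omega
    have h2 := hp (D.s h)
    change (ψ (p * D.s h)).coeff ws = 0 at h2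
    rw [map_mul, D.psi_s hh, ← hsum, coeff_mul_X_pow] at h2
    exact h2

/-- a nondegenerate form forces the semigroup to be symmetric. -/
theorem symm_of_nondeg (lam : R →ₗ[k] k) (hJ : ∀ p ∈ D.J, lam p = 0)
    (hnd : ∀ p, (∀ q, lam (p * q) = 0) → p ∈ D.J) :
    ∃ d : ℤ, ∀ n : ℤ, (∃ h ∈ H, (h : ℤ) = n) ↔ ¬ ∃ h ∈ H, (h : ℤ) = d - n := by
  classical
  have hne : (ApF H e N).Nonempty := ⟨0, D.mem_ApF.2 D.zero_mem_Ap⟩
  obtain ⟨ws, hwsAp, hle⟩ : ∃ ws, ws ∈ Ap H e ∧ ∀ w ∈ Ap H e, w ≤ ws :=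
    ⟨(ApF H e N).max' hne, D.mem_ApF.1 (Finset.max'_mem _ hne),
      fun w hw => Finset.le_max' _ w (D.mem_ApF.2 hw)⟩
  have soc_ws : ∀ h ∈ H, h ≠ 0 → ws + h ∉ Ap H e := by
    intro h _ h0 hAp
    have := hle _ hAp
    omega
  -- the socle lemma
  have socle : ∀ v : ℕ, v ∈ H → (∀ h ∈ H, h ≠ 0 → v + h ∉ Ap H e) → ∀ q : R,
      lam (D.s v * q) = (ψ q).coeff 0 * lam (D.s v) := by
    intro v hv hsoc q
    have hmem : D.s v * q - (ψ q).coeff 0 • D.s v ∈ D.J := by
      rw [D.mem_J]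
      intro n hn
      rw [map_sub, map_mul, map_smul, D.psi_s hv, coeff_sub, coeff_smul, coeff_X_pow_mul',
        coeff_X_pow, smul_eq_mul]
      by_cases hvn : v ≤ n
      · rw [if_pos hvn]
        by_cases hnv : n = v
        · rw [if_pos hnv, hnv, Nat.sub_self, mul_one, sub_self]
        · rw [if_neg hnv, mul_zero, sub_zero]
          by_contra hc
          have hH := D.supp q (n - v) hc
          have h3 : v + (n - v) ∉ Ap H e := hsoc _ hH (by omega)
          rw [Nat.add_sub_cancel' hvn] at h3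
          exact h3 hn
      · rw [if_neg hvn, if_neg (by omega), mul_zero, sub_zero]
    have h4 := hJ _ hmem
    rw [map_sub, map_smul, smul_eq_mul, sub_eq_zero] at h4
    exact h4
  -- every Apéry element lies below the largest one
  have key : ∀ w ∈ Ap H e, ∃ h ∈ H, w + h = ws := by
    intro w hw
    have hUne : ((ApF H e N).filter (fun u => ∃ h ∈ H, w + h = u)).Nonempty :=
      ⟨w, Finset.mem_filter.2 ⟨D.mem_ApF.2 hw, 0, D.zero, rfl⟩⟩
    obtain ⟨u, huU, humax⟩ : ∃ u, u ∈ (ApF H e N).filter (fun u => ∃ h ∈ H, w + h = u) ∧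
        ∀ u' ∈ (ApF H e N).filter (fun u => ∃ h ∈ H, w + h = u), u' ≤ u :=
      ⟨_, Finset.max'_mem _ hUne, fun u' hu' => Finset.le_max' _ u' hu'⟩
    obtain ⟨huF, h0', hh0, hwu⟩ := Finset.mem_filter.1 huU
    have huAp : u ∈ Ap H e := D.mem_ApF.1 huF
    have soc_u : ∀ h ∈ H, h ≠ 0 → u + h ∉ Ap H e := by
      intro h hh hne0 hAp
      have hmemU : u + h ∈ (ApF H e N).filter (fun u => ∃ h ∈ H, w + h = u) :=
        Finset.mem_filter.2 ⟨D.mem_ApF.2 hAp, h0' + h, D.add _ hh0 _ hh, by omega⟩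
      have := humax _ hmemU
      omega
    by_contra hcon
    have hune : u ≠ ws := by
      intro heq
      exact hcon ⟨h0', hh0, by omega⟩
    have hsu := socle u huAp.1 soc_u
    have hsw := socle ws hwsAp.1 soc_ws
    have hz : lam (D.s ws) • D.s u - lam (D.s u) • D.s ws ∈ D.J := by
      apply hnd
      intro q
      rw [sub_mul, smul_mul_assoc, smul_mul_assoc, map_sub, map_smul, map_smul, hsu q, hsw q,
        smul_eq_mul, smul_eq_mul]
      ring
    rw [D.mem_J] at hz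
    have hb0 : lam (D.s ws) = 0 := by
      have h5 := hz u huAp
      rw [map_sub, map_smul, map_smul, D.psi_s huAp.1, D.psi_s hwsAp.1, coeff_sub, coeff_smul,
        coeff_smul, coeff_X_pow, coeff_X_pow, if_pos rfl, if_neg hune, smul_eq_mul, smul_eq_mul,
        mul_one, mul_zero, sub_zero] at h5
      exact h5
    have ha0 : lam (D.s u) = 0 := by
      have h5 := hz ws hwsAp
      rw [map_sub, map_smul, map_smul, D.psi_s huAp.1, D.psi_s hwsAp.1, coeff_sub, coeff_smul,
        coeff_smul, coeff_X_pow, coeff_X_pow, if_neg (Ne.symm hune), if_pos rfl, smul_eq_mul,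
        smul_eq_mul, mul_one, mul_zero, zero_sub, neg_eq_zero] at h5
      exact h5
    have hsuJ : D.s u ∈ D.J := by
      apply hnd
      intro q
      rw [hsu q, ha0, mul_zero]
    have h6 := (D.mem_J _).1 hsuJ u huAp
    rw [D.psi_s huAp.1, coeff_X_pow, if_pos rfl] at h6
    exact one_ne_zero h6
  -- the Apéry element above a gap
  have gap : ∀ m : ℕ, m ∉ H → ∃ j : ℕ, m + (j + 1) * e ∈ Ap H e := by
    intro m hm
    have hex : ∃ j : ℕ, m + (j + 1) * e ∈ H := by
      refine ⟨N, D.big _ ?_⟩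
      have h7 : (N + 1) * 1 ≤ (N + 1) * e := Nat.mul_le_mul_left _ D.e_pos
      omega
    obtain ⟨j, hj, hmin⟩ : ∃ j, (m + (j + 1) * e ∈ H) ∧ ∀ i < j, m + (i + 1) * e ∉ H :=
      ⟨Nat.find hex, Nat.find_spec hex, fun i hi => Nat.find_min hex hi⟩
    refine ⟨j, hj, ?_⟩
    intro h hh heq
    have h8 : (j + 1) * e = j * e + e := Nat.succ_mul j e
    have hh' : h = m + j * e := by omega
    rcases Nat.eq_zero_or_pos j with hj0 | hjpos
    · subst hj0
      rw [Nat.zero_mul, add_zero] at hh'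
      subst hh'
      exact hm hh
    · obtain ⟨i, rfl⟩ : ∃ i, j = i + 1 := ⟨j - 1, by omega⟩
      exact hmin i (by omega) (hh' ▸ hh)
  have large : ∀ m : ℕ, ws < m + e → m ∈ H := by
    intro m hlt
    by_contra hm
    obtain ⟨j, hj⟩ := gap m hm
    have h1 := hle _ hj
    have h2 : (j + 1) * e = j * e + e := Nat.succ_mul j e
    omega
  have hws_ge : e ≤ ws + 1 := by
    by_contra hlt
    push Not at hlt
    have hm : e - 1 ∈ H := large (e - 1) (by omega)
    have hAp : e - 1 ∈ Ap H e := ⟨hm, fun h _ heq => by omega⟩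
    have := hle _ hAp
    omega
  refine ⟨(ws : ℤ) - e, fun n => ⟨?_, ?_⟩⟩
  · rintro ⟨h, hh, hn⟩ ⟨h', hh', hn'⟩
    have h9 : ws = e + (h + h') := by omega
    exact hwsAp.2 (h + h') (D.add _ hh _ hh') h9
  · intro hno
    by_contra hn
    apply hno
    rcases lt_or_ge n 0 with hneg | hnn
    · have hz : 0 ≤ (ws : ℤ) - e - n := by omega
      obtain ⟨m, hm⟩ := Int.eq_ofNat_of_zero_le hz
      exact ⟨m, large m (by omega), by omega⟩
    · obtain ⟨m, rfl⟩ := Int.eq_ofNat_of_zero_le hnn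
      have hmH : m ∉ H := fun hm => hn ⟨m, hm, rfl⟩
      obtain ⟨j, hj⟩ := gap m hmH
      obtain ⟨h, hh, hsum⟩ := key _ hj
      refine ⟨h + j * e, D.add _ hh _ (D.mul_e_mem j), ?_⟩
      have h2 : (j + 1) * e = j * e + e := Nat.succ_mul j e
      push_cast
      have h3 : ((j * e : ℕ) : ℤ) = (j : ℤ) * (e : ℤ) := by push_cast; rfl
      omega

end Data

end Groth.Agent.H72.Kunz
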