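import Groth.Agent.H72.LCRep
import Groth.Agent.H58.LCTors
import Groth.Agent.H98.LCArt

/-!
# Vanishing of `Ext^i(F, G)` above `n` when local cohomology of `G` is concentrated in degree `n`
and injective there
-/

set_option autoImplicit false
universe u

namespace Groth.Agent.H72.LCVanish

open CategoryTheory Abelian
open Groth.Agent.H58.LC Groth.Agent.S5162

variable {A : Type u} [CommRing A]

lemma injective_of_equiv {Q M : Type u} [AddCommGroup Q] [Module A Q] [AddCommGroup M]
    [Module A M] (e : Q ≃ₗ[A] M) (h : Module.Injective A Q) : Module.Injective A M :=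
  (Module.Baer.of_equiv e (Module.Baer.of_injective h)).injective

/-- If `H^i_J(G) = 0` for `i ≠ n` and `H^n_J(G)` is injective then `Ext^i(F, G) = 0` for `i > n`
and every finite `F` supported in `V(J)`. -/
theorem ext_vanish_above [IsNoetherianRing A] (J : Ideal A) (F : Type u) [AddCommGroup F]
    [Module A F] [Module.Finite A F]
    (hF : Module.support A F ⊆ PrimeSpectrum.zeroLocus (J : Set A)) :
    ∀ (n : ℕ) (G : Type u) [AddCommGroup G] [Module A G],
      (∀ i, i ≠ n → Subsingleton (LocCoh.H J i G)) → Module.Injective A (LocCoh.H J n G) →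
      ∀ i, n < i → Subsingleton (Ext.{u} (ModuleCat.of A F) (ModuleCat.of A G) i) := by
  intro n
  induction n with
  | zero =>
    intro G _ _ hvan hinj i hi
    have hΓinj : Module.Injective A ↥(DRing.torsionSub J G) :=
      injective_of_equiv (H0equiv J G) hinj
    have hQ : ∀ j, Subsingleton (LocCoh.H J j (G ⧸ DRing.torsionSub J G)) := by
      intro j
      rcases Nat.eq_zero_or_pos j with rfl | hj
      · exact (H0_subsingleton_iff J _).2 (Groth.Agent.H98.LCArt.torsionSub_quot_eq_bot J G)
      · haveI := hvan j (Nat.pos_iff_ne_zero.1 hj)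
        exact (Hmap_mkQ_torsionSub_bijective J G j hj).2.subsingleton
    have hExtQ : ∀ j, Subsingleton
        (Ext.{u} (ModuleCat.of A F) (ModuleCat.of A (G ⧸ DRing.torsionSub J G)) j) :=
      fun j => ML1 J (j + 1) _ (fun i _ => hQ i) F inferInstance hF j (Nat.lt_succ_self j)
    have hex : Function.Exact (DRing.torsionSub J G).subtype (DRing.torsionSub J G).mkQ :=
      LinearMap.exact_subtype_mkQ _
    let S : ShortComplex (ModuleCat.{u} A) :=
      ShortComplex.mk (ModuleCat.ofHom (DRing.torsionSub J G).subtype)
        (ModuleCat.ofHom (DRing.torsionSub J G).mkQ)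
        (ModuleCat.hom_ext (LinearMap.ext fun x => hex.apply_apply_eq_zero x))
    have hS : S.ShortExact :=
      { exact := (ShortComplex.ShortExact.moduleCat_exact_iff_function_exact S).2 hex
        mono_f := (ModuleCat.mono_iff_injective _).2 (Submodule.injective_subtype _)
        epi_g := (ModuleCat.epi_iff_surjective _).2 (Submodule.mkQ_surjective _) }
    haveI : CategoryTheory.Injective (ModuleCat.of A ↥(DRing.torsionSub J G)) :=
      Module.injective_object_of_injective_module A _
    obtain ⟨i', rfl⟩ := Nat.exists_eq_succ_of_ne_zero (Nat.pos_iff_ne_zero.1 hi)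
    exact Groth.Agent.H15.ExtDepth.subsingleton_ext_X₂ (ModuleCat.of A F) hS (i' + 1)
      (Abelian.Ext.subsingleton_of_injective _ _ i') (hExtQ (i' + 1))
  | succ n ih =>
    intro G _ _ hvan hinj i hi
    have hG : DRing.torsionSub J G = ⊥ :=
      (H0_subsingleton_iff J G).1 (hvan 0 (Nat.succ_ne_zero n).symm)
    obtain ⟨E, _, _, hEinj, f, hf, hess⟩ := exists_ess (A := A) G
    have hE : DRing.torsionSub J E = ⊥ := by
      rw [eq_bot_iff]
      intro x hx
      rw [Submodule.mem_bot]
      by_contra hx0
      obtain ⟨r, ⟨z, hz⟩, hr0⟩ := hess x hx0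
      have hz' : z ∈ DRing.torsionSub J G := by
        obtain ⟨k', hk'⟩ := hx
        show ∃ n : ℕ, ∀ a ∈ J ^ n, a • z = 0
        refine ⟨k', fun a ha => hf ?_⟩
        rw [map_smul, hz, map_zero, smul_comm, hk' a ha, smul_zero]
      rw [hG, Submodule.mem_bot] at hz'
      rw [hz', map_zero] at hz
      exact hr0 hz.symm
    let g : E →ₗ[A] (E ⧸ LinearMap.range f) := (LinearMap.range f).mkQ
    have hg : Function.Surjective g := Submodule.mkQ_surjective _
    have hfg : Function.Exact f g := LinearMap.exact_map_mkQ_range f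
    have hHE : ∀ i, Subsingleton (LocCoh.H J i E) := by
      intro i
      rcases Nat.eq_zero_or_pos i with rfl | hi
      · exact (H0_subsingleton_iff J E).2 hE
      · exact subsingleton_H_of_injective J i hi
    have hδ : ∀ i, ∃ δ : LocCoh.H J i (E ⧸ LinearMap.range f) →ₗ[A] LocCoh.H J (i + 1) G,
        Function.Bijective δ := by
      intro i
      obtain ⟨δ, -, h2, h3, -⟩ := les_mod J f g hf hg hfg i
      refine ⟨δ, ?_, ?_⟩
      · rw [injective_iff_map_eq_zero]
        intro y hy
        obtain ⟨z, rfl⟩ := (h2 y).1 hy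
        rw [@Subsingleton.elim _ (hHE i) z 0, map_zero]
      · intro w
        exact (h3 w).1 (@Subsingleton.elim _ (hHE (i + 1)) _ _)
    have hvan' : ∀ i, i ≠ n → Subsingleton (LocCoh.H J i (E ⧸ LinearMap.range f)) := by
      intro i hi
      obtain ⟨δ, hδb⟩ := hδ i
      haveI := hvan (i + 1) (by omega)
      exact hδb.1.subsingleton
    have hinj' : Module.Injective A (LocCoh.H J n (E ⧸ LinearMap.range f)) := by
      obtain ⟨δ, hδb⟩ := hδ n
      exact injective_of_equiv (LinearEquiv.ofBijective δ hδb).symm hinj
    let S : ShortComplex (ModuleCat.{u} A) :=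
      ShortComplex.mk (ModuleCat.ofHom f) (ModuleCat.ofHom g)
        (ModuleCat.hom_ext (LinearMap.ext fun x => hfg.apply_apply_eq_zero x))
    have hS : S.ShortExact :=
      { exact := (ShortComplex.ShortExact.moduleCat_exact_iff_function_exact S).2 hfg
        mono_f := (ModuleCat.mono_iff_injective _).2 hf
        epi_g := (ModuleCat.epi_iff_surjective _).2 hg }
    haveI : CategoryTheory.Injective (ModuleCat.of A E) :=
      Module.injective_object_of_injective_module A E
    obtain ⟨i', rfl⟩ : ∃ i', i = i' + 1 := ⟨i - 1, by omega⟩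
    have h1 := ih (E ⧸ LinearMap.range f) hvan' hinj' i' (by omega)
    exact Groth.Agent.H15.ExtDepth.subsingleton_ext_X₁_succ (ModuleCat.of A F) hS i'
      (Abelian.Ext.subsingleton_of_injective _ _ i') h1

end Groth.Agent.H72.LCVanish
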