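import Mathlib
import Groth.Prelude.Def_Wider
import Groth.Agent.H58.LCMod
import Groth.Agent.H45.ExtContraLES

/-!
# Local duality (abstract form)

Let `J` be an ideal of a Noetherian ring `A` and `n : ℕ` such that `H^i_J(A) = 0` for `i ≠ n`,
`H^n_J(A)` is an injective module and `H^{n+1}_J` vanishes on finite modules.  Then for every
finite module `M` and `j ≤ n` there is an isomorphism
`H^{n-j}_J(M) ≃ Hom(Ext^j(M, A), H^n_J(A))`  (`ld`).
-/

set_option autoImplicit false
universe u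

namespace Groth.Agent.H72.LD

open CategoryTheory CategoryTheory.Abelian Groth.Agent.H58.LC

variable {A : Type u} [CommRing A]

section LinAlg

variable {X Y W Q F M : Type u} [AddCommGroup X] [Module A X] [AddCommGroup Y] [Module A Y]
  [AddCommGroup W] [Module A W]
  [AddCommGroup Q] [Module A Q] [AddCommGroup F] [Module A F] [AddCommGroup M] [Module A M]

lemma factor_of_ker_le (ε : F →ₗ[A] M) (hε : Function.Surjective ε) (φ : F →ₗ[A] Q)
    (h : LinearMap.ker ε ≤ LinearMap.ker φ) : ∃ ψ : M →ₗ[A] Q, ψ ∘ₗ ε = φ := by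
  refine ⟨(LinearMap.ker ε).liftQ φ h ∘ₗ (ε.quotKerEquivOfSurjective hε).symm.toLinearMap,
    LinearMap.ext fun f => ?_⟩
  rw [LinearMap.comp_apply, LinearMap.comp_apply, LinearEquiv.coe_coe,
    LinearMap.quotKerEquivOfSurjective_symm_apply]
  exact Submodule.liftQ_apply _ _ _

lemma ext_of_ker_le (hinj : Module.Injective A Q) (ρ : X →ₗ[A] Y) (θ : X →ₗ[A] Q)
    (h : LinearMap.ker ρ ≤ LinearMap.ker θ) : ∃ θ' : Y →ₗ[A] Q, θ' ∘ₗ ρ = θ := by
  have hρ : Function.Injective ((LinearMap.ker ρ).liftQ ρ le_rfl) :=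
    LinearMap.ker_eq_bot.mp (Submodule.ker_liftQ_eq_bot _ _ _ le_rfl)
  obtain ⟨θ', hθ'⟩ := Module.Injective.extension_property A Q _ _ _ hρ
    ((LinearMap.ker ρ).liftQ θ h)
  refine ⟨θ', LinearMap.ext fun x => ?_⟩
  have h1 := LinearMap.congr_fun hθ' ((LinearMap.ker ρ).mkQ x)
  simpa using h1

/-- `Hom(coker, Q)` is the kernel of restriction. -/
lemma nonempty_hom_equiv_ker (c : X →ₗ[A] Y) (hc : Function.Surjective c) (ρ : W →ₗ[A] X)
    (hker : LinearMap.ker c = LinearMap.range ρ) :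
    Nonempty ((Y →ₗ[A] Q) ≃ₗ[A] LinearMap.ker (LinearMap.lcomp A Q ρ)) := by
  have hmem : ∀ ψ : Y →ₗ[A] Q, LinearMap.lcomp A Q c ψ ∈ LinearMap.ker (LinearMap.lcomp A Q ρ) := by
    intro ψ
    rw [LinearMap.mem_ker]
    refine LinearMap.ext fun w => ?_
    have h1 : c (ρ w) = 0 := by
      have : ρ w ∈ LinearMap.ker c := by rw [hker]; exact LinearMap.mem_range_self ρ w
      exact this
    show ψ (c (ρ w)) = 0
    rw [h1, map_zero]
  refine ⟨LinearEquiv.ofBijective ((LinearMap.lcomp A Q c).codRestrict _ hmem) ⟨?_, ?_⟩⟩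
  · intro ψ ψ' h
    exact LinearMap.lcomp_injective_of_surjective c hc (congrArg Subtype.val h)
  · rintro ⟨θ, hθ⟩
    have hθ' : θ ∘ₗ ρ = 0 := hθ
    have hle : LinearMap.ker c ≤ LinearMap.ker θ := by
      rw [hker]
      rintro _ ⟨w, rfl⟩
      exact LinearMap.congr_fun hθ' w
    obtain ⟨ψ, hψ⟩ := factor_of_ker_le c hc θ hle
    exact ⟨ψ, Subtype.ext hψ⟩

lemma nonempty_ker_equiv {X' Y' : Type u} [AddCommGroup X'] [Module A X'] [AddCommGroup Y']
    [Module A Y'] (e₁ : X ≃ₗ[A] X') (f : X →ₗ[A] Y) (f' : X' →ₗ[A] Y')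
    (h : ∀ x, f x = 0 ↔ f' (e₁ x) = 0) :
    Nonempty (LinearMap.ker f ≃ₗ[A] LinearMap.ker f') :=
  ⟨LinearEquiv.ofBijective
    ((e₁.toLinearMap ∘ₗ (LinearMap.ker f).subtype).codRestrict (LinearMap.ker f')
      (fun x => (h x.1).mp x.2))
    ⟨fun a b hab => Subtype.ext (e₁.injective (congrArg Subtype.val hab)),
      fun ⟨x', hx'⟩ => ⟨⟨e₁.symm x', (h _).mpr (by rw [e₁.apply_symm_apply]; exact hx')⟩,
        Subtype.ext (e₁.apply_symm_apply x')⟩⟩⟩

lemma comp_eq_sum (r : ℕ) (φ : (Fin r → A) →ₗ[A] Q) :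
    φ = ∑ j : Fin r, φ ∘ₗ (LinearMap.single A (fun _ : Fin r => A) j) ∘ₗ (LinearMap.proj j) := by
  refine LinearMap.ext fun v => ?_
  rw [LinearMap.sum_apply]
  conv_lhs => rw [← Finset.univ_sum_single v, map_sum]
  rfl

end LinAlg

section Coords

variable (J : Ideal A) (i : ℕ)

/-- `Hmap` as a linear map in the morphism. -/
noncomputable def HmapL (M N : Type u) [AddCommGroup M] [Module A M] [AddCommGroup N]
    [Module A N] : (M →ₗ[A] N) →ₗ[A] (LocCoh.H J i M →ₗ[A] LocCoh.H J i N) where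
  toFun f := Hmap J i f
  map_add' f g := Hmap_add J i f g
  map_smul' c f := Hmap_smul J i c f

lemma eq_sum_coords (r : ℕ) (x : LocCoh.H J i (Fin r → A)) :
    x = ∑ j : Fin r, Hmap J i (LinearMap.single A (fun _ : Fin r => A) j)
      (Hmap J i (LinearMap.proj j : (Fin r → A) →ₗ[A] A) x) := by
  have h2 : HmapL J i (Fin r → A) (Fin r → A)
      (∑ j : Fin r, LinearMap.id ∘ₗ (LinearMap.single A (fun _ : Fin r => A) j) ∘ₗ
        (LinearMap.proj j)) x = x := by
    rw [← comp_eq_sum r (LinearMap.id : (Fin r → A) →ₗ[A] (Fin r → A))]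
    exact congrArg (fun f => f x) (Hmap_id J i)
  rw [map_sum, LinearMap.sum_apply] at h2
  refine h2.symm.trans (Finset.sum_congr rfl fun j _ => ?_)
  show Hmap J i (LinearMap.id ∘ₗ (LinearMap.single A (fun _ : Fin r => A) j) ∘ₗ
    (LinearMap.proj j)) x = _
  rw [LinearMap.id_comp]
  exact Hmap_comp_apply J i _ _ x

lemma subsingleton_H_free (h : Subsingleton (LocCoh.H J i A)) (r : ℕ) :
    Subsingleton (LocCoh.H J i (Fin r → A)) := by
  have h0 : ∀ z : LocCoh.H J i (Fin r → A), z = 0 := by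
    intro z
    rw [eq_sum_coords J i r z]
    exact Finset.sum_eq_zero fun j _ => by
      rw [h.elim (Hmap J i (LinearMap.proj j : (Fin r → A) →ₗ[A] A) z) 0, map_zero]
  exact ⟨fun x y => by rw [h0 x, h0 y]⟩

end Coords

section Phi

variable (J : Ideal A) (n : ℕ)

/-- precomposition `Hom(N, A) → Hom(M, A)` -/
noncomputable def pre {M N : Type u} [AddCommGroup M] [Module A M] [AddCommGroup N] [Module A N]
    (g : M →ₗ[A] N) : (N →ₗ[A] A) →ₗ[A] (M →ₗ[A] A) := LinearMap.lcomp A A g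

lemma pre_apply {M N : Type u} [AddCommGroup M] [Module A M] [AddCommGroup N] [Module A N]
    (g : M →ₗ[A] N) (ψ : N →ₗ[A] A) : pre g ψ = ψ ∘ₗ g := rfl

/-- The natural map `H^n_J(M) → Hom(Hom(M, A), H^n_J(A))`. -/
noncomputable def Phi (M : Type u) [AddCommGroup M] [Module A M] :
    LocCoh.H J n M →ₗ[A] ((M →ₗ[A] A) →ₗ[A] LocCoh.H J n A) :=
  LinearMap.mk₂ A (fun x φ => Hmap J n φ x)
    (fun x y φ => map_add _ x y)
    (fun c x φ => map_smul _ c x)
    (fun x φ ψ => by rw [Hmap_add]; rfl)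
    (fun c x φ => by rw [Hmap_smul]; rfl)

lemma Phi_apply (M : Type u) [AddCommGroup M] [Module A M] (x : LocCoh.H J n M)
    (φ : M →ₗ[A] A) : Phi J n M x φ = Hmap J n φ x := rfl

lemma Phi_nat {M N : Type u} [AddCommGroup M] [Module A M] [AddCommGroup N] [Module A N]
    (g : M →ₗ[A] N) (x : LocCoh.H J n M) (ψ : N →ₗ[A] A) :
    Phi J n N (Hmap J n g x) ψ = Phi J n M x (ψ ∘ₗ g) := by
  rw [Phi_apply, Phi_apply, Hmap_comp_apply]

lemma Phi_nat' {M N : Type u} [AddCommGroup M] [Module A M] [AddCommGroup N] [Module A N]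
    (g : M →ₗ[A] N) (x : LocCoh.H J n M) :
    Phi J n N (Hmap J n g x) = Phi J n M x ∘ₗ pre g :=
  LinearMap.ext fun ψ => Phi_nat J n g x ψ

lemma hom_self_eq (φ : A →ₗ[A] A) : φ = φ 1 • LinearMap.id := by
  refine LinearMap.ext fun a => ?_
  rw [LinearMap.smul_apply, LinearMap.id_apply, smul_eq_mul, mul_comm, ← smul_eq_mul, ← map_smul,
    smul_eq_mul, mul_one]

lemma Phi_self_apply (x : LocCoh.H J n A) (φ : A →ₗ[A] A) : Phi J n A x φ = φ 1 • x := by
  rw [Phi_apply]
  conv_lhs => rw [hom_self_eq φ]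
  rw [Hmap_smul, Hmap_id]
  rfl

lemma Phi_self_injective : Function.Injective (Phi J n A) := by
  rw [injective_iff_map_eq_zero]
  intro x hx
  have h1 : Phi J n A x LinearMap.id = 0 := by rw [hx]; rfl
  rw [Phi_self_apply, LinearMap.id_apply, one_smul] at h1
  exact h1

lemma Phi_self_surjective : Function.Surjective (Phi J n A) := by
  intro θ
  refine ⟨θ LinearMap.id, LinearMap.ext fun φ => ?_⟩
  rw [Phi_self_apply, ← map_smul, ← hom_self_eq]

lemma Phi_free_injective (r : ℕ) : Function.Injective (Phi J n (Fin r → A)) := by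
  rw [injective_iff_map_eq_zero]
  intro x hx
  have hj : ∀ j : Fin r, Hmap J n (LinearMap.proj j : (Fin r → A) →ₗ[A] A) x = 0 := by
    intro j
    apply Phi_self_injective J n
    rw [map_zero, Phi_nat', hx, LinearMap.zero_comp]
  rw [eq_sum_coords J n r x]
  exact Finset.sum_eq_zero fun j _ => by rw [hj j, map_zero]

lemma Phi_free_surjective (r : ℕ) : Function.Surjective (Phi J n (Fin r → A)) := by
  intro θ
  have hx : ∀ j : Fin r, ∃ xj : LocCoh.H J n A,
      Phi J n A xj = θ ∘ₗ pre (LinearMap.proj j : (Fin r → A) →ₗ[A] A) :=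
    fun j => Phi_self_surjective J n _
  choose xs hxs using hx
  refine ⟨∑ j, Hmap J n (LinearMap.single A (fun _ : Fin r => A) j) (xs j),
    LinearMap.ext fun φ => ?_⟩
  rw [map_sum, LinearMap.sum_apply]
  have h1 : ∀ j, Phi J n (Fin r → A)
      (Hmap J n (LinearMap.single A (fun _ : Fin r => A) j) (xs j)) φ =
      θ (φ ∘ₗ (LinearMap.single A (fun _ : Fin r => A) j) ∘ₗ (LinearMap.proj j)) := by
    intro j
    rw [Phi_nat, hxs j]
    rfl
  rw [Finset.sum_congr rfl (fun j _ => h1 j), ← map_sum, ← comp_eq_sum r φ]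

variable [IsNoetherianRing A]
  (hinj : Module.Injective A (LocCoh.H J n A))
  (hvan : ∀ (N : Type u) [AddCommGroup N] [Module A N] [Module.Finite A N],
    Subsingleton (LocCoh.H J (n + 1) N))

include hvan in
lemma Hmap_surjective_of_surjective {N P : Type u} [AddCommGroup N] [Module A N]
    [Module.Finite A N] [AddCommGroup P] [Module A P] (g : N →ₗ[A] P)
    (hg : Function.Surjective g) : Function.Surjective (Hmap J n g) := by
  obtain ⟨δ, -, h2, -, -⟩ := les_mod J (LinearMap.ker g).subtype g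
    (Submodule.subtype_injective _) hg (LinearMap.exact_subtype_ker_map g) n
  intro y
  haveI : IsNoetherian A N := isNoetherian_of_isNoetherianRing_of_finite A N
  haveI := hvan (LinearMap.ker g)
  exact (h2 y).mp (Subsingleton.elim _ _)

include hinj in
theorem Phi_surjective (M : Type u) [AddCommGroup M] [Module A M] [Module.Finite A M] :
    Function.Surjective (Phi J n M) := by
  obtain ⟨r, ε, hε⟩ := Module.Finite.exists_fin' A M
  intro θ
  have hpre_inj : Function.Injective (pre ε) := LinearMap.lcomp_injective_of_surjective ε hε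
  haveI := hinj
  obtain ⟨θ₀, hθ₀⟩ := Module.Injective.extension_property A (LocCoh.H J n A) _ _ (pre ε)
    hpre_inj θ
  obtain ⟨y, hy⟩ := Phi_free_surjective J n r θ₀
  refine ⟨Hmap J n ε y, ?_⟩
  rw [Phi_nat', hy, hθ₀]

include hinj hvan in
theorem Phi_injective (M : Type u) [AddCommGroup M] [Module A M] [Module.Finite A M] :
    Function.Injective (Phi J n M) := by
  obtain ⟨r, ε, hε⟩ := Module.Finite.exists_fin' A M
  rw [injective_iff_map_eq_zero]
  intro x hx
  haveI : IsNoetherian A (Fin r → A) := inferInstance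
  obtain ⟨y, rfl⟩ := Hmap_surjective_of_surjective J n hvan ε hε x
  have h1 : Phi J n (Fin r → A) y ∘ₗ pre ε = 0 := by rw [← Phi_nat', hx]
  have hker : LinearMap.ker (pre (LinearMap.ker ε).subtype) ≤
      LinearMap.ker (Phi J n (Fin r → A) y) := by
    intro φ hφ
    have hφ' : φ ∘ₗ (LinearMap.ker ε).subtype = 0 := hφ
    have hle : LinearMap.ker ε ≤ LinearMap.ker φ := fun f hf =>
      LinearMap.congr_fun hφ' ⟨f, hf⟩
    obtain ⟨ψ, rfl⟩ := factor_of_ker_le ε hε φ hle
    exact LinearMap.congr_fun h1 ψ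
  obtain ⟨θ', hθ'⟩ := ext_of_ker_le hinj (pre (LinearMap.ker ε).subtype)
    (Phi J n (Fin r → A) y) hker
  obtain ⟨w, hw⟩ := Phi_surjective J n hinj (LinearMap.ker ε) θ'
  have h2 : Phi J n (Fin r → A) (Hmap J n (LinearMap.ker ε).subtype w) =
      Phi J n (Fin r → A) y := by rw [Phi_nat', hw, hθ']
  have h3 := Phi_free_injective J n r h2
  rw [← h3, ← Hmap_comp_apply]
  have h4 : ε ∘ₗ (LinearMap.ker ε).subtype = 0 := LinearMap.ext fun k => k.2
  rw [h4, Hmap_zero]
  rfl

/-- Level `0`: `H^n_J(M) ≃ Hom(Hom(M, A), H^n_J(A))`. -/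
noncomputable def PhiEquiv (M : Type u) [AddCommGroup M] [Module A M] [Module.Finite A M] :
    LocCoh.H J n M ≃ₗ[A] ((M →ₗ[A] A) →ₗ[A] LocCoh.H J n A) :=
  LinearEquiv.ofBijective (Phi J n M)
    ⟨Phi_injective J n hinj hvan M, Phi_surjective J n hinj M⟩

end Phi

section ExtSide

variable {F M : Type u} [AddCommGroup F] [Module A F] [AddCommGroup M] [Module A M]

/-- `Ext^0(M, A) ≃ Hom(M, A)` -/
noncomputable def e0 (M : Type u) [AddCommGroup M] [Module A M] :
    Ext.{u} (ModuleCat.of A M) (ModuleCat.of A A) 0 ≃ₗ[A] (M →ₗ[A] A) :=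
  Ext.linearEquiv₀.trans ModuleCat.homLinearEquiv

lemma e0_symm_apply (φ : M →ₗ[A] A) : (e0 M).symm φ = Ext.mk₀ (ModuleCat.ofHom φ) := rfl

lemma e0_apply_mk₀ (φ : M →ₗ[A] A) : e0 M (Ext.mk₀ (ModuleCat.ofHom φ)) = φ := by
  rw [← e0_symm_apply, LinearEquiv.apply_symm_apply]

variable (ε : F →ₗ[A] M) (hε : Function.Surjective ε)

/-- the short complex `0 → ker ε → F → M → 0` -/
noncomputable abbrev SC : ShortComplex (ModuleCat.{u} A) :=
  ModuleCat.shortComplexOfCompEqZero (LinearMap.ker ε).subtype ε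
    (LinearMap.exact_subtype_ker_map ε).linearMap_comp_eq_zero

include hε in
lemma SC_shortExact : (SC ε).ShortExact :=
  ModuleCat.shortComplex_shortExact _ (LinearMap.exact_subtype_ker_map ε)
    (Submodule.subtype_injective _) hε

/-- connecting map `Ext^j(ker ε, A) → Ext^{j+1}(M, A)` -/
noncomputable def del (j : ℕ) :
    Ext.{u} (ModuleCat.of A (LinearMap.ker ε)) (ModuleCat.of A A) j →ₗ[A]
      Ext.{u} (ModuleCat.of A M) (ModuleCat.of A A) (j + 1) :=
  Ext.precompOfLinear (SC_shortExact ε hε).extClass A (ModuleCat.of A A)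
    (show 1 + j = j + 1 by omega)

lemma del_apply (j : ℕ) (x : Ext.{u} (ModuleCat.of A (LinearMap.ker ε)) (ModuleCat.of A A) j) :
    del ε hε j x = (SC_shortExact ε hε).extClass.comp x (show 1 + j = j + 1 by omega) := rfl

variable [Module.Projective A F]

lemma ext_free_eq_zero (j : ℕ) (x : Ext.{u} (ModuleCat.of A F) (ModuleCat.of A A) (j + 1)) :
    x = 0 := by
  haveI : Projective (ModuleCat.of A F) := (IsProjective.iff_projective F).mp inferInstance
  exact Ext.eq_zero_of_projective x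

lemma del_surjective (j : ℕ) : Function.Surjective (del ε hε j) := by
  intro x₃
  obtain ⟨x₁, hx₁⟩ := Ext.contravariant_sequence_exact₃ (SC_shortExact ε hε) (ModuleCat.of A A) x₃
    (ext_free_eq_zero (F := F) j _) (show 1 + j = j + 1 by omega)
  exact ⟨x₁, hx₁⟩

lemma del_injective (j : ℕ) : Function.Injective (del ε hε (j + 1)) := by
  rw [injective_iff_map_eq_zero]
  intro x₁ hx₁
  obtain ⟨x₂, rfl⟩ := Ext.contravariant_sequence_exact₁ (SC_shortExact ε hε) (ModuleCat.of A A) x₁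
    (show 1 + (j + 1) = j + 1 + 1 by omega) hx₁
  rw [ext_free_eq_zero (F := F) j x₂, Ext.comp_zero]

/-- the composite `Hom(ker ε, A) → Ext^1(M, A)` -/
noncomputable def cmap : (LinearMap.ker ε →ₗ[A] A) →ₗ[A]
    Ext.{u} (ModuleCat.of A M) (ModuleCat.of A A) (0 + 1) :=
  del ε hε 0 ∘ₗ (e0 (LinearMap.ker ε)).symm.toLinearMap

lemma cmap_surjective : Function.Surjective (cmap ε hε) :=
  (del_surjective ε hε 0).comp (e0 (LinearMap.ker ε)).symm.surjective

lemma ker_cmap : LinearMap.ker (cmap ε hε) = LinearMap.range (pre (LinearMap.ker ε).subtype) := by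
  ext φ'
  constructor
  · intro h
    have h1 : del ε hε 0 (Ext.mk₀ (ModuleCat.ofHom φ')) = 0 := h
    obtain ⟨x₂, hx₂⟩ := Ext.contravariant_sequence_exact₁ (SC_shortExact ε hε) (ModuleCat.of A A)
      (Ext.mk₀ (ModuleCat.ofHom φ')) (show 1 + 0 = 0 + 1 by omega) h1
    refine ⟨e0 F x₂, ?_⟩
    have h2 : x₂ = Ext.mk₀ (ModuleCat.ofHom (e0 F x₂)) := by
      rw [← e0_symm_apply, LinearEquiv.symm_apply_apply]
    rw [h2] at hx₂
    have h3 : Ext.mk₀ (ModuleCat.ofHom ((e0 F x₂) ∘ₗ (LinearMap.ker ε).subtype)) =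
        Ext.mk₀ (ModuleCat.ofHom φ') := by
      rw [← hx₂, Ext.mk₀_comp_mk₀]
      rfl
    have h4 := congrArg (e0 (LinearMap.ker ε)) h3
    rw [e0_apply_mk₀, e0_apply_mk₀] at h4
    exact h4
  · rintro ⟨φ, rfl⟩
    show del ε hε 0 (Ext.mk₀ (ModuleCat.ofHom (φ ∘ₗ (LinearMap.ker ε).subtype))) = 0
    have h1 : Ext.mk₀ (ModuleCat.ofHom (φ ∘ₗ (LinearMap.ker ε).subtype)) =
        (Ext.mk₀ (SC ε).f).comp (Ext.mk₀ (ModuleCat.ofHom φ)) (zero_add 0) := by
      rw [Ext.mk₀_comp_mk₀]
      rfl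
    rw [h1]
    exact Groth.Agent.H45.ExtContraLES.del_res (SC_shortExact ε hε) (ModuleCat.of A A) 0 _

end ExtSide

section Main

variable [IsNoetherianRing A] (J : Ideal A)

/-- `H`-side of dimension shifting. -/
lemma exists_delta (i : ℕ) {F M : Type u} [AddCommGroup F] [Module A F] [AddCommGroup M]
    [Module A M] (ε : F →ₗ[A] M) (hε : Function.Surjective ε)
    (h0 : Subsingleton (LocCoh.H J i F)) :
    ∃ δ : LocCoh.H J i M →ₗ[A] LocCoh.H J (i + 1) (LinearMap.ker ε), Function.Injective δ ∧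
      LinearMap.range δ = LinearMap.ker (Hmap J (i + 1) (LinearMap.ker ε).subtype) := by
  obtain ⟨δ, -, h2, h3, -⟩ := les_mod J (LinearMap.ker ε).subtype ε
    (Submodule.subtype_injective _) hε (LinearMap.exact_subtype_ker_map ε) i
  refine ⟨δ, ?_, (LinearMap.exact_iff.mp h3).symm⟩
  rw [injective_iff_map_eq_zero]
  intro y hy
  obtain ⟨z, rfl⟩ := (h2 y).mp hy
  rw [h0.elim z 0, map_zero]

variable (n : ℕ) (hself : ∀ i : ℕ, i ≠ n → Subsingleton (LocCoh.H J i A))
  (hinj : Module.Injective A (LocCoh.H J n A))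
  (hvan : ∀ (N : Type u) [AddCommGroup N] [Module A N] [Module.Finite A N],
    Subsingleton (LocCoh.H J (n + 1) N))

include hself hinj hvan in
/-- **Abstract local duality.** -/
theorem ld : ∀ (j : ℕ) (M : Type u) [AddCommGroup M] [Module A M] [Module.Finite A M], j ≤ n →
    Nonempty (LocCoh.H J (n - j) M ≃ₗ[A]
      (Ext.{u} (ModuleCat.of A M) (ModuleCat.of A A) j →ₗ[A] LocCoh.H J n A)) := by
  intro j
  induction j with
  | zero =>
    intro M _ _ _ _
    exact ⟨(PhiEquiv J n hinj hvan M).trans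
      (LinearEquiv.congrLeft (LocCoh.H J n A) A (e0 M).symm)⟩
  | succ j ih =>
    intro M _ _ _ hj
    obtain ⟨r, ε, hε⟩ := Module.Finite.exists_fin' A M
    haveI : IsNoetherian A (Fin r → A) := inferInstance
    obtain ⟨i, hi1, hi2⟩ : ∃ i, n - j = i + 1 ∧ n - (j + 1) = i := ⟨n - (j + 1), by omega, rfl⟩
    rw [hi2]
    have hiF : Subsingleton (LocCoh.H J i (Fin r → A)) :=
      subsingleton_H_free J i (hself i (by omega)) r
    obtain ⟨δ, hδinj, hδrange⟩ := exists_delta J i ε hε hiF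
    rcases Nat.eq_zero_or_pos j with hj0 | hjpos
    · -- level one
      subst hj0
      have hn : n = i + 1 := by omega
      subst hn
      obtain ⟨E2⟩ := nonempty_ker_equiv (PhiEquiv J (i + 1) hinj hvan (LinearMap.ker ε))
        (Hmap J (i + 1) (LinearMap.ker ε).subtype)
        (LinearMap.lcomp A (LocCoh.H J (i + 1) A) (pre (LinearMap.ker ε).subtype))
        (fun x => by
          have h1 : LinearMap.lcomp A (LocCoh.H J (i + 1) A) (pre (LinearMap.ker ε).subtype)
              (PhiEquiv J (i + 1) hinj hvan (LinearMap.ker ε) x) =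
              Phi J (i + 1) (Fin r → A) (Hmap J (i + 1) (LinearMap.ker ε).subtype x) := by
            rw [Phi_nat']
            rfl
          rw [h1]
          constructor
          · intro h; rw [h, map_zero]
          · intro h
            exact Phi_free_injective J (i + 1) r (h.trans (map_zero _).symm))
      obtain ⟨E3⟩ := nonempty_hom_equiv_ker (Q := LocCoh.H J (i + 1) A) (cmap ε hε)
        (cmap_surjective ε hε) (pre (LinearMap.ker ε).subtype) (ker_cmap ε hε)
      have E1 : LocCoh.H J i M ≃ₗ[A]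
          LinearMap.ker (Hmap J (i + 1) (LinearMap.ker ε).subtype) :=
        (LinearEquiv.ofInjective δ hδinj).trans (LinearEquiv.ofEq _ _ hδrange)
      exact ⟨(E1.trans E2).trans E3.symm⟩
    · -- shifting
      have hi1F : Subsingleton (LocCoh.H J (i + 1) (Fin r → A)) :=
        subsingleton_H_free J (i + 1) (hself (i + 1) (by omega)) r
      have hδsurj : Function.Surjective δ := by
        intro y
        have hy : y ∈ LinearMap.range δ := by
          rw [hδrange, LinearMap.mem_ker]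
          exact hi1F.elim _ _
        exact hy
      have E1 : LocCoh.H J i M ≃ₗ[A] LocCoh.H J (i + 1) (LinearMap.ker ε) :=
        LinearEquiv.ofBijective δ ⟨hδinj, hδsurj⟩
      obtain ⟨E2⟩ := ih (LinearMap.ker ε) (by omega)
      rw [hi1] at E2
      obtain ⟨j', rfl⟩ : ∃ j', j = j' + 1 := ⟨j - 1, by omega⟩
      have E3 : Ext.{u} (ModuleCat.of A (LinearMap.ker ε)) (ModuleCat.of A A) (j' + 1) ≃ₗ[A]
          Ext.{u} (ModuleCat.of A M) (ModuleCat.of A A) (j' + 1 + 1) :=
        LinearEquiv.ofBijective (del ε hε (j' + 1))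
          ⟨del_injective ε hε j', del_surjective ε hε (j' + 1)⟩
      exact ⟨(E1.trans E2).trans (LinearEquiv.congrLeft (LocCoh.H J n A) A E3)⟩

end Main

end Groth.Agent.H72.LD
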