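import Groth.Agent.H72.LD
import Groth.Agent.S11175
import Groth.Agent.S0302

/-!
# Local duality for Gorenstein local rings

`ld_gorenstein`: for a Gorenstein local ring `A` of dimension `n`, an injective hull `E` of the
residue field and a finite module `M`, `H^{n-j}_m(M) ≃ Hom(Ext^j(M, A), E)` for `j ≤ n`.
-/

set_option autoImplicit false
universe u

namespace Groth.Agent.H72.LDGor

open CategoryTheory

theorem ld_gorenstein_H (A : Type u) [CommRing A] [LocCoh.IsGorensteinLocalRing A] (n : ℕ)
    (hn : ringKrullDim A = n) (M : Type u) [AddCommGroup M] [Module A M] [Module.Finite A M]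
    (j : ℕ) (hj : j ≤ n) :
    Nonempty (LocCoh.H (IsLocalRing.maximalIdeal A) (n - j) M ≃ₗ[A]
      (Abelian.Ext.{u} (ModuleCat.of A M) (ModuleCat.of A A) j →ₗ[A]
        LocCoh.H (IsLocalRing.maximalIdeal A) n A)) := by
  obtain ⟨hv, -⟩ := Groth.Agent.H72.GorType.ext_kk_gorenstein A n hn
  have hsupp : Module.support A (A ⧸ IsLocalRing.maximalIdeal A) =
      PrimeSpectrum.zeroLocus (IsLocalRing.maximalIdeal A : Set A) := by
    rw [Module.support_eq_zeroLocus, Ideal.annihilator_quotient]
  have hself : ∀ i : ℕ, i ≠ n → Subsingleton (LocCoh.H (IsLocalRing.maximalIdeal A) i A) := by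
    intro i hi
    rcases lt_or_gt_of_ne hi with h | h
    · exact Groth.Agent.S5162.ML2 (IsLocalRing.maximalIdeal A) (A ⧸ IsLocalRing.maximalIdeal A)
        hsupp n A (fun j hj => hv j (Nat.ne_of_lt hj)) i h
    · exact Groth.Agent.S0333.vanish_above (IsLocalRing.maximalIdeal A) n hn A i h
  obtain ⟨g, hg⟩ := Groth.Agent.S11665.result A n hn
  have hvan : ∀ (N : Type u) [AddCommGroup N] [Module A N] [Module.Finite A N],
      Subsingleton (LocCoh.H (IsLocalRing.maximalIdeal A) (n + 1) N) := fun N _ _ _ =>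
    Groth.Agent.S0333.vanish_above (IsLocalRing.maximalIdeal A) n hn N (n + 1) (by omega)
  exact Groth.Agent.H72.LD.ld (IsLocalRing.maximalIdeal A) n hself hg.isInjective hvan j M hj

/-- **Local duality for Gorenstein local rings.** -/
theorem ld_gorenstein (A : Type u) [CommRing A] [LocCoh.IsGorensteinLocalRing A] (n : ℕ)
    (hn : ringKrullDim A = n) (E : Type u) [AddCommGroup E] [Module A E]
    (f : IsLocalRing.ResidueField A →ₗ[A] E) (hf : InjHull.IsInjectiveHull f)
    (M : Type u) [AddCommGroup M] [Module A M] [Module.Finite A M] (j : ℕ) (hj : j ≤ n) :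
    Nonempty (LocCoh.H (IsLocalRing.maximalIdeal A) (n - j) M ≃ₗ[A]
      (Abelian.Ext.{u} (ModuleCat.of A M) (ModuleCat.of A A) j →ₗ[A] E)) := by
  obtain ⟨e1⟩ := ld_gorenstein_H A n hn M j hj
  obtain ⟨g, hg⟩ := Groth.Agent.S11665.result A n hn
  obtain ⟨e, -⟩ := Groth.Agent.S0302.result A (IsLocalRing.ResidueField A) _ E g hg f hf
  exact ⟨e1.trans (LinearEquiv.congrRight e)⟩

end Groth.Agent.H72.LDGor
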