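import Groth.Agent.H72.ProjDim
import Mathlib.CategoryTheory.Abelian.LeftDerived

set_option autoImplicit false
universe v u v' u'

namespace Groth.Agent.H72

open CategoryTheory CategoryTheory.Limits

variable {C : Type u} [Category.{v} C] [Abelian C] [EnoughProjectives C]
  {D : Type u'} [Category.{v'} D] [Abelian D]

/-- Left derived functors vanish above the projective dimension. -/
theorem isZero_leftDerived_obj_of_hasProjectiveDimensionLE (F : C ⥤ D) [F.Additive]
    (N : C) (q : ℕ) [h : HasProjectiveDimensionLE N q] (i : ℕ) (hi : q < i) :
    IsZero ((F.leftDerived i).obj N) := by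
  obtain ⟨P, hP⟩ := exists_resolution_of_hasProjectiveDimensionLE q N h
  refine IsZero.of_iso ?_ (P.isoLeftDerivedObj F i)
  erw [← HomologicalComplex.exactAt_iff_isZero_homology]
  exact ShortComplex.exact_of_isZero_X₂ _ (F.map_isZero (hP i hi))

end Groth.Agent.H72
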