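import Mathlib

/-!
# Right resolutions of bounded below complexes by objects of a class

`exists_right_resolution`: if every object of an abelian category embeds into an object of a
class `I` (containing a zero object), every cochain complex `K` which is strictly `≥ a` admits a
degreewise monomorphic quasi-isomorphism `K ⟶ L` with `L` strictly `≥ a` and all `L.X n` in `I`.
-/

set_option autoImplicit false

namespace Groth.Agent.H72.RightRes

open CategoryTheory Limits

universe v u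
variable {A : Type u} [Category.{v} A] [Abelian A]

lemma coker_refine {X Y : A} (f : X ⟶ Y) {T : A} (y : T ⟶ Y) (hy : y ≫ cokernel.π f = 0) :
    ∃ (T' : A) (π : T' ⟶ T) (_ : Epi π) (x : T' ⟶ X), π ≫ y = x ≫ f :=
  ((ShortComplex.mk f (cokernel.π f) (cokernel.condition f)).exact_of_g_is_cokernel
    (cokernelIsCokernel f)).exact_up_to_refinements y hy

lemma pushout_refine {X Y Z : A} (f : X ⟶ Y) (g : X ⟶ Z) {T : A} (u : T ⟶ Y) (w : T ⟶ Z)
    (h : u ≫ pushout.inl f g = w ≫ pushout.inr f g) :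
    ∃ (T' : A) (π : T' ⟶ T) (_ : Epi π) (z : T' ⟶ X), π ≫ u = z ≫ f ∧ π ≫ w = z ≫ g := by
  have hc := Abelian.BiproductToPushoutIsCokernel.isColimitBiproductToPushout f g
  have hy : biprod.lift u (-w) ≫
      (Abelian.BiproductToPushoutIsCokernel.biproductToPushoutCofork f g).π = 0 := by
    show biprod.lift u (-w) ≫ biprod.desc (pushout.inl f g) (pushout.inr f g) = 0
    rw [biprod.lift_desc, Preadditive.neg_comp, h, add_neg_cancel]
  obtain ⟨T', π, hπ, z, hz⟩ :=
    (CokernelCofork.IsColimit.comp_π_eq_zero_iff_up_to_refinements hc (biprod.lift u (-w))).mp hy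
  refine ⟨T', π, hπ, z, ?_, ?_⟩
  · have := congrArg (· ≫ biprod.fst) hz
    simpa using this
  · have := congrArg (· ≫ biprod.snd) hz
    simpa using this

section Construction

variable (J : A → Prop) (hJ : ∀ X : A, ∃ (Y : A) (ι : X ⟶ Y), J Y ∧ Mono ι)

/-- chosen embedding target -/
noncomputable def emb (X : A) : A := (hJ X).choose

/-- chosen embedding -/
noncomputable def embι (X : A) : X ⟶ emb J hJ X := (hJ X).choose_spec.choose

lemma emb_prop (X : A) : J (emb J hJ X) := (hJ X).choose_spec.choose_spec.1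

instance embι_mono (X : A) : Mono (embι J hJ X) := (hJ X).choose_spec.choose_spec.2

variable (K : CochainComplex A ℕ)

/-- stage of the inductive construction -/
structure Stage (n : ℕ) where
  /-- the term -/
  L : A
  /-- the cokernel of the incoming differential -/
  C : A
  /-- projection -/
  p : L ⟶ C
  /-- comparison map -/
  β : K.X n ⟶ L

variable {K}

/-- next term -/
noncomputable def nextL {n : ℕ} (s : Stage K n) : A :=
  emb J hJ (pushout (K.d n (n + 1)) (s.β ≫ s.p))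

/-- next differential -/
noncomputable def dNext {n : ℕ} (s : Stage K n) : s.L ⟶ nextL J hJ s :=
  s.p ≫ pushout.inr (K.d n (n + 1)) (s.β ≫ s.p) ≫ embι J hJ _

/-- next comparison map -/
noncomputable def βNext {n : ℕ} (s : Stage K n) : K.X (n + 1) ⟶ nextL J hJ s :=
  pushout.inl (K.d n (n + 1)) (s.β ≫ s.p) ≫ embι J hJ _

/-- next stage -/
noncomputable def next {n : ℕ} (s : Stage K n) : Stage K (n + 1) where
  L := nextL J hJ s
  C := cokernel (dNext J hJ s)
  p := cokernel.π (dNext J hJ s)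
  β := βNext J hJ s

lemma comm {n : ℕ} (s : Stage K n) :
    s.β ≫ dNext J hJ s = K.d n (n + 1) ≫ βNext J hJ s := by
  have h := pushout.condition (f := K.d n (n + 1)) (g := s.β ≫ s.p)
  simp only [dNext, βNext]
  rw [← Category.assoc (K.d n (n + 1)), h]
  simp only [Category.assoc]

variable (K)

/-- all stages -/
noncomputable def stage : ∀ n : ℕ, Stage K n
  | 0 => { L := emb J hJ (K.X 0), C := emb J hJ (K.X 0), p := 𝟙 _, β := embι J hJ (K.X 0) }
  | n + 1 => next J hJ (stage n)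

lemma stage_L_prop (n : ℕ) : J (stage J hJ K n).L := by
  cases n with
  | zero => exact emb_prop J hJ _
  | succ n => exact emb_prop J hJ _

lemma dNext_comp {n : ℕ} (s : Stage K n) : dNext J hJ s ≫ dNext J hJ (next J hJ s) = 0 := by
  have h1 : dNext J hJ s ≫ cokernel.π (dNext J hJ s) = 0 := cokernel.condition _
  show dNext J hJ s ≫ (cokernel.π (dNext J hJ s) ≫
    (pushout.inr (K.d (n + 1) (n + 1 + 1)) ((next J hJ s).β ≫ (next J hJ s).p) ≫
      embι J hJ _)) = 0
  rw [← Category.assoc, h1, zero_comp]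

/-- the resolving complex -/
noncomputable def Lc : CochainComplex A ℕ :=
  CochainComplex.of (fun n => (stage J hJ K n).L) (fun n => dNext J hJ (stage J hJ K n))
    (fun n => dNext_comp J hJ K (stage J hJ K n))

lemma Lc_d_raw (n : ℕ) : (Lc J hJ K).d n (n + 1) = dNext J hJ (stage J hJ K n) := by
  show CochainComplex.of.d (fun n => (stage J hJ K n).L)
    (fun n => dNext J hJ (stage J hJ K n)) n (n + 1) = _
  exact CochainComplex.of_d _ _ n

/-- the comparison morphism -/
noncomputable def βc : K ⟶ Lc J hJ K where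
  f n := (stage J hJ K n).β
  comm' i j hij := by
    obtain rfl : i + 1 = j := hij
    rw [Lc_d_raw]
    exact comm J hJ (stage J hJ K i)

/-- interface: the cokernel objects -/
noncomputable def Cc (n : ℕ) : A := (stage J hJ K n).C

/-- interface: the projections -/
noncomputable def pc (n : ℕ) : (Lc J hJ K).X n ⟶ Cc J hJ K n := (stage J hJ K n).p

/-- interface: the chosen embeddings of the pushouts -/
noncomputable def ιc (n : ℕ) :
    pushout (K.d n (n + 1)) ((βc J hJ K).f n ≫ pc J hJ K n) ⟶ (Lc J hJ K).X (n + 1) :=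
  embι J hJ (pushout (K.d n (n + 1)) ((stage J hJ K n).β ≫ (stage J hJ K n).p))

lemma Lc_d_eq (n : ℕ) : (Lc J hJ K).d n (n + 1) =
    pc J hJ K n ≫ pushout.inr (K.d n (n + 1)) ((βc J hJ K).f n ≫ pc J hJ K n) ≫ ιc J hJ K n := by
  rw [Lc_d_raw]
  rfl

lemma βc_succ (n : ℕ) : (βc J hJ K).f (n + 1) =
    pushout.inl (K.d n (n + 1)) ((βc J hJ K).f n ≫ pc J hJ K n) ≫ ιc J hJ K n := rfl

instance ιc_mono (n : ℕ) : Mono (ιc J hJ K n) :=
  embι_mono J hJ _

instance pc_zero_mono : Mono (pc J hJ K 0) :=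
  inferInstanceAs (Mono (𝟙 (emb J hJ (K.X 0))))

instance βc_zero_mono : Mono ((βc J hJ K).f 0) :=
  embι_mono J hJ (K.X 0)

lemma Lc_X_prop (n : ℕ) : J ((Lc J hJ K).X n) := stage_L_prop J hJ K n

lemma d_pc (n : ℕ) : (Lc J hJ K).d n (n + 1) ≫ pc J hJ K (n + 1) = 0 := by
  rw [Lc_d_raw]
  exact cokernel.condition (dNext J hJ (stage J hJ K n))

lemma pc_refine (n : ℕ) ⦃T : A⦄ (y : T ⟶ (Lc J hJ K).X (n + 1))
    (hy : y ≫ pc J hJ K (n + 1) = 0) :
    ∃ (T' : A) (π : T' ⟶ T) (_ : Epi π) (x : T' ⟶ (Lc J hJ K).X n),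
      π ≫ y = x ≫ (Lc J hJ K).d n (n + 1) := by
  obtain ⟨T', π, hπ, x, hx⟩ := coker_refine (dNext J hJ (stage J hJ K n)) y hy
  exact ⟨T', π, hπ, x, by rw [Lc_d_raw]; exact hx⟩

lemma keyP (i j : ℕ) (hi : (ComplexShape.up ℕ).prev j = i) ⦃T : A⦄ (x : T ⟶ K.X j)
    (hx : x ≫ (βc J hJ K).f j ≫ pc J hJ K j = 0) :
    ∃ (T' : A) (π : T' ⟶ T) (_ : Epi π) (x' : T' ⟶ K.X i), π ≫ x = x' ≫ K.d i j := by
  cases j with
  | zero =>
    have hx0 : x = 0 := by
      rw [← cancel_mono ((βc J hJ K).f 0 ≫ pc J hJ K 0), hx, zero_comp]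
    exact ⟨T, 𝟙 T, inferInstance, 0, by rw [hx0, comp_zero, zero_comp]⟩
  | succ n =>
    obtain rfl : i = n := by rw [← hi]; exact CochainComplex.prev_nat_succ n
    rw [← Category.assoc] at hx
    obtain ⟨T₁, π₁, hπ₁, y, hy⟩ := pc_refine J hJ K i _ hx
    rw [βc_succ, Lc_d_eq] at hy
    have h2 : (π₁ ≫ x) ≫ pushout.inl (K.d i (i + 1)) ((βc J hJ K).f i ≫ pc J hJ K i) =
        (y ≫ pc J hJ K i) ≫ pushout.inr (K.d i (i + 1)) ((βc J hJ K).f i ≫ pc J hJ K i) := by
      rw [← cancel_mono (ιc J hJ K i)]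
      simpa only [Category.assoc] using hy
    obtain ⟨T₂, π₂, hπ₂, z, hz, -⟩ := pushout_refine _ _ _ _ h2
    have := hπ₁
    have := hπ₂
    exact ⟨T₂, π₂ ≫ π₁, inferInstance, z, by rw [Category.assoc, hz]⟩

lemma mono_β (j : ℕ) : Mono ((βc J hJ K).f j) := by
  cases j with
  | zero => infer_instance
  | succ n =>
    rw [βc_succ]
    apply Preadditive.mono_of_cancel_zero
    intro T x hx
    have h2 : x ≫ pushout.inl (K.d n (n + 1)) ((βc J hJ K).f n ≫ pc J hJ K n) =
        (0 : T ⟶ _) ≫ pushout.inr (K.d n (n + 1)) ((βc J hJ K).f n ≫ pc J hJ K n) := by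
      rw [← cancel_mono (ιc J hJ K n), zero_comp, zero_comp]
      simpa only [Category.assoc] using hx
    obtain ⟨T₁, π₁, hπ₁, z, hz1, hz2⟩ := pushout_refine _ _ _ _ h2
    rw [comp_zero] at hz2
    obtain ⟨T₂, π₂, hπ₂, z', hz'⟩ := keyP J hJ K _ n rfl z hz2.symm
    have := hπ₁
    have := hπ₂
    rw [← cancel_epi (π₂ ≫ π₁), comp_zero, Category.assoc, hz1, ← Category.assoc, hz',
      Category.assoc, K.d_comp_d, comp_zero]

lemma d_p (i j : ℕ) (hi : (ComplexShape.up ℕ).prev j = i) :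
    (Lc J hJ K).d i j ≫ pc J hJ K j = 0 := by
  cases j with
  | zero =>
    obtain rfl : i = 0 := by rw [← hi]; exact CochainComplex.prev_nat_zero
    rw [(Lc J hJ K).shape 0 0 (by simp), zero_comp]
  | succ n =>
    obtain rfl : i = n := by rw [← hi]; exact CochainComplex.prev_nat_succ n
    exact d_pc J hJ K i

lemma p_refine (i j : ℕ) (hi : (ComplexShape.up ℕ).prev j = i) ⦃T : A⦄
    (y : T ⟶ (Lc J hJ K).X j) (hy : y ≫ pc J hJ K j = 0) :
    ∃ (T' : A) (π : T' ⟶ T) (_ : Epi π) (y₁ : T' ⟶ (Lc J hJ K).X i),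
      π ≫ y = y₁ ≫ (Lc J hJ K).d i j := by
  cases j with
  | zero =>
    have hy0 : y = 0 := by
      rw [← cancel_mono (pc J hJ K 0), hy, zero_comp]
    exact ⟨T, 𝟙 T, inferInstance, 0, by rw [hy0, comp_zero, zero_comp]⟩
  | succ n =>
    obtain rfl : i = n := by rw [← hi]; exact CochainComplex.prev_nat_succ n
    exact pc_refine J hJ K i y hy

lemma quasiIso_βc : QuasiIso (βc J hJ K) := by
  rw [quasiIso_iff]
  intro j
  rw [quasiIsoAt_iff_isIso_homologyMap]
  have hm : Mono (HomologicalComplex.homologyMap (βc J hJ K) j) := by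
    rw [HomologicalComplex.mono_homologyMap_iff_up_to_refinements (βc J hJ K)
      ((ComplexShape.up ℕ).prev j) j (j + 1) rfl (by simp)]
    intro T x₂ hx₂ y₁ h
    apply keyP J hJ K _ j rfl x₂
    rw [← Category.assoc, h, Category.assoc, d_p J hJ K _ j rfl, comp_zero]
  have he : Epi (HomologicalComplex.homologyMap (βc J hJ K) j) := by
    rw [HomologicalComplex.epi_homologyMap_iff_up_to_refinements (βc J hJ K)
      ((ComplexShape.up ℕ).prev j) j (j + 1) rfl (by simp)]
    intro T y₂ hy₂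
    rw [Lc_d_eq] at hy₂
    have h2 : (0 : T ⟶ K.X (j + 1)) ≫ pushout.inl (K.d j (j + 1))
          ((βc J hJ K).f j ≫ pc J hJ K j) =
        (y₂ ≫ pc J hJ K j) ≫ pushout.inr (K.d j (j + 1))
          ((βc J hJ K).f j ≫ pc J hJ K j) := by
      rw [← cancel_mono (ιc J hJ K j), zero_comp, zero_comp]
      simpa only [Category.assoc] using hy₂.symm
    obtain ⟨T₁, π₁, hπ₁, z, hz1, hz2⟩ := pushout_refine _ _ _ _ h2
    rw [comp_zero] at hz1
    have h3 : (π₁ ≫ y₂ - z ≫ (βc J hJ K).f j) ≫ pc J hJ K j = 0 := by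
      rw [Preadditive.sub_comp, Category.assoc, Category.assoc, hz2, sub_self]
    obtain ⟨T₂, π₂, hπ₂, y₁, hy₁⟩ := p_refine J hJ K _ j rfl _ h3
    have := hπ₁
    have := hπ₂
    refine ⟨T₂, π₂ ≫ π₁, inferInstance, π₂ ≫ z, ?_, y₁, ?_⟩
    · rw [Category.assoc, ← hz1, comp_zero]
    · rw [Preadditive.comp_sub] at hy₁
      rw [Category.assoc, Category.assoc, ← hy₁]
      abel
  exact isIso_of_mono_of_epi _

end Construction

section Replace

variable (L₀ : CochainComplex A ℤ) (Y : ℤ → A) (e : ∀ n, L₀.X n ≅ Y n)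

/-- replace the terms of a complex by isomorphic objects -/
noncomputable def replace : CochainComplex A ℤ where
  X := Y
  d i j := (e i).inv ≫ L₀.d i j ≫ (e j).hom
  shape i j h := by rw [L₀.shape i j h, zero_comp, comp_zero]
  d_comp_d' i j k _ _ := by simp

/-- the replaced complex is isomorphic to the original one -/
noncomputable def replaceIso : L₀ ≅ replace L₀ Y e :=
  HomologicalComplex.Hom.isoOfComponents e (by intro i j _; simp [replace])

end Replace

theorem exists_right_resolution (I : A → Prop)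
    (hI0 : ∃ Z : A, IsZero Z ∧ I Z) (hI : ∀ X : A, ∃ (Y : A) (ι : X ⟶ Y), I Y ∧ Mono ι)
    (K : CochainComplex A ℤ) (a : ℤ) [K.IsStrictlyGE a] :
    ∃ (L : CochainComplex A ℤ) (α : K ⟶ L), L.IsStrictlyGE a ∧ (∀ n, I (L.X n)) ∧
      (∀ n, Mono (α.f n)) ∧ QuasiIso α := by
  classical
  obtain ⟨Z, hZ, hIZ⟩ := hI0
  let e := ComplexShape.embeddingUpIntGE a
  let K' : CochainComplex A ℕ := K.restriction e
  let L' := Lc I hI K'
  let β' : K' ⟶ L' := βc I hI K'
  have hβ' : QuasiIso β' := quasiIso_βc I hI K'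
  have hlift : e.HasLift (𝟙 K') := by
    intro j hj i' hi'
    have hj0 : j = 0 := (ComplexShape.boundaryGE_embeddingUpIntGE_iff a j).mp hj
    subst hj0
    have hrel : i' + 1 = a + ((0 : ℕ) : ℤ) := hi'
    have hz : IsZero (K.X i') := K.isZero_of_isStrictlyGE a i' (by omega)
    exact hz.eq_of_src _ _
  let ψ₀ : K ⟶ K'.extend e := e.liftExtend (𝟙 K') hlift
  have hψ₀ : IsIso ψ₀ := by
    have : ∀ n, IsIso (ψ₀.f n) := by
      intro n
      by_cases hn : ∃ k, e.f k = n
      · obtain ⟨k, hk⟩ := hn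
        exact (e.isIso_liftExtend_f_iff (𝟙 K') hlift hk).mpr
          (by rw [HomologicalComplex.id_f]; infer_instance)
      · have hn' : ∀ k, e.f k ≠ n := fun k hk => hn ⟨k, hk⟩
        have h1 : IsZero (K.X n) := K.isZero_of_isStrictlyGE a n
          ((ComplexShape.notMem_range_embeddingUpIntGE_iff (p := a) n).mp hn')
        have h2 : IsZero ((K'.extend e).X n) := K'.isZero_extend_X e n hn'
        exact ⟨⟨0, h1.eq_of_src _ _, h2.eq_of_src _ _⟩⟩
    exact HomologicalComplex.Hom.isIso_of_components ψ₀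
  let L₀ := L'.extend e
  let α₀ : K ⟶ L₀ := ψ₀ ≫ HomologicalComplex.extendMap β' e
  have hterm : ∀ n : ℤ, ∃ Y : A, I Y ∧ Nonempty (L₀.X n ≅ Y) := by
    intro n
    by_cases hn : ∃ k, e.f k = n
    · obtain ⟨k, hk⟩ := hn
      exact ⟨L'.X k, Lc_X_prop I hI K' k, ⟨L'.extendXIso e hk⟩⟩
    · have hn' : ∀ k, e.f k ≠ n := fun k hk => hn ⟨k, hk⟩
      exact ⟨Z, hIZ, ⟨(L'.isZero_extend_X e n hn').iso hZ⟩⟩
  choose Y hY eY using hterm
  let eY' : ∀ n, L₀.X n ≅ Y n := fun n => (eY n).some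
  refine ⟨replace L₀ Y eY', α₀ ≫ (replaceIso L₀ Y eY').hom, ?_, hY, ?_, ?_⟩
  · rw [CochainComplex.isStrictlyGE_iff]
    intro i hi
    have hn' : ∀ k, e.f k ≠ i :=
      (ComplexShape.notMem_range_embeddingUpIntGE_iff (p := a) i).mpr hi
    exact (L'.isZero_extend_X e i hn').of_iso (eY' i).symm
  · intro n
    have h1 : Mono ((HomologicalComplex.extendMap β' e).f n) := by
      by_cases hn : ∃ k, e.f k = n
      · obtain ⟨k, hk⟩ := hn
        rw [HomologicalComplex.extendMap_f β' e hk]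
        have : Mono (β'.f k) := mono_β I hI K' k
        infer_instance
      · have hn' : ∀ k, e.f k ≠ n := fun k hk => hn ⟨k, hk⟩
        have h2 : IsZero ((K'.extend e).X n) := K'.isZero_extend_X e n hn'
        exact ⟨fun g h _ => h2.eq_of_tgt g h⟩
    have h3 : IsIso (ψ₀.f n) := inferInstance
    have h4 : IsIso ((replaceIso L₀ Y eY').hom.f n) := by
      simp only [replaceIso, HomologicalComplex.Hom.isoOfComponents_hom_f]
      infer_instance
    show Mono ((ψ₀.f n ≫ (HomologicalComplex.extendMap β' e).f n) ≫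
      (replaceIso L₀ Y eY').hom.f n)
    infer_instance
  · show QuasiIso ((ψ₀ ≫ HomologicalComplex.extendMap β' e) ≫ (replaceIso L₀ Y eY').hom)
    infer_instance

end Groth.Agent.H72.RightRes
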