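import Mathlib
import Groth.Agent.H72.RightRes

/-!
# Left resolutions of bounded above complexes by objects of a class

`exists_left_resolution`: if every object of an abelian category is a quotient of an object of a
class `P` (containing a zero object), every cochain complex `K` which is strictly `≤ a` receives a
degreewise epimorphic quasi-isomorphism `Q ⟶ K` with `Q` strictly `≤ a` and all `Q.X n` in `P`.
-/

set_option autoImplicit false

namespace Groth.Agent.H72.LeftRes

open CategoryTheory Limits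

universe v u
variable {A : Type u} [Category.{v} A] [Abelian A]

section Construction

variable (J : A → Prop) (hJ : ∀ X : A, ∃ (Y : A) (π : Y ⟶ X), J Y ∧ Epi π)

/-- chosen cover -/
noncomputable def cov (X : A) : A := (hJ X).choose

/-- chosen covering map -/
noncomputable def covπ (X : A) : cov J hJ X ⟶ X := (hJ X).choose_spec.choose

lemma cov_prop (X : A) : J (cov J hJ X) := (hJ X).choose_spec.choose_spec.1

instance covπ_epi (X : A) : Epi (covπ J hJ X) := (hJ X).choose_spec.choose_spec.2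

variable (K : ChainComplex A ℕ)

/-- stage of the inductive construction -/
structure Stage (n : ℕ) where
  /-- the term -/
  Q : A
  /-- the kernel of the outgoing differential -/
  Z : A
  /-- inclusion -/
  i : Z ⟶ Q
  /-- comparison map -/
  β : Q ⟶ K.X n

variable {K}

/-- next term -/
noncomputable def nextQ {n : ℕ} (s : Stage K n) : A :=
  cov J hJ (pullback (K.d (n + 1) n) (s.i ≫ s.β))

/-- next differential -/
noncomputable def dNext {n : ℕ} (s : Stage K n) : nextQ J hJ s ⟶ s.Q :=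
  covπ J hJ _ ≫ pullback.snd (K.d (n + 1) n) (s.i ≫ s.β) ≫ s.i

/-- next comparison map -/
noncomputable def βNext {n : ℕ} (s : Stage K n) : nextQ J hJ s ⟶ K.X (n + 1) :=
  covπ J hJ _ ≫ pullback.fst (K.d (n + 1) n) (s.i ≫ s.β)

/-- next stage -/
noncomputable def next {n : ℕ} (s : Stage K n) : Stage K (n + 1) where
  Q := nextQ J hJ s
  Z := kernel (dNext J hJ s)
  i := kernel.ι (dNext J hJ s)
  β := βNext J hJ s

lemma comm {n : ℕ} (s : Stage K n) :
    βNext J hJ s ≫ K.d (n + 1) n = dNext J hJ s ≫ s.β := by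
  have h := pullback.condition (f := K.d (n + 1) n) (g := s.i ≫ s.β)
  simp only [dNext, βNext, Category.assoc]
  rw [h]

omit [Abelian A] in
lemma comp3_zero {W X Y Z V : A} [Limits.HasZeroMorphisms A] (a : W ⟶ X) (b : X ⟶ Y) (c : Y ⟶ Z)
    (d : Z ⟶ V) (h : c ≫ d = 0) : (a ≫ b ≫ c) ≫ d = 0 := by
  rw [Category.assoc, Category.assoc, h, comp_zero, comp_zero]

lemma dNext_comp {n : ℕ} (s : Stage K n) : dNext J hJ (next J hJ s) ≫ dNext J hJ s = 0 := by
  have h1 : kernel.ι (dNext J hJ s) ≫ dNext J hJ s = 0 := kernel.condition _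
  exact comp3_zero (covπ J hJ _) (pullback.snd (K.d (n + 1 + 1) (n + 1))
    ((next J hJ s).i ≫ (next J hJ s).β)) (kernel.ι (dNext J hJ s)) (dNext J hJ s) h1

variable (K)

/-- all stages -/
noncomputable def stage : ∀ n : ℕ, Stage K n
  | 0 => { Q := cov J hJ (K.X 0), Z := cov J hJ (K.X 0), i := 𝟙 _, β := covπ J hJ (K.X 0) }
  | n + 1 => next J hJ (stage n)

lemma stage_Q_prop (n : ℕ) : J (stage J hJ K n).Q := by
  cases n with
  | zero => exact cov_prop J hJ _
  | succ n => exact cov_prop J hJ _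

/-- the resolving complex -/
noncomputable def Qc : ChainComplex A ℕ :=
  ChainComplex.of (fun n => (stage J hJ K n).Q) (fun n => dNext J hJ (stage J hJ K n))
    (fun n => dNext_comp J hJ (stage J hJ K n))

lemma Qc_d_raw (n : ℕ) : (Qc J hJ K).d (n + 1) n = dNext J hJ (stage J hJ K n) := by
  show ChainComplex.of.d (fun n => (stage J hJ K n).Q)
    (fun n => dNext J hJ (stage J hJ K n)) (n + 1) n = _
  exact ChainComplex.of_d _ _ n

/-- the comparison morphism -/
noncomputable def βc : Qc J hJ K ⟶ K where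
  f n := (stage J hJ K n).β
  comm' i j hij := by
    obtain rfl : j + 1 = i := hij
    rw [Qc_d_raw]
    exact comm J hJ (stage J hJ K j)

/-- interface: the cycle objects -/
noncomputable def Zc (n : ℕ) : A := (stage J hJ K n).Z

/-- interface: the inclusions of cycles -/
noncomputable def ic (n : ℕ) : Zc J hJ K n ⟶ (Qc J hJ K).X n := (stage J hJ K n).i

/-- interface: the chosen covers of the pullbacks -/
noncomputable def πc (n : ℕ) :
    (Qc J hJ K).X (n + 1) ⟶ pullback (K.d (n + 1) n) (ic J hJ K n ≫ (βc J hJ K).f n) :=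
  covπ J hJ (pullback (K.d (n + 1) n) ((stage J hJ K n).i ≫ (stage J hJ K n).β))

lemma Qc_d_eq (n : ℕ) : (Qc J hJ K).d (n + 1) n =
    πc J hJ K n ≫ pullback.snd (K.d (n + 1) n) (ic J hJ K n ≫ (βc J hJ K).f n) ≫
      ic J hJ K n := by
  rw [Qc_d_raw]
  rfl

lemma βc_succ (n : ℕ) : (βc J hJ K).f (n + 1) =
    πc J hJ K n ≫ pullback.fst (K.d (n + 1) n) (ic J hJ K n ≫ (βc J hJ K).f n) := rfl

instance πc_epi (n : ℕ) : Epi (πc J hJ K n) :=
  covπ_epi J hJ _

instance ic_zero_isIso : IsIso (ic J hJ K 0) :=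
  inferInstanceAs (IsIso (𝟙 (cov J hJ (K.X 0))))

instance βc_zero_epi : Epi ((βc J hJ K).f 0) :=
  covπ_epi J hJ (K.X 0)

lemma Qc_X_prop (n : ℕ) : J ((Qc J hJ K).X n) := stage_Q_prop J hJ K n

lemma ic_d (n : ℕ) : ic J hJ K (n + 1) ≫ (Qc J hJ K).d (n + 1) n = 0 := by
  rw [Qc_d_raw]
  exact kernel.condition (dNext J hJ (stage J hJ K n))

lemma ic_lift (n : ℕ) ⦃T : A⦄ (y : T ⟶ (Qc J hJ K).X (n + 1))
    (hy : y ≫ (Qc J hJ K).d (n + 1) n = 0) :
    ∃ z : T ⟶ Zc J hJ K (n + 1), y = z ≫ ic J hJ K (n + 1) := by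
  rw [Qc_d_raw] at hy
  exact ⟨kernel.lift (dNext J hJ (stage J hJ K n)) y hy, (kernel.lift_ι _ _ _).symm⟩

lemma cyc_lift (j k : ℕ) (hk : (ComplexShape.down ℕ).next j = k) ⦃T : A⦄
    (y : T ⟶ (Qc J hJ K).X j) (hy : y ≫ (Qc J hJ K).d j k = 0) :
    ∃ z : T ⟶ Zc J hJ K j, y = z ≫ ic J hJ K j := by
  cases j with
  | zero =>
    exact ⟨y ≫ inv (ic J hJ K 0), by rw [Category.assoc, IsIso.inv_hom_id, Category.comp_id]⟩
  | succ n =>
    obtain rfl : k = n := by rw [← hk]; exact ChainComplex.next_nat_succ n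
    exact ic_lift J hJ K k y hy

lemma ic_d' (j k : ℕ) (hk : (ComplexShape.down ℕ).next j = k) :
    ic J hJ K j ≫ (Qc J hJ K).d j k = 0 := by
  cases j with
  | zero =>
    obtain rfl : k = 0 := by rw [← hk]; exact ChainComplex.next_nat_zero
    rw [(Qc J hJ K).shape 0 0 (by simp), comp_zero]
  | succ n =>
    obtain rfl : k = n := by rw [← hk]; exact ChainComplex.next_nat_succ n
    exact ic_d J hJ K k

lemma keyP (j k : ℕ) (hk : (ComplexShape.down ℕ).next j = k) ⦃T : A⦄ (x : T ⟶ K.X j)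
    (hx : x ≫ K.d j k = 0) :
    ∃ (T' : A) (π : T' ⟶ T) (_ : Epi π) (z : T' ⟶ Zc J hJ K j),
      π ≫ x = z ≫ ic J hJ K j ≫ (βc J hJ K).f j := by
  cases j with
  | zero => exact surjective_up_to_refinements_of_epi (ic J hJ K 0 ≫ (βc J hJ K).f 0) x
  | succ n =>
    obtain rfl : k = n := by rw [← hk]; exact ChainComplex.next_nat_succ n
    obtain ⟨T', π, hπ, q, hq⟩ := surjective_up_to_refinements_of_epi (πc J hJ K k)
      (pullback.lift x (0 : T ⟶ Zc J hJ K k) (by rw [hx, zero_comp]))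
    have hq_fst := congrArg (· ≫ pullback.fst _ _) hq
    simp only [Category.assoc, pullback.lift_fst] at hq_fst
    have hq_snd := congrArg (· ≫ pullback.snd _ _ ≫ ic J hJ K k) hq
    simp only [Category.assoc, pullback.lift_snd_assoc, zero_comp, comp_zero] at hq_snd
    have hq0 : q ≫ (Qc J hJ K).d (k + 1) k = 0 := by
      rw [Qc_d_eq]
      exact hq_snd.symm
    obtain ⟨z, hz⟩ := ic_lift J hJ K k q hq0
    refine ⟨T', π, hπ, z, ?_⟩
    rw [hq_fst, hz, Category.assoc, βc_succ]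

lemma epi_β (j : ℕ) : Epi ((βc J hJ K).f j) := by
  cases j with
  | zero => infer_instance
  | succ n =>
    rw [epi_iff_surjective_up_to_refinements]
    intro T x
    obtain ⟨T₁, π₁, hπ₁, z, hz⟩ := keyP J hJ K n _ rfl (x ≫ K.d (n + 1) n)
      (by rw [Category.assoc, K.d_comp_d, comp_zero])
    obtain ⟨T₂, π₂, hπ₂, q, hq⟩ := surjective_up_to_refinements_of_epi (πc J hJ K n)
      (pullback.lift (π₁ ≫ x) z (by rw [Category.assoc]; exact hz))
    have := hπ₁
    have := hπ₂
    have hq_fst := congrArg (· ≫ pullback.fst _ _) hq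
    simp only [Category.assoc, pullback.lift_fst] at hq_fst
    refine ⟨T₂, π₂ ≫ π₁, inferInstance, q, ?_⟩
    rw [βc_succ, Category.assoc]
    exact hq_fst

lemma quasiIso_βc : QuasiIso (βc J hJ K) := by
  rw [quasiIso_iff]
  intro j
  rw [quasiIsoAt_iff_isIso_homologyMap]
  have hm : Mono (HomologicalComplex.homologyMap (βc J hJ K) j) := by
    rw [HomologicalComplex.mono_homologyMap_iff_up_to_refinements (βc J hJ K)
      (j + 1) j ((ComplexShape.down ℕ).next j) (by simp) rfl]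
    intro T x₂ hx₂ y₁ h
    obtain ⟨z, hz⟩ := cyc_lift J hJ K j _ rfl x₂ hx₂
    obtain ⟨T', π, hπ, q, hq⟩ := surjective_up_to_refinements_of_epi (πc J hJ K j)
      (pullback.lift y₁ z (by rw [← h, hz, Category.assoc]))
    refine ⟨T', π, hπ, q, ?_⟩
    have hq_snd := congrArg (· ≫ pullback.snd _ _ ≫ ic J hJ K j) hq
    simp only [Category.assoc, pullback.lift_snd_assoc] at hq_snd
    rw [Qc_d_eq, ← hq_snd, hz]
  have he : Epi (HomologicalComplex.homologyMap (βc J hJ K) j) := by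
    rw [HomologicalComplex.epi_homologyMap_iff_up_to_refinements (βc J hJ K)
      (j + 1) j ((ComplexShape.down ℕ).next j) (by simp) rfl]
    intro T y₂ hy₂
    obtain ⟨T', π, hπ, z, hz⟩ := keyP J hJ K j _ rfl y₂ hy₂
    refine ⟨T', π, hπ, z ≫ ic J hJ K j, ?_, 0, ?_⟩
    · rw [Category.assoc, ic_d' J hJ K j _ rfl, comp_zero]
    · rw [zero_comp, add_zero, Category.assoc]
      exact hz
  exact isIso_of_mono_of_epi _

end Construction

open Groth.Agent.H72.RightRes in
theorem exists_left_resolution (P : A → Prop)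
    (hP0 : ∃ Z : A, IsZero Z ∧ P Z) (hP : ∀ X : A, ∃ (Y : A) (π : Y ⟶ X), P Y ∧ Epi π)
    (K : CochainComplex A ℤ) (a : ℤ) [K.IsStrictlyLE a] :
    ∃ (Q : CochainComplex A ℤ) (α : Q ⟶ K), Q.IsStrictlyLE a ∧ (∀ n, P (Q.X n)) ∧
      (∀ n, Epi (α.f n)) ∧ QuasiIso α := by
  classical
  obtain ⟨Z, hZ, hPZ⟩ := hP0
  let e := ComplexShape.embeddingUpIntLE a
  let K' : ChainComplex A ℕ := K.restriction e
  let Q' := Qc P hP K'
  let β' : Q' ⟶ K' := βc P hP K'
  have hβ' : QuasiIso β' := quasiIso_βc P hP K'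
  have hlift : e.HasLift (𝟙 K') := by
    intro j hj i' hi'
    exact hj.false_of_isTruncLE.elim
  let ψ₀ : K ⟶ K'.extend e := e.liftExtend (𝟙 K') hlift
  have hψ₀ : IsIso ψ₀ := by
    have : ∀ n, IsIso (ψ₀.f n) := by
      intro n
      by_cases hn : ∃ k, e.f k = n
      · obtain ⟨k, hk⟩ := hn
        exact (e.isIso_liftExtend_f_iff (𝟙 K') hlift hk).mpr
          (by rw [HomologicalComplex.id_f]; infer_instance)
      · have hn' : ∀ k, e.f k ≠ n := fun k hk => hn ⟨k, hk⟩
        have h1 : IsZero (K.X n) := K.isZero_of_isStrictlyLE a n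
          ((ComplexShape.notMem_range_embeddingUpIntLE_iff (p := a) n).mp hn')
        have h2 : IsZero ((K'.extend e).X n) := K'.isZero_extend_X e n hn'
        exact ⟨⟨0, h1.eq_of_src _ _, h2.eq_of_src _ _⟩⟩
    exact HomologicalComplex.Hom.isIso_of_components ψ₀
  let Q₀ := Q'.extend e
  have hterm : ∀ n : ℤ, ∃ Y : A, P Y ∧ Nonempty (Q₀.X n ≅ Y) := by
    intro n
    by_cases hn : ∃ k, e.f k = n
    · obtain ⟨k, hk⟩ := hn
      exact ⟨Q'.X k, Qc_X_prop P hP K' k, ⟨Q'.extendXIso e hk⟩⟩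
    · have hn' : ∀ k, e.f k ≠ n := fun k hk => hn ⟨k, hk⟩
      exact ⟨Z, hPZ, ⟨(Q'.isZero_extend_X e n hn').iso hZ⟩⟩
  choose Y hY eY using hterm
  let eY' : ∀ n, Q₀.X n ≅ Y n := fun n => (eY n).some
  refine ⟨replace Q₀ Y eY',
    (replaceIso Q₀ Y eY').inv ≫ (HomologicalComplex.extendMap β' e ≫ inv ψ₀), ?_, hY, ?_, ?_⟩
  · rw [CochainComplex.isStrictlyLE_iff]
    intro i hi
    have hn' : ∀ k, e.f k ≠ i :=
      (ComplexShape.notMem_range_embeddingUpIntLE_iff (p := a) i).mpr hi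
    exact (Q'.isZero_extend_X e i hn').of_iso (eY' i).symm
  · intro n
    have h1 : Epi ((HomologicalComplex.extendMap β' e).f n) := by
      by_cases hn : ∃ k, e.f k = n
      · obtain ⟨k, hk⟩ := hn
        rw [HomologicalComplex.extendMap_f β' e hk]
        have : Epi (β'.f k) := epi_β P hP K' k
        infer_instance
      · have hn' : ∀ k, e.f k ≠ n := fun k hk => hn ⟨k, hk⟩
        have h2 : IsZero ((K'.extend e).X n) := K'.isZero_extend_X e n hn'
        exact ⟨fun g h _ => h2.eq_of_src g h⟩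
    have h3 : IsIso ((inv ψ₀).f n) := inferInstance
    have h4 : IsIso ((replaceIso Q₀ Y eY').inv.f n) := inferInstance
    show Epi ((replaceIso Q₀ Y eY').inv.f n ≫
      ((HomologicalComplex.extendMap β' e).f n ≫ (inv ψ₀).f n))
    infer_instance
  · infer_instance

end Groth.Agent.H72.LeftRes
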