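import Groth.Agent.H72.LDLoc
import Groth.Agent.H58.LCDepth
import Groth.Agent.H29.CM2
import Groth.Agent.S2599
import Groth.Agent.H25.DimLocal

/-!
# Local linkage over a Gorenstein local ring

Let `A` be a Gorenstein local ring of dimension `d`.  Write `Perp A N` for
`Ext^i(N, A) = 0` for all `i > 0`.

* `perp_of_isCM` / `isCM_of_perp`: a finite module `N ≠ 0` is Cohen–Macaulay of dimension `d`
  (maximal Cohen–Macaulay) iff `Perp A N`.
* `ext_sub_of_quot`: dimension shifting along `0 → K → P → X → 0` with `P` projective.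
* `dual_exact`, `dual_surjective`, `dmap_injective`: the dual of a short exact sequence
  `0 → K → F → X → 0` with `Ext^1(X, A) = 0` is short exact.
* `perp_dual`: `Perp A X → Perp A (X →ₗ[A] A)` for finite `X`.
* `perp_quot_annihilator`: `Perp A (A ⧸ I) → Perp A (A ⧸ Ann I)` (linkage).
* `link_isCM`: `A ⧸ I` maximal Cohen–Macaulay, `Ann I ≠ ⊤` ⇒ `A ⧸ Ann I` maximal Cohen–Macaulay.
* `flat_quot`: over a regular local base `R` with `R → A` flat local, a maximal Cohen–Macaulay
  quotient `A ⧸ I` is flat over `R`.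
-/

set_option autoImplicit false
universe u

namespace Groth.Agent.H72.Link

open CategoryTheory

/-- A Noetherian local ring has finite natural Krull dimension. -/
theorem exists_dim (R : Type u) [CommRing R] [IsNoetherianRing R] [IsLocalRing R] :
    ∃ m : ℕ, ringKrullDim R = (m : WithBot ℕ∞) := by
  have h1 : ringKrullDim R ≠ ⊤ := ringKrullDim_ne_top
  have h2 : ringKrullDim R ≠ ⊥ := ringKrullDim_ne_bot
  induction h : ringKrullDim R using WithBot.recBotCoe with
  | bot => exact absurd h h2
  | coe d =>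
    induction d using ENat.recTopCoe with
    | top => exact absurd h h1
    | coe m => exact ⟨m, rfl⟩

section General

variable (A : Type u) [CommRing A]

/-- `Ext^i(N, A) = 0` for all `i > 0`. -/
def Perp (N : Type u) [AddCommGroup N] [Module A N] : Prop :=
  ∀ t : ℕ, Subsingleton (Abelian.Ext.{u} (ModuleCat.of A N) (ModuleCat.of A A) (t + 1))

variable {A}

/-- Vanishing of `Ext` is invariant under linear equivalence in the first variable. -/
theorem subsingleton_ext_of_equiv {M N : Type u} [AddCommGroup M] [Module A M] [AddCommGroup N]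
    [Module A N] (e : M ≃ₗ[A] N) (Y : ModuleCat.{u} A) (n : ℕ)
    (h : Subsingleton (Abelian.Ext.{u} (ModuleCat.of A M) Y n)) :
    Subsingleton (Abelian.Ext.{u} (ModuleCat.of A N) Y n) := by
  have key : ∀ x : Abelian.Ext.{u} (ModuleCat.of A N) Y n, x = 0 := by
    intro x
    have h2 : ModuleCat.ofHom e.symm.toLinearMap ≫ ModuleCat.ofHom e.toLinearMap =
        𝟙 (ModuleCat.of A N) := by
      ext y
      first
        | exact e.apply_symm_apply y
        | simp
    have h1 : (Abelian.Ext.mk₀ (ModuleCat.ofHom e.symm.toLinearMap)).comp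
        ((Abelian.Ext.mk₀ (ModuleCat.ofHom e.toLinearMap)).comp x (zero_add n)) (zero_add n) =
          x := by
      rw [Abelian.Ext.mk₀_comp_mk₀_assoc, h2, Abelian.Ext.mk₀_id_comp]
    rw [← h1, Subsingleton.elim
      ((Abelian.Ext.mk₀ (ModuleCat.ofHom e.toLinearMap)).comp x (zero_add n)) 0,
      Abelian.Ext.comp_zero]
  exact ⟨fun x y => by rw [key x, key y]⟩

theorem perp_of_equiv {M N : Type u} [AddCommGroup M] [Module A M] [AddCommGroup N]
    [Module A N] (e : M ≃ₗ[A] N) (h : Perp A M) : Perp A N :=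
  fun t => subsingleton_ext_of_equiv e _ _ (h t)

/-- Dimension shifting: `0 → K → P → X → 0` with `P` projective. -/
theorem ext_sub_of_quot {S : ShortComplex (ModuleCat.{u} A)} (hS : S.ShortExact)
    (hproj : Projective S.X₂) (Y : ModuleCat.{u} A) (k : ℕ)
    (h : Subsingleton (Abelian.Ext.{u} S.X₃ Y (k + 1 + 1))) :
    Subsingleton (Abelian.Ext.{u} S.X₁ Y (k + 1)) := by
  haveI := hproj
  have key : ∀ x : Abelian.Ext.{u} S.X₁ Y (k + 1), x = 0 := by
    intro x
    obtain ⟨z, hz⟩ := Abelian.Ext.contravariant_sequence_exact₁ hS Y x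
      (show 1 + (k + 1) = k + 1 + 1 by omega) (Subsingleton.elim _ _)
    rw [← hz, Abelian.Ext.eq_zero_of_projective z, Abelian.Ext.comp_zero]
  exact ⟨fun x y => by rw [key x, key y]⟩

/-- The transpose `N* → M*` of a linear map `M → N`. -/
def dmap {M N : Type u} [AddCommGroup M] [Module A M] [AddCommGroup N] [Module A N]
    (f : M →ₗ[A] N) : (N →ₗ[A] A) →ₗ[A] (M →ₗ[A] A) :=
  { toFun := fun φ => φ ∘ₗ f, map_add' := fun _ _ => LinearMap.ext fun _ => rfl, map_smul' := fun _ _ => LinearMap.ext fun _ => rfl }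

lemma dmap_apply {M N : Type u} [AddCommGroup M] [Module A M] [AddCommGroup N] [Module A N]
    (f : M →ₗ[A] N) (φ : N →ₗ[A] A) (x : M) : dmap f φ x = φ (f x) := rfl

lemma dmap_injective {M N : Type u} [AddCommGroup M] [Module A M] [AddCommGroup N] [Module A N]
    (g : M →ₗ[A] N) (hg : Function.Surjective g) : Function.Injective (dmap g) := by
  intro φ ψ h
  refine LinearMap.ext fun y => ?_
  obtain ⟨x, rfl⟩ := hg y
  have h1 := LinearMap.congr_fun h x
  rwa [dmap_apply, dmap_apply] at h1

variable {K F X : Type u} [AddCommGroup K] [Module A K] [AddCommGroup F] [Module A F]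
  [AddCommGroup X] [Module A X]

theorem dual_exact (f : K →ₗ[A] F) (g : F →ₗ[A] X) (hex : Function.Exact f g)
    (hg : Function.Surjective g) : Function.Exact (dmap g) (dmap f) := by
  intro φ
  constructor
  · intro h
    have hle : LinearMap.ker g ≤ LinearMap.ker φ := by
      intro y hy
      obtain ⟨k, rfl⟩ := (hex y).1 (LinearMap.mem_ker.1 hy)
      have h1 := LinearMap.congr_fun h k
      rw [dmap_apply, LinearMap.zero_apply] at h1
      exact LinearMap.mem_ker.2 h1
    obtain ⟨ψ, hψ⟩ := Groth.Agent.H72.LD.factor_of_ker_le g hg φ hle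
    exact ⟨ψ, hψ⟩
  · rintro ⟨ψ, rfl⟩
    refine LinearMap.ext fun k => ?_
    rw [dmap_apply, dmap_apply, (hex (f k)).2 ⟨k, rfl⟩, map_zero, LinearMap.zero_apply]

theorem dual_surjective (f : K →ₗ[A] F) (g : F →ₗ[A] X) (hex : Function.Exact f g)
    (hf : Function.Injective f) (hg : Function.Surjective g)
    (hX : Subsingleton (Abelian.Ext.{u} (ModuleCat.of A X) (ModuleCat.of A A) 1)) :
    Function.Surjective (dmap f) := by
  intro ψ
  have hS : (ModuleCat.shortComplexOfCompEqZero f g hex.linearMap_comp_eq_zero).ShortExact :=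
    ModuleCat.shortComplex_shortExact _ hex hf hg
  obtain ⟨x₂, hx₂⟩ := Abelian.Ext.contravariant_sequence_exact₁ hS (ModuleCat.of A A)
    (Abelian.Ext.mk₀ (ModuleCat.ofHom ψ)) (show 1 + 0 = 1 by rfl)
    (@Subsingleton.elim _ hX _ _)
  obtain ⟨φ', rfl⟩ := (Abelian.Ext.mk₀_bijective _ _).2 x₂
  rw [Abelian.Ext.mk₀_comp_mk₀] at hx₂
  have h3 := (Abelian.Ext.mk₀_bijective _ _).1 hx₂
  refine ⟨φ'.hom, LinearMap.ext fun k => ?_⟩
  have h4 := congrArg (fun h => h.hom k) h3
  exact h4

end General

section Gor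

variable (A : Type u) [CommRing A] [LocCoh.IsGorensteinLocalRing A] (d : ℕ)
  (hd : ringKrullDim A = (d : WithBot ℕ∞))

include hd

/-- A maximal Cohen–Macaulay module over a Gorenstein local ring has `Ext^i(N, A) = 0`, `i > 0`. -/
theorem perp_of_isCM (N : Type u) [AddCommGroup N] [Module A N] [Module.Finite A N]
    (hCM : LocCoh.IsCohenMacaulayModule A N)
    (hdim : Module.supportDim A N = (d : WithBot ℕ∞)) : Perp A N := by
  intro t
  haveI : Nontrivial N := Groth.Agent.H29.CM.nontrivial_of_isCM hCM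
  have hdep : LocCoh.depth A N = (d : ℕ∞) := by
    have h := hCM
    rw [Groth.Agent.H29.CM.isCM_def, hdim] at h
    have h2 : ((d : ℕ∞) : WithBot ℕ∞) = ((LocCoh.depth A N : ℕ∞) : WithBot ℕ∞) := h
    exact (WithBot.coe_inj.1 h2).symm
  by_cases ht : t + 1 ≤ d
  · rw [Groth.Agent.H72.LDLoc.subsingleton_ext_iff_H A d hd N (t + 1) ht]
    exact Groth.Agent.H58.LC.subsingleton_H_of_lt_idealDepth (IsLocalRing.maximalIdeal A) N d
      (le_of_eq hdep.symm) (Groth.Agent.H29.maximalIdeal_smul_top_ne_top A N) (d - (t + 1))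
      (by omega)
  · exact ⟨fun x y => by
      rw [Groth.Agent.H72.LDLoc.ext_eq_zero_above A d hd _ (t + 1) (by omega) x,
        Groth.Agent.H72.LDLoc.ext_eq_zero_above A d hd _ (t + 1) (by omega) y]⟩

/-- Conversely, a nonzero finite module with `Ext^i(N, A) = 0` for `i > 0` is maximal
Cohen–Macaulay. -/
theorem isCM_of_perp (N : Type u) [AddCommGroup N] [Module A N] [Module.Finite A N]
    [Nontrivial N] (hP : Perp A N) :
    LocCoh.IsCohenMacaulayModule A N ∧ Module.supportDim A N = (d : WithBot ℕ∞) := by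
  obtain ⟨δ, hδ⟩ := Groth.Agent.H29.CM.exists_nat_depth (A := A) (M := N)
  have hIM := Groth.Agent.H29.maximalIdeal_smul_top_ne_top A N
  haveI hnt : Nontrivial (LocCoh.H (IsLocalRing.maximalIdeal A) δ N) :=
    Groth.Agent.H58.LC.nontrivial_H_idealDepth (IsLocalRing.maximalIdeal A) N δ hδ hIM
  have h1 : ((δ : ℕ∞) : WithBot ℕ∞) ≤ Module.supportDim A N := by
    rw [← hδ]; exact Groth.Agent.H29.CM.depth_le_supportDim
  have h2 : Module.supportDim A N ≤ (d : WithBot ℕ∞) := by
    rw [← hd]; exact Module.supportDim_le_ringKrullDim A N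
  have hδd : δ ≤ d := by
    have h3 : ((δ : ℕ∞) : WithBot ℕ∞) ≤ ((d : ℕ∞) : WithBot ℕ∞) := h1.trans h2
    rw [WithBot.coe_le_coe] at h3
    exact_mod_cast h3
  have hdδ : δ = d := by
    by_contra hne
    have hlt : δ < d := lt_of_le_of_ne hδd hne
    obtain ⟨k, hk⟩ : ∃ k, d = δ + (k + 1) := ⟨d - δ - 1, by omega⟩
    have hs := hP k
    rw [Groth.Agent.H72.LDLoc.subsingleton_ext_iff_H A d hd N (k + 1) (by omega)] at hs
    have h4 : d - (k + 1) = δ := by omega
    rw [h4] at hs
    exact not_subsingleton _ hs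
  subst hdδ
  have hdim : Module.supportDim A N = ((δ : ℕ) : WithBot ℕ∞) := le_antisymm h2 h1
  refine ⟨?_, hdim⟩
  rw [Groth.Agent.H29.CM.isCM_def, hdim, hδ]
  rfl

/-- Induction for `perp_dual`. -/
theorem perp_dual_aux (k : ℕ) : ∀ (X : Type u) [AddCommGroup X] [Module A X] [Module.Finite A X],
    Perp A X → ∀ t : ℕ, d < t + 1 + k →
      Subsingleton (Abelian.Ext.{u} (ModuleCat.of A (X →ₗ[A] A)) (ModuleCat.of A A) (t + 1)) := by
  induction k with
  | zero =>
    intro X _ _ _ _ t ht
    exact ⟨fun x y => by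
      rw [Groth.Agent.H72.LDLoc.ext_eq_zero_above A d hd _ (t + 1) (by omega) x,
        Groth.Agent.H72.LDLoc.ext_eq_zero_above A d hd _ (t + 1) (by omega) y]⟩
  | succ k ih =>
    intro X _ _ _ hP t ht
    obtain ⟨n, g, hg⟩ := Module.Finite.exists_fin' A X
    have hex : Function.Exact (LinearMap.ker g).subtype g := LinearMap.exact_subtype_ker_map g
    have hinj : Function.Injective (LinearMap.ker g).subtype := Submodule.subtype_injective _
    have hS0 : (ModuleCat.shortComplexOfCompEqZero (LinearMap.ker g).subtype g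
        hex.linearMap_comp_eq_zero).ShortExact :=
      ModuleCat.shortComplex_shortExact _ hex hinj hg
    have hproj0 : Projective (ModuleCat.of A (Fin n → A)) :=
      (IsProjective.iff_projective _).mp inferInstance
    have hPK : Perp A (LinearMap.ker g) := fun s =>
      ext_sub_of_quot hS0 hproj0 (ModuleCat.of A A) s (hP (s + 1))
    have hK := ih (LinearMap.ker g) hPK (t + 1) (by omega)
    have hex' : Function.Exact (dmap g) (dmap (LinearMap.ker g).subtype) :=
      dual_exact _ _ hex hg
    have hinj' : Function.Injective (dmap g) := dmap_injective g hg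
    have hsurj' : Function.Surjective (dmap (LinearMap.ker g).subtype) :=
      dual_surjective _ _ hex hinj hg (hP 0)
    have hS1 : (ModuleCat.shortComplexOfCompEqZero (dmap g) (dmap (LinearMap.ker g).subtype)
        hex'.linearMap_comp_eq_zero).ShortExact :=
      ModuleCat.shortComplex_shortExact _ hex' hinj' hsurj'
    haveI : Module.Projective A ((Fin n → A) →ₗ[A] A) :=
      Module.Projective.of_equiv (Module.piEquiv (Fin n) A A)
    have hproj1 : Projective (ModuleCat.of A ((Fin n → A) →ₗ[A] A)) :=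
      (IsProjective.iff_projective _).mp inferInstance
    exact ext_sub_of_quot hS1 hproj1 (ModuleCat.of A A) t hK

/-- The dual of a finite module with `Ext^{>0}(X, A) = 0` has the same property. -/
theorem perp_dual (X : Type u) [AddCommGroup X] [Module A X] [Module.Finite A X]
    (hP : Perp A X) : Perp A (X →ₗ[A] A) :=
  fun t => perp_dual_aux A d hd d X hP t (by omega)

omit hd in
/-- `a ↦ (x ↦ a x)`, `A → Hom(I, A)`. -/
def rho (I' : Ideal A) : A →ₗ[A] (I' →ₗ[A] A) :=
  LinearMap.toSpanSingleton A (I' →ₗ[A] A) I'.subtype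

omit hd [LocCoh.IsGorensteinLocalRing A] in
lemma rho_apply (I' : Ideal A) (a : A) (x : I') : rho A I' a x = a * (x : A) := rfl

/-- Linkage: if `A ⧸ I` has `Ext^{>0}(-, A) = 0` then so has `A ⧸ Ann I`. -/
theorem perp_quot_annihilator (I' : Ideal A) (hP : Perp A (A ⧸ I')) :
    Perp A (A ⧸ Submodule.annihilator I') := by
  have hex : Function.Exact (Submodule.subtype I') (Submodule.mkQ I') :=
    LinearMap.exact_subtype_mkQ I'
  have hinj : Function.Injective (Submodule.subtype I') := Submodule.subtype_injective _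
  have hsurj : Function.Surjective (Submodule.mkQ I') := Submodule.mkQ_surjective _
  have hS0 : (ModuleCat.shortComplexOfCompEqZero I'.subtype I'.mkQ
      hex.linearMap_comp_eq_zero).ShortExact :=
    ModuleCat.shortComplex_shortExact _ hex hinj hsurj
  have hproj0 : Projective (ModuleCat.of A A) := (IsProjective.iff_projective _).mp inferInstance
  have hPI : Perp A I' := fun s =>
    ext_sub_of_quot hS0 hproj0 (ModuleCat.of A A) s (hP (s + 1))
  have hPD : Perp A (I' →ₗ[A] A) := perp_dual A d hd I' hPI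
  have hρsurj : Function.Surjective (rho A I') := by
    intro ψ
    obtain ⟨φ, hφ⟩ := dual_surjective I'.subtype I'.mkQ hex hinj hsurj (hP 0) ψ
    refine ⟨φ 1, LinearMap.ext fun x => ?_⟩
    rw [rho_apply, ← hφ, dmap_apply, Submodule.subtype_apply]
    have h2 : φ ((x : A) • (1 : A)) = (x : A) • φ 1 := φ.map_smul _ _
    rw [smul_eq_mul, mul_one, smul_eq_mul] at h2
    rw [h2, mul_comm]
  have hker : LinearMap.ker (rho A I') = Submodule.annihilator I' := by
    ext a
    rw [LinearMap.mem_ker, Submodule.mem_annihilator]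
    constructor
    · intro h x hx
      have h1 := LinearMap.congr_fun h ⟨x, hx⟩
      rw [rho_apply, LinearMap.zero_apply] at h1
      rw [smul_eq_mul]
      exact h1
    · intro h
      refine LinearMap.ext fun x => ?_
      rw [rho_apply, LinearMap.zero_apply, ← smul_eq_mul]
      exact h x.1 x.2
  exact perp_of_equiv ((Submodule.quotEquivOfEq _ _ hker.symm).trans
    ((rho A I').quotKerEquivOfSurjective hρsurj)).symm hPD

/-- Linkage preserves the maximal Cohen–Macaulay property. -/
theorem link_isCM (I' : Ideal A) (hCM : LocCoh.IsCohenMacaulayModule A (A ⧸ I'))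
    (hdim : Module.supportDim A (A ⧸ I') = (d : WithBot ℕ∞))
    (hJ : Submodule.annihilator I' ≠ ⊤) :
    LocCoh.IsCohenMacaulayModule A (A ⧸ Submodule.annihilator I') ∧
      Module.supportDim A (A ⧸ Submodule.annihilator I') = (d : WithBot ℕ∞) := by
  haveI : Nontrivial (A ⧸ Submodule.annihilator I') := Ideal.Quotient.nontrivial_iff.mpr hJ
  exact isCM_of_perp A d hd _
    (perp_quot_annihilator A d hd I' (perp_of_isCM A d hd _ hCM hdim))

end Gor

section Flat

/-- The maximal ideal of a regular local ring is generated by `dim R` elements. -/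
theorem exists_list_maximalIdeal (R : Type u) [CommRing R] [IsRegularLocalRing R] :
    ∃ xs : List R, Ideal.ofList xs = IsLocalRing.maximalIdeal R ∧
      ((xs.length : ℕ) : WithBot ℕ∞) = ringKrullDim R := by
  classical
  have hreg : ((IsLocalRing.maximalIdeal R).spanFinrank : WithBot ℕ∞) = ringKrullDim R :=
    IsRegularLocalRing.spanFinrank_maximalIdeal
  obtain ⟨s, hscard, hsspan⟩ := Submodule.FG.exists_span_finset_card_eq_spanFinrank
    (IsNoetherian.noetherian (IsLocalRing.maximalIdeal R))
  refine ⟨s.toList, ?_, ?_⟩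
  · have h1 : {r | r ∈ s.toList} = (↑s : Set R) := by ext x; simp
    show Ideal.span {r | r ∈ s.toList} = _
    rw [h1]; exact hsspan
  · rw [Finset.length_toList, hscard, hreg]

/-- Over a regular local base with `R → A` flat and local, a maximal Cohen–Macaulay cyclic module
`A ⧸ I` is flat over `R` (miracle flatness). -/
theorem flat_quot (R A : Type u) [CommRing R] [IsRegularLocalRing R] [CommRing A] [Algebra R A]
    [IsNoetherianRing A] [IsLocalRing A] [IsLocalHom (algebraMap R A)] [Module.Flat R A]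
    (I' : Ideal A) (hCM : LocCoh.IsCohenMacaulayModule A (A ⧸ I'))
    (hdim : Module.supportDim A (A ⧸ I') = ringKrullDim A) : Module.Flat R (A ⧸ I') := by
  apply Groth.Agent.S2599.result R A (A ⧸ I') hCM
  obtain ⟨xs, hxs, hlen⟩ := exists_list_maximalIdeal R
  have hflat : ringKrullDim A = ringKrullDim R +
      ringKrullDim (A ⧸ (IsLocalRing.maximalIdeal R).map (algebraMap R A)) :=
    Groth.Agent.H25.DimLocal.ringKrullDim_eq_add_of_flat (algebraMap R A)
      (RingHom.flat_algebraMap_iff.2 inferInstance)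
  have hys : ∀ y ∈ xs.map (algebraMap R A), y ∈ IsLocalRing.maximalIdeal A := by
    intro y hy
    obtain ⟨x, hx, rfl⟩ := List.mem_map.1 hy
    have hxm : x ∈ IsLocalRing.maximalIdeal R := by
      rw [← hxs]; exact Ideal.subset_span hx
    exact IsLocalRing.map_maximalIdeal_le (algebraMap R A) (Ideal.mem_map_of_mem _ hxm)
  have h1 := Groth.Agent.H29.CM.supportDim_le_supportDim_quotient_ofList_add_length
    (xs.map (algebraMap R A)) (A ⧸ I') hys
  have hofl : Ideal.ofList (xs.map (algebraMap R A)) = EGA4.mB R A := by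
    rw [← Ideal.map_ofList, hxs]
  rw [hofl, List.length_map] at h1
  have h2 : Module.supportDim A (EGA4.FibMod R A (A ⧸ I')) ≤ ringKrullDim (A ⧸ EGA4.mB R A) := by
    have hann : EGA4.mB R A ≤ Module.annihilator A (EGA4.FibMod R A (A ⧸ I')) := by
      intro a ha
      rw [Module.mem_annihilator]
      intro y
      obtain ⟨z, rfl⟩ := Submodule.Quotient.mk_surjective _ y
      rw [← Submodule.Quotient.mk_smul, Submodule.Quotient.mk_eq_zero]
      exact Submodule.smul_mem_smul ha Submodule.mem_top
    rw [Module.supportDim_eq_ringKrullDim_quotient_annihilator]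
    exact ringKrullDim_le_of_surjective (Ideal.Quotient.factor hann)
      (Ideal.Quotient.factor_surjective hann)
  rw [hdim] at h1 ⊢
  apply le_antisymm
  · calc ringKrullDim A ≤ Module.supportDim A (EGA4.FibMod R A (A ⧸ I')) +
          ((xs.length : ℕ) : WithBot ℕ∞) := h1
      _ = ringKrullDim R + Module.supportDim A (EGA4.FibMod R A (A ⧸ I')) := by
          rw [hlen]; exact add_comm _ _
  · rw [hflat]
    exact add_le_add le_rfl h2

end Flat

end Groth.Agent.H72.Link
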