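import Groth.Agent.H72.Link
import Groth.Agent.H71.CMOpen
import Groth.Agent.H13.NoetherDiff
import Groth.Agent.S0341
import Groth.Agent.H34.FibBC

/-!
# Linkage in a Gorenstein ring: the Cohen–Macaulay property passes to the linked ideal

* `associatedPrimes_colon_subset`: `Ass (R ⧸ (𝔠 : I)) ⊆ Ass (R ⧸ 𝔠)` (copied from helper26's
  `H26/Liaison.lean` to keep imports light).
* `cmLocal_iff`, `isCMRing_quot_iff`: `G ⧸ 𝔞` is a Cohen–Macaulay ring iff for every prime `Q ⊇ 𝔞`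
  the `G_Q`-module `G_Q ⧸ 𝔞 G_Q` is Cohen–Macaulay.
* `isCM_quot_of_linked_local`: `A` Gorenstein local, `J = Ann I`, `I = Ann J`, `A ⧸ I` CM, `J ≠ ⊤`
  ⇒ `A ⧸ J` CM.
* `isCMRing_quot_of_linked`: `G` Gorenstein ring, `J = Ann I`, `I = Ann J`, `G ⧸ I` CM ⇒ `G ⧸ J` CM.
* `isCMRing_quot_of_colon`: `R ⧸ 𝔠` Gorenstein, `𝔠 : I = J`, `𝔠 : J = I`, `R ⧸ I` CM ⇒ `R ⧸ J` CM.
-/

set_option autoImplicit false
universe u

namespace Groth.Agent.H72.LinkGlobal

open Groth.Agent.H72.Link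

theorem mem_colon_bot_mk {R : Type u} [CommRing R] (𝔞 : Ideal R) (y r : R) :
    r ∈ (⊥ : Submodule R (R ⧸ 𝔞)).colon {Ideal.Quotient.mk 𝔞 y} ↔ r * y ∈ 𝔞 := by
  have e : r • (Ideal.Quotient.mk 𝔞 y) = Ideal.Quotient.mk 𝔞 (r * y) := rfl
  rw [Submodule.mem_colon_singleton, Submodule.mem_bot, e, Ideal.Quotient.eq_zero_iff_mem]

theorem mem_colon_ideal {R : Type u} [CommRing R] (𝔠 I : Ideal R) (r : R) :
    r ∈ 𝔠.colon (I : Set R) ↔ ∀ s ∈ I, r * s ∈ 𝔠 := by
  rw [Submodule.mem_colon]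
  exact Iff.rfl

theorem associatedPrimes_colon_subset {R : Type u} [CommRing R] [IsNoetherianRing R]
    (𝔠 I : Ideal R) :
    associatedPrimes R (R ⧸ 𝔠.colon (I : Set R)) ⊆ associatedPrimes R (R ⧸ 𝔠) := by
  classical
  intro p hp
  obtain ⟨hpp, x, hx⟩ := isAssociatedPrime_iff.mp (AssociatedPrimes.mem_iff.mp hp)
  obtain ⟨y, rfl⟩ := Ideal.Quotient.mk_surjective x
  have hmem : ∀ r, r ∈ p ↔ ∀ b ∈ I, r * y * b ∈ 𝔠 := fun r => by
    rw [hx, mem_colon_bot_mk, mem_colon_ideal]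
  obtain ⟨S, hS⟩ := (IsNoetherian.noetherian I : I.FG)
  have hSI : ∀ a ∈ S, a ∈ I := fun a ha => by
    rw [← hS]; exact Submodule.subset_span (Finset.mem_coe.mpr ha)
  have h1 : ∀ a ∈ S, p ≤ (⊥ : Submodule R (R ⧸ 𝔠)).colon {Ideal.Quotient.mk 𝔠 (y * a)} := by
    intro a ha r hr
    rw [mem_colon_bot_mk, ← mul_assoc]
    exact (hmem r).mp hr a (hSI a ha)
  have h2 : S.inf (fun a => (⊥ : Submodule R (R ⧸ 𝔠)).colon {Ideal.Quotient.mk 𝔠 (y * a)}) ≤ p := by
    intro r hr
    rw [Submodule.mem_finsetInf] at hr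
    rw [hmem]
    have hle : I ≤ 𝔠.colon {r * y} := by
      rw [← hS, Submodule.span_le]
      intro a ha
      rw [SetLike.mem_coe, Submodule.mem_colon_singleton, smul_eq_mul, mul_comm a (r * y),
        mul_assoc]
      have h3 : r ∈ (⊥ : Submodule R (R ⧸ 𝔠)).colon {Ideal.Quotient.mk 𝔠 (y * a)} :=
        hr a (Finset.mem_coe.mp ha)
      rwa [mem_colon_bot_mk] at h3
    intro b hb
    have h4 := hle hb
    rwa [Submodule.mem_colon_singleton, smul_eq_mul, mul_comm b (r * y)] at h4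
  obtain ⟨a₀, ha₀, hle₀⟩ := (Ideal.IsPrime.inf_le' hpp).mp h2
  have heq : p = (⊥ : Submodule R (R ⧸ 𝔠)).colon {Ideal.Quotient.mk 𝔠 (y * a₀)} :=
    le_antisymm (h1 a₀ ha₀) hle₀
  exact AssociatedPrimes.mem_iff.mpr (isAssociatedPrime_iff.mpr ⟨hpp, _, heq⟩)

/-- Pointwise: `(G ⧸ 𝔞)_q` is a CM local ring iff `G_Q ⧸ 𝔞 G_Q` is a CM `G_Q`-module. -/
theorem cmLocal_iff (G : Type u) [CommRing G] [IsNoetherianRing G] (𝔞 : Ideal G)
    (q : Ideal (G ⧸ 𝔞)) [q.IsPrime] (Q : Ideal G) [Q.IsPrime]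
    (hQ : Q = q.comap (Ideal.Quotient.mk 𝔞)) :
    LocCoh.IsCohenMacaulayLocalRing (Localization.AtPrime q) ↔
      LocCoh.IsCohenMacaulayModule (Localization.AtPrime Q)
        (Localization.AtPrime Q ⧸ 𝔞.map (algebraMap G (Localization.AtPrime Q))) := by
  haveI : IsNoetherianRing (Localization.AtPrime Q) :=
    IsLocalization.isNoetherianRing Q.primeCompl _ inferInstance
  letI : Algebra (Localization.AtPrime Q) (Localization.AtPrime q) :=
    (Localization.localRingHom Q q (Ideal.Quotient.mk 𝔞) hQ).toAlgebra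
  have hs : Function.Surjective
      (algebraMap (Localization.AtPrime Q) (Localization.AtPrime q)) :=
    Groth.Agent.H71.CMOpen.localRingHom_surjective (Ideal.Quotient.mk 𝔞)
      Ideal.Quotient.mk_surjective q Q hQ
  have hker : RingHom.ker (algebraMap (Localization.AtPrime Q) (Localization.AtPrime q)) =
      𝔞.map (algebraMap G (Localization.AtPrime Q)) := by
    have h1 := Groth.Agent.H71.CMOpen.ker_localRingHom (Ideal.Quotient.mk 𝔞)
      Ideal.Quotient.mk_surjective q Q hQ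
    rw [Ideal.mk_ker] at h1
    exact h1
  rw [Groth.Agent.H71.CMOpen.isCMLocalRing_iff_isCMModule hs]
  have hker' : LinearMap.ker
      (Algebra.linearMap (Localization.AtPrime Q) (Localization.AtPrime q)) =
        𝔞.map (algebraMap G (Localization.AtPrime Q)) := by
    rw [← hker]
    ext x
    rw [LinearMap.mem_ker, RingHom.mem_ker, Algebra.linearMap_apply]
  have e : (Localization.AtPrime Q ⧸ 𝔞.map (algebraMap G (Localization.AtPrime Q)))
      ≃ₗ[Localization.AtPrime Q] Localization.AtPrime q :=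
    (Submodule.quotEquivOfEq _ _ hker'.symm).trans
      ((Algebra.linearMap (Localization.AtPrime Q)
        (Localization.AtPrime q)).quotKerEquivOfSurjective hs)
  exact ⟨Groth.Agent.H29.CM.isCM_of_equiv e.symm, Groth.Agent.H29.CM.isCM_of_equiv e⟩

/-- `G ⧸ 𝔞` is a Cohen–Macaulay ring iff `G_Q ⧸ 𝔞 G_Q` is a Cohen–Macaulay `G_Q`-module for all
primes `Q ⊇ 𝔞`. -/
theorem isCMRing_quot_iff (G : Type u) [CommRing G] [IsNoetherianRing G] (𝔞 : Ideal G) :
    LocCoh.IsCohenMacaulayRing (G ⧸ 𝔞) ↔ ∀ (Q : Ideal G) [Q.IsPrime], 𝔞 ≤ Q →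
      LocCoh.IsCohenMacaulayModule (Localization.AtPrime Q)
        (Localization.AtPrime Q ⧸ 𝔞.map (algebraMap G (Localization.AtPrime Q))) := by
  constructor
  · intro h Q _ hQ
    have hker : RingHom.ker (Ideal.Quotient.mk 𝔞) ≤ Q := by rw [Ideal.mk_ker]; exact hQ
    haveI : (Q.map (Ideal.Quotient.mk 𝔞)).IsPrime :=
      Ideal.map_isPrime_of_surjective Ideal.Quotient.mk_surjective hker
    have hcomap : Q = (Q.map (Ideal.Quotient.mk 𝔞)).comap (Ideal.Quotient.mk 𝔞) := by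
      rw [Ideal.comap_map_of_surjective _ Ideal.Quotient.mk_surjective,
        ← RingHom.ker_eq_comap_bot, Ideal.mk_ker]
      exact (sup_eq_left.2 hQ).symm
    exact (cmLocal_iff G 𝔞 (Q.map (Ideal.Quotient.mk 𝔞)) Q hcomap).1
      (h.isCohenMacaulayLocalRing_localization _)
  · intro h
    exact
      { toIsNoetherian := inferInstanceAs (IsNoetherianRing (G ⧸ 𝔞))
        isCohenMacaulayLocalRing_localization := fun q _ => by
          have h𝔞Q : 𝔞 ≤ q.comap (Ideal.Quotient.mk 𝔞) := by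
            intro x hx
            rw [Ideal.mem_comap, Ideal.Quotient.eq_zero_iff_mem.2 hx]
            exact Ideal.zero_mem _
          exact (cmLocal_iff G 𝔞 q (q.comap (Ideal.Quotient.mk 𝔞)) rfl).2 (h _ h𝔞Q) }

/-- Local linkage: `A ⧸ I` Cohen–Macaulay ⇒ `A ⧸ J` Cohen–Macaulay for linked `I`, `J`. -/
theorem isCM_quot_of_linked_local (A : Type u) [CommRing A] [LocCoh.IsGorensteinLocalRing A]
    (I J : Ideal A) (hJ : J = Submodule.annihilator I) (hI : I = Submodule.annihilator J)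
    (hCM : LocCoh.IsCohenMacaulayModule A (A ⧸ I)) (hJtop : J ≠ ⊤) :
    LocCoh.IsCohenMacaulayModule A (A ⧸ J) := by
  subst hJ
  obtain ⟨d, hd⟩ := exists_dim A
  haveI : Nontrivial (A ⧸ I) := Groth.Agent.H29.CM.nontrivial_of_isCM hCM
  obtain ⟨p, hp⟩ := associatedPrimes.nonempty A (A ⧸ I)
  have hpA : p ∈ associatedPrimes A A := by
    have h1 : p ∈ associatedPrimes A
        (A ⧸ (⊥ : Ideal A).colon ((Submodule.annihilator I : Ideal A) : Set A)) := by
      rw [Submodule.bot_colon, ← hI]; exact hp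
    have h2 := associatedPrimes_colon_subset ⊥ (Submodule.annihilator I) h1
    rw [← LinearEquiv.AssociatedPrimes.eq (Submodule.quotEquivOfEqBot (⊥ : Ideal A) rfl)]
    exact h2
  have hAA : LocCoh.IsCohenMacaulayModule A A :=
    (Groth.Agent.S0341.result A).supportDim_eq_depth
  have e1 := Groth.Agent.H29.CM.ringKrullDim_quotient_eq_supportDim_of_isCM hCM hp
  have e2 := Groth.Agent.H29.CM.ringKrullDim_quotient_eq_supportDim_of_isCM hAA hpA
  have hdim : Module.supportDim A (A ⧸ I) = (d : WithBot ℕ∞) := by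
    rw [← e1, e2, Module.supportDim_self_eq_ringKrullDim, hd]
  exact (link_isCM A d hd I hCM hdim hJtop).1

/-- Linkage in a Gorenstein ring. -/
theorem isCMRing_quot_of_linked (G : Type u) [CommRing G] [LocCoh.IsGorensteinRing G]
    (I J : Ideal G) (hJ : J = Submodule.annihilator I) (hI : I = Submodule.annihilator J)
    (h : LocCoh.IsCohenMacaulayRing (G ⧸ I)) : LocCoh.IsCohenMacaulayRing (G ⧸ J) := by
  rw [isCMRing_quot_iff] at h ⊢
  intro Q _ hJQ
  haveI : LocCoh.IsGorensteinLocalRing (Localization.AtPrime Q) :=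
    LocCoh.IsGorensteinRing.isGorensteinLocalRing_localization Q
  have hIfg : I.FG := IsNoetherian.noetherian I
  have hJfg : J.FG := IsNoetherian.noetherian J
  have hJA : J.map (algebraMap G (Localization.AtPrime Q)) =
      Submodule.annihilator (I.map (algebraMap G (Localization.AtPrime Q))) := by
    rw [H13.NoetherDiff.annihilator_map_of_flat_algebra I hIfg, ← hJ]
  have hIA : I.map (algebraMap G (Localization.AtPrime Q)) =
      Submodule.annihilator (J.map (algebraMap G (Localization.AtPrime Q))) := by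
    rw [H13.NoetherDiff.annihilator_map_of_flat_algebra J hJfg, ← hI]
  have hJtop : J.map (algebraMap G (Localization.AtPrime Q)) ≠ ⊤ := by
    intro htop
    have hle : J.map (algebraMap G (Localization.AtPrime Q)) ≤
        IsLocalRing.maximalIdeal (Localization.AtPrime Q) := by
      rw [← IsLocalization.AtPrime.map_eq_maximalIdeal Q (Localization.AtPrime Q)]
      exact Ideal.map_mono hJQ
    exact (IsLocalRing.maximalIdeal.isMaximal (Localization.AtPrime Q)).ne_top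
      (top_le_iff.1 (htop ▸ hle))
  by_cases hIQ : I ≤ Q
  · exact isCM_quot_of_linked_local (Localization.AtPrime Q) _ _ hJA hIA (h Q hIQ) hJtop
  · have hItop : I.map (algebraMap G (Localization.AtPrime Q)) = ⊤ := by
      obtain ⟨x, hxI, hxQ⟩ := SetLike.not_le_iff_exists.1 hIQ
      exact Ideal.eq_top_of_isUnit_mem _ (Ideal.mem_map_of_mem _ hxI)
        (IsLocalization.map_units (Localization.AtPrime Q) (⟨x, hxQ⟩ : Q.primeCompl))
    have hJbot : J.map (algebraMap G (Localization.AtPrime Q)) = ⊥ := by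
      rw [hJA, hItop, eq_bot_iff]
      intro a ha
      have h1 := Submodule.mem_annihilator.1 ha 1 Submodule.mem_top
      rw [smul_eq_mul, mul_one] at h1
      exact (Submodule.mem_bot _).2 h1
    rw [hJbot]
    have hAA : LocCoh.IsCohenMacaulayModule (Localization.AtPrime Q) (Localization.AtPrime Q) :=
      (Groth.Agent.S0341.result (Localization.AtPrime Q)).supportDim_eq_depth
    exact Groth.Agent.H29.CM.isCM_of_equiv
      (Submodule.quotEquivOfEqBot (⊥ : Ideal (Localization.AtPrime Q)) rfl).symm hAA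

/-- The annihilator of `I/𝔠` in `R/𝔠` is `(𝔠 : I)/𝔠`. -/
theorem map_mk_eq_annihilator {R : Type u} [CommRing R] (𝔠 I J : Ideal R) (h𝔠J : 𝔠 ≤ J)
    (hIJ : 𝔠.colon (I : Set R) = J) :
    J.map (Ideal.Quotient.mk 𝔠) = Submodule.annihilator (I.map (Ideal.Quotient.mk 𝔠)) := by
  ext z
  obtain ⟨g, rfl⟩ := Ideal.Quotient.mk_surjective z
  rw [Ideal.mem_quotient_iff_mem h𝔠J, ← hIJ, Submodule.mem_colon, Submodule.mem_annihilator]
  constructor
  · intro h w hw
    obtain ⟨i, hi, rfl⟩ := (Ideal.mem_map_iff_of_surjective _ Ideal.Quotient.mk_surjective).1 hw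
    rw [smul_eq_mul, ← map_mul, Ideal.Quotient.eq_zero_iff_mem]
    exact h i hi
  · intro h i hi
    have h1 := h (Ideal.Quotient.mk 𝔠 i) (Ideal.mem_map_of_mem _ hi)
    rw [smul_eq_mul, ← map_mul, Ideal.Quotient.eq_zero_iff_mem] at h1
    exact h1

theorem le_colon_self {R : Type u} [CommRing R] (𝔠 : Ideal R) (S : Set R) : 𝔠 ≤ 𝔠.colon S := by
  intro x hx
  rw [Submodule.mem_colon]
  intro s _
  exact 𝔠.mul_mem_right s hx

/-- Direct linkage by an ideal with Gorenstein quotient preserves Cohen–Macaulayness. -/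
theorem isCMRing_quot_of_colon {R : Type u} [CommRing R] (𝔠 I J : Ideal R)
    [LocCoh.IsGorensteinRing (R ⧸ 𝔠)] (hIJ : 𝔠.colon (I : Set R) = J)
    (hJI : 𝔠.colon (J : Set R) = I) (hCM : LocCoh.IsCohenMacaulayRing (R ⧸ I)) :
    LocCoh.IsCohenMacaulayRing (R ⧸ J) := by
  have h𝔠I : 𝔠 ≤ I := by rw [← hJI]; exact le_colon_self 𝔠 _
  have h𝔠J : 𝔠 ≤ J := by rw [← hIJ]; exact le_colon_self 𝔠 _
  have hG : LocCoh.IsCohenMacaulayRing ((R ⧸ 𝔠) ⧸ I.map (Ideal.Quotient.mk 𝔠)) :=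
    Groth.Agent.H34.FibBC.isCohenMacaulayRing_of_ringEquiv
      (DoubleQuot.quotQuotEquivQuotOfLE h𝔠I).symm hCM
  have hG' := isCMRing_quot_of_linked (R ⧸ 𝔠) _ _ (map_mk_eq_annihilator 𝔠 I J h𝔠J hIJ)
    (map_mk_eq_annihilator 𝔠 J I h𝔠I hJI) hG
  exact Groth.Agent.H34.FibBC.isCohenMacaulayRing_of_ringEquiv
    (DoubleQuot.quotQuotEquivQuotOfLE h𝔠J) hG'

end Groth.Agent.H72.LinkGlobal
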