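import Groth.Agent.H72.LinkGlobal
import Groth.Agent.H72.CanonMod
import Groth.Agent.S7701
import Groth.Agent.H59.Goren4
import Groth.Agent.H60.GorTransfer
import Groth.Agent.H21.LocalReg

/-!
# Linkage of an almost complete intersection gives a Gorenstein quotient

* `gorRing_quot_of_height_eq`: `C` regular, `g : Fin c → C` with `ht (g) = c` ⇒ `C ⧸ (g)` Gorenstein.
* `gor_of_selfdual`: `A` Gorenstein local, `A → B` surjective, `B` CM local with `dim B = dim A`,
  `Hom_A(B, A) ≃ B` ⇒ `B` Gorenstein.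
* `selfdual_equiv`: for `J = Ann f`, `(f) = Ann J`: `Hom_A(A ⧸ J, A) ≃ A ⧸ J`.
* `gor_quot_of_linked_principal` (local), `gorRing_quot_of_linked_principal` (global).
-/

set_option autoImplicit false
universe u

namespace Groth.Agent.H72.LinkGor

open CategoryTheory Groth.Agent.H72.Link Groth.Agent.H72.LinkGlobal Groth.Agent.H72.CanonMod

/-- A quotient of a regular ring by `c` elements generating an ideal of height `c` is Gorenstein. -/
theorem gorRing_quot_of_height_eq (C : Type u) [CommRing C] [IsRegularRing C] (c : ℕ)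
    (g : Fin c → C) (hht : (Ideal.span (Set.range g)).height = c) :
    LocCoh.IsGorensteinRing (C ⧸ Ideal.span (Set.range g)) := by
  haveI : LocCoh.IsGorensteinRing C := Groth.Agent.H59.Goren1.gorRing_of_isRegularRing C
  refine Groth.Agent.H59.Goren4.gorRing_quotient_of_locally_regular _ (fun Q _ hQ => ?_)
  haveI : IsRegularLocalRing (Localization.AtPrime Q) :=
    IsRegularRing.isRegularLocalRing_localization Q
  have hCMA : LocCoh.IsCohenMacaulayModule (Localization.AtPrime Q) (Localization.AtPrime Q) :=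
    Groth.Agent.H21.HilbertCI.isCM_of_isRegularLocalRing _
  obtain ⟨xs, hxsdef⟩ : ∃ xs : List (Localization.AtPrime Q),
      xs = (List.ofFn g).map (algebraMap C (Localization.AtPrime Q)) := ⟨_, rfl⟩
  have hofl : Ideal.ofList xs =
      (Ideal.span (Set.range g)).map (algebraMap C (Localization.AtPrime Q)) := by
    rw [hxsdef, ← Ideal.map_ofList, Groth.Agent.H21.LocalReg.ofList_ofFn']
  have hlen : xs.length = c := by rw [hxsdef, List.length_map, List.length_ofFn]
  have h2 : (Ideal.span (Set.range g)).map (algebraMap C (Localization.AtPrime Q)) ≤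
      IsLocalRing.maximalIdeal (Localization.AtPrime Q) := by
    rw [← IsLocalization.AtPrime.map_eq_maximalIdeal Q (Localization.AtPrime Q)]
    exact Ideal.map_mono hQ
  have hmem : ∀ x ∈ xs, x ∈ IsLocalRing.maximalIdeal (Localization.AtPrime Q) := by
    intro x hx
    have h1 : x ∈ Ideal.ofList xs := Ideal.subset_span hx
    rw [hofl] at h1
    exact h2 h1
  refine ⟨xs, ?_, hofl.symm⟩
  rw [(Groth.Agent.H29.CM.isWeaklyRegular_iff_of_isCM xs (Localization.AtPrime Q) hCMA hmem).1]
  obtain ⟨N, hN⟩ := exists_dim (Localization.AtPrime Q)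
  have hsmul : Ideal.ofList xs • (⊤ : Submodule (Localization.AtPrime Q)
      (Localization.AtPrime Q)) = Ideal.ofList xs := by
    show Ideal.ofList xs * ⊤ = _
    rw [Ideal.mul_top]
  have h𝔞le : Ideal.ofList xs ≤ IsLocalRing.maximalIdeal (Localization.AtPrime Q) := by
    rw [hofl]; exact h2
  have hc𝔞 : (c : ℕ∞) ≤ (Ideal.ofList xs).height := by
    rw [← hht, ← IsLocalization.height_under Q.primeCompl (Ideal.ofList xs)]
    apply Ideal.height_mono
    rw [hofl]
    exact Ideal.le_comap_map
  have hcN : c ≤ N := by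
    have h1 : (Ideal.ofList xs).height ≤
        (IsLocalRing.maximalIdeal (Localization.AtPrime Q)).height := Ideal.height_mono h𝔞le
    have h3 : (((IsLocalRing.maximalIdeal (Localization.AtPrime Q)).height : ℕ∞) : WithBot ℕ∞) =
        ringKrullDim (Localization.AtPrime Q) := IsLocalRing.maximalIdeal_height_eq_ringKrullDim
    have h4 : ((c : ℕ∞) : WithBot ℕ∞) ≤ ((N : ℕ∞) : WithBot ℕ∞) := by
      calc ((c : ℕ∞) : WithBot ℕ∞)
          ≤ (((IsLocalRing.maximalIdeal (Localization.AtPrime Q)).height : ℕ∞) : WithBot ℕ∞) :=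
            WithBot.coe_le_coe.2 (hc𝔞.trans h1)
        _ = ringKrullDim (Localization.AtPrime Q) := h3
        _ = ((N : ℕ∞) : WithBot ℕ∞) := hN
    rw [WithBot.coe_le_coe] at h4
    exact_mod_cast h4
  have hq := Groth.Agent.H21.LocalReg.ringKrullDim_quotient_le_of_le_height (Ideal.ofList xs) N c
    (N - c) (le_of_eq hN) hc𝔞 (by omega)
  apply le_antisymm
  · rw [hsmul, Module.supportDim_quotient_eq_ringKrullDim,
      Module.supportDim_self_eq_ringKrullDim, hN, hlen]
    calc ringKrullDim (Localization.AtPrime Q ⧸ Ideal.ofList xs) + ((c : ℕ) : WithBot ℕ∞)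
        ≤ ((N - c : ℕ) : WithBot ℕ∞) + ((c : ℕ) : WithBot ℕ∞) := add_le_add hq le_rfl
      _ = ((N : ℕ) : WithBot ℕ∞) := by rw [← Nat.cast_add, Nat.sub_add_cancel hcN]
  · exact Groth.Agent.H29.CM.supportDim_le_supportDim_quotient_ofList_add_length xs
      (Localization.AtPrime Q) hmem

/-- `dim A ⧸ I = dim A` when `I` is an annihilator ideal and `A ⧸ I` is Cohen–Macaulay. -/
theorem supportDim_quot_of_annihilator (A : Type u) [CommRing A] [LocCoh.IsGorensteinLocalRing A]
    (d : ℕ) (hd : ringKrullDim A = (d : WithBot ℕ∞)) (I J : Ideal A)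
    (hI : I = Submodule.annihilator J) (hCM : LocCoh.IsCohenMacaulayModule A (A ⧸ I)) :
    Module.supportDim A (A ⧸ I) = (d : WithBot ℕ∞) := by
  haveI : Nontrivial (A ⧸ I) := Groth.Agent.H29.CM.nontrivial_of_isCM hCM
  obtain ⟨p, hp⟩ := associatedPrimes.nonempty A (A ⧸ I)
  have hpA : p ∈ associatedPrimes A A := by
    have h1 : p ∈ associatedPrimes A (A ⧸ (⊥ : Ideal A).colon (J : Set A)) := by
      rw [Submodule.bot_colon, ← hI]; exact hp
    have h2 := associatedPrimes_colon_subset ⊥ J h1
    rw [← LinearEquiv.AssociatedPrimes.eq (Submodule.quotEquivOfEqBot (⊥ : Ideal A) rfl)]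
    exact h2
  have hAA : LocCoh.IsCohenMacaulayModule A A :=
    (Groth.Agent.S0341.result A).supportDim_eq_depth
  have e1 := Groth.Agent.H29.CM.ringKrullDim_quotient_eq_supportDim_of_isCM hCM hp
  have e2 := Groth.Agent.H29.CM.ringKrullDim_quotient_eq_supportDim_of_isCM hAA hpA
  rw [← e1, e2, Module.supportDim_self_eq_ringKrullDim, hd]

/-- A Cohen–Macaulay quotient `B` of a Gorenstein local ring `A` with `dim B = dim A` and
`Hom_A(B, A) ≃ B` is Gorenstein. -/
theorem gor_of_selfdual (A B : Type u) [CommRing A] [LocCoh.IsGorensteinLocalRing A] [CommRing B]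
    [LocCoh.IsCohenMacaulayLocalRing B] [Algebra A B]
    (hπ : Function.Surjective (algebraMap A B)) (d : ℕ)
    (hd : ringKrullDim A = (d : WithBot ℕ∞)) (hdB : ringKrullDim B = (d : WithBot ℕ∞))
    (e : (B →ₗ[A] A) ≃ₗ[A] B) : LocCoh.IsGorensteinLocalRing B := by
  haveI : Module.Finite A B := Module.Finite.of_surjective (Algebra.linearMap A B) hπ
  obtain ⟨f', hf'⟩ := Groth.Agent.S11665.result A d hd
  obtain ⟨g1, hg1⟩ := Groth.Agent.H2.Matlis.exists_isInjectiveHull_coext (A := A) (B := B) hf'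
  letI : Module B (XT A B 0) := moduleXT A B hπ 0
  haveI : IsScalarTower A B (XT A B 0) :=
    IsScalarTower.of_algebraMap_smul (fun c x => moduleXT_algebraMap_smul A B hπ 0 c x)
  haveI : Module.Finite A (XT A B 0) := Groth.Agent.H72.LDLoc.finite_ext A 0 B
  haveI : Module.Finite B (XT A B 0) := Module.Finite.of_restrictScalars_finite A B (XT A B 0)
  obtain ⟨eK⟩ := canon_XT A B hπ d d hd hdB 0 (by omega) _ g1 hg1
  rw [Groth.Agent.S7701.result B d hdB _ g1 hg1 (XT A B 0) eK]
  let e1 : XT A B 0 ≃ₗ[A] (ModuleCat.of A B ⟶ ModuleCat.of A A) := Abelian.Ext.linearEquiv₀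
  let e2 : (ModuleCat.of A B ⟶ ModuleCat.of A A) ≃ₗ[A] (B →ₗ[A] A) := ModuleCat.homLinearEquiv
  exact ⟨LinearEquiv.extendScalarsOfSurjective hπ (e1.trans (e2.trans e))⟩

/-- For `J = Ann f` and `(f) = Ann J`: `Hom_A(A ⧸ J, A) ≃ A ⧸ J`. -/
theorem selfdual_equiv (A : Type u) [CommRing A] (f : A) (J : Ideal A)
    (hJf : ∀ a, a ∈ J ↔ a * f = 0) (hI : ∀ y, (∀ j ∈ J, j * y = 0) → ∃ a, a * f = y) :
    Nonempty (((A ⧸ J) →ₗ[A] A) ≃ₗ[A] (A ⧸ J)) := by
  have hle : J ≤ LinearMap.ker (LinearMap.toSpanSingleton A A f) := by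
    intro j hj
    rw [LinearMap.mem_ker, LinearMap.toSpanSingleton_apply, smul_eq_mul]
    exact (hJf j).1 hj
  obtain ⟨φf, hφfdef⟩ : ∃ φf : (A ⧸ J) →ₗ[A] A,
      φf = J.liftQ (LinearMap.toSpanSingleton A A f) hle := ⟨_, rfl⟩
  have hφf : ∀ b : A, φf (Submodule.Quotient.mk b) = b * f := by
    intro b
    rw [hφfdef, Submodule.liftQ_apply, LinearMap.toSpanSingleton_apply, smul_eq_mul]
  obtain ⟨ρ, hρdef⟩ : ∃ ρ : A →ₗ[A] ((A ⧸ J) →ₗ[A] A),
      ρ = LinearMap.toSpanSingleton A ((A ⧸ J) →ₗ[A] A) φf := ⟨_, rfl⟩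
  have hρ : ∀ a b : A, ρ a (Submodule.Quotient.mk b) = a * (b * f) := by
    intro a b
    rw [hρdef, LinearMap.toSpanSingleton_apply, LinearMap.smul_apply, hφf, smul_eq_mul]
  have hker : LinearMap.ker ρ = J := by
    ext a
    rw [LinearMap.mem_ker]
    constructor
    · intro h
      have h1 := LinearMap.congr_fun h (Submodule.Quotient.mk (1 : A))
      rw [hρ, one_mul, LinearMap.zero_apply] at h1
      exact (hJf a).2 h1
    · intro h
      refine LinearMap.ext fun x => ?_
      obtain ⟨b, rfl⟩ := Submodule.Quotient.mk_surjective J x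
      rw [hρ, LinearMap.zero_apply, mul_left_comm, (hJf a).1 h, mul_zero]
  have hsurj : Function.Surjective ρ := by
    intro φ
    have hy : ∀ j ∈ J, j * φ (Submodule.Quotient.mk (1 : A)) = 0 := by
      intro j hj
      have h1 : φ (j • (Submodule.Quotient.mk (1 : A) : A ⧸ J)) =
          j • φ (Submodule.Quotient.mk (1 : A)) := φ.map_smul _ _
      rw [← Submodule.Quotient.mk_smul, smul_eq_mul, mul_one,
        (Submodule.Quotient.mk_eq_zero J).2 hj, map_zero] at h1
      rw [← smul_eq_mul, ← h1]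
    obtain ⟨a, ha⟩ := hI _ hy
    refine ⟨a, LinearMap.ext fun x => ?_⟩
    obtain ⟨b, rfl⟩ := Submodule.Quotient.mk_surjective J x
    rw [hρ]
    have h1 : φ (b • (Submodule.Quotient.mk (1 : A) : A ⧸ J)) =
        b • φ (Submodule.Quotient.mk (1 : A)) := φ.map_smul _ _
    rw [← Submodule.Quotient.mk_smul, smul_eq_mul, mul_one] at h1
    rw [h1, ← ha, smul_eq_mul]
    ring
  exact ⟨((Submodule.quotEquivOfEq _ _ hker.symm).trans
    (ρ.quotKerEquivOfSurjective hsurj)).symm⟩

/-- Local statement: linkage of a principal ideal in a Gorenstein local ring. -/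
theorem gor_quot_of_linked_principal (A : Type u) [CommRing A] [LocCoh.IsGorensteinLocalRing A]
    (f : A) (J : Ideal A) (hJ : J = Submodule.annihilator (Ideal.span {f}))
    (hI : Ideal.span {f} = Submodule.annihilator J)
    (hCM : LocCoh.IsCohenMacaulayModule A (A ⧸ Ideal.span {f})) (hJtop : J ≠ ⊤) :
    LocCoh.IsGorensteinLocalRing (A ⧸ J) := by
  obtain ⟨d, hd⟩ := exists_dim A
  have hdimI := supportDim_quot_of_annihilator A d hd _ J hI hCM
  have hJf : ∀ a, a ∈ J ↔ a * f = 0 := by
    intro a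
    rw [hJ]
    exact Submodule.mem_annihilator_span_singleton f a
  have hIy : ∀ y, (∀ j ∈ J, j * y = 0) → ∃ a, a * f = y := by
    intro y hy
    have h1 : y ∈ Submodule.annihilator J := by
      rw [Submodule.mem_annihilator]
      intro j hj
      rw [smul_eq_mul, mul_comm]
      exact hy j hj
    rw [← hI] at h1
    exact Ideal.mem_span_singleton'.1 h1
  obtain ⟨e⟩ := selfdual_equiv A f J hJf hIy
  subst hJ
  obtain ⟨hCMJ, hdimJ⟩ := link_isCM A d hd (Ideal.span {f}) hCM hdimI hJtop
  haveI : Nontrivial (A ⧸ Submodule.annihilator (Ideal.span {f})) :=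
    Ideal.Quotient.nontrivial_iff.mpr hJtop
  haveI : IsLocalRing (A ⧸ Submodule.annihilator (Ideal.span {f})) :=
    IsLocalRing.of_surjective' (Ideal.Quotient.mk _) Ideal.Quotient.mk_surjective
  have hπ : Function.Surjective
      (algebraMap A (A ⧸ Submodule.annihilator (Ideal.span {f}))) := Ideal.Quotient.mk_surjective
  haveI : LocCoh.IsCohenMacaulayLocalRing (A ⧸ Submodule.annihilator (Ideal.span {f})) :=
    (Groth.Agent.H71.CMOpen.isCMLocalRing_iff_isCMModule hπ).2 hCMJ
  have hdB : ringKrullDim (A ⧸ Submodule.annihilator (Ideal.span {f})) = (d : WithBot ℕ∞) := by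
    rw [← Module.supportDim_quotient_eq_ringKrullDim]; exact hdimJ
  exact gor_of_selfdual A _ hπ d hd hdB e

/-- The local step of the global statement. -/
theorem local_step (G : Type u) [CommRing G] [LocCoh.IsGorensteinRing G] (f : G) (J : Ideal G)
    (hJ : J = Submodule.annihilator (Ideal.span {f}))
    (hI : Ideal.span {f} = Submodule.annihilator J)
    (hCM : ∀ (Q : Ideal G) [Q.IsPrime], Ideal.span {f} ≤ Q →
      LocCoh.IsCohenMacaulayModule (Localization.AtPrime Q)
        (Localization.AtPrime Q ⧸ (Ideal.span {f}).map (algebraMap G (Localization.AtPrime Q))))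
    (Q : Ideal G) [Q.IsPrime] (hJQ : J ≤ Q) :
    LocCoh.IsGorensteinLocalRing
      (Localization.AtPrime Q ⧸ J.map (algebraMap G (Localization.AtPrime Q))) := by
  haveI : LocCoh.IsGorensteinLocalRing (Localization.AtPrime Q) :=
    LocCoh.IsGorensteinRing.isGorensteinLocalRing_localization Q
  have hIfg : (Ideal.span {f}).FG := IsNoetherian.noetherian _
  have hJfg : J.FG := IsNoetherian.noetherian J
  have hspan : (Ideal.span {f}).map (algebraMap G (Localization.AtPrime Q)) =
      Ideal.span {algebraMap G (Localization.AtPrime Q) f} := by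
    rw [Ideal.map_span, Set.image_singleton]
  have hJA : J.map (algebraMap G (Localization.AtPrime Q)) =
      Submodule.annihilator (Ideal.span {algebraMap G (Localization.AtPrime Q) f}) := by
    rw [← hspan, H13.NoetherDiff.annihilator_map_of_flat_algebra _ hIfg, ← hJ]
  have hIA : Ideal.span {algebraMap G (Localization.AtPrime Q) f} =
      Submodule.annihilator (J.map (algebraMap G (Localization.AtPrime Q))) := by
    rw [← hspan, H13.NoetherDiff.annihilator_map_of_flat_algebra J hJfg, ← hI]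
  have hJtop : J.map (algebraMap G (Localization.AtPrime Q)) ≠ ⊤ := by
    intro htop
    have hle : J.map (algebraMap G (Localization.AtPrime Q)) ≤
        IsLocalRing.maximalIdeal (Localization.AtPrime Q) := by
      rw [← IsLocalization.AtPrime.map_eq_maximalIdeal Q (Localization.AtPrime Q)]
      exact Ideal.map_mono hJQ
    exact (IsLocalRing.maximalIdeal.isMaximal (Localization.AtPrime Q)).ne_top
      (top_le_iff.1 (htop ▸ hle))
  by_cases hfQ : f ∈ Q
  · have hle : Ideal.span {f} ≤ Q := (Ideal.span_singleton_le_iff_mem _).2 hfQ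
    have h1 := hCM Q hle
    rw [hspan] at h1
    exact gor_quot_of_linked_principal (Localization.AtPrime Q) _ _ hJA hIA h1 hJtop
  · have hunit : IsUnit (algebraMap G (Localization.AtPrime Q) f) :=
      IsLocalization.map_units _ (⟨f, hfQ⟩ : Q.primeCompl)
    have hJbot : J.map (algebraMap G (Localization.AtPrime Q)) = ⊥ := by
      rw [hJA, eq_bot_iff]
      intro a ha
      have h1 := (Submodule.mem_annihilator_span_singleton _ _).1 ha
      rw [smul_eq_mul] at h1
      exact (Submodule.mem_bot _).2 (hunit.mul_left_eq_zero.1 h1)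
    rw [hJbot]
    exact Groth.Agent.H60.GorTransfer.gor_of_ringEquiv
      (RingEquiv.quotientBot (Localization.AtPrime Q)).symm inferInstance

/-- In a Gorenstein ring `G`: if `J = Ann f`, `(f) = Ann J` and `G ⧸ (f)` is Cohen–Macaulay, then
`G ⧸ J` is Gorenstein. -/
theorem gorRing_quot_of_linked_principal (G : Type u) [CommRing G] [LocCoh.IsGorensteinRing G]
    (f : G) (J : Ideal G) (hJ : J = Submodule.annihilator (Ideal.span {f}))
    (hI : Ideal.span {f} = Submodule.annihilator J)
    (hCM : LocCoh.IsCohenMacaulayRing (G ⧸ Ideal.span {f})) :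
    LocCoh.IsGorensteinRing (G ⧸ J) := by
  rw [isCMRing_quot_iff] at hCM
  refine ⟨fun Pb _ => ?_⟩
  obtain ⟨e⟩ := Groth.Agent.H59.Goren4.exists_quot_loc_equiv J Pb
  refine Groth.Agent.H60.GorTransfer.gor_of_ringEquiv e ?_
  haveI : (Pb.comap (Ideal.Quotient.mk J)).IsPrime := Ideal.comap_isPrime _ _
  have hJQ : J ≤ Pb.comap (Ideal.Quotient.mk J) := by
    intro x hx
    rw [Ideal.mem_comap, Ideal.Quotient.eq_zero_iff_mem.2 hx]
    exact Ideal.zero_mem _
  exact local_step G f J hJ hI hCM _ hJQ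

end Groth.Agent.H72.LinkGor
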