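import Groth.Agent.H72.LinkGor
import Groth.Agent.H2.LCNonvanishMod
import Groth.Agent.H26.Liaison2

/-!
# Geometric linkage: the sum of two geometrically linked ideals is Gorenstein of height `c + 1`

* `isCM_of_ext_concentrated`: over a Gorenstein local ring `A` of dimension `d`, a nonzero finite
  module `N` with `Ext^t(N, A) = 0` for `t ≠ k` is Cohen–Macaulay of dimension `d - k`.
* `gor_of_ext_one`: `A` Gorenstein local of dimension `d + 1`, `A → B` surjective, `B` CM local of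
  dimension `d` with `Ext^1_A(B, A) ≃ B` ⇒ `B` Gorenstein.
* `gor_quot_sup_local`: `A` Gorenstein local, `I₂ = Ann I₁`, `I₁ = Ann I₂`, `I₁ ⊓ I₂ = 0`,
  `A ⧸ I₁` CM, `I₁ ⊔ I₂ ≠ ⊤` ⇒ `A ⧸ (I₁ ⊔ I₂)` Gorenstein of dimension `dim A - 1`.
* `gorRing_quot_sup`: the global version in a Gorenstein ring.
* `colon_inf_eq`: `(I₁ ⊓ I₂ : I₁) = I₂` for unmixed ideals of the same height without common
  minimal prime.
* `gorRing_quot_sup_of_colon`, `main`: the statement for homogeneous ideals of a polynomial ring.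
-/

set_option autoImplicit false
universe u

namespace Groth.Agent.H72.LinkSum

open CategoryTheory Groth.Agent.H72.Link Groth.Agent.H72.LinkGlobal Groth.Agent.H72.LinkGor
  Groth.Agent.H72.CanonMod

/-- Over a Gorenstein local ring of dimension `d`, a nonzero finite module whose `Ext^t(N, A)`
vanish for `t ≠ k` is Cohen–Macaulay of dimension `d - k`. -/
theorem isCM_of_ext_concentrated (A : Type u) [CommRing A] [LocCoh.IsGorensteinLocalRing A] (d : ℕ)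
    (hd : ringKrullDim A = (d : WithBot ℕ∞)) (N : Type u) [AddCommGroup N] [Module A N]
    [Module.Finite A N] [Nontrivial N] (k : ℕ)
    (h : ∀ t : ℕ, t ≠ k →
      Subsingleton (Abelian.Ext.{u} (ModuleCat.of A N) (ModuleCat.of A A) t)) :
    k ≤ d ∧ LocCoh.IsCohenMacaulayModule A N ∧
      Module.supportDim A N = ((d - k : ℕ) : WithBot ℕ∞) := by
  obtain ⟨δ, hδ⟩ := Groth.Agent.H29.CM.exists_nat_depth (A := A) (M := N)
  obtain ⟨m, hm⟩ := Groth.Agent.H29.CM.exists_nat_supportDim (A := A) (M := N)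
  have hIM := Groth.Agent.H29.maximalIdeal_smul_top_ne_top A N
  haveI hnt1 : Nontrivial (LocCoh.H (IsLocalRing.maximalIdeal A) δ N) :=
    Groth.Agent.H58.LC.nontrivial_H_idealDepth (IsLocalRing.maximalIdeal A) N δ hδ hIM
  haveI hnt2 : Nontrivial (LocCoh.H (IsLocalRing.maximalIdeal A) m N) :=
    Groth.Agent.H2.LCNonvanishMod.nontrivial_H_supportDim A N m (by rw [hm]; rfl)
  have h1 : ((δ : ℕ∞) : WithBot ℕ∞) ≤ Module.supportDim A N := by
    rw [← hδ]; exact Groth.Agent.H29.CM.depth_le_supportDim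
  have h2 : Module.supportDim A N ≤ (d : WithBot ℕ∞) := by
    rw [← hd]; exact Module.supportDim_le_ringKrullDim A N
  have hδm : δ ≤ m := by
    rw [hm, WithBot.coe_le_coe] at h1
    exact_mod_cast h1
  have hmd : m ≤ d := by
    have h3 : ((m : ℕ∞) : WithBot ℕ∞) ≤ ((d : ℕ∞) : WithBot ℕ∞) := by rw [← hm]; exact h2
    rw [WithBot.coe_le_coe] at h3
    exact_mod_cast h3
  have e1 : d - δ = k := by
    by_contra hne
    have hs := h (d - δ) hne
    rw [Groth.Agent.H72.LDLoc.subsingleton_ext_iff_H A d hd N (d - δ) (by omega)] at hs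
    have h4 : d - (d - δ) = δ := by omega
    rw [h4] at hs
    exact not_subsingleton _ hs
  have e2 : d - m = k := by
    by_contra hne
    have hs := h (d - m) hne
    rw [Groth.Agent.H72.LDLoc.subsingleton_ext_iff_H A d hd N (d - m) (by omega)] at hs
    have h4 : d - (d - m) = m := by omega
    rw [h4] at hs
    exact not_subsingleton _ hs
  have hδm' : δ = m := by omega
  subst hδm'
  have h5 : d - k = δ := by omega
  have hdim : Module.supportDim A N = ((d - k : ℕ) : WithBot ℕ∞) := by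
    rw [h5, hm]; rfl
  refine ⟨by omega, ?_, hdim⟩
  rw [Groth.Agent.H29.CM.isCM_def, hm, hδ]

/-- A Cohen–Macaulay quotient `B` of a Gorenstein local ring `A` with `dim B = dim A - 1` and
`Ext^1_A(B, A) ≃ B` is Gorenstein. -/
theorem gor_of_ext_one (A B : Type u) [CommRing A] [LocCoh.IsGorensteinLocalRing A] [CommRing B]
    [LocCoh.IsCohenMacaulayLocalRing B] [Algebra A B]
    (hπ : Function.Surjective (algebraMap A B)) (d : ℕ)
    (hd : ringKrullDim A = ((d + 1 : ℕ) : WithBot ℕ∞))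
    (hdB : ringKrullDim B = (d : WithBot ℕ∞))
    (e : XT A B 1 ≃ₗ[A] B) : LocCoh.IsGorensteinLocalRing B := by
  haveI : Module.Finite A B := Module.Finite.of_surjective (Algebra.linearMap A B) hπ
  obtain ⟨f', hf'⟩ := Groth.Agent.S11665.result A (d + 1) hd
  obtain ⟨g1, hg1⟩ := Groth.Agent.H2.Matlis.exists_isInjectiveHull_coext (A := A) (B := B) hf'
  letI : Module B (XT A B 1) := moduleXT A B hπ 1
  haveI : IsScalarTower A B (XT A B 1) :=
    IsScalarTower.of_algebraMap_smul (fun c x => moduleXT_algebraMap_smul A B hπ 1 c x)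
  haveI : Module.Finite A (XT A B 1) := Groth.Agent.H72.LDLoc.finite_ext A 1 B
  haveI : Module.Finite B (XT A B 1) := Module.Finite.of_restrictScalars_finite A B (XT A B 1)
  obtain ⟨eK⟩ := canon_XT A B hπ (d + 1) d hd hdB 1 (by omega) _ g1 hg1
  rw [Groth.Agent.S7701.result B d hdB _ g1 hg1 (XT A B 1) eK]
  exact ⟨LinearEquiv.extendScalarsOfSurjective hπ e⟩

/-- Every element of `Ext^0(M, A)` comes from a linear map. -/
lemma exists_mk₀ {A : Type u} [CommRing A] [IsNoetherianRing A] (M : Type u) [AddCommGroup M]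
    [Module A M] (z : Abelian.Ext.{u} (ModuleCat.of A M) (ModuleCat.of A A) 0) :
    ∃ φ : M →ₗ[A] A, z = Abelian.Ext.mk₀ (ModuleCat.ofHom φ) :=
  ⟨Groth.Agent.H72.LD.e0 M z, by
    rw [← Groth.Agent.H72.LD.e0_symm_apply, LinearEquiv.symm_apply_apply]⟩

lemma mk₀_ofHom_inj {A : Type u} [CommRing A] [IsNoetherianRing A] (M : Type u) [AddCommGroup M]
    [Module A M] {φ ψ : M →ₗ[A] A}
    (h : (Abelian.Ext.mk₀ (ModuleCat.ofHom φ) :
      Abelian.Ext.{u} (ModuleCat.of A M) (ModuleCat.of A A) 0) =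
        Abelian.Ext.mk₀ (ModuleCat.ofHom ψ)) : φ = ψ := by
  have h1 := congrArg (Groth.Agent.H72.LD.e0 M) h
  rwa [Groth.Agent.H72.LD.e0_apply_mk₀, Groth.Agent.H72.LD.e0_apply_mk₀] at h1

/-- Local statement: the sum of two geometrically linked ideals in a Gorenstein local ring. -/
theorem gor_quot_sup_local (A : Type u) [CommRing A] [LocCoh.IsGorensteinLocalRing A]
    (I₁ I₂ : Ideal A) (h12 : I₂ = Submodule.annihilator I₁) (h21 : I₁ = Submodule.annihilator I₂)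
    (hCM₁ : LocCoh.IsCohenMacaulayModule A (A ⧸ I₁)) (hinf : I₁ ⊓ I₂ = ⊥)
    (htop : I₁ ⊔ I₂ ≠ ⊤) :
    LocCoh.IsGorensteinLocalRing (A ⧸ (I₁ ⊔ I₂)) ∧
      ringKrullDim (A ⧸ (I₁ ⊔ I₂)) + 1 = ringKrullDim A := by
  obtain ⟨d, hd⟩ := exists_dim A
  have hdim₁ := supportDim_quot_of_annihilator A d hd I₁ I₂ h21 hCM₁
  have hP1 : Perp A (A ⧸ I₁) := perp_of_isCM A d hd _ hCM₁ hdim₁
  have hP2 : Perp A (A ⧸ I₂) := by
    have h := perp_quot_annihilator A d hd I₁ hP1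
    rw [← h12] at h
    exact h
  -- `Perp I₂` and surjectivity of `rho`
  have hex0 : Function.Exact (Submodule.subtype I₂) (Submodule.mkQ I₂) :=
    LinearMap.exact_subtype_mkQ I₂
  have hinj0 : Function.Injective (Submodule.subtype I₂) := Submodule.subtype_injective _
  have hsurj0 : Function.Surjective (Submodule.mkQ I₂) := Submodule.mkQ_surjective _
  have hS0 : (ModuleCat.shortComplexOfCompEqZero I₂.subtype I₂.mkQ
      hex0.linearMap_comp_eq_zero).ShortExact :=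
    ModuleCat.shortComplex_shortExact _ hex0 hinj0 hsurj0
  have hproj0 : Projective (ModuleCat.of A A) := (IsProjective.iff_projective _).mp inferInstance
  have hPI₂ : Perp A I₂ := fun s =>
    ext_sub_of_quot hS0 hproj0 (ModuleCat.of A A) s (hP2 (s + 1))
  have hρsurj : Function.Surjective (rho A I₂) := by
    intro ψ
    obtain ⟨φ, hφ⟩ := dual_surjective I₂.subtype I₂.mkQ hex0 hinj0 hsurj0 (hP2 0) ψ
    refine ⟨φ 1, LinearMap.ext fun x => ?_⟩
    rw [rho_apply, ← hφ, dmap_apply, Submodule.subtype_apply]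
    have h2 : φ ((x : A) • (1 : A)) = (x : A) • φ 1 := φ.map_smul _ _
    rw [smul_eq_mul, mul_one, smul_eq_mul] at h2
    rw [h2, mul_comm]
  have hmemI₂ : ∀ w : A, (∀ u ∈ I₁, u * w = 0) → w ∈ I₂ := by
    intro w hw
    rw [h12, Submodule.mem_annihilator]
    intro u hu
    rw [smul_eq_mul, mul_comm]
    exact hw u hu
  have hmemI₁ : ∀ w : A, (∀ u ∈ I₂, u * w = 0) → w ∈ I₁ := by
    intro w hw
    rw [h21, Submodule.mem_annihilator]
    intro u hu
    rw [smul_eq_mul, mul_comm]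
    exact hw u hu
  -- the short exact sequence `0 → I₂ → A ⧸ I₁ → A ⧸ (I₁ ⊔ I₂) → 0`
  obtain ⟨ι, hι⟩ : ∃ ι : I₂ →ₗ[A] (A ⧸ I₁), ∀ x : I₂, ι x = Submodule.Quotient.mk (x : A) :=
    ⟨(Submodule.mkQ I₁) ∘ₗ I₂.subtype, fun x => rfl⟩
  obtain ⟨π, hπ⟩ : ∃ π : (A ⧸ I₁) →ₗ[A] (A ⧸ (I₁ ⊔ I₂)), ∀ b : A,
      π (Submodule.Quotient.mk b) = Submodule.Quotient.mk b :=
    ⟨I₁.liftQ (Submodule.mkQ (I₁ ⊔ I₂)) (by rw [Submodule.ker_mkQ]; exact le_sup_left),
      fun b => rfl⟩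
  have hιinj : Function.Injective ι := by
    refine (injective_iff_map_eq_zero ι).2 (fun x hx => ?_)
    rw [hι, Submodule.Quotient.mk_eq_zero] at hx
    have h1 : (x : A) ∈ I₁ ⊓ I₂ := Submodule.mem_inf.2 ⟨hx, x.2⟩
    rw [hinf] at h1
    exact Subtype.ext ((Submodule.mem_bot A).1 h1)
  have hπsurj : Function.Surjective π := by
    intro y
    obtain ⟨b, rfl⟩ := Submodule.Quotient.mk_surjective _ y
    exact ⟨Submodule.Quotient.mk b, hπ b⟩
  have hex : Function.Exact ι π := by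
    intro y
    obtain ⟨b, rfl⟩ := Submodule.Quotient.mk_surjective I₁ y
    rw [hπ, Submodule.Quotient.mk_eq_zero]
    constructor
    · intro hb
      obtain ⟨u, hu, v, hv, rfl⟩ := Submodule.mem_sup.1 hb
      refine ⟨⟨v, hv⟩, ?_⟩
      rw [hι]
      exact ((Submodule.Quotient.eq I₁).2 (by simpa using hu)).symm
    · rintro ⟨x, hx⟩
      rw [hι] at hx
      have h1 : (x : A) - b ∈ I₁ := (Submodule.Quotient.eq I₁).1 hx
      have h2 : b = (x : A) - ((x : A) - b) := by ring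
      rw [h2]
      exact Submodule.sub_mem _ (Submodule.mem_sup_right x.2) (Submodule.mem_sup_left h1)
  have hS : (ModuleCat.shortComplexOfCompEqZero ι π hex.linearMap_comp_eq_zero).ShortExact :=
    ModuleCat.shortComplex_shortExact _ hex hιinj hπsurj
  -- `Hom(A ⧸ (I₁ ⊔ I₂), A) = 0`
  have hsub : ∀ φl : (A ⧸ (I₁ ⊔ I₂)) →ₗ[A] A, φl = 0 := by
    intro φl
    have hw : ∀ b : A, φl (Submodule.Quotient.mk b) =
        b * φl (Submodule.Quotient.mk (1 : A)) := by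
      intro b
      have h1 : φl (b • (Submodule.Quotient.mk (1 : A) : A ⧸ (I₁ ⊔ I₂))) =
          b • φl (Submodule.Quotient.mk (1 : A)) := φl.map_smul _ _
      rw [← Submodule.Quotient.mk_smul, smul_eq_mul, mul_one] at h1
      rw [h1, smul_eq_mul]
    have hann : ∀ u ∈ I₁ ⊔ I₂, u * φl (Submodule.Quotient.mk (1 : A)) = 0 := by
      intro u hu
      rw [← hw u, (Submodule.Quotient.mk_eq_zero (I₁ ⊔ I₂)).2 hu, map_zero]
    have hm1 : φl (Submodule.Quotient.mk (1 : A)) ∈ I₂ :=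
      hmemI₂ _ (fun u hu => hann u (Submodule.mem_sup_left hu))
    have hm2 : φl (Submodule.Quotient.mk (1 : A)) ∈ I₁ :=
      hmemI₁ _ (fun u hu => hann u (Submodule.mem_sup_right hu))
    have hm : φl (Submodule.Quotient.mk (1 : A)) ∈ I₁ ⊓ I₂ := Submodule.mem_inf.2 ⟨hm2, hm1⟩
    rw [hinf] at hm
    have hw0 : φl (Submodule.Quotient.mk (1 : A)) = 0 := (Submodule.mem_bot A).1 hm
    refine LinearMap.ext fun y => ?_
    obtain ⟨b, rfl⟩ := Submodule.Quotient.mk_surjective _ y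
    rw [hw b, hw0, mul_zero, LinearMap.zero_apply]
  -- vanishing of `Ext^t(A ⧸ (I₁ ⊔ I₂), A)` for `t ≠ 1`
  have hconc : ∀ t : ℕ, t ≠ 1 → Subsingleton (Abelian.Ext.{u}
      (ModuleCat.of A (A ⧸ (I₁ ⊔ I₂))) (ModuleCat.of A A) t) := by
    intro t ht
    rcases t with _ | _ | k
    · refine ⟨fun x y => ?_⟩
      obtain ⟨φx, rfl⟩ := exists_mk₀ (A ⧸ (I₁ ⊔ I₂)) x
      obtain ⟨φy, rfl⟩ := exists_mk₀ (A ⧸ (I₁ ⊔ I₂)) y
      rw [hsub φx, hsub φy]
    · exact absurd rfl ht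
    · have key : ∀ z : Abelian.Ext.{u} (ModuleCat.of A (A ⧸ (I₁ ⊔ I₂))) (ModuleCat.of A A)
          (k + 1 + 1), z = 0 := by
        intro z
        haveI := hP1 (k + 1)
        haveI := hPI₂ k
        obtain ⟨x₁, hx₁⟩ := Abelian.Ext.contravariant_sequence_exact₃ hS (ModuleCat.of A A) z
          (Subsingleton.elim _ _) (show 1 + (k + 1) = k + 1 + 1 by omega)
        rw [← hx₁, Subsingleton.elim x₁ 0, Abelian.Ext.comp_zero]
      exact ⟨fun x y => by rw [key x, key y]⟩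
  -- the map `A → Ext^1(A ⧸ (I₁ ⊔ I₂), A)`
  obtain ⟨Θ, hΘ⟩ : ∃ Θ : A →ₗ[A] Abelian.Ext.{u} (ModuleCat.of A (A ⧸ (I₁ ⊔ I₂)))
      (ModuleCat.of A A) 1, ∀ a : A, Θ a = hS.extClass.comp
        (Abelian.Ext.mk₀ (ModuleCat.ofHom (rho A I₂ a))) (show 1 + 0 = 1 from rfl) :=
    ⟨(hS.extClass.precompOfLinear A (ModuleCat.of A A) (show 1 + 0 = 1 from rfl)) ∘ₗ
      ((Groth.Agent.H72.LD.e0 I₂).symm.toLinearMap ∘ₗ rho A I₂), fun a => rfl⟩
  have hΘsurj : Function.Surjective Θ := by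
    intro z
    haveI := hP1 0
    obtain ⟨x₁, hx₁⟩ := Abelian.Ext.contravariant_sequence_exact₃ hS (ModuleCat.of A A) z
      (Subsingleton.elim _ _) (show 1 + 0 = 1 from rfl)
    obtain ⟨ψ, rfl⟩ := exists_mk₀ I₂ x₁
    obtain ⟨a, ha⟩ := hρsurj ψ
    refine ⟨a, ?_⟩
    rw [hΘ a, ha]
    exact hx₁
  have hker_ge : ∀ a ∈ I₁ ⊔ I₂, Θ a = 0 := by
    intro a ha
    obtain ⟨u, hu, v, hv, rfl⟩ := Submodule.mem_sup.1 ha
    have hu0 : Θ u = 0 := by
      have h1 : rho A I₂ u = 0 := by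
        refine LinearMap.ext fun x => ?_
        rw [rho_apply, LinearMap.zero_apply, ← smul_eq_mul]
        have hu' : u ∈ Submodule.annihilator I₂ := h21 ▸ hu
        exact Submodule.mem_annihilator.1 hu' x.1 x.2
      rw [hΘ u, h1, ← Groth.Agent.H72.LD.e0_symm_apply, map_zero, Abelian.Ext.comp_zero]
    have hv0 : Θ v = 0 := by
      have hle : I₁ ≤ LinearMap.ker (LinearMap.toSpanSingleton A A v) := by
        intro w hw
        rw [LinearMap.mem_ker, LinearMap.toSpanSingleton_apply, smul_eq_mul]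
        have hv' : v ∈ Submodule.annihilator I₁ := h12 ▸ hv
        have h3 := Submodule.mem_annihilator.1 hv' w hw
        rw [smul_eq_mul] at h3
        rw [mul_comm]; exact h3
      have h1 : rho A I₂ v = (I₁.liftQ (LinearMap.toSpanSingleton A A v) hle) ∘ₗ ι := by
        refine LinearMap.ext fun x => ?_
        rw [rho_apply, LinearMap.comp_apply, hι, Submodule.liftQ_apply,
          LinearMap.toSpanSingleton_apply, smul_eq_mul, mul_comm]
      have h2 : (Abelian.Ext.mk₀ (ModuleCat.ofHom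
          ((I₁.liftQ (LinearMap.toSpanSingleton A A v) hle) ∘ₗ ι)) :
            Abelian.Ext.{u} (ModuleCat.of A I₂) (ModuleCat.of A A) 0) =
          (Abelian.Ext.mk₀ (ModuleCat.ofHom ι)).comp
            (Abelian.Ext.mk₀ (ModuleCat.ofHom (I₁.liftQ (LinearMap.toSpanSingleton A A v) hle)))
            (zero_add 0) := by
        rw [Abelian.Ext.mk₀_comp_mk₀]; rfl
      rw [hΘ v, h1, h2]
      exact hS.extClass_comp_assoc _
    rw [map_add, hu0, hv0, add_zero]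
  have hker_le : ∀ a : A, Θ a = 0 → a ∈ I₁ ⊔ I₂ := by
    intro a ha
    rw [hΘ a] at ha
    obtain ⟨x₂, hx₂⟩ := Abelian.Ext.contravariant_sequence_exact₁ hS (ModuleCat.of A A)
      (Abelian.Ext.mk₀ (ModuleCat.ofHom (rho A I₂ a))) (show 1 + 0 = 1 from rfl) ha
    obtain ⟨φl, rfl⟩ := exists_mk₀ (A ⧸ I₁) x₂
    rw [Abelian.Ext.mk₀_comp_mk₀] at hx₂
    have hx₂' : (Abelian.Ext.mk₀ (ModuleCat.ofHom (φl ∘ₗ ι)) :
        Abelian.Ext.{u} (ModuleCat.of A I₂) (ModuleCat.of A A) 0) =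
          Abelian.Ext.mk₀ (ModuleCat.ofHom (rho A I₂ a)) := hx₂
    have h3 : φl ∘ₗ ι = rho A I₂ a := mk₀_ofHom_inj I₂ hx₂'
    have h4 : ∀ x : I₂, φl (Submodule.Quotient.mk (x : A)) = a * (x : A) := by
      intro x
      have h5 := LinearMap.congr_fun h3 x
      rw [LinearMap.comp_apply, hι, rho_apply] at h5
      exact h5
    have hφ' : ∀ b : A, φl (Submodule.Quotient.mk b) =
        b * φl (Submodule.Quotient.mk (1 : A)) := by
      intro b
      have h1 : φl (b • (Submodule.Quotient.mk (1 : A) : A ⧸ I₁)) =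
          b • φl (Submodule.Quotient.mk (1 : A)) := φl.map_smul _ _
      rw [← Submodule.Quotient.mk_smul, smul_eq_mul, mul_one] at h1
      rw [h1, smul_eq_mul]
    have hvI₂ : φl (Submodule.Quotient.mk (1 : A)) ∈ I₂ := by
      refine hmemI₂ _ (fun w hw => ?_)
      have h1 := hφ' w
      rw [(Submodule.Quotient.mk_eq_zero I₁).2 hw, map_zero] at h1
      exact h1.symm
    have havI₁ : a - φl (Submodule.Quotient.mk (1 : A)) ∈ I₁ := by
      refine hmemI₁ _ (fun x hx => ?_)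
      have h1 := h4 ⟨x, hx⟩
      rw [hφ'] at h1
      rw [mul_sub, h1]
      ring
    have h6 : a = (a - φl (Submodule.Quotient.mk (1 : A))) + φl (Submodule.Quotient.mk (1 : A)) := by
      ring
    rw [h6]
    exact Submodule.add_mem_sup havI₁ hvI₂
  have hkerΘ : LinearMap.ker Θ = I₁ ⊔ I₂ := by
    ext a
    rw [LinearMap.mem_ker]
    exact ⟨hker_le a, hker_ge a⟩
  have eΘ : (A ⧸ (I₁ ⊔ I₂)) ≃ₗ[A] Abelian.Ext.{u} (ModuleCat.of A (A ⧸ (I₁ ⊔ I₂)))
      (ModuleCat.of A A) 1 :=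
    (Submodule.quotEquivOfEq _ _ hkerΘ.symm).trans (Θ.quotKerEquivOfSurjective hΘsurj)
  -- conclusion
  haveI : Nontrivial (A ⧸ (I₁ ⊔ I₂)) := Ideal.Quotient.nontrivial_iff.mpr htop
  obtain ⟨hk, hCMC, hdimC⟩ := isCM_of_ext_concentrated A d hd (A ⧸ (I₁ ⊔ I₂)) 1 hconc
  haveI : IsLocalRing (A ⧸ (I₁ ⊔ I₂)) :=
    IsLocalRing.of_surjective' (Ideal.Quotient.mk _) Ideal.Quotient.mk_surjective
  have hπs : Function.Surjective (algebraMap A (A ⧸ (I₁ ⊔ I₂))) := Ideal.Quotient.mk_surjective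
  haveI : LocCoh.IsCohenMacaulayLocalRing (A ⧸ (I₁ ⊔ I₂)) :=
    (Groth.Agent.H71.CMOpen.isCMLocalRing_iff_isCMModule hπs).2 hCMC
  obtain ⟨d', rfl⟩ : ∃ d', d = d' + 1 := ⟨d - 1, by omega⟩
  have hdB : ringKrullDim (A ⧸ (I₁ ⊔ I₂)) = (d' : WithBot ℕ∞) := by
    rw [← Module.supportDim_quotient_eq_ringKrullDim, hdimC, Nat.add_sub_cancel]
  refine ⟨gor_of_ext_one A _ hπs d' hd hdB eΘ.symm, ?_⟩
  rw [hdB, hd, Nat.cast_add_one]

/-- The local step of the global statement. -/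
theorem local_step_sup (G : Type u) [CommRing G] [LocCoh.IsGorensteinRing G] (J₁ J₂ : Ideal G)
    (h12 : J₂ = Submodule.annihilator J₁) (h21 : J₁ = Submodule.annihilator J₂)
    (hinf : J₁ ⊓ J₂ = ⊥)
    (hCM : ∀ (Q : Ideal G) [Q.IsPrime], J₁ ≤ Q →
      LocCoh.IsCohenMacaulayModule (Localization.AtPrime Q)
        (Localization.AtPrime Q ⧸ J₁.map (algebraMap G (Localization.AtPrime Q))))
    (Q : Ideal G) [Q.IsPrime] (hQ : J₁ ⊔ J₂ ≤ Q) :
    LocCoh.IsGorensteinLocalRing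
      (Localization.AtPrime Q ⧸ (J₁ ⊔ J₂).map (algebraMap G (Localization.AtPrime Q))) ∧
    ringKrullDim (Localization.AtPrime Q ⧸
      (J₁ ⊔ J₂).map (algebraMap G (Localization.AtPrime Q))) + 1 =
        ringKrullDim (Localization.AtPrime Q) := by
  haveI : LocCoh.IsGorensteinLocalRing (Localization.AtPrime Q) :=
    LocCoh.IsGorensteinRing.isGorensteinLocalRing_localization Q
  have h1fg : J₁.FG := IsNoetherian.noetherian J₁
  have h2fg : J₂.FG := IsNoetherian.noetherian J₂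
  have hA12 : J₂.map (algebraMap G (Localization.AtPrime Q)) =
      Submodule.annihilator (J₁.map (algebraMap G (Localization.AtPrime Q))) := by
    rw [H13.NoetherDiff.annihilator_map_of_flat_algebra J₁ h1fg, ← h12]
  have hA21 : J₁.map (algebraMap G (Localization.AtPrime Q)) =
      Submodule.annihilator (J₂.map (algebraMap G (Localization.AtPrime Q))) := by
    rw [H13.NoetherDiff.annihilator_map_of_flat_algebra J₂ h2fg, ← h21]
  have hAinf : J₁.map (algebraMap G (Localization.AtPrime Q)) ⊓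
      J₂.map (algebraMap G (Localization.AtPrime Q)) = ⊥ := by
    rw [← IsLocalization.map_inf Q.primeCompl (Localization.AtPrime Q), hinf, Ideal.map_bot]
  have hAtop : J₁.map (algebraMap G (Localization.AtPrime Q)) ⊔
      J₂.map (algebraMap G (Localization.AtPrime Q)) ≠ ⊤ := by
    rw [← Ideal.map_sup]
    intro htop
    have hle : (J₁ ⊔ J₂).map (algebraMap G (Localization.AtPrime Q)) ≤
        IsLocalRing.maximalIdeal (Localization.AtPrime Q) := by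
      rw [← IsLocalization.AtPrime.map_eq_maximalIdeal Q (Localization.AtPrime Q)]
      exact Ideal.map_mono hQ
    exact (IsLocalRing.maximalIdeal.isMaximal (Localization.AtPrime Q)).ne_top
      (top_le_iff.1 (htop ▸ hle))
  have h := gor_quot_sup_local (Localization.AtPrime Q) _ _ hA12 hA21
    (hCM Q (le_sup_left.trans hQ)) hAinf hAtop
  rw [← Ideal.map_sup] at h
  exact h

/-- In a Gorenstein ring `G`: if `J₂ = Ann J₁`, `J₁ = Ann J₂`, `J₁ ⊓ J₂ = 0` and `G ⧸ J₁` is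
Cohen–Macaulay, then `G ⧸ (J₁ ⊔ J₂)` is Gorenstein, and some prime containing `J₁ ⊔ J₂` has
height one. -/
theorem gorRing_quot_sup (G : Type u) [CommRing G] [LocCoh.IsGorensteinRing G] (J₁ J₂ : Ideal G)
    (h12 : J₂ = Submodule.annihilator J₁) (h21 : J₁ = Submodule.annihilator J₂)
    (hinf : J₁ ⊓ J₂ = ⊥) (hCM : LocCoh.IsCohenMacaulayRing (G ⧸ J₁)) :
    LocCoh.IsGorensteinRing (G ⧸ (J₁ ⊔ J₂)) ∧
      (J₁ ⊔ J₂ ≠ ⊤ → ∃ Q : Ideal G, Q.IsPrime ∧ J₁ ⊔ J₂ ≤ Q ∧ Q.height = 1) := by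
  rw [isCMRing_quot_iff] at hCM
  have hcomap_le : ∀ Pb : Ideal (G ⧸ (J₁ ⊔ J₂)),
      J₁ ⊔ J₂ ≤ Pb.comap (Ideal.Quotient.mk (J₁ ⊔ J₂)) := by
    intro Pb x hx
    rw [Ideal.mem_comap, Ideal.Quotient.eq_zero_iff_mem.2 hx]
    exact Ideal.zero_mem _
  refine ⟨⟨fun Pb _ => ?_⟩, fun htop => ?_⟩
  · obtain ⟨e⟩ := Groth.Agent.H59.Goren4.exists_quot_loc_equiv (J₁ ⊔ J₂) Pb
    exact Groth.Agent.H60.GorTransfer.gor_of_ringEquiv e
      (local_step_sup G J₁ J₂ h12 h21 hinf hCM _ (hcomap_le Pb)).1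
  · haveI : Nontrivial (G ⧸ (J₁ ⊔ J₂)) := Ideal.Quotient.nontrivial_iff.mpr htop
    obtain ⟨⟨Pb, hPb⟩⟩ := Ideal.nonempty_minimalPrimes
      (bot_ne_top : (⊥ : Ideal (G ⧸ (J₁ ⊔ J₂))) ≠ ⊤)
    haveI : Pb.IsPrime := hPb.1.1
    obtain ⟨e⟩ := Groth.Agent.H59.Goren4.exists_quot_loc_equiv (J₁ ⊔ J₂) Pb
    have h2 := (local_step_sup G J₁ J₂ h12 h21 hinf hCM _ (hcomap_le Pb)).2
    rw [ringKrullDim_eq_of_ringEquiv e,
      IsLocalization.AtPrime.ringKrullDim_eq_height Pb (Localization.AtPrime Pb),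
      IsLocalization.AtPrime.ringKrullDim_eq_height (Pb.comap (Ideal.Quotient.mk (J₁ ⊔ J₂)))
        (Localization.AtPrime (Pb.comap (Ideal.Quotient.mk (J₁ ⊔ J₂)))),
      Ideal.height_eq_zero_iff.2 hPb] at h2
    refine ⟨Pb.comap (Ideal.Quotient.mk (J₁ ⊔ J₂)), inferInstance, hcomap_le Pb, ?_⟩
    have h3 : (((Pb.comap (Ideal.Quotient.mk (J₁ ⊔ J₂))).height : ℕ∞) : WithBot ℕ∞) =
        ((1 : ℕ∞) : WithBot ℕ∞) := by
      rw [← h2]; simp
    exact WithBot.coe_injective h3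

/-- `(I₁ ⊓ I₂ : I₁) = I₂` for unmixed ideals of the same height without common minimal prime. -/
theorem colon_inf_eq {R : Type u} [CommRing R] [IsNoetherianRing R] (I₁ I₂ : Ideal R) (c : ℕ)
    (hass : ∀ p ∈ associatedPrimes R (R ⧸ I₂), p ∈ I₂.minimalPrimes)
    (hht₁ : ∀ p ∈ I₁.minimalPrimes, p.height = c) (hht₂ : ∀ p ∈ I₂.minimalPrimes, p.height = c)
    (hdisj : Disjoint I₁.minimalPrimes I₂.minimalPrimes) :
    (I₁ ⊓ I₂).colon (I₁ : Set R) = I₂ := by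
  apply le_antisymm
  · intro x hx
    by_contra hxI₂
    rw [mem_colon_ideal] at hx
    have hne : (Ideal.Quotient.mk I₂ x) ≠ 0 := by
      rwa [Ne, Ideal.Quotient.eq_zero_iff_mem]
    obtain ⟨p, hp, hle⟩ := exists_le_isAssociatedPrime_of_isNoetherianRing R
      (Ideal.Quotient.mk I₂ x) hne
    have hpmin : p ∈ I₂.minimalPrimes := hass p (AssociatedPrimes.mem_iff.mpr hp)
    haveI := hpmin.1.1
    have hI₁p : I₁ ≤ p := by
      intro s hs
      apply hle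
      rw [mem_colon_bot_mk, mul_comm]
      exact (Submodule.mem_inf.1 (hx s hs)).2
    obtain ⟨p₁, hp₁, hp₁p⟩ := Ideal.exists_minimalPrimes_le hI₁p
    haveI := hp₁.1.1
    have heq : p₁ = p :=
      Ideal.eq_of_le_of_height_le p₁ hp₁p (by rw [hht₁ p₁ hp₁, hht₂ p hpmin])
    subst heq
    exact Set.disjoint_left.1 hdisj hp₁ hpmin
  · intro x hx
    rw [mem_colon_ideal]
    intro s hs
    exact Submodule.mem_inf.2 ⟨I₁.mul_mem_left x hs, I₂.mul_mem_right s hx⟩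

/-- Geometric linkage in a ring `R` with `R ⧸ (I₁ ⊓ I₂)` Gorenstein. -/
theorem gorRing_quot_sup_of_colon {R : Type u} [CommRing R] (I₁ I₂ : Ideal R)
    [hG : LocCoh.IsGorensteinRing (R ⧸ (I₁ ⊓ I₂))]
    (hcol₁ : (I₁ ⊓ I₂).colon (I₁ : Set R) = I₂) (hcol₂ : (I₁ ⊓ I₂).colon (I₂ : Set R) = I₁)
    (hCM : LocCoh.IsCohenMacaulayRing (R ⧸ I₁)) :
    LocCoh.IsGorensteinRing (R ⧸ (I₁ ⊔ I₂)) ∧
      (I₁ ⊔ I₂ ≠ ⊤ → ∃ Q : Ideal (R ⧸ (I₁ ⊓ I₂)), Q.IsPrime ∧
        (I₁ ⊔ I₂).map (Ideal.Quotient.mk (I₁ ⊓ I₂)) ≤ Q ∧ Q.height = 1) := by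
  have h𝔠1 : I₁ ⊓ I₂ ≤ I₁ := inf_le_left
  have h𝔠2 : I₁ ⊓ I₂ ≤ I₂ := inf_le_right
  have h𝔠s : I₁ ⊓ I₂ ≤ I₁ ⊔ I₂ := inf_le_left.trans le_sup_left
  have h12 := map_mk_eq_annihilator (I₁ ⊓ I₂) I₁ I₂ h𝔠2 hcol₁
  have h21 := map_mk_eq_annihilator (I₁ ⊓ I₂) I₂ I₁ h𝔠1 hcol₂
  have hinf : I₁.map (Ideal.Quotient.mk (I₁ ⊓ I₂)) ⊓ I₂.map (Ideal.Quotient.mk (I₁ ⊓ I₂)) =
      ⊥ := by
    rw [eq_bot_iff]
    intro z hz
    obtain ⟨g, rfl⟩ := Ideal.Quotient.mk_surjective z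
    have hz1 := (Ideal.mem_quotient_iff_mem h𝔠1).1 (Submodule.mem_inf.1 hz).1
    have hz2 := (Ideal.mem_quotient_iff_mem h𝔠2).1 (Submodule.mem_inf.1 hz).2
    rw [Ideal.mem_bot, Ideal.Quotient.eq_zero_iff_mem]
    exact Submodule.mem_inf.2 ⟨hz1, hz2⟩
  have hCMG : LocCoh.IsCohenMacaulayRing
      ((R ⧸ (I₁ ⊓ I₂)) ⧸ I₁.map (Ideal.Quotient.mk (I₁ ⊓ I₂))) :=
    Groth.Agent.H34.FibBC.isCohenMacaulayRing_of_ringEquiv
      (DoubleQuot.quotQuotEquivQuotOfLE h𝔠1).symm hCM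
  obtain ⟨hgor, hht⟩ := gorRing_quot_sup (R ⧸ (I₁ ⊓ I₂)) _ _ h12 h21 hinf hCMG
  rw [← Ideal.map_sup] at hgor hht
  refine ⟨?_, fun htop => ?_⟩
  · haveI := hgor
    exact Groth.Agent.H59.Goren1.gorRing_of_ringEquiv (DoubleQuot.quotQuotEquivQuotOfLE h𝔠s)
  · apply hht
    intro hmap
    apply htop
    rw [Ideal.eq_top_iff_one] at hmap ⊢
    exact (Ideal.mem_quotient_iff_mem h𝔠s (x := (1 : R))).1 (by rwa [map_one])

/-- **Geometric linkage**: for homogeneous ideals `I₁`, `I₂` of height `c` in a polynomial ring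
with Cohen–Macaulay quotients, without common minimal prime and with `P ⧸ (I₁ ⊓ I₂)` Gorenstein,
`I₁ ⊔ I₂` has height `c + 1` and `P ⧸ (I₁ ⊔ I₂)` is Gorenstein. -/
theorem main (K : Type u) [Field K] (N c : ℕ) (I₁ I₂ : Ideal (MvPolynomial (Fin N) K))
    (hI₁ : I₁.IsHomogeneous (GrSyz.stdGr K (Fin N)))
    (hI₂ : I₂.IsHomogeneous (GrSyz.stdGr K (Fin N)))
    [hCM₁ : LocCoh.IsCohenMacaulayRing (MvPolynomial (Fin N) K ⧸ I₁)]
    [hCM₂ : LocCoh.IsCohenMacaulayRing (MvPolynomial (Fin N) K ⧸ I₂)]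
    (h₁ : I₁.height = c) (h₂ : I₂.height = c)
    (hdisj : Disjoint I₁.minimalPrimes I₂.minimalPrimes)
    [hG : LocCoh.IsGorensteinRing (MvPolynomial (Fin N) K ⧸ (I₁ ⊓ I₂))] :
    (I₁ ⊔ I₂).height = c + 1 ∧
      LocCoh.IsGorensteinRing (MvPolynomial (Fin N) K ⧸ (I₁ ⊔ I₂)) := by
  have hmin₁ : ∀ p ∈ I₁.minimalPrimes, p.height = c := fun p hp => by
    rw [← h₁]
    exact Groth.Agent.H26.Liaison.height_eq_height_of_mem_associatedPrimes K N I₁ hI₁
      (Groth.Agent.H26.Liaison.minimalPrimes_subset_associatedPrimes I₁ hp)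
  have hmin₂ : ∀ p ∈ I₂.minimalPrimes, p.height = c := fun p hp => by
    rw [← h₂]
    exact Groth.Agent.H26.Liaison.height_eq_height_of_mem_associatedPrimes K N I₂ hI₂
      (Groth.Agent.H26.Liaison.minimalPrimes_subset_associatedPrimes I₂ hp)
  have hass₁ : ∀ p ∈ associatedPrimes (MvPolynomial (Fin N) K) (MvPolynomial (Fin N) K ⧸ I₁),
      p ∈ I₁.minimalPrimes := fun p hp =>
    Groth.Agent.H26.Liaison.mem_minimalPrimes_of_mem_associatedPrimes I₁ hp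
  have hass₂ : ∀ p ∈ associatedPrimes (MvPolynomial (Fin N) K) (MvPolynomial (Fin N) K ⧸ I₂),
      p ∈ I₂.minimalPrimes := fun p hp =>
    Groth.Agent.H26.Liaison.mem_minimalPrimes_of_mem_associatedPrimes I₂ hp
  have hcol₁ : (I₁ ⊓ I₂).colon (I₁ : Set (MvPolynomial (Fin N) K)) = I₂ :=
    colon_inf_eq I₁ I₂ c hass₂ hmin₁ hmin₂ hdisj
  have hcol₂ : (I₁ ⊓ I₂).colon (I₂ : Set (MvPolynomial (Fin N) K)) = I₁ := by
    have h := colon_inf_eq I₂ I₁ c hass₁ hmin₂ hmin₁ hdisj.symm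
    rwa [inf_comm] at h
  obtain ⟨hgor, hht⟩ := gorRing_quot_sup_of_colon I₁ I₂ hcol₁ hcol₂ hCM₁
  refine ⟨?_, hgor⟩
  have hneg := Groth.Agent.H26.Liaison.stdGr_neg K (Fin N)
  have h0 := Groth.Agent.H26.Liaison.stdGr_zero K (Fin N)
  have hI₁top : I₁ ≠ ⊤ := by
    intro h
    rw [h, Ideal.height_top] at h₁
    exact ENat.top_ne_natCast c h₁
  have hI₂top : I₂ ≠ ⊤ := by
    intro h
    rw [h, Ideal.height_top] at h₂
    exact ENat.top_ne_natCast c h₂
  have hmax := Groth.Agent.H21.SegreDim.irrel_isMaximal (GrSyz.stdGr K (Fin N)) hneg h0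
  have htop : I₁ ⊔ I₂ ≠ ⊤ := by
    intro h
    have hle : I₁ ⊔ I₂ ≤ Groth.Agent.H21.SegreDim.irrel (GrSyz.stdGr K (Fin N)) hneg :=
      sup_le (Groth.Agent.H21.SegreDim.le_irrel_of_isHomogeneous _ hneg h0 hI₁ hI₁top)
        (Groth.Agent.H21.SegreDim.le_irrel_of_isHomogeneous _ hneg h0 hI₂ hI₂top)
    exact hmax.ne_top (top_le_iff.1 (h ▸ hle))
  obtain ⟨Q, hQprime, hQle, hQht⟩ := hht htop
  haveI := hQprime
  apply le_antisymm
  · -- `≤`
    have hq : I₁ ⊔ I₂ ≤ Q.comap (Ideal.Quotient.mk (I₁ ⊓ I₂)) := by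
      intro x hx
      rw [Ideal.mem_comap]
      exact hQle (Ideal.mem_map_of_mem _ hx)
    obtain ⟨p₁, hp₁, hp₁q⟩ := Ideal.exists_minimalPrimes_le (le_sup_left.trans hq)
    haveI := hp₁.1.1
    have h𝔠p₁ : I₁ ⊓ I₂ ≤ p₁ := inf_le_left.trans hp₁.1.2
    haveI hqmap : ((Q.comap (Ideal.Quotient.mk (I₁ ⊓ I₂))).map (Ideal.Quotient.mk p₁)).IsPrime :=
      Ideal.map_isPrime_of_surjective Ideal.Quotient.mk_surjective
        (by rw [Ideal.mk_ker]; exact hp₁q)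
    have hcomap : ((Q.comap (Ideal.Quotient.mk (I₁ ⊓ I₂))).map (Ideal.Quotient.mk p₁)).comap
        (Ideal.Quotient.factor h𝔠p₁) = Q := by
      ext z
      obtain ⟨y, rfl⟩ := Ideal.Quotient.mk_surjective z
      rw [Ideal.mem_comap, Ideal.Quotient.factor_mk, Ideal.mem_quotient_iff_mem hp₁q,
        Ideal.mem_comap]
    have h1 := Groth.Agent.H26.Liaison.height_le_height_comap_of_surjective
      (Ideal.Quotient.factor h𝔠p₁) (Ideal.Quotient.factor_surjective h𝔠p₁)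
      ((Q.comap (Ideal.Quotient.mk (I₁ ⊓ I₂))).map (Ideal.Quotient.mk p₁))
    rw [hcomap, hQht] at h1
    have h2 := Groth.Agent.H26.Liaison.height_le_of_height_map_le (k := K) p₁
      (Q.comap (Ideal.Quotient.mk (I₁ ⊓ I₂))) hp₁q 1 h1
    rw [hmin₁ p₁ hp₁] at h2
    exact (Ideal.height_mono hq).trans h2
  · -- `≥`
    rw [Ideal.height_eq_inf_minimalPrimes]
    refine le_iInf₂ fun q hq => ?_
    haveI := hq.1.1
    obtain ⟨p₁, hp₁, hp₁q⟩ := Ideal.exists_minimalPrimes_le (le_sup_left.trans hq.1.2 : I₁ ≤ q)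
    obtain ⟨p₂, hp₂, hp₂q⟩ := Ideal.exists_minimalPrimes_le (le_sup_right.trans hq.1.2 : I₂ ≤ q)
    haveI := hp₁.1.1
    haveI := hp₂.1.1
    have hlt : p₁ < q := by
      refine lt_of_le_of_ne hp₁q fun heq => ?_
      have h3 : p₂ = p₁ :=
        Ideal.eq_of_le_of_height_le p₂ (heq ▸ hp₂q) (by rw [hmin₁ p₁ hp₁, hmin₂ p₂ hp₂])
      rw [h3] at hp₂
      exact Set.disjoint_left.1 hdisj hp₁ hp₂
    have h4 := Ideal.height_add_one_le_of_lt_of_isPrime hlt
    rwa [hmin₁ p₁ hp₁] at h4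

end Groth.Agent.H72.LinkSum
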