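import Groth.Agent.H72.AB
import Groth.Agent.H29.DepthChange

/-!
# Projective dimension under a change of rings `R → S` with `pd_R S < ∞`

* `pdLT_prod`, `pdLT_pi_fin`: projective dimension of finite products.
* `pdLT_restrict`: if `pd_R S ≤ a` and `E` is a finite `S`-module with `pd_S E ≤ b` (with `S`
  Noetherian local), then `pd_R E ≤ a + b`.
* `depth_eq_of_surjective`: depth does not change along a surjection of local rings.
* `exists_nat_pd`: a nonzero module of finite projective dimension has projective dimension in `ℕ`.
-/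

set_option autoImplicit false
universe u

namespace Groth.Agent.H72.PdChange

open CategoryTheory IsLocalRing Module Groth.Agent.H72.PdLocal Groth.Agent.H72.PdExt

lemma pdLT_prod {R : Type u} [CommRing R] {M N : Type u} [AddCommGroup M] [Module R M]
    [AddCommGroup N] [Module R N] (n : ℕ) (hM : PdLT R M n) (hN : PdLT R N n) :
    PdLT R (M × N) n := by
  have hex : Function.Exact (LinearMap.inl R M N) (LinearMap.snd R M N) := Function.Exact.inl_snd
  have hS : (ModuleCat.shortComplexOfCompEqZero (LinearMap.inl R M N) (LinearMap.snd R M N)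
      hex.linearMap_comp_eq_zero).ShortExact :=
    ModuleCat.shortComplex_shortExact _ hex LinearMap.inl_injective LinearMap.snd_surjective
  exact hS.hasProjectiveDimensionLT_X₂ n hM hN

lemma pdLT_pi_fin {R : Type u} [CommRing R] {M : Type u} [AddCommGroup M] [Module R M] (n : ℕ)
    (hM : PdLT R M n) : ∀ k : ℕ, PdLT R (Fin k → M) n := by
  intro k
  induction k with
  | zero =>
    have h0 : HasProjectiveDimensionLT (ModuleCat.of R (Fin 0 → M)) 0 :=
      (pdLT_zero_iff _).mpr inferInstance
    exact hasProjectiveDimensionLT_of_ge _ 0 n (Nat.zero_le _)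
  | succ k ih =>
    exact (pdLT_prod n hM ih).of_equiv (Fin.consLinearEquiv R (fun _ : Fin (k + 1) => M))

/-- If `pd_R S ≤ a` and `pd_S E ≤ b` for a finite module `E` over the Noetherian local ring `S`,
then `pd_R E ≤ a + b`. -/
lemma pdLT_restrict (R : Type u) [CommRing R] (S : Type u) [CommRing S] [Algebra R S]
    [IsNoetherianRing S] [IsLocalRing S] (a : ℕ) (ha : PdLT R S (a + 1)) :
    ∀ (b : ℕ) (E : Type u) [AddCommGroup E] [Module S E] [Module R E] [IsScalarTower R S E]
      [Module.Finite S E], PdLT S E (b + 1) → PdLT R E (a + b + 1) := by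
  intro b
  induction b with
  | zero =>
    intro E _ _ _ _ _ hE
    have hproj : Module.Projective S E := (pdLT_one_iff E).mp hE
    have hfree : Module.Free S E := Module.free_of_flat_of_isLocalRing
    have e : E ≃ₗ[S] (Fin (Module.finrank S E) → S) := (Module.finBasis S E).equivFun
    have e' : E ≃ₗ[R] (Fin (Module.finrank S E) → S) := e.restrictScalars R
    show PdLT R E (a + 1)
    exact (pdLT_pi_fin (a + 1) ha _).of_equiv e'.symm
  | succ b ih =>
    intro E _ _ _ _ _ hE
    obtain ⟨k, g, hg⟩ := Module.Finite.exists_fin' S E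
    have hK : PdLT S (LinearMap.ker g) (b + 1) :=
      (pdLT_succ_iff_of_exact (LinearMap.ker g).subtype g (Submodule.subtype_injective _)
        (LinearMap.exact_subtype_ker_map g) hg b).mp hE
    have hKR : PdLT R (LinearMap.ker g) (a + b + 1) := ih (LinearMap.ker g) hK
    have hF0 : HasProjectiveDimensionLT (ModuleCat.of R (Fin k → S)) (a + 1) :=
      pdLT_pi_fin (a + 1) ha k
    have hF : HasProjectiveDimensionLT (ModuleCat.of R (Fin k → S)) (a + b + 1 + 1) :=
      hasProjectiveDimensionLT_of_ge _ (a + 1) (a + b + 1 + 1) (by omega)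
    have hfgR : Function.Exact ((LinearMap.ker g).subtype.restrictScalars R)
        (g.restrictScalars R) := LinearMap.exact_subtype_ker_map g
    have hinjR : Function.Injective ((LinearMap.ker g).subtype.restrictScalars R) :=
      Submodule.subtype_injective _
    have hsurjR : Function.Surjective (g.restrictScalars R) := hg
    have hS : (ModuleCat.shortComplexOfCompEqZero ((LinearMap.ker g).subtype.restrictScalars R)
        (g.restrictScalars R) hfgR.linearMap_comp_eq_zero).ShortExact :=
      ModuleCat.shortComplex_shortExact _ hfgR hinjR hsurjR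
    rw [show a + (b + 1) + 1 = a + b + 1 + 1 by omega]
    exact hS.hasProjectiveDimensionLT_X₃ (a + b + 1) hKR hF

/-- Depth is insensitive to a surjective change of local rings. -/
lemma depth_eq_of_surjective {R S : Type u} [CommRing R] [CommRing S] [IsLocalRing R]
    [IsLocalRing S] [Algebra R S] (hsurj : Function.Surjective (algebraMap R S)) (M : Type u)
    [AddCommGroup M] [Module S M] [Module R M] [IsScalarTower R S M] [Module.Finite S M]
    [Module.Finite R M] [Nontrivial M] : LocCoh.depth R M = LocCoh.depth S M := by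
  apply le_antisymm
  · rw [← ENat.forall_natCast_le_iff_le]
    intro n hn
    exact (Groth.Agent.H15.Depth.le_idealDepth_iff
      (Groth.Agent.H29.maximalIdeal_smul_top_ne_top S M) n).mpr
      ((Groth.Agent.H29.DepthChange.hasSeq_maximalIdeal_iff_of_surjective hsurj n M).mpr
        ((Groth.Agent.H15.Depth.le_idealDepth_iff
          (Groth.Agent.H29.maximalIdeal_smul_top_ne_top R M) n).mp hn))
  · rw [← ENat.forall_natCast_le_iff_le]
    intro n hn
    exact (Groth.Agent.H15.Depth.le_idealDepth_iff
      (Groth.Agent.H29.maximalIdeal_smul_top_ne_top R M) n).mpr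
      ((Groth.Agent.H29.DepthChange.hasSeq_maximalIdeal_iff_of_surjective hsurj n M).mp
        ((Groth.Agent.H15.Depth.le_idealDepth_iff
          (Groth.Agent.H29.maximalIdeal_smul_top_ne_top S M) n).mp hn))

lemma exists_nat_pd {R : Type u} [CommRing R] (M : Type u) [AddCommGroup M] [Module R M]
    [Nontrivial M] (h : projectiveDimension (ModuleCat.of R M) ≠ ⊤) :
    ∃ n : ℕ, projectiveDimension (ModuleCat.of R M) = n := by
  have hbot : projectiveDimension (ModuleCat.of R M) ≠ ⊥ := by
    rw [ne_eq, projectiveDimension_eq_bot_iff, ModuleCat.isZero_iff_subsingleton]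
    exact not_subsingleton M
  obtain ⟨e, he⟩ := WithBot.ne_bot_iff_exists.1 hbot
  rw [← he] at h ⊢
  have h3 : e ≠ ⊤ := by
    rintro rfl
    exact h WithBot.coe_top
  obtain ⟨n, rfl⟩ := ENat.ne_top_iff_exists.1 h3
  exact ⟨n, rfl⟩

end Groth.Agent.H72.PdChange
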