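import Mathlib
import Groth.Agent.H72.ABLe
import Groth.Agent.H72.PdExt
import Groth.Agent.H72.RegLoc
import Groth.Agent.H23.RegularLocal
import Groth.Agent.H29.CM2
import Groth.Agent.H12.TorSeq

/-!
# Modules over a planar hypersurface `R = S/(f)`, `S` regular local of dimension two

* `pdLT_two`: over a two-dimensional regular local ring, a finite module with a regular element in
  the maximal ideal has projective dimension at most one.
* `exists_periodic`: (matrix factorisation) if `M` is an `S/(f)`-module with a finite free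
  `S`-resolution of length one, there is an exact sequence `0 → M → G₁ → G₀ → M → 0` of
  `S/(f)`-modules with `G₁`, `G₀` finite free.
* `ext_two`, `tor_one`: the vanishing of `Ext²_R(M, N)` and `Tor₁^R(M, N^*)` for maximal
  Cohen–Macaulay modules supported on transversal subcurves.
-/

set_option autoImplicit false
universe u

namespace Groth.Agent.H72.Planar

open CategoryTheory IsLocalRing TensorProduct Groth.Agent.H72.PdLocal

/-! ### Step 1: projective dimension over the regular surface -/

lemma pdLT_two (S : Type u) [CommRing S] [IsRegularLocalRing S] (hS : ringKrullDim S = 2)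
    (M : Type u) [AddCommGroup M] [Module S M] [Module.Finite S M]
    (s : S) (hs : s ∈ maximalIdeal S) (hreg : IsSMulRegular M s) : PdLT S M 2 := by
  by_cases hM : Subsingleton M
  · have h0 : HasProjectiveDimensionLT (ModuleCat.of S M) 0 := (pdLT_zero_iff M).mpr hM
    exact hasProjectiveDimensionLT_of_ge _ 0 2 (Nat.zero_le _)
  · rw [not_subsingleton_iff_nontrivial] at hM
    have hr : LocCoh.depth S S = ((2 : ℕ) : ℕ∞) :=
      Groth.Agent.H72.RegLoc.depth_self_eq S 2 (by exact_mod_cast hS)
    have hsp : (maximalIdeal S).spanFinrank = 2 := by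
      have h1 : ((maximalIdeal S).spanFinrank : WithBot ℕ∞) = ringKrullDim S :=
        IsRegularLocalRing.spanFinrank_maximalIdeal
      rw [hS] at h1
      exact_mod_cast h1
    have h3 : PdLT S M (2 + 1) := by
      have h := Groth.Agent.H72.PdExt.pdLT_of_isRegularLocalRing S M
      rwa [hsp] at h
    obtain ⟨d, e, hd, hde, -, hpd, -⟩ :=
      Groth.Agent.H72.ABLe.exists_depth_add_eq' M 2 h3 2 hr
    have h1 := Groth.Agent.H29.CM.depth_quotSMulTop_add_one (A := S) (M := M) hs hreg
    have hd1 : 1 ≤ d := by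
      rw [hd] at h1
      by_contra hlt
      have hd0 : d = 0 := by omega
      rw [hd0] at h1
      simp at h1
    have h4 : HasProjectiveDimensionLT (ModuleCat.of S M) (e + 1) := hpd
    exact hasProjectiveDimensionLT_of_ge _ (e + 1) 2 (by omega)

/-! ### Step 2: a finite free presentation with free kernel -/

lemma exists_resolution (S : Type u) [CommRing S] [IsLocalRing S] [IsNoetherianRing S]
    (M : Type u) [AddCommGroup M] [Module S M] [Module.Finite S M] (h : PdLT S M 2) :
    ∃ (b : ℕ) (p0 : (Fin b → S) →ₗ[S] M), Function.Surjective p0 ∧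
      Module.Free S (LinearMap.ker p0) := by
  obtain ⟨b, x, hx⟩ := Module.Finite.exists_fin (R := S) (M := M)
  let p0 : (Fin b → S) →ₗ[S] M := Fintype.linearCombination S x
  have hsurj : Function.Surjective p0 := by
    rw [← LinearMap.range_eq_top, Fintype.range_linearCombination, hx]
  have h1 : PdLT S (LinearMap.ker p0) 1 :=
    (pdLT_succ_iff_of_exact (LinearMap.ker p0).subtype p0 (Submodule.subtype_injective _)
      (LinearMap.exact_subtype_ker_map p0) hsurj 0).mp h
  haveI : Module.Projective S (LinearMap.ker p0) := (pdLT_one_iff _).mp h1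
  exact ⟨b, p0, hsurj, Module.free_of_flat_of_isLocalRing⟩

/-! ### Step 3: the two-periodic exact sequence over the hypersurface -/

section Periodic

variable {S : Type u} [CommRing S] {R : Type u} [CommRing R] [Algebra S R]

/-- coordinatewise reduction -/
noncomputable def rho (I : Type*) : (I → S) →ₗ[S] (I → R) := (Algebra.linearMap S R).compLeft I

lemma rho_apply (I : Type*) (w : I → S) (k : I) :
    rho (R := R) I w k = algebraMap S R (w k) := rfl

lemma rho_surjective (hπ : Function.Surjective (algebraMap S R)) (I : Type*) :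
    Function.Surjective (rho (S := S) (R := R) I) := by
  intro v
  choose w hw using fun k => hπ (v k)
  exact ⟨w, funext fun k => hw k⟩

lemma rho_eq_zero (f : S) (hker : RingHom.ker (algebraMap S R) = Ideal.span {f}) (I : Type*)
    (w : I → S) (h : rho (R := R) I w = 0) : ∃ t : I → S, w = f • t := by
  have h1 : ∀ k, ∃ a, a * f = w k := by
    intro k
    have h2 : w k ∈ RingHom.ker (algebraMap S R) := by
      rw [RingHom.mem_ker]
      exact congrFun h k
    rw [hker] at h2
    exact Ideal.mem_span_singleton'.mp h2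
  choose t ht using h1
  exact ⟨t, funext fun k => by rw [Pi.smul_apply, smul_eq_mul, mul_comm, ht]⟩

lemma rho_smul (f : S) (hker : RingHom.ker (algebraMap S R) = Ideal.span {f}) (I : Type*)
    (w : I → S) : rho (R := R) I (f • w) = 0 := by
  have hf0 : algebraMap S R f = 0 := by
    rw [← RingHom.mem_ker, hker]; exact Ideal.mem_span_singleton_self f
  funext k
  rw [rho_apply, Pi.smul_apply, smul_eq_mul, map_mul, hf0, zero_mul]
  rfl

theorem exists_periodic [IsDomain S] (hπ : Function.Surjective (algebraMap S R)) (f : S)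
    (hf : f ≠ 0)
    (hker : RingHom.ker (algebraMap S R) = Ideal.span {f})
    (M : Type u) [AddCommGroup M] [Module R M] [Module S M] [IsScalarTower S R M]
    (b : ℕ) (p0 : (Fin b → S) →ₗ[S] M) (hp0 : Function.Surjective p0)
    {ι : Type*} [Fintype ι] (e : Module.Basis ι S (LinearMap.ker p0)) :
    ∃ (j : M →ₗ[R] (ι → R)) (d : (ι → R) →ₗ[R] (Fin b → R)) (p : (Fin b → R) →ₗ[R] M),
      Function.Injective j ∧ Function.Exact j d ∧ Function.Exact d p ∧
        Function.Surjective p := by
  classical
  have hf0 : algebraMap S R f = 0 := by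
    rw [← RingHom.mem_ker, hker]; exact Ideal.mem_span_singleton_self f
  -- `E : (ι → S) → (Fin b → S)`, the inclusion of the kernel in coordinates
  let E : (ι → S) →ₗ[S] (Fin b → S) :=
    (LinearMap.ker p0).subtype ∘ₗ e.equivFun.symm.toLinearMap
  have hE_def : ∀ s, E s = ((e.equivFun.symm s : LinearMap.ker p0) : Fin b → S) := fun s => rfl
  have hE_mem : ∀ s, E s ∈ LinearMap.ker p0 := fun s => (e.equivFun.symm s).2
  have hE_inj : Function.Injective E :=
    (Submodule.subtype_injective _).comp e.equivFun.symm.injective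
  have hE_sum : ∀ s : ι → S, E s = ∑ i, s i • ((e i : LinearMap.ker p0) : Fin b → S) := by
    intro s
    rw [hE_def, e.equivFun_symm_apply]
    simp only [Submodule.coe_sum, Submodule.coe_smul]
  have hE_surj : ∀ w ∈ LinearMap.ker p0, ∃ s, E s = w := fun w hw =>
    ⟨e.equivFun ⟨w, hw⟩, by rw [hE_def, e.equivFun.symm_apply_apply]⟩
  -- `f` kills `M`
  have hfM : ∀ m : M, f • m = 0 := fun m => by
    rw [← algebraMap_smul R f m, hf0, zero_smul]
  have hfK : ∀ w : Fin b → S, f • w ∈ LinearMap.ker p0 := fun w => by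
    rw [LinearMap.mem_ker, map_smul]; exact hfM _
  -- `ψ` with `E ∘ ψ = f`
  let ψ : (Fin b → S) →ₗ[S] (ι → S) :=
    e.equivFun.toLinearMap ∘ₗ LinearMap.codRestrict (LinearMap.ker p0)
      (f • (LinearMap.id : (Fin b → S) →ₗ[S] (Fin b → S))) (fun c => by simpa using hfK c)
  have hψ_def : ∀ w, ψ w = e.equivFun ⟨f • w, hfK w⟩ := fun w => rfl
  have hEψ : ∀ w, E (ψ w) = f • w := by
    intro w
    rw [hE_def, hψ_def, e.equivFun.symm_apply_apply]
  have hψE : ∀ s, ψ (E s) = f • s := by
    intro s
    apply hE_inj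
    rw [hEψ, map_smul]
  -- `p`
  let xg : Fin b → M := fun k => p0 (fun j => if k = j then 1 else 0)
  let p : (Fin b → R) →ₗ[R] M := Fintype.linearCombination R xg
  have hp_rho : ∀ w : Fin b → S, p (rho (Fin b) w) = p0 w := by
    intro w
    show Fintype.linearCombination R xg (rho (Fin b) w) = p0 w
    rw [Fintype.linearCombination_apply, LinearMap.pi_apply_eq_sum_univ p0 w]
    refine Finset.sum_congr rfl fun k _ => ?_
    rw [rho_apply]
    exact algebraMap_smul R (w k) (xg k)
  -- `d`
  let cols : ι → (Fin b → R) := fun i => rho (Fin b) ((e i : LinearMap.ker p0) : Fin b → S)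
  let d : (ι → R) →ₗ[R] (Fin b → R) := Fintype.linearCombination R cols
  have hd_rho : ∀ s : ι → S, d (rho ι s) = rho (Fin b) (E s) := by
    intro s
    show Fintype.linearCombination R cols (rho ι s) = rho (Fin b) (E s)
    rw [Fintype.linearCombination_apply, hE_sum, map_sum]
    refine Finset.sum_congr rfl fun i _ => ?_
    rw [rho_apply, map_smul]
    exact algebraMap_smul R (s i) (cols i)
  -- `j`
  let j0 : (Fin b → S) →ₗ[S] (ι → R) := rho ι ∘ₗ ψ
  have hj0K : LinearMap.ker p0 ≤ LinearMap.ker j0 := by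
    intro w hw
    obtain ⟨s, rfl⟩ := hE_surj w hw
    rw [LinearMap.mem_ker]
    show rho ι (ψ (E s)) = 0
    rw [hψE]
    exact rho_smul f hker ι s
  let jS : M →ₗ[S] (ι → R) :=
    (LinearMap.ker p0).liftQ j0 hj0K ∘ₗ (p0.quotKerEquivOfSurjective hp0).symm.toLinearMap
  have hjS : ∀ w, jS (p0 w) = rho ι (ψ w) := by
    intro w
    show (LinearMap.ker p0).liftQ j0 hj0K ((p0.quotKerEquivOfSurjective hp0).symm (p0 w)) = _
    rw [LinearMap.quotKerEquivOfSurjective_symm_apply]
    rfl
  let j : M →ₗ[R] (ι → R) := jS.extendScalarsOfSurjective hπ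
  have hj : ∀ w, j (p0 w) = rho ι (ψ w) := hjS
  refine ⟨j, d, p, ?_, ?_, ?_, ?_⟩
  · -- injectivity of `j`
    rw [injective_iff_map_eq_zero]
    intro m hm
    obtain ⟨w, rfl⟩ := hp0 m
    rw [hj] at hm
    obtain ⟨t, ht⟩ := rho_eq_zero f hker ι (ψ w) hm
    have h1 : f • w = f • E t := by rw [← hEψ, ht, map_smul]
    have h2 : w = E t := by
      funext k
      have h3 := congrFun h1 k
      simp only [Pi.smul_apply, smul_eq_mul] at h3
      exact mul_left_cancel₀ hf h3
    have h4 : w ∈ LinearMap.ker p0 := by rw [h2]; exact hE_mem t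
    exact LinearMap.mem_ker.mp h4
  · -- exactness at `G₁`
    intro v
    constructor
    · intro hv
      obtain ⟨s, rfl⟩ := rho_surjective hπ ι v
      rw [hd_rho] at hv
      obtain ⟨w, hw⟩ := rho_eq_zero f hker (Fin b) (E s) hv
      have h1 : f • s = f • ψ w := by rw [← hψE, hw, map_smul]
      have h2 : s = ψ w := by
        funext i
        have h3 := congrFun h1 i
        simp only [Pi.smul_apply, smul_eq_mul] at h3
        exact mul_left_cancel₀ hf h3
      exact ⟨p0 w, by rw [hj, h2]⟩
    · rintro ⟨m, rfl⟩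
      obtain ⟨w, rfl⟩ := hp0 m
      rw [hj, hd_rho, hEψ]
      exact rho_smul f hker (Fin b) w
  · -- exactness at `G₀`
    intro v
    constructor
    · intro hv
      obtain ⟨w, rfl⟩ := rho_surjective hπ (Fin b) v
      rw [hp_rho] at hv
      obtain ⟨s, hs⟩ := hE_surj w (LinearMap.mem_ker.mpr hv)
      exact ⟨rho ι s, by rw [hd_rho, hs]⟩
    · rintro ⟨v', rfl⟩
      obtain ⟨s, rfl⟩ := rho_surjective hπ ι v'
      rw [hd_rho, hp_rho]
      exact LinearMap.mem_ker.mp (hE_mem s)
  · intro m
    obtain ⟨w, rfl⟩ := hp0 m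
    exact ⟨rho (Fin b) w, hp_rho w⟩

end Periodic

/-! ### Step 4: vanishing of homomorphisms -/

lemma hom_eq_zero {R : Type u} [CommRing R] [IsLocalRing R] (I J : Ideal R) (n : ℕ)
    (hIJ : maximalIdeal R ^ n ≤ I ⊔ J) {M N : Type u} [AddCommGroup M] [Module R M]
    [AddCommGroup N] [Module R N] (hI : I ≤ Module.annihilator R M)
    (hJ : J ≤ Module.annihilator R N) (y : R) (hy : y ∈ maximalIdeal R)
    (hyN : IsSMulRegular N y) : ∀ φ : M →ₗ[R] N, φ = 0 := by
  intro φ
  apply LinearMap.ext
  intro m
  have h1 : y ^ n ∈ I ⊔ J := hIJ (Ideal.pow_mem_pow hy n)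
  obtain ⟨a, ha, c, hc, hac⟩ := Submodule.mem_sup.mp h1
  have h2 : y ^ n • φ m = 0 := by
    rw [← hac, add_smul, ← map_smul, Module.mem_annihilator.mp (hI ha) m, map_zero,
      Module.mem_annihilator.mp (hJ hc) (φ m), add_zero]
  have h3 : (fun z : N => y ^ n • z) (φ m) = (fun z : N => y ^ n • z) 0 := by
    simp only [smul_zero]
    exact h2
  exact (hyN.pow n) h3

/-! ### Step 5: `Ext²` from a periodic sequence -/

theorem ext_two_of_periodic {R : Type u} [CommRing R] {M N G1 G0 : Type u} [AddCommGroup M]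
    [Module R M] [AddCommGroup N] [Module R N] [AddCommGroup G1] [Module R G1]
    [Module.Projective R G1] [AddCommGroup G0] [Module R G0] [Module.Projective R G0]
    (j : M →ₗ[R] G1) (d : G1 →ₗ[R] G0) (p : G0 →ₗ[R] M)
    (hj : Function.Injective j) (hjd : Function.Exact j d) (hdp : Function.Exact d p)
    (hp : Function.Surjective p) (hhom : ∀ φ : M →ₗ[R] N, φ = 0) :
    Subsingleton (Abelian.Ext (ModuleCat.of R M) (ModuleCat.of R N) 2) := by
  have hdK : ∀ v, d v ∈ LinearMap.ker p := fun v =>
    LinearMap.mem_ker.mpr ((hdp (d v)).mpr ⟨v, rfl⟩)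
  let d' : G1 →ₗ[R] LinearMap.ker p := d.codRestrict (LinearMap.ker p) hdK
  have hd'surj : Function.Surjective d' := by
    rintro ⟨v, hv⟩
    obtain ⟨v', hv'⟩ := (hdp v).mp (LinearMap.mem_ker.mp hv)
    exact ⟨v', Subtype.ext hv'⟩
  have hjd' : Function.Exact j d' := by
    intro v
    rw [← hjd v]
    constructor
    · intro h; exact congrArg Subtype.val h
    · intro h; exact Subtype.ext h
  have hS1 : (ModuleCat.shortComplexOfCompEqZero (LinearMap.ker p).subtype p
      (LinearMap.exact_subtype_ker_map p).linearMap_comp_eq_zero).ShortExact :=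
    ModuleCat.shortComplex_shortExact _ (LinearMap.exact_subtype_ker_map p)
      (Submodule.subtype_injective _) hp
  have hS2 : (ModuleCat.shortComplexOfCompEqZero j d' hjd'.linearMap_comp_eq_zero).ShortExact :=
    ModuleCat.shortComplex_shortExact _ hjd' hj hd'surj
  haveI : Projective (ModuleCat.of R G0) := (IsProjective.iff_projective G0).mp inferInstance
  haveI : Projective (ModuleCat.of R G1) := (IsProjective.iff_projective G1).mp inferInstance
  have hz0 : ∀ (k : ℕ) (z : Abelian.Ext (ModuleCat.of R G0) (ModuleCat.of R N) (k + 1)),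
      z = 0 := fun k z => Abelian.Ext.eq_zero_of_projective z
  have hz1 : ∀ (k : ℕ) (z : Abelian.Ext (ModuleCat.of R G1) (ModuleCat.of R N) (k + 1)),
      z = 0 := fun k z => Abelian.Ext.eq_zero_of_projective z
  suffices h : ∀ x : Abelian.Ext (ModuleCat.of R M) (ModuleCat.of R N) 2, x = 0 from
    ⟨fun a c => by rw [h a, h c]⟩
  intro x
  obtain ⟨x₁, rfl⟩ := Abelian.Ext.contravariant_sequence_exact₃ hS1 (ModuleCat.of R N) x
    (hz0 1 _) (show 1 + 1 = 2 by omega)
  obtain ⟨x₀, rfl⟩ := Abelian.Ext.contravariant_sequence_exact₃ hS2 (ModuleCat.of R N) x₁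
    (hz1 0 _) (show 1 + 0 = 1 by omega)
  obtain ⟨φ, rfl⟩ := (Abelian.Ext.mk₀_bijective _ _).2 x₀
  have hφ : φ = 0 := by
    apply ModuleCat.hom_ext
    rw [hhom φ.hom]
    rfl
  rw [hφ, Abelian.Ext.mk₀_zero, Abelian.Ext.comp_zero, Abelian.Ext.comp_zero]

/-! ### Step 6: the periodic sequence for a module over a planar hypersurface -/

theorem exists_periodic_main (S : Type u) [CommRing S] [IsRegularLocalRing S]
    (hS : ringKrullDim S = 2) (f : S) (hf : f ≠ 0) (R : Type u) [CommRing R] [IsLocalRing R]
    (π : S →+* R) (hπ : Function.Surjective π) (hker : RingHom.ker π = Ideal.span {f})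
    (M : Type u) [AddCommGroup M] [Module R M] [Module.Finite R M]
    (x : R) (hx : x ∈ maximalIdeal R) (hxM : IsSMulRegular M x) :
    ∃ (b : ℕ) (ι : Type u) (_ : Fintype ι) (j : M →ₗ[R] (ι → R))
      (d : (ι → R) →ₗ[R] (Fin b → R)) (p : (Fin b → R) →ₗ[R] M),
      Function.Injective j ∧ Function.Exact j d ∧ Function.Exact d p ∧
        Function.Surjective p := by
  haveI : IsDomain S := Groth.Agent.H23.isDomain_of_isRegularLocalRing S
  letI : Algebra S R := π.toAlgebra
  letI : Module S M := Module.compHom M π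
  haveI : IsScalarTower S R M := IsScalarTower.of_algebraMap_smul fun _ _ => rfl
  have hπ' : Function.Surjective (algebraMap S R) := hπ
  have hker' : RingHom.ker (algebraMap S R) = Ideal.span {f} := hker
  haveI : Module.Finite S R := Module.Finite.of_surjective (Algebra.linearMap S R) hπ'
  haveI : Module.Finite S M := Module.Finite.trans R M
  obtain ⟨s, rfl⟩ := hπ x
  have hs : s ∈ maximalIdeal S := by
    by_contra hns
    have hu : IsUnit s := by
      by_contra hnu
      exact hns ((mem_maximalIdeal s).mpr hnu)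
    exact ((mem_maximalIdeal _).mp hx) (hu.map π)
  have hreg : IsSMulRegular M s := by
    intro a c h
    exact hxM h
  have hpd := pdLT_two S hS M s hs hreg
  obtain ⟨b, p0, hp0, hfree⟩ := exists_resolution S M hpd
  haveI := hfree
  obtain ⟨j, d, p, h⟩ := exists_periodic hπ' f hf hker' M b p0 hp0
    (Module.Free.chooseBasis S (LinearMap.ker p0))
  exact ⟨b, Module.Free.ChooseBasisIndex S (LinearMap.ker p0), inferInstance, j, d, p, h⟩

theorem ext_two (S : Type u) [CommRing S] [IsRegularLocalRing S] (hS : ringKrullDim S = 2)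
    (f : S) (hf : f ≠ 0) (R : Type u) [CommRing R] [IsLocalRing R] (π : S →+* R)
    (hπ : Function.Surjective π) (hker : RingHom.ker π = Ideal.span {f}) (I J : Ideal R) (n : ℕ)
    (hIJ : maximalIdeal R ^ n ≤ I ⊔ J) (M N : Type u) [AddCommGroup M] [Module R M]
    [Module.Finite R M] [AddCommGroup N] [Module R N] (hI : I ≤ Module.annihilator R M)
    (hJ : J ≤ Module.annihilator R N) (x : R) (hx : x ∈ maximalIdeal R)
    (hxM : IsSMulRegular M x) (y : R) (hy : y ∈ maximalIdeal R) (hyN : IsSMulRegular N y) :
    Subsingleton (Abelian.Ext (ModuleCat.of R M) (ModuleCat.of R N) 2) := by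
  obtain ⟨b, ι, _, j, d, p, hj, hjd, hdp, hp⟩ :=
    exists_periodic_main S hS f hf R π hπ hker M x hx hxM
  exact ext_two_of_periodic j d p hj hjd hdp hp (hom_eq_zero I J n hIJ hI hJ y hy hyN)

/-! ### Step 7: `Tor₁` against a dual -/

theorem dualTensorHom_injective_pi {R : Type u} [CommRing R] (N : Type u) [AddCommGroup N]
    [Module R N] (ι : Type*) [Fintype ι] [DecidableEq ι] :
    Function.Injective (dualTensorHom R N (ι → R)) := by
  have key : ∀ (z : Module.Dual R N ⊗[R] (ι → R)) (n : N) (i : ι),
      (TensorProduct.piScalarRight R R (Module.Dual R N) ι z i) n =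
        (dualTensorHom R N (ι → R) z n) i := by
    intro z n i
    induction z using TensorProduct.induction_on with
    | zero => simp
    | tmul φ g =>
      rw [TensorProduct.piScalarRight_apply, TensorProduct.piScalarRightHom_tmul,
        dualTensorHom_apply]
      simp [mul_comm]
    | add a c ha hc =>
      rw [map_add, map_add, Pi.add_apply, LinearMap.add_apply, LinearMap.add_apply,
        Pi.add_apply, ha, hc]
  rw [injective_iff_map_eq_zero]
  intro z hz
  apply (TensorProduct.piScalarRight R R (Module.Dual R N) ι).injective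
  rw [map_zero]
  funext i
  apply LinearMap.ext
  intro n
  rw [key, hz]
  rfl

theorem tor_one_of_periodic {R : Type u} [CommRing R] {M N : Type u} [AddCommGroup M]
    [Module R M] [AddCommGroup N] [Module R N] {ι : Type u} [Fintype ι] {b : ℕ}
    (j : M →ₗ[R] (ι → R)) (d : (ι → R) →ₗ[R] (Fin b → R)) (p : (Fin b → R) →ₗ[R] M)
    (hj : Function.Injective j) (hjd : Function.Exact j d) (hdp : Function.Exact d p)
    (hp : Function.Surjective p) (hhom : ∀ φ : N →ₗ[R] M, φ = 0) :
    Limits.IsZero (((Tor (ModuleCat.{u} R) 1).obj (ModuleCat.of R M)).obj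
      (ModuleCat.of R (Module.Dual R N))) := by
  classical
  -- `N^* ⊗ d` is injective
  have hdinj : Function.Injective (d.lTensor (Module.Dual R N)) := by
    rw [injective_iff_map_eq_zero]
    intro z hz
    apply dualTensorHom_injective_pi N ι
    rw [map_zero]
    have h1 : d ∘ₗ dualTensorHom R N (ι → R) z = 0 := by
      have h2 := LinearMap.congr_fun (dualTensorHom_comp_lTensor (R := R) (M := N) d) z
      rw [LinearMap.comp_apply, hz, map_zero, LinearMap.comp_apply,
        LinearMap.compRight_apply] at h2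
      exact h2.symm
    have hmem : ∀ n, dualTensorHom R N (ι → R) z n ∈ LinearMap.range j := fun n =>
      LinearMap.mem_range.mpr ((hjd _).mp (LinearMap.congr_fun h1 n))
    let h : N →ₗ[R] M := (LinearEquiv.ofInjective j hj).symm.toLinearMap ∘ₗ
      LinearMap.codRestrict (LinearMap.range j) (dualTensorHom R N (ι → R) z) hmem
    have hh0 : h = 0 := hhom h
    apply LinearMap.ext
    intro n
    have h3 : j (h n) = dualTensorHom R N (ι → R) z n := by
      have h4 := (LinearEquiv.ofInjective j hj).apply_symm_apply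
        ⟨dualTensorHom R N (ι → R) z n, hmem n⟩
      exact congrArg Subtype.val h4
    rw [← h3, hh0]
    simp
  -- pass to the kernel of `p`
  have hdK : ∀ v, d v ∈ LinearMap.ker p := fun v =>
    LinearMap.mem_ker.mpr ((hdp (d v)).mpr ⟨v, rfl⟩)
  let d' : (ι → R) →ₗ[R] LinearMap.ker p := d.codRestrict (LinearMap.ker p) hdK
  have hd'surj : Function.Surjective d' := by
    rintro ⟨v, hv⟩
    obtain ⟨v', hv'⟩ := (hdp v).mp (LinearMap.mem_ker.mp hv)
    exact ⟨v', Subtype.ext hv'⟩
  have hcomp : (LinearMap.ker p).subtype ∘ₗ d' = d := by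
    apply LinearMap.ext
    intro v
    rfl
  have hincl : Function.Injective ((LinearMap.ker p).subtype.lTensor (Module.Dual R N)) := by
    rw [injective_iff_map_eq_zero]
    intro t ht
    obtain ⟨z, rfl⟩ := LinearMap.lTensor_surjective (Module.Dual R N) hd'surj t
    have h5 : d.lTensor (Module.Dual R N) z = 0 := by
      rw [← hcomp, LinearMap.lTensor_comp, LinearMap.comp_apply, ht]
    rw [hdinj (h5.trans (map_zero _).symm), map_zero]
  have hincl' : Function.Injective ((LinearMap.ker p).subtype.rTensor (Module.Dual R N)) :=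
    (LinearMap.lTensor_inj_iff_rTensor_inj _ _).mp hincl
  -- the long exact sequence of `Tor`
  have hS1 : (ModuleCat.shortComplexOfCompEqZero (LinearMap.ker p).subtype p
      (LinearMap.exact_subtype_ker_map p).linearMap_comp_eq_zero).ShortExact :=
    ModuleCat.shortComplex_shortExact _ (LinearMap.exact_subtype_ker_map p)
      (Submodule.subtype_injective _) hp
  obtain ⟨e1⟩ := Groth.Agent.H12.TorSeq.les_ker_equiv
    (Groth.Agent.H12.TorSeq.hasLES_τ (Module.Dual R N)) _ hS1 0
    (Groth.Agent.H12.TorSeq.isZero_τ_flat (Module.Dual R N) 0 (Fin b → R))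
  obtain ⟨e2⟩ := Groth.Agent.H12.TorSeq.ker_τ_zero_equiv (Module.Dual R N)
    (LinearMap.ker p).subtype
  have hbot : LinearMap.ker ((LinearMap.ker p).subtype.rTensor (Module.Dual R N)) = ⊥ :=
    LinearMap.ker_eq_bot_of_injective hincl'
  haveI : Subsingleton (LinearMap.ker ((LinearMap.ker p).subtype.rTensor (Module.Dual R N))) := by
    rw [hbot]; infer_instance
  haveI : Subsingleton (((Tor (ModuleCat.{u} R) 1).obj (ModuleCat.of R M)).obj
      (ModuleCat.of R (Module.Dual R N))) := (e1.trans e2).toEquiv.subsingleton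
  exact ModuleCat.isZero_of_subsingleton _

theorem tor_one (S : Type u) [CommRing S] [IsRegularLocalRing S] (hS : ringKrullDim S = 2)
    (f : S) (hf : f ≠ 0) (R : Type u) [CommRing R] [IsLocalRing R] (π : S →+* R)
    (hπ : Function.Surjective π) (hker : RingHom.ker π = Ideal.span {f}) (I J : Ideal R) (n : ℕ)
    (hIJ : maximalIdeal R ^ n ≤ I ⊔ J) (M N : Type u) [AddCommGroup M] [Module R M]
    [Module.Finite R M] [AddCommGroup N] [Module R N] (hI : I ≤ Module.annihilator R M)
    (hJ : J ≤ Module.annihilator R N) (x : R) (hx : x ∈ maximalIdeal R)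
    (hxM : IsSMulRegular M x) :
    Limits.IsZero (((Tor (ModuleCat.{u} R) 1).obj (ModuleCat.of R M)).obj
      (ModuleCat.of R (Module.Dual R N))) := by
  obtain ⟨b, ι, _, j, d, p, hj, hjd, hdp, hp⟩ :=
    exists_periodic_main S hS f hf R π hπ hker M x hx hxM
  exact tor_one_of_periodic j d p hj hjd hdp hp
    (hom_eq_zero J I n (by rwa [sup_comm]) hJ hI x hx hxM)

end Groth.Agent.H72.Planar
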