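import Groth.Agent.H72.Splice
import Mathlib.CategoryTheory.Abelian.Projective.Dimension
import Mathlib.CategoryTheory.Abelian.Projective.Ext

set_option autoImplicit false
universe v u

namespace Groth.Agent.H72

open CategoryTheory CategoryTheory.Limits

variable {C : Type u} [Category.{v} C] [Abelian C]

/-- The syzygy short complex `0 → ker π → Projective.over M → M → 0`. -/
noncomputable def syzygySC [EnoughProjectives C] (M : C) : ShortComplex C :=
  ShortComplex.mk (kernel.ι (Projective.π M)) (Projective.π M) (kernel.condition _)

lemma syzygySC_shortExact [EnoughProjectives C] (M : C) : (syzygySC M).ShortExact where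
  exact := ShortComplex.exact_of_f_is_kernel _ (kernelIsKernel _)
  mono_f := by dsimp [syzygySC]; infer_instance
  epi_g := by dsimp [syzygySC]; infer_instance

instance [EnoughProjectives C] (M : C) : Projective (syzygySC M).X₂ := by
  dsimp [syzygySC]; infer_instance

/-- An object of projective dimension `≤ d` admits a projective resolution of length `≤ d`. -/
theorem exists_resolution_of_hasProjectiveDimensionLE [EnoughProjectives C] (d : ℕ) :
    ∀ (M : C), HasProjectiveDimensionLE M d →
      ∃ P : ProjectiveResolution M, ∀ i : ℕ, d < i → IsZero (P.complex.X i) := by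
  induction d with
  | zero =>
    intro M h
    have : Projective M := (projective_iff_hasProjectiveDimensionLE_zero M).mpr h
    refine ⟨ProjectiveResolution.self M, ?_⟩
    intro i hi
    exact HomologicalComplex.isZero_single_obj_X _ _ _ _ (by omega)
  | succ d ih =>
    intro M h
    have hS := syzygySC_shortExact M
    have h2 : HasProjectiveDimensionLT (syzygySC M).X₂ (d + 1) :=
      hasProjectiveDimensionLT_of_ge _ 1 (d + 1) (by omega)
    have h3 : HasProjectiveDimensionLT (syzygySC M).X₃ (d + 1 + 1) := h
    have hK : HasProjectiveDimensionLE (syzygySC M).X₁ d :=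
      hS.hasProjectiveDimensionLT_X₁ (d + 1) h2 h3
    obtain ⟨Q, hQ⟩ := ih _ hK
    refine ⟨splice (syzygySC M) hS Q, ?_⟩
    intro i hi
    obtain ⟨j, rfl⟩ := Nat.exists_eq_succ_of_ne_zero (by omega : i ≠ 0)
    exact hQ j (by omega)

/-- An object with a projective resolution of length `≤ d` has projective dimension `≤ d`. -/
theorem hasProjectiveDimensionLE_of_resolution {M : C} (d : ℕ) (P : ProjectiveResolution M)
    (hP : ∀ i : ℕ, d < i → IsZero (P.complex.X i)) : HasProjectiveDimensionLE M d := by
  let := HasExt.standard C
  refine HasProjectiveDimensionLT.mk (fun i hi Y e => ?_)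
  obtain ⟨f, hf, rfl⟩ := P.extMk_surjective e (i + 1) rfl
  have : f = 0 := (hP i (by omega)).eq_of_src _ _
  subst this
  exact P.extMk_zero _ _

end Groth.Agent.H72
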