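import Mathlib
import Groth.Agent.S0344

/-!
# Homogeneous localization at a prime admitting a degree-one homogeneous unit

`A` an `ℕ`-graded ring, `p` a prime, `f ∈ A_d`, `g ∈ A_{d+1}` both outside `p`
(`Dat 𝒜 p`).  Then `t = g/f` is a unit of degree one and
`T⁻¹A ≅ A_(p)[t, t⁻¹]` (`T` = homogeneous elements outside `p`), so `A_p` is a localization of
the Laurent polynomial ring over `A_(p)`; hence `A_(p) → A_p` is flat and local
(`flat_main`, `isLocalHom_val`), `A_(p)` is Noetherian if `A_p` is (`noeth`), and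
`A_(p)` is Gorenstein if `A_p` is (`gor_atPrime`).
-/

set_option autoImplicit false
universe u

namespace Groth.Agent.H72.ProjLaurent

open HomogeneousLocalization LaurentPolynomial

/-- The data of two homogeneous elements of consecutive degrees outside `p`. -/
structure Dat {A : Type u} [CommRing A] (𝒜 : ℕ → AddSubgroup A) (p : Ideal A) where
  d : ℕ
  f : A
  g : A
  hf : f ∈ 𝒜 d
  hg : g ∈ 𝒜 (d + 1)
  hfp : f ∉ p
  hgp : g ∉ p

section
variable {A : Type u} [CommRing A] {𝒜 : ℕ → AddSubgroup A} [GradedRing 𝒜]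
  {p : Ideal A} [p.IsPrime] (D : Dat 𝒜 p)

theorem deg_num {n : ℕ} {a : A} (ha : a ∈ 𝒜 n) : a * D.f ^ n ∈ 𝒜 (n * (D.d + 1)) := by
  have h1 : D.f ^ n ∈ 𝒜 (n • D.d) := SetLike.pow_mem_graded n D.hf
  have h2 : a * D.f ^ n ∈ 𝒜 (n + n • D.d) := SetLike.mul_mem_graded ha h1
  have e : n + n • D.d = n * (D.d + 1) := by rw [smul_eq_mul]; ring
  rwa [e] at h2

theorem deg_den (n : ℕ) : D.g ^ n ∈ 𝒜 (n * (D.d + 1)) := by
  have h1 : D.g ^ n ∈ 𝒜 (n • (D.d + 1)) := SetLike.pow_mem_graded n D.hg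
  rwa [smul_eq_mul] at h1

/-- `a ↦ a f^n / g^n` for `a` of degree `n`. -/
noncomputable def kap (n : ℕ) (a : A) (ha : a ∈ 𝒜 n) : AtPrime 𝒜 p :=
  HomogeneousLocalization.mk
    ⟨n * (D.d + 1), ⟨a * D.f ^ n, deg_num D ha⟩, ⟨D.g ^ n, deg_den D n⟩,
      p.primeCompl.pow_mem D.hgp n⟩

theorem val_kap (n : ℕ) (a : A) (ha : a ∈ 𝒜 n) :
    (kap D n a ha).val =
      Localization.mk (a * D.f ^ n) ⟨D.g ^ n, p.primeCompl.pow_mem D.hgp n⟩ := rfl

theorem kap_spec (n : ℕ) (a : A) (ha : a ∈ 𝒜 n) :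
    (kap D n a ha).val * algebraMap A (Localization.AtPrime p) (D.g ^ n) =
      algebraMap A (Localization.AtPrime p) (a * D.f ^ n) := by
  rw [val_kap, Localization.mk_eq_mk']
  exact IsLocalization.mk'_spec _ (a * D.f ^ n)
    (⟨D.g ^ n, p.primeCompl.pow_mem D.hgp n⟩ : p.primeCompl)

theorem kap_zero (n : ℕ) (h0 : (0 : A) ∈ 𝒜 n) : kap D n 0 h0 = 0 := by
  apply HomogeneousLocalization.val_injective
  rw [val_kap, val_zero, zero_mul, Localization.mk_zero]

theorem kap_add (n : ℕ) (a b : A) (ha : a ∈ 𝒜 n) (hb : b ∈ 𝒜 n) (hab : a + b ∈ 𝒜 n) :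
    kap D n (a + b) hab = kap D n a ha + kap D n b hb := by
  apply HomogeneousLocalization.val_injective
  rw [val_add, val_kap, val_kap, val_kap, add_mul, Localization.add_mk_self]

theorem kap_mul (n m : ℕ) (a b : A) (ha : a ∈ 𝒜 n) (hb : b ∈ 𝒜 m)
    (hab : a * b ∈ 𝒜 (n + m)) :
    kap D (n + m) (a * b) hab = kap D n a ha * kap D m b hb := by
  apply HomogeneousLocalization.val_injective
  rw [val_mul, val_kap, val_kap, val_kap, Localization.mk_mul]
  congr 1
  · ring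
  · first
      | exact Subtype.ext (pow_add D.g n m)
      | exact pow_add D.g n m

theorem kap_one (h1 : (1 : A) ∈ 𝒜 0) : kap D 0 1 h1 = 1 := by
  apply HomogeneousLocalization.val_injective
  rw [val_kap, val_one, Localization.mk_eq_mk', IsLocalization.mk'_eq_iff_eq_mul, one_mul]
  simp

/-- `t = g / f`. -/
noncomputable def tB : Localization.AtPrime p :=
  IsLocalization.mk' _ D.g (⟨D.f, D.hfp⟩ : p.primeCompl)

/-- `t⁻¹ = f / g`. -/
noncomputable def tBi : Localization.AtPrime p :=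
  IsLocalization.mk' _ D.f (⟨D.g, D.hgp⟩ : p.primeCompl)

theorem tB_spec : tB D * algebraMap A (Localization.AtPrime p) D.f =
    algebraMap A (Localization.AtPrime p) D.g :=
  IsLocalization.mk'_spec _ D.g (⟨D.f, D.hfp⟩ : p.primeCompl)

theorem tBi_spec : tBi D * algebraMap A (Localization.AtPrime p) D.g =
    algebraMap A (Localization.AtPrime p) D.f :=
  IsLocalization.mk'_spec _ D.f (⟨D.g, D.hgp⟩ : p.primeCompl)

theorem tB_mul_tBi : tB D * tBi D = 1 :=
  IsLocalization.mk'_mul_mk'_eq_one (⟨D.g, D.hgp⟩ : p.primeCompl) (⟨D.f, D.hfp⟩ : p.primeCompl)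

theorem tBi_mul_tB : tBi D * tB D = 1 := by rw [mul_comm]; exact tB_mul_tBi D

/-- `t` as a unit. -/
noncomputable def tU : (Localization.AtPrime p)ˣ :=
  ⟨tB D, tBi D, tB_mul_tBi D, tBi_mul_tB D⟩

theorem kap_val_mul_tB_pow (n : ℕ) (a : A) (ha : a ∈ 𝒜 n) :
    (kap D n a ha).val * (tB D) ^ n = algebraMap A (Localization.AtPrime p) a := by
  have hu : IsUnit ((algebraMap A (Localization.AtPrime p) D.f) ^ n) :=
    (IsLocalization.map_units _ (⟨D.f, D.hfp⟩ : p.primeCompl)).pow n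
  rw [← hu.mul_left_inj]
  calc (kap D n a ha).val * tB D ^ n * algebraMap A (Localization.AtPrime p) D.f ^ n
      = (kap D n a ha).val * (tB D * algebraMap A (Localization.AtPrime p) D.f) ^ n := by
        rw [mul_pow, mul_assoc]
    _ = (kap D n a ha).val * algebraMap A (Localization.AtPrime p) (D.g ^ n) := by
        rw [tB_spec, map_pow]
    _ = algebraMap A (Localization.AtPrime p) (a * D.f ^ n) := kap_spec D n a ha
    _ = algebraMap A (Localization.AtPrime p) a *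
          algebraMap A (Localization.AtPrime p) D.f ^ n := by rw [map_mul, map_pow]

theorem val_kap_eq (n : ℕ) (a : A) (ha : a ∈ 𝒜 n) :
    (kap D n a ha).val = algebraMap A (Localization.AtPrime p) a * (tBi D) ^ n := by
  rw [← kap_val_mul_tB_pow D n a ha, mul_assoc, ← mul_pow, tB_mul_tBi, one_pow, mul_one]

/-- The degree `n` piece of `A → A_(p)[T, T⁻¹]`. -/
noncomputable def piece (n : ℕ) : 𝒜 n →+ (AtPrime 𝒜 p)[T;T⁻¹] where
  toFun a := C (kap D n a a.2) * T n
  map_zero' := by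
    show C (kap D n (0 : A) _) * T n = 0
    rw [kap_zero, map_zero, zero_mul]
  map_add' a b := by
    show C (kap D n ((a : A) + b) _) * T n = _
    rw [kap_add D n a b a.2 b.2, map_add, add_mul]

/-- The ring homomorphism `A → A_(p)[T, T⁻¹]`, `a ↦ ∑ (a_n f^n / g^n) T^n`. -/
noncomputable def Th : A →+* (AtPrime 𝒜 p)[T;T⁻¹] :=
  (DirectSum.toSemiring (piece D)
    (by
      show C (kap D 0 (1 : A) _) * T ((0 : ℕ) : ℤ) = 1
      rw [kap_one, map_one, Nat.cast_zero, T_zero, mul_one])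
    (by
      intro i j ai aj
      show C (kap D (i + j) ((ai : A) * aj) _) * T ((i + j : ℕ) : ℤ) =
        (C (kap D i ai _) * T i) * (C (kap D j aj _) * T j)
      rw [kap_mul D i j ai aj ai.2 aj.2, map_mul, Nat.cast_add, T_add]
      ring)).comp (DirectSum.decomposeRingEquiv 𝒜).toRingHom

theorem Th_of_mem {n : ℕ} {a : A} (ha : a ∈ 𝒜 n) :
    Th D a = C (kap D n a ha) * T n := by
  unfold Th
  simp only [RingHom.comp_apply]
  show DirectSum.toSemiring _ _ _ (DirectSum.decompose 𝒜 a) = _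
  rw [DirectSum.decompose_of_mem 𝒜 ha, DirectSum.toSemiring_of]
  rfl

/-- `A_(p)[T, T⁻¹] → A_p`, `T ↦ g / f`. -/
noncomputable def psi : (AtPrime 𝒜 p)[T;T⁻¹] →+* Localization.AtPrime p :=
  LaurentPolynomial.eval₂ (algebraMap (AtPrime 𝒜 p) (Localization.AtPrime p)) (tU D)

theorem psi_Th (a : A) : psi D (Th D a) = algebraMap A (Localization.AtPrime p) a := by
  induction a using DirectSum.Decomposition.inductionOn 𝒜 with
  | zero => simp
  | homogeneous a =>
    rw [Th_of_mem D a.2, psi, LaurentPolynomial.eval₂_C_mul_T, zpow_natCast,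
      Units.val_pow_eq_pow_val, HomogeneousLocalization.algebraMap_apply]
    exact kap_val_mul_tB_pow D _ _ a.2
  | add x y hx hy => rw [map_add, map_add, map_add, hx, hy]

theorem isUnit_tBi : IsUnit (tBi D) := ⟨⟨tBi D, tB D, tBi_mul_tB D, tB_mul_tBi D⟩, rfl⟩

theorem isUnit_kap (n : ℕ) (s : A) (hs : s ∈ 𝒜 n) (hsp : s ∉ p) : IsUnit (kap D n s hs) := by
  rw [← isUnit_iff_isUnit_val, val_kap_eq]
  exact (IsLocalization.map_units _ (⟨s, hsp⟩ : p.primeCompl)).mul ((isUnit_tBi D).pow n)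

theorem isUnit_Th (n : ℕ) (s : A) (hs : s ∈ 𝒜 n) (hsp : s ∉ p) : IsUnit (Th D s) := by
  rw [Th_of_mem D hs]
  exact ((isUnit_kap D n s hs hsp).map C).mul (isUnit_T n)

end

section TT
variable {A : Type u} [CommRing A] (𝒜 : ℕ → AddSubgroup A) [GradedRing 𝒜]
  (p : Ideal A) [p.IsPrime]

/-- Homogeneous elements outside `p`. -/
def TT : Submonoid A where
  carrier := {s | (∃ n, s ∈ 𝒜 n) ∧ s ∉ p}
  one_mem' := ⟨⟨0, SetLike.one_mem_graded 𝒜⟩, p.primeCompl.one_mem⟩
  mul_mem' := by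
    rintro a b ⟨⟨n, ha⟩, hap⟩ ⟨⟨m, hb⟩, hbp⟩
    exact ⟨⟨n + m, SetLike.mul_mem_graded ha hb⟩, p.primeCompl.mul_mem hap hbp⟩

theorem TT_le : TT 𝒜 p ≤ p.primeCompl := fun _ hs => hs.2

theorem exists_hom_kill (s : A) (hs : s ∈ p.primeCompl) {i : ℕ} (y : A) (hy : y ∈ 𝒜 i)
    (h : s * y = 0) : ∃ c : TT 𝒜 p, (c : A) * y = 0 := by
  classical
  have hex : ∃ j, (DirectSum.decompose 𝒜 s j : A) ∉ p := by
    by_contra hcon
    push_neg at hcon
    have hsp : s ∈ p := by
      rw [← DirectSum.sum_support_decompose 𝒜 s]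
      exact Ideal.sum_mem _ (fun j _ => hcon j)
    exact hs hsp
  obtain ⟨j, hj⟩ := hex
  refine ⟨⟨(DirectSum.decompose 𝒜 s j : A), ⟨j, SetLike.coe_mem _⟩, hj⟩, ?_⟩
  show (DirectSum.decompose 𝒜 s j : A) * y = 0
  rw [← DirectSum.coe_decompose_mul_add_of_right_mem 𝒜 hy, h, DirectSum.decompose_zero]
  rfl

theorem kill_sum (S : Finset ℕ) (zf : ℕ → A)
    (h : ∀ i ∈ S, ∃ c : TT 𝒜 p, (c : A) * zf i = 0) :
    ∃ c : TT 𝒜 p, (c : A) * ∑ i ∈ S, zf i = 0 := by
  classical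
  induction S using Finset.induction_on with
  | empty => exact ⟨1, by simp⟩
  | insert a S ha ih =>
    obtain ⟨c1, hc1⟩ := h a (Finset.mem_insert_self a S)
    obtain ⟨c2, hc2⟩ := ih (fun i hi => h i (Finset.mem_insert_of_mem hi))
    refine ⟨c1 * c2, ?_⟩
    rw [Finset.sum_insert ha, Submonoid.coe_mul, mul_add]
    have e1 : (c1 : A) * c2 * zf a = c2 * (c1 * zf a) := by ring
    have e2 : (c1 : A) * c2 * ∑ i ∈ S, zf i = c1 * (c2 * ∑ i ∈ S, zf i) := by ring
    rw [e1, e2, hc1, hc2, mul_zero, mul_zero, add_zero]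

end TT

theorem coeff_sum_C_mul_T {R : Type*} [CommRing R] (S : Finset ℕ) (c : ℕ → R) (m : ℕ)
    (hm : m ∈ S) :
    (∑ n ∈ S, (C (c n) * T (n : ℤ) : R[T;T⁻¹])).coeff (m : ℤ) = c m := by
  have h1 : ∀ n : ℕ, (C (c n) * T (n : ℤ) : R[T;T⁻¹]) =
      AddMonoidAlgebra.single (n : ℤ) (c n) :=
    fun n => (single_eq_C_mul_T (c n) (n : ℤ)).symm
  simp_rw [h1]
  rw [AddMonoidAlgebra.coeff_sum, Finsupp.finsetSum_apply, Finset.sum_eq_single m]
  · rw [AddMonoidAlgebra.coeff_single, Finsupp.single_eq_same]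
  · intro b _ hb
    rw [AddMonoidAlgebra.coeff_single, Finsupp.single_apply, if_neg]
    exact_mod_cast hb
  · intro h
    exact absurd hm h

section
variable {A : Type u} [CommRing A] {𝒜 : ℕ → AddSubgroup A} [GradedRing 𝒜]
  {p : Ideal A} [p.IsPrime] (D : Dat 𝒜 p)

theorem mono_eq (c : AtPrime 𝒜 p) (n : ℤ) {i j : ℕ} (a s : A) (ha : a ∈ 𝒜 i) (hs : s ∈ 𝒜 j)
    (hij : n + j = i)
    (hval : c.val * (algebraMap A (Localization.AtPrime p) s * (tBi D) ^ j) =
      algebraMap A (Localization.AtPrime p) a * (tBi D) ^ i) :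
    C c * T n * Th D s = Th D a := by
  rw [Th_of_mem D hs, Th_of_mem D ha]
  have hk : c * kap D j s hs = kap D i a ha := by
    apply HomogeneousLocalization.val_injective
    rw [val_mul, val_kap_eq, val_kap_eq]
    exact hval
  rw [← hk, map_mul, ← hij, T_add]
  ring

theorem surj_monomial (n : ℤ) (c : AtPrime 𝒜 p) :
    ∃ x : A × TT 𝒜 p, C c * T n * Th D (x.2 : A) = Th D x.1 := by
  have hν : c.num ∈ 𝒜 c.deg := c.num_mem_deg
  have hw : c.den ∈ 𝒜 c.deg := c.den_mem_deg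
  have hwp : c.den ∈ p.primeCompl := c.den_mem
  have hcw : c.val * algebraMap A (Localization.AtPrime p) c.den =
      algebraMap A (Localization.AtPrime p) c.num := by
    have := c.den_smul_val
    rwa [Algebra.smul_def, mul_comm] at this
  have hgt : algebraMap A (Localization.AtPrime p) D.g * tBi D =
      algebraMap A (Localization.AtPrime p) D.f := by
    rw [mul_comm]; exact tBi_spec D
  obtain ⟨m, rfl | rfl⟩ := Int.eq_nat_or_neg n
  · have key : (algebraMap A (Localization.AtPrime p) D.g) ^ m * tBi D ^ m =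
        (algebraMap A (Localization.AtPrime p) D.f) ^ m := by rw [← mul_pow, hgt]
    have ha : c.num * D.g ^ m ∈ 𝒜 (c.deg + m • (D.d + 1)) :=
      SetLike.mul_mem_graded hν (SetLike.pow_mem_graded m D.hg)
    have hs : c.den * D.f ^ m ∈ 𝒜 (c.deg + m • D.d) :=
      SetLike.mul_mem_graded hw (SetLike.pow_mem_graded m D.hf)
    have hsp : c.den * D.f ^ m ∈ p.primeCompl :=
      p.primeCompl.mul_mem hwp (p.primeCompl.pow_mem D.hfp m)
    refine ⟨⟨c.num * D.g ^ m, ⟨c.den * D.f ^ m, ⟨⟨_, hs⟩, hsp⟩⟩⟩, ?_⟩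
    show C c * T (m : ℤ) * Th D (c.den * D.f ^ m) = Th D (c.num * D.g ^ m)
    refine mono_eq D c (m : ℤ) _ _ ha hs ?_ ?_
    · simp only [smul_eq_mul]; push_cast; ring
    · simp only [smul_eq_mul, map_mul, map_pow]
      rw [← hcw]
      linear_combination (-(c.val * algebraMap A (Localization.AtPrime p) c.den *
        tBi D ^ (c.deg + m * D.d))) * key
  · have key : (algebraMap A (Localization.AtPrime p) D.g) ^ m * tBi D ^ m =
        (algebraMap A (Localization.AtPrime p) D.f) ^ m := by rw [← mul_pow, hgt]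
    have ha : c.num * D.f ^ m ∈ 𝒜 (c.deg + m • D.d) :=
      SetLike.mul_mem_graded hν (SetLike.pow_mem_graded m D.hf)
    have hs : c.den * D.g ^ m ∈ 𝒜 (c.deg + m • (D.d + 1)) :=
      SetLike.mul_mem_graded hw (SetLike.pow_mem_graded m D.hg)
    have hsp : c.den * D.g ^ m ∈ p.primeCompl :=
      p.primeCompl.mul_mem hwp (p.primeCompl.pow_mem D.hgp m)
    refine ⟨⟨c.num * D.f ^ m, ⟨c.den * D.g ^ m, ⟨⟨_, hs⟩, hsp⟩⟩⟩, ?_⟩
    show C c * T (-(m : ℤ)) * Th D (c.den * D.g ^ m) = Th D (c.num * D.f ^ m)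
    refine mono_eq D c (-(m : ℤ)) _ _ ha hs ?_ ?_
    · simp only [smul_eq_mul]; push_cast; ring
    · simp only [smul_eq_mul, map_mul, map_pow]
      rw [← hcw]
      linear_combination (c.val * algebraMap A (Localization.AtPrime p) c.den *
        tBi D ^ (c.deg + m * D.d)) * key

theorem exists_kill_of_Th_eq_zero (z : A) (hz : Th D z = 0) :
    ∃ c : TT 𝒜 p, (c : A) * z = 0 := by
  classical
  obtain ⟨cf, hcf⟩ : ∃ cf : ℕ → AtPrime 𝒜 p, ∀ i,
      cf i = kap D i (DirectSum.decompose 𝒜 z i : A) (SetLike.coe_mem _) := ⟨_, fun _ => rfl⟩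
  have hsum : Th D z = ∑ i ∈ (DirectSum.decompose 𝒜 z).support, (C (cf i) * T (i : ℤ)) := by
    conv_lhs => rw [← DirectSum.sum_support_decompose 𝒜 z]
    rw [map_sum]
    refine Finset.sum_congr rfl (fun i _ => ?_)
    rw [hcf i]
    exact Th_of_mem D (SetLike.coe_mem _)
  have hcoef : ∀ i ∈ (DirectSum.decompose 𝒜 z).support, cf i = 0 := by
    intro i hi
    have h1 := coeff_sum_C_mul_T (DirectSum.decompose 𝒜 z).support cf i hi
    rw [← hsum, hz] at h1
    rw [← h1]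
    simp
  have hkill : ∀ i ∈ (DirectSum.decompose 𝒜 z).support,
      ∃ c : TT 𝒜 p, (c : A) * (DirectSum.decompose 𝒜 z i : A) = 0 := by
    intro i hi
    have h1 := congrArg HomogeneousLocalization.val (hcoef i hi)
    rw [hcf i, val_kap_eq, val_zero] at h1
    have h2 : algebraMap A (Localization.AtPrime p) (DirectSum.decompose 𝒜 z i : A) = 0 := by
      have h3 := congrArg (fun w => w * (tB D) ^ i) h1
      simp only [zero_mul] at h3
      rwa [mul_assoc, ← mul_pow, tBi_mul_tB, one_pow, mul_one] at h3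
    obtain ⟨s, hs⟩ :=
      (IsLocalization.map_eq_zero_iff p.primeCompl (Localization.AtPrime p) _).mp h2
    exact exists_hom_kill 𝒜 p s.1 s.2 _ (SetLike.coe_mem _) hs
  obtain ⟨c, hc⟩ := kill_sum 𝒜 p _ (fun i => (DirectSum.decompose 𝒜 z i : A)) hkill
  refine ⟨c, ?_⟩
  calc (c : A) * z = (c : A) * ∑ i ∈ (DirectSum.decompose 𝒜 z).support,
        (DirectSum.decompose 𝒜 z i : A) := by rw [DirectSum.sum_support_decompose 𝒜 z]
    _ = 0 := hc

theorem isLocalization_TT :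
    @IsLocalization A _ (TT 𝒜 p) ((AtPrime 𝒜 p)[T;T⁻¹]) _ (Th D).toAlgebra := by
  letI : Algebra A (AtPrime 𝒜 p)[T;T⁻¹] := (Th D).toAlgebra
  refine (isLocalization_iff (TT 𝒜 p) ((AtPrime 𝒜 p)[T;T⁻¹])).mpr ⟨?_, ?_, ?_⟩
  · rintro ⟨s, ⟨n, hs⟩, hsp⟩
    exact isUnit_Th D n s hs hsp
  · intro z
    show ∃ x : A × TT 𝒜 p, z * Th D (x.2 : A) = Th D x.1
    induction z using LaurentPolynomial.induction_on' with
    | add z1 z2 h1 h2 =>
      obtain ⟨⟨a1, s1⟩, e1⟩ := h1
      obtain ⟨⟨a2, s2⟩, e2⟩ := h2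
      refine ⟨⟨a1 * s2 + a2 * s1, s1 * s2⟩, ?_⟩
      show (z1 + z2) * Th D ((s1 : A) * (s2 : A)) = Th D (a1 * s2 + a2 * s1)
      have e1' : z1 * Th D (s1 : A) = Th D a1 := e1
      have e2' : z2 * Th D (s2 : A) = Th D a2 := e2
      rw [map_mul, map_add, map_mul, map_mul, ← e1', ← e2']
      ring
    | C_mul_T n c => exact surj_monomial D n c
  · intro x y hxy
    have hxy' : Th D x = Th D y := hxy
    have h0 : Th D (x - y) = 0 := by rw [map_sub, hxy', sub_self]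
    obtain ⟨c, hc⟩ := exists_kill_of_Th_eq_zero D (x - y) h0
    refine ⟨c, ?_⟩
    rw [mul_sub] at hc
    exact sub_eq_zero.mp hc

theorem isLocalHom_val :
    IsLocalHom (algebraMap (AtPrime 𝒜 p) (Localization.AtPrime p)) :=
  ⟨fun a ha => (isUnit_iff_isUnit_val 𝒜 p a).mp ha⟩

include D in
theorem flat_main : Module.Flat (AtPrime 𝒜 p) (Localization.AtPrime p) := by
  letI algAL : Algebra A (AtPrime 𝒜 p)[T;T⁻¹] := (Th D).toAlgebra
  letI algLB : Algebra (AtPrime 𝒜 p)[T;T⁻¹] (Localization.AtPrime p) := (psi D).toAlgebra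
  haveI : IsScalarTower A (AtPrime 𝒜 p)[T;T⁻¹] (Localization.AtPrime p) :=
    IsScalarTower.of_algebraMap_eq (fun a => (psi_Th D a).symm)
  haveI : IsScalarTower (AtPrime 𝒜 p) (AtPrime 𝒜 p)[T;T⁻¹] (Localization.AtPrime p) :=
    IsScalarTower.of_algebraMap_eq (fun c => by
      show algebraMap (AtPrime 𝒜 p) (Localization.AtPrime p) c = psi D (C c)
      exact (LaurentPolynomial.eval₂_C _ _ c).symm)
  haveI : IsLocalization (TT 𝒜 p) (AtPrime 𝒜 p)[T;T⁻¹] := isLocalization_TT D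
  haveI : IsLocalization ((p.primeCompl).map (algebraMap A (AtPrime 𝒜 p)[T;T⁻¹]))
      (Localization.AtPrime p) :=
    IsLocalization.isLocalization_of_submonoid_le (AtPrime 𝒜 p)[T;T⁻¹] (Localization.AtPrime p)
      (TT 𝒜 p) p.primeCompl (TT_le 𝒜 p)
  haveI : Module.Flat (AtPrime 𝒜 p)[T;T⁻¹] (Localization.AtPrime p) :=
    IsLocalization.flat _ ((p.primeCompl).map (algebraMap A (AtPrime 𝒜 p)[T;T⁻¹]))
  haveI : Module.Free (AtPrime 𝒜 p) (AtPrime 𝒜 p)[T;T⁻¹] :=
    Module.Free.of_equiv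
      (AddMonoidAlgebra.coeffLinearEquiv (AtPrime 𝒜 p) (S := AtPrime 𝒜 p) (M := ℤ)).symm
  exact Module.Flat.trans (AtPrime 𝒜 p) (AtPrime 𝒜 p)[T;T⁻¹] (Localization.AtPrime p)

include D in
theorem noeth [IsNoetherianRing (Localization.AtPrime p)] :
    IsNoetherianRing (AtPrime 𝒜 p) := by
  haveI := flat_main D
  haveI := isLocalHom_val (𝒜 := 𝒜) (p := p)
  haveI : Module.FaithfullyFlat (AtPrime 𝒜 p) (Localization.AtPrime p) :=
    Module.FaithfullyFlat.of_flat_of_isLocalHom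
  have h : IsNoetherian (Localization.AtPrime p)
      (TensorProduct (AtPrime 𝒜 p) (Localization.AtPrime p) (AtPrime 𝒜 p)) :=
    isNoetherian_of_linearEquiv
      (TensorProduct.AlgebraTensorModule.rid (AtPrime 𝒜 p) (Localization.AtPrime p)
        (Localization.AtPrime p)).symm
  exact Submodule.IsNoetherian.of_isNoetherian_tensorProduct_of_faithfullyFlat h

include D in
theorem gor_atPrime (hB : LocCoh.IsGorensteinLocalRing (Localization.AtPrime p)) :
    LocCoh.IsGorensteinLocalRing (AtPrime 𝒜 p) := by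
  haveI := flat_main D
  haveI := isLocalHom_val (𝒜 := 𝒜) (p := p)
  haveI : IsNoetherianRing (Localization.AtPrime p) := hB.toIsNoetherian
  haveI := noeth D
  exact ((Groth.Agent.S0344.result (AtPrime 𝒜 p) (Localization.AtPrime p)).mp hB).1

end

section Sharp
open Pointwise
variable {A : Type u} [CommRing A] {𝒜 : ℕ → AddSubgroup A} [GradedRing 𝒜]
  {p : Ideal A} [p.IsPrime]

theorem exists_dat
    (hsharp : ∃ d₀ : ℕ, ∀ d : ℕ, d₀ ≤ d → ∀ n : ℕ, 1 ≤ n →
      𝒜 ((n + 1) * d) = AddSubgroup.closure ((𝒜 d : Set A) * (𝒜 (n * d) : Set A)))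
    (hirr : ∃ (h : A) (e : ℕ), h ∈ 𝒜 e ∧ 0 < e ∧ h ∉ p) : Nonempty (Dat 𝒜 p) := by
  obtain ⟨d₀, hd₀⟩ := hsharp
  obtain ⟨h, e, he, hepos, hhp⟩ := hirr
  have key : ∀ d, d₀ ≤ d → ∃ a ∈ 𝒜 d, a ∉ p := by
    intro d hd
    by_contra hcon
    push_neg at hcon
    have hall : ∀ n, 1 ≤ n → ∀ a ∈ 𝒜 (n * d), a ∈ p := by
      intro n hn
      induction n, hn using Nat.le_induction with
      | base =>
        intro a ha
        rw [one_mul] at ha
        exact hcon a ha
      | succ n hn ih =>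
        intro a ha
        rw [hd₀ d hd n hn] at ha
        have hsub : ((𝒜 d : Set A) * (𝒜 (n * d) : Set A)) ⊆ (p.toAddSubgroup : Set A) := by
          rintro x ⟨u, hu, v, hv, rfl⟩
          exact p.mul_mem_right v (hcon u hu)
        exact (AddSubgroup.closure_le p.toAddSubgroup).mpr hsub ha
    have hpow : h ^ d ∈ p := hall e hepos (h ^ d) (by
      have h1 : h ^ d ∈ 𝒜 (d • e) := SetLike.pow_mem_graded d he
      rwa [smul_eq_mul, mul_comm] at h1)
    exact hhp (Ideal.IsPrime.mem_of_pow_mem ‹p.IsPrime› d hpow)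
  obtain ⟨f, hf, hfp⟩ := key d₀ le_rfl
  obtain ⟨g, hg, hgp⟩ := key (d₀ + 1) (Nat.le_succ _)
  exact ⟨⟨d₀, f, g, hf, hg, hfp, hgp⟩⟩

end Sharp

end Groth.Agent.H72.ProjLaurent
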