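import Mathlib
import Groth.Agent.H72.RegLoc

/-!
# Reflexive modules with trivial endomorphism ring over reduced rings of dimension `≤ 1`

* `injective_of_locFree`, `surjective_of_locFree`: if `M` is locally free of rank one then
  `S → End_S(M)` is bijective.
* `locFree_of_bijective`: over a reduced Noetherian ring of dimension `≤ 1`, a finite reflexive
  module with `S → End_S(M)` bijective is locally free of rank one.
-/

set_option autoImplicit false
universe u

namespace Groth.Agent.H72.RankOne

variable {S : Type u} [CommRing S] {M : Type u} [AddCommGroup M] [Module S M]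

theorem injective_of_locFree
    (h : ∀ (P : Ideal S) [P.IsPrime], Nonempty (LocalizedModule P.primeCompl M ≃ₗ[Localization.AtPrime P]
      Localization.AtPrime P)) :
    Function.Injective (algebraMap S (Module.End S M)) := by
  rw [injective_iff_map_eq_zero]
  intro s hs
  by_contra hne
  have hsM : ∀ m : M, s • m = 0 := fun m => by
    have h1 := LinearMap.congr_fun hs m
    rw [Module.algebraMap_end_apply] at h1
    exact h1
  let I : Ideal S := LinearMap.ker (LinearMap.toSpanSingleton S S s)
  have hI : I ≠ ⊤ := by
    intro htop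
    have h1 : (1 : S) ∈ I := htop ▸ Submodule.mem_top
    rw [LinearMap.mem_ker, LinearMap.toSpanSingleton_apply, one_smul] at h1
    exact hne h1
  obtain ⟨P, hPmax, hIP⟩ := Ideal.exists_le_maximal I hI
  haveI : P.IsPrime := hPmax.isPrime
  obtain ⟨e⟩ := h P
  have hz : ∀ z : LocalizedModule P.primeCompl M, s • z = 0 := by
    intro z
    induction z using LocalizedModule.induction_on with
    | h m t => rw [LocalizedModule.smul'_mk, hsM, LocalizedModule.zero_mk]
  have h0 : algebraMap S (Localization.AtPrime P) s = 0 := by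
    have h1 : algebraMap S (Localization.AtPrime P) s • e.symm 1 = 0 := by
      rw [algebraMap_smul]; exact hz _
    have h2 := congrArg e h1
    rwa [map_smul, e.apply_symm_apply, map_zero, smul_eq_mul, mul_one] at h2
  obtain ⟨u, hu⟩ := (IsLocalization.map_eq_zero_iff P.primeCompl (Localization.AtPrime P) s).mp h0
  have huI : (u : S) ∈ I := by
    rw [LinearMap.mem_ker, LinearMap.toSpanSingleton_apply, smul_eq_mul]; exact hu
  exact u.2 (hIP huI)

theorem surjective_of_locFree [Module.Finite S M]
    (h : ∀ (P : Ideal S) [P.IsPrime], Nonempty (LocalizedModule P.primeCompl M ≃ₗ[Localization.AtPrime P]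
      Localization.AtPrime P)) :
    Function.Surjective (algebraMap S (Module.End S M)) := by
  intro ψ
  let I : Ideal S :=
    { carrier := {t | ∃ a : S, t • ψ = a • (LinearMap.id : M →ₗ[S] M)}
      add_mem' := by
        rintro t₁ t₂ ⟨a₁, h₁⟩ ⟨a₂, h₂⟩
        exact ⟨a₁ + a₂, by rw [add_smul, add_smul, h₁, h₂]⟩
      zero_mem' := ⟨0, by rw [zero_smul, zero_smul]⟩
      smul_mem' := by
        rintro c t ⟨a, h₁⟩
        exact ⟨c * a, by rw [smul_eq_mul, mul_smul, mul_smul, h₁]⟩ }
  suffices hI : I = ⊤ by
    have h1 : (1 : S) ∈ I := hI ▸ Submodule.mem_top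
    obtain ⟨a, ha⟩ := h1
    rw [one_smul] at ha
    exact ⟨a, by rw [ha, Module.algebraMap_end_eq_smul_id]⟩
  by_contra hne
  obtain ⟨P, hPmax, hIP⟩ := Ideal.exists_le_maximal I hne
  haveI : P.IsPrime := hPmax.isPrime
  obtain ⟨e⟩ := h P
  have hψP : ∀ (m : M) (s : P.primeCompl), LocalizedModule.map P.primeCompl ψ (LocalizedModule.mk m s) =
      LocalizedModule.mk (ψ m) s := fun m s => LocalizedModule.map_mk _ _ _ _
  obtain ⟨⟨a, t⟩, hat⟩ := IsLocalization.surj P.primeCompl
    (e (LocalizedModule.map P.primeCompl ψ (e.symm 1)))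
  dsimp only at hat
  have hw : ∀ z : LocalizedModule P.primeCompl M, z = e z • e.symm 1 := by
    intro z
    apply e.injective
    rw [map_smul, e.apply_symm_apply, smul_eq_mul, mul_one]
  have hc : ∀ z, LocalizedModule.map P.primeCompl ψ z =
      e (LocalizedModule.map P.primeCompl ψ (e.symm 1)) • z := by
    intro z
    calc LocalizedModule.map P.primeCompl ψ z
        = LocalizedModule.map P.primeCompl ψ (e z • e.symm 1) := by rw [← hw z]
      _ = e z • LocalizedModule.map P.primeCompl ψ (e.symm 1) := map_smul _ _ _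
      _ = e z • (e (LocalizedModule.map P.primeCompl ψ (e.symm 1)) • e.symm 1) := by
          rw [← hw (LocalizedModule.map P.primeCompl ψ (e.symm 1))]
      _ = e (LocalizedModule.map P.primeCompl ψ (e.symm 1)) • (e z • e.symm 1) := smul_comm _ _ _
      _ = e (LocalizedModule.map P.primeCompl ψ (e.symm 1)) • z := by rw [← hw z]
  have hz : ∀ z, (t : S) • LocalizedModule.map P.primeCompl ψ z = a • z := by
    intro z
    rw [hc z, ← algebraMap_smul (Localization.AtPrime P) (t : S), smul_smul, mul_comm, hat,
      algebraMap_smul]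
  have hcomp : (LocalizedModule.mkLinearMap P.primeCompl M).comp ((t : S) • ψ) =
      (LocalizedModule.mkLinearMap P.primeCompl M).comp (a • LinearMap.id) := by
    apply LinearMap.ext
    intro m
    simp only [LinearMap.comp_apply, LinearMap.smul_apply, LinearMap.id_apply, map_smul,
      LocalizedModule.mkLinearMap_apply]
    have h1 := hz (LocalizedModule.mk m 1)
    rw [hψP] at h1
    exact h1
  obtain ⟨u, hu⟩ := Module.Finite.exists_smul_of_comp_eq_of_isLocalizedModule P.primeCompl
    (LocalizedModule.mkLinearMap P.primeCompl M) _ _ hcomp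
  have hmem : (u : S) * (t : S) ∈ I := ⟨(u : S) * a, by rw [mul_smul, mul_smul]; exact hu⟩
  exact (P.primeCompl.mul_mem u.2 t.2) (hIP hmem)

lemma exists_colon [IsNoetherianRing S] (P I : Ideal S) [P.IsPrime] (hP : P ∈ I.minimalPrimes) :
    ∃ y : S, y ∉ I ∧ ∀ r : S, r ∈ P ↔ r * y ∈ I := by
  have h1 := Module.associatedPrimes.minimalPrimes_annihilator_subset_associatedPrimes S (S ⧸ I)
  rw [Ideal.annihilator_quotient] at h1
  have h2 : IsAssociatedPrime P (S ⧸ I) := h1 hP
  obtain ⟨-, z, hz⟩ := isAssociatedPrime_iff.mp h2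
  obtain ⟨y, rfl⟩ := Ideal.Quotient.mk_surjective z
  have key : ∀ r : S, r ∈ P ↔ r * y ∈ I := by
    intro r
    rw [hz, Submodule.mem_colon_singleton, Submodule.mem_bot, Algebra.smul_def,
      Ideal.Quotient.algebraMap_eq, ← map_mul, Ideal.Quotient.eq_zero_iff_mem]
  refine ⟨y, ?_, key⟩
  intro hy
  have h3 : (1 : S) ∈ P := (key 1).mpr (by rwa [one_mul])
  exact (Ideal.IsPrime.ne_top ‹P.IsPrime›) ((Ideal.eq_top_iff_one P).mpr h3)

theorem locFree_of_bijective [IsNoetherianRing S] [IsReduced S] (hdim : ringKrullDim S ≤ 1)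
    [Module.Finite S M] [Module.IsReflexive S M]
    (hb : Function.Bijective (algebraMap S (Module.End S M))) (P : Ideal S) [hP : P.IsPrime] :
    Nonempty (LocalizedModule P.primeCompl M ≃ₗ[Localization.AtPrime P] Localization.AtPrime P) := by
  have hsmul_inj : ∀ y : S, (∀ m : M, y • m = 0) → y = 0 := by
    intro y hy
    apply hb.1
    rw [map_zero]
    apply LinearMap.ext
    intro m
    rw [Module.algebraMap_end_apply, hy]
    rfl
  have heval : ∀ m : M, (∀ φ : Module.Dual S M, φ m = 0) → m = 0 := by
    intro m hm
    apply (Module.bijective_dual_eval S M).1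
    rw [map_zero]
    apply LinearMap.ext
    intro φ
    rw [Module.Dual.eval_apply, hm]
    rfl
  by_cases hτ : ∃ (φ : Module.Dual S M) (m : M), φ m ∉ P
  · -- Case 1: some functional takes a value outside `P`
    obtain ⟨φ, m, ht⟩ := hτ
    obtain ⟨a, ha⟩ := hb.2 ((LinearMap.toSpanSingleton S M m).comp φ)
    have hax : ∀ x : M, a • x = φ x • m := by
      intro x
      have h1 := LinearMap.congr_fun ha x
      rw [Module.algebraMap_end_apply] at h1
      exact h1
    have hat : a * φ m = φ m * φ m := by
      have h1 := congrArg φ (hax m)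
      rwa [map_smul, map_smul, smul_eq_mul, smul_eq_mul] at h1
    have haP : a ∉ P := by
      intro haP
      have h1 : (a - φ m) * φ m ∈ P := by
        have h2 : (a - φ m) * φ m = 0 := by rw [sub_mul, hat, sub_self]
        rw [h2]; exact P.zero_mem
      rcases hP.mem_or_mem h1 with h2 | h2
      · exact ht (by have h3 := P.sub_mem haP h2; rwa [sub_sub_cancel] at h3)
      · exact ht h2
    let t' : P.primeCompl := ⟨φ m, ht⟩
    have hinj : Function.Injective (LocalizedModule.map P.primeCompl φ) := by
      rw [injective_iff_map_eq_zero]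
      intro z hz
      induction z using LocalizedModule.induction_on with
      | h x s =>
        rw [LocalizedModule.map_mk, ← LocalizedModule.zero_mk (1 : P.primeCompl),
          LocalizedModule.mk_eq] at hz
        obtain ⟨u, hu⟩ := hz
        rw [one_smul, smul_zero, smul_zero] at hu
        rw [← LocalizedModule.zero_mk (1 : P.primeCompl), LocalizedModule.mk_eq]
        refine ⟨u * ⟨a, haP⟩, ?_⟩
        rw [one_smul, smul_zero, smul_zero]
        show ((u : S) * a) • x = 0
        rw [mul_smul, hax, ← mul_smul]
        have h1 : (u : S) * φ x = 0 := hu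
        rw [h1, zero_smul]
    have hsurj : Function.Surjective (LocalizedModule.map P.primeCompl φ) := by
      intro w
      induction w using LocalizedModule.induction_on with
      | h r s =>
        refine ⟨LocalizedModule.mk (r • m) (s * t'), ?_⟩
        rw [LocalizedModule.map_mk, map_smul, smul_eq_mul, mul_comm]
        exact LocalizedModule.mk_cancel_common_right s t' r
    exact ⟨(LinearEquiv.ofBijective _ ⟨hinj, hsurj⟩).trans
      (Groth.Agent.H72.RegLoc.selfEquiv P.primeCompl)⟩
  · -- Case 2: the trace ideal lies in `P`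
    push Not at hτ
    exfalso
    by_cases hmin : P ∈ minimalPrimes S
    · obtain ⟨y, hy, hyP⟩ := exists_colon P ⊥ hmin
      apply hy
      rw [Ideal.mem_bot]
      apply hsmul_inj
      intro m
      apply heval
      intro φ
      rw [map_smul, smul_eq_mul, mul_comm]
      exact Ideal.mem_bot.mp ((hyP (φ m)).mp (hτ φ m))
    · have hfin := minimalPrimes.finite_of_isNoetherianRing S
      obtain ⟨x, hxP, hxQ⟩ : ∃ x ∈ P, ∀ Q ∈ minimalPrimes S, x ∉ Q := by
        by_contra hcon
        push Not at hcon
        have hsub : (P : Set S) ⊆ ⋃ Q ∈ (↑hfin.toFinset : Set (Ideal S)),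
            (((fun Q : Ideal S => Q) Q : Ideal S) : Set S) := by
          intro x hx
          obtain ⟨Q, hQ, hxQ⟩ := hcon x hx
          exact Set.mem_biUnion (Finset.mem_coe.mpr (hfin.mem_toFinset.mpr hQ)) hxQ
        obtain ⟨Q, hQ, hPQ⟩ := (Ideal.subset_union_prime (f := fun Q : Ideal S => Q) ⊥ ⊥
          (fun Q hQ _ _ => (hfin.mem_toFinset.mp hQ).1.1)).mp hsub
        have hQ' := hfin.mem_toFinset.mp hQ
        have hQP : Q ≤ P := hQ'.2 ⟨hP, bot_le⟩ hPQ
        have hPeq : P = Q := le_antisymm hPQ hQP
        exact hmin (by rw [hPeq]; exact hQ')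
      have hxreg : ∀ z : S, x * z = 0 → z = 0 := by
        intro z hz
        have h1 : z ∈ (⊥ : Ideal S).radical := by
          rw [← Ideal.sInf_minimalPrimes, Ideal.mem_sInf]
          intro Q hQ
          have h2 : x * z ∈ Q := by rw [hz]; exact Q.zero_mem
          exact (hQ.1.1.mem_or_mem h2).resolve_left (hxQ Q hQ)
        obtain ⟨n, hn⟩ := h1
        exact IsNilpotent.eq_zero ⟨n, Ideal.mem_bot.mp hn⟩
      have hxcancel : ∀ a b : S, a * x = b * x → a = b := fun a b h =>
        sub_eq_zero.mp (hxreg _ (by rw [mul_comm, sub_mul, h, sub_self]))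
      have hxnzd : x ∈ nonZeroDivisors S := mem_nonZeroDivisors_iff_left.mpr hxreg
      have hht : P.height ≤ (Ideal.span {x}).height := by
        have h1 : (P.height : WithBot ℕ∞) ≤ 1 :=
          le_trans Ideal.height_le_ringKrullDim_of_isPrime hdim
        have h2 : P.height ≤ 1 := by exact_mod_cast h1
        exact le_trans h2 (Ideal.one_le_height_span_singleton_of_mem_nonZeroDivisors hxnzd)
      have hPx : P ∈ (Ideal.span {x}).minimalPrimes :=
        Ideal.mem_minimalPrimes_of_height_le ((Ideal.span_singleton_le_iff_mem _).mpr hxP) hht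
      obtain ⟨y, hy, hyP⟩ := exists_colon P (Ideal.span {x}) hPx
      have hc : ∀ (φ : Module.Dual S M) (m : M), ∃ c : S, c * x = φ m * y := fun φ m =>
        Ideal.mem_span_singleton'.mp ((hyP (φ m)).mp (hτ φ m))
      have hxM : ∀ m : M, x • m = 0 → m = 0 := fun m hm =>
        heval m (fun φ => hxreg _ (by rw [← smul_eq_mul, ← map_smul, hm, map_zero]))
      have hξ : ∀ m : M, ∃ ξ : Module.Dual S (Module.Dual S M), ∀ φ, ξ φ * x = φ m * y := by
        intro m
        choose c hc' using fun φ => hc φ m
        refine ⟨({ toFun := c, map_add' := ?_, map_smul' := ?_ } :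
          Module.Dual S (Module.Dual S M)), hc'⟩
        · intro φ₁ φ₂
          apply hxcancel
          rw [hc', add_mul, hc', hc', LinearMap.add_apply, add_mul]
        · intro r φ
          apply hxcancel
          rw [hc', RingHom.id_apply, smul_eq_mul, mul_assoc, hc', LinearMap.smul_apply,
            smul_eq_mul, mul_assoc]
      have hV : ∀ m : M, ∃ m' : M, x • m' = y • m := by
        intro m
        obtain ⟨ξ, hξm⟩ := hξ m
        obtain ⟨m', hm'⟩ := (Module.bijective_dual_eval S M).2 ξ
        refine ⟨m', ?_⟩
        have h0 : x • m' - y • m = 0 := by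
          apply heval
          intro φ
          rw [map_sub, map_smul, map_smul, smul_eq_mul, smul_eq_mul, sub_eq_zero]
          have h1 : ξ φ = φ m' := by rw [← hm', Module.Dual.eval_apply]
          rw [← h1, mul_comm, hξm, mul_comm]
        exact sub_eq_zero.mp h0
      choose V hVx using hV
      have hVadd : ∀ m₁ m₂, V (m₁ + m₂) = V m₁ + V m₂ := fun m₁ m₂ => by
        have h0 : x • (V (m₁ + m₂) - (V m₁ + V m₂)) = 0 := by
          rw [smul_sub, smul_add, hVx, hVx, hVx, smul_add, sub_self]
        exact sub_eq_zero.mp (hxM _ h0)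
      have hVsmul : ∀ (r : S) m, V (r • m) = r • V m := fun r m => by
        have h0 : x • (V (r • m) - r • V m) = 0 := by
          rw [smul_sub, hVx, smul_comm x r, hVx, smul_comm y r, sub_self]
        exact sub_eq_zero.mp (hxM _ h0)
      have hVsmul' : ∀ (r : S) (m : M), V (r • m) = (RingHom.id S) r • V m := hVsmul
      let VL : M →ₗ[S] M := { toFun := V, map_add' := hVadd, map_smul' := hVsmul' }
      obtain ⟨a, ha⟩ := hb.2 VL
      have hxa : x * a = y := by
        apply hb.1
        apply LinearMap.ext
        intro m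
        rw [Module.algebraMap_end_apply, Module.algebraMap_end_apply, mul_smul]
        have h1 : a • m = V m := by
          have h2 := LinearMap.congr_fun ha m
          rw [Module.algebraMap_end_apply] at h2
          exact h2
        rw [h1, hVx]
      exact hy (Ideal.mem_span_singleton'.mpr ⟨a, by rw [mul_comm]; exact hxa⟩)

end Groth.Agent.H72.RankOne
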