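import Groth.Agent.H77.Sect3
import Groth.Prelude.Def_GrLC

/-!
# Helper library (helper72): the section ring of a point divisor as a graded ring

The section ring `SR P = ⊕ L(nP) T^n` is `ℤ`-graded by the degree in `T`, it is *local with
*maximal ideal the irrelevant ideal, and it is Noetherian.
-/

set_option autoImplicit false

namespace Groth.Agent.H72.SectGr

open FunFld WithZero Groth.Agent.H55 Polynomial Groth.Agent.H77.Sect

variable {k K : Type*} [Field k] [Field K] [Algebra k K] [IsAlgClosed k] (P : Place k K)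

/-- The `ℤ`-grading of the section ring by the degree in `T`. -/
def gr (i : ℤ) : AddSubgroup (SR P) where
  carrier := {p | ∀ j : ℕ, (j : ℤ) ≠ i → (p : K[X]).coeff j = 0}
  add_mem' := by
    intro p q hp hq j hj
    have hp' : (p : K[X]).coeff j = 0 := hp j hj
    have hq' : (q : K[X]).coeff j = 0 := hq j hj
    show ((p : K[X]) + (q : K[X])).coeff j = 0
    rw [coeff_add, hp', hq', add_zero]
  zero_mem' := by
    intro j _
    show ((0 : K[X])).coeff j = 0
    exact coeff_zero j
  neg_mem' := by
    intro p hp j hj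
    have hp' : (p : K[X]).coeff j = 0 := hp j hj
    show (-(p : K[X])).coeff j = 0
    rw [coeff_neg, hp', neg_zero]

theorem mem_gr {i : ℤ} {p : SR P} :
    p ∈ gr P i ↔ ∀ j : ℕ, (j : ℤ) ≠ i → (p : K[X]).coeff j = 0 := Iff.rfl

instance gradedMonoid : SetLike.GradedMonoid (gr P) where
  one_mem := by
    rw [mem_gr]
    intro j hj
    show ((1 : K[X])).coeff j = 0
    rw [coeff_one, if_neg]
    rintro rfl
    exact hj Nat.cast_zero
  mul_mem := by
    intro i i' p q hp hq
    rw [mem_gr] at hp hq ⊢
    intro j hj
    show ((p : K[X]) * (q : K[X])).coeff j = 0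
    rw [coeff_mul]
    refine Finset.sum_eq_zero fun x hx => ?_
    have hx' := Finset.HasAntidiagonal.mem_antidiagonal.1 hx
    by_cases h1 : ((x.1 : ℕ) : ℤ) = i
    · have h2 : ((x.2 : ℕ) : ℤ) ≠ i' := by
        intro h2
        apply hj
        rw [← hx', Nat.cast_add, h1, h2]
      rw [hq x.2 h2, mul_zero]
    · rw [hp x.1 h1, zero_mul]

/-- the homogeneous component of degree `n`. -/
noncomputable def comp (p : SR P) (n : ℕ) : SR P := monoD P n ((p : K[X]).coeff n)

theorem comp_val (p : SR P) (n : ℕ) :
    ((comp P p n : SR P) : K[X]) = monomial n ((p : K[X]).coeff n) :=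
  monoD_val P (coeff_mem P p n)

theorem comp_mem (p : SR P) (n : ℕ) : comp P p n ∈ gr P (n : ℤ) := by
  rw [mem_gr]
  intro j hj
  rw [comp_val, coeff_monomial, if_neg]
  intro h
  exact hj (by rw [h])

theorem comp_eq_zero {p : SR P} {n : ℕ} (h : (p : K[X]).coeff n = 0) : comp P p n = 0 := by
  apply Subtype.ext
  rw [comp_val, h, monomial_zero_right]
  rfl

theorem comp_add (p q : SR P) (n : ℕ) : comp P (p + q) n = comp P p n + comp P q n := by
  unfold comp
  show monoD P n (((p : K[X]) + (q : K[X])).coeff n) = _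
  rw [coeff_add]
  exact monoD_add P (coeff_mem P p n) (coeff_mem P q n)

theorem comp_of_mem_eq {i : ℤ} {y : SR P} (hy : y ∈ gr P i) {n : ℕ} (hn : (n : ℤ) = i) :
    comp P y n = y := by
  apply Subtype.ext
  rw [comp_val]
  ext m
  rw [coeff_monomial]
  split_ifs with h
  · rw [h]
  · symm
    apply (mem_gr P).1 hy m
    intro hm
    apply h
    have : (n : ℤ) = (m : ℤ) := by rw [hn, hm]
    exact_mod_cast this

theorem sum_comp (p : SR P) : p = ∑ n ∈ (p : K[X]).support, comp P p n := by
  apply Subtype.ext
  have h1 : ((∑ n ∈ (p : K[X]).support, comp P p n : SR P) : K[X]) =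
      ∑ n ∈ (p : K[X]).support, ((comp P p n : SR P) : K[X]) :=
    map_sum (SR P).val _ _
  rw [h1]
  conv_lhs => rw [Polynomial.as_sum_support (p : K[X])]
  refine Finset.sum_congr rfl fun n _ => ?_
  rw [comp_val]

/-- the decomposition map. -/
noncomputable def dec (p : SR P) : DirectSum ℤ (fun i => gr P i) :=
  ∑ n ∈ (p : K[X]).support,
    DirectSum.of (fun i => gr P i) (n : ℤ) ⟨comp P p n, comp_mem P p n⟩

theorem coe_of' (i j : ℤ) (y : gr P i) :
    (((DirectSum.of (fun i => gr P i) i y) j : gr P j) : SR P) =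
      if i = j then (y : SR P) else 0 := by
  rw [DirectSum.coe_of_apply]
  split_ifs <;> rfl

theorem dec_apply (p : SR P) (i : ℤ) :
    (((dec P p) i : gr P i) : SR P) = if 0 ≤ i then comp P p i.toNat else 0 := by
  classical
  have key : ∀ n : ℕ, (((DirectSum.of (fun i => gr P i) (n : ℤ)
      ⟨comp P p n, comp_mem P p n⟩) i : gr P i) : SR P) =
      if (n : ℤ) = i then comp P p n else 0 := fun n => coe_of' P _ _ _
  unfold dec
  rw [DirectSum.sum_apply, AddSubmonoidClass.coe_finsetSum,
    Finset.sum_congr rfl (fun n _ => key n)]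
  split_ifs with hi
  · obtain ⟨m, rfl⟩ := Int.eq_ofNat_of_zero_le hi
    rw [Int.toNat_natCast]
    by_cases hm : m ∈ (p : K[X]).support
    · rw [Finset.sum_eq_single m]
      · rw [if_pos rfl]
      · intro n _ hne
        rw [if_neg]
        exact_mod_cast hne
      · intro h
        exact absurd hm h
    · rw [Finset.sum_eq_zero]
      · exact (comp_eq_zero P (notMem_support_iff.1 hm)).symm
      · intro n hn
        rw [if_neg]
        intro h
        have h' : n = m := by exact_mod_cast h
        exact hm (h' ▸ hn)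
  · apply Finset.sum_eq_zero
    intro n _
    rw [if_neg]
    intro h
    exact hi (h ▸ Int.natCast_nonneg n)

theorem dec_add (p q : SR P) : dec P (p + q) = dec P p + dec P q := by
  apply DirectSum.ext
  intro i
  apply Subtype.ext
  rw [DirectSum.add_apply, AddSubgroup.coe_add, dec_apply, dec_apply, dec_apply]
  split_ifs with hi
  · exact comp_add P p q _
  · rw [add_zero]

theorem dec_zero : dec P 0 = 0 := by
  have h := dec_add P 0 0
  rw [add_zero] at h
  exact left_eq_add.1 h

theorem dec_left (p : SR P) : DirectSum.coeAddMonoidHom (gr P) (dec P p) = p := by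
  unfold dec
  rw [map_sum]
  simp_rw [DirectSum.coeAddMonoidHom_of]
  exact (sum_comp P p).symm

theorem dec_of (i : ℤ) (y : gr P i) :
    dec P (y : SR P) = DirectSum.of (fun i => gr P i) i y := by
  classical
  apply DirectSum.ext
  intro j
  apply Subtype.ext
  rw [dec_apply, coe_of']
  by_cases hij : i = j
  · subst hij
    rw [if_pos rfl]
    by_cases hi : 0 ≤ i
    · rw [if_pos hi]
      exact comp_of_mem_eq P y.2 (Int.toNat_of_nonneg hi)
    · rw [if_neg hi]
      symm
      apply Subtype.ext
      ext m
      have := (mem_gr P).1 y.2 m (by omega)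
      rw [this]
      rfl
  · rw [if_neg hij]
    split_ifs with hj
    · apply comp_eq_zero
      apply (mem_gr P).1 y.2
      rw [Int.toNat_of_nonneg hj]
      exact fun h => hij h.symm
    · rfl

theorem dec_right (x : DirectSum ℤ (fun i => gr P i)) :
    dec P (DirectSum.coeAddMonoidHom (gr P) x) = x := by
  classical
  induction x using DirectSum.induction_on with
  | zero => rw [map_zero, dec_zero]
  | of i y => rw [DirectSum.coeAddMonoidHom_of, dec_of]
  | add a b ha hb => rw [map_add, dec_add, ha, hb]

noncomputable instance decomposition : DirectSum.Decomposition (gr P) where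
  decompose' := dec P
  left_inv := dec_left P
  right_inv := dec_right P

noncomputable instance gradedRing : GradedRing (gr P) where

theorem decompose_apply (p : SR P) (i : ℤ) :
    ((DirectSum.decompose (gr P) p i : gr P i) : SR P) =
      if 0 ≤ i then comp P p i.toNat else 0 :=
  dec_apply P p i

theorem Irr_homog : (Irr P).IsHomogeneous (gr P) := by
  intro i p hp
  rw [mem_Irr] at hp ⊢
  rw [decompose_apply]
  split_ifs with hi
  · rw [comp_val, coeff_monomial]
    split_ifs with h
    · rw [h, hp]
    · rfl
  · rfl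

/-- the irrelevant ideal as a homogeneous ideal. -/
noncomputable def mH : HomogeneousIdeal (gr P) := ⟨Irr P, Irr_homog P⟩

theorem mH_toIdeal : (mH P).toIdeal = Irr P := rfl

section Star

variable (hK : IsFunctionField k K)

include hK in
theorem comp_zero_eq (p : SR P) :
    ∃ c : k, comp P p 0 = algebraMap k (SR P) c ∧ (p : K[X]).coeff 0 = algebraMap k K c := by
  have h0 : (p : K[X]).coeff 0 ∈ L (0 : Divisor k K) := by
    have := coeff_mem P p 0
    rwa [Nat.cast_zero, Finsupp.single_zero] at this
  obtain ⟨c, hc⟩ := exists_const_of_mem_L_zero hK h0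
  refine ⟨c, ?_, hc.symm⟩
  apply Subtype.ext
  rw [comp_val, ← hc]
  show monomial 0 (algebraMap k K c) = algebraMap k K[X] c
  rw [monomial_zero_left, Polynomial.algebraMap_apply]

include hK in
theorem eq_top_of_coeff_ne_zero (n : HomogeneousIdeal (gr P)) (p : SR P) (hp : p ∈ n.toIdeal)
    (h0 : (p : K[X]).coeff 0 ≠ 0) : n.toIdeal = ⊤ := by
  have h1 : ((DirectSum.decompose (gr P) p 0 : gr P 0) : SR P) ∈ n.toIdeal :=
    n.isHomogeneous 0 hp
  rw [decompose_apply, if_pos le_rfl, Int.toNat_zero] at h1
  obtain ⟨c, hc, hc'⟩ := comp_zero_eq P hK p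
  have hc0 : c ≠ 0 := by
    rintro rfl
    rw [map_zero] at hc'
    exact h0 hc'
  rw [hc] at h1
  exact Ideal.eq_top_of_isUnit_mem _ h1 ((IsUnit.mk0 c hc0).map (algebraMap k (SR P)))

include hK in
theorem isStarLocal : GrLC.IsStarLocal (gr P) (mH P) := by
  have hne : mH P ≠ ⊤ := by
    intro h
    have h1 : (mH P).toIdeal = ⊤ := (HomogeneousIdeal.eq_top_iff _).1 h
    have h2 : (1 : SR P) ∈ Irr P := by
      rw [← mH_toIdeal, h1]
      exact Submodule.mem_top
    rw [mem_Irr] at h2
    have h3 : ((1 : SR P) : K[X]).coeff 0 = 1 := by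
      show (1 : K[X]).coeff 0 = 1
      exact coeff_one_zero
    rw [h3] at h2
    exact one_ne_zero h2
  have hco : IsCoatom (mH P) := by
    refine ⟨hne, fun b hb => ?_⟩
    obtain ⟨p, hpb, hpm⟩ := SetLike.exists_of_lt hb
    have h0 : (p : K[X]).coeff 0 ≠ 0 := fun h => hpm ((mem_Irr P p).2 h)
    exact (HomogeneousIdeal.eq_top_iff _).2 (eq_top_of_coeff_ne_zero P hK b p hpb h0)
  refine ⟨hco, fun n hn => ?_⟩
  have hle : n ≤ mH P := by
    intro p hp
    show p ∈ Irr P
    rw [mem_Irr]
    by_contra h0
    exact hn.1 ((HomogeneousIdeal.eq_top_iff _).2 (eq_top_of_coeff_ne_zero P hK n p hp h0))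
  exact eq_of_le_of_not_lt hle (fun hlt => hne (hn.2 _ hlt))

end Star

section Noeth

variable (hK : IsFunctionField k K) {π : K}

include hK in
theorem monoD_mem_adjoin (hπ : P.1 π = exp (-1 : ℤ)) :
    ∀ n : ℕ, ∀ f : K, f ∈ L (Finsupp.single P (n : ℤ) : Divisor k K) →
      monoD P n f ∈ Algebra.adjoin k (gens P π) := by
  intro n
  induction n using Nat.strong_induction_on with
  | _ n ih =>
    intro f hf
    have hX : monoD P 1 1 ∈ Algebra.adjoin k (gens P π) :=
      Algebra.subset_adjoin (Set.mem_insert _ _)
    rcases Nat.eq_zero_or_pos n with hn0 | hn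
    · subst hn0
      have hf0 : f ∈ L (0 : Divisor k K) := by
        have := hf
        rwa [Nat.cast_zero, Finsupp.single_zero] at this
      obtain ⟨c, rfl⟩ := exists_const_of_mem_L_zero hK hf0
      have h1 : monoD P 0 (algebraMap k K c) = algebraMap k (SR P) c := by
        apply Subtype.ext
        rw [monoD_val P hf]
        show monomial 0 (algebraMap k K c) = algebraMap k K[X] c
        rw [monomial_zero_left, Polynomial.algebraMap_apply]
      rw [h1]
      exact Subalgebra.algebraMap_mem _ c
    · have hlc0 : ∀ g : K, g ∈ L (Finsupp.single P (n : ℤ) : Divisor k K) → lc P π n g = 0 →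
          monoD P n g ∈ Algebra.adjoin k (gens P π) := by
        intro g hg hlc
        obtain ⟨m, rfl⟩ : ∃ m, n = m + 1 := ⟨n - 1, by omega⟩
        have h1 := (lc_eq_zero_iff hK hπ hg).1 hlc
        have e : (((m + 1 : ℕ) : ℤ) - 1) = (m : ℤ) := by push_cast; ring
        rw [e] at h1
        rw [(monoD_succ P h1).2]
        exact Subalgebra.mul_mem _ hX (ih m (by omega) g h1)
      by_cases hc : lc P π n f = 0
      · exact hlc0 f hf hc
      · have hnH := mem_of_lc_ne_zero hK hπ hf hc
        by_cases hmin : n ∈ W4c6gradedringsgw.minGens (W4c6gradedringsgw.poleOrders P)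
        · obtain ⟨hsel, hsel1⟩ := fsel_spec hK P hπ hnH
          have hg' : f - lc P π n f • fsel P π n ∈
              L (Finsupp.single P (n : ℤ) : Divisor k K) :=
            Submodule.sub_mem _ hf (Submodule.smul_mem _ _ hsel)
          have hlcz : lc P π n (f - lc P π n f • fsel P π n) = 0 := by
            rw [lc_sub hK hπ hf (Submodule.smul_mem _ _ hsel), lc_smul hK hπ _ hsel, hsel1,
              mul_one, sub_self]
          have h1 := hlc0 _ hg' hlcz
          have e : f = (f - lc P π n f • fsel P π n) + lc P π n f • fsel P π n := by ring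
          rw [e, monoD_add P hg' (Submodule.smul_mem _ _ hsel), monoD_smul P _ hsel]
          refine Subalgebra.add_mem _ h1
            (Subalgebra.mul_mem _ (Subalgebra.algebraMap_mem _ _) ?_)
          exact Algebra.subset_adjoin (Set.mem_insert_of_mem _ ⟨n, hmin, rfl⟩)
        · have hn0 : n ≠ 0 := by omega
          have hex : ∃ a ∈ W4c6gradedringsgw.poleOrders P,
              ∃ b ∈ W4c6gradedringsgw.poleOrders P, a ≠ 0 ∧ b ≠ 0 ∧ a + b = n := by
            by_contra hcon
            apply hmin
            refine ⟨hnH, hn0, fun a ha b hb ha0 hb0 hab => hcon ⟨a, ha, b, hb, ha0, hb0, hab⟩⟩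
          obtain ⟨a, ha, b, hb, ha0, hb0, hab⟩ := hex
          obtain ⟨hu, hu1⟩ := fsel_spec hK P hπ ha
          obtain ⟨hv, hv1⟩ := fsel_spec hK P hπ hb
          obtain ⟨huv, hmul⟩ := monoD_mul P hu hv
          rw [hab] at huv hmul
          have hlcuv : lc P π n (fsel P π a * fsel P π b) = 1 := by
            have := lc_mul hK hπ hu hv
            rw [hab, hu1, hv1, mul_one] at this
            exact this
          have hg' : f - lc P π n f • (fsel P π a * fsel P π b) ∈
              L (Finsupp.single P (n : ℤ) : Divisor k K) :=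
            Submodule.sub_mem _ hf (Submodule.smul_mem _ _ huv)
          have hlcz : lc P π n (f - lc P π n f • (fsel P π a * fsel P π b)) = 0 := by
            rw [lc_sub hK hπ hf (Submodule.smul_mem _ _ huv), lc_smul hK hπ _ huv, hlcuv,
              mul_one, sub_self]
          have h1 := hlc0 _ hg' hlcz
          have e : f = (f - lc P π n f • (fsel P π a * fsel P π b)) +
              lc P π n f • (fsel P π a * fsel P π b) := by ring
          rw [e, monoD_add P hg' (Submodule.smul_mem _ _ huv), monoD_smul P _ huv, hmul]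
          refine Subalgebra.add_mem _ h1
            (Subalgebra.mul_mem _ (Subalgebra.algebraMap_mem _ _) (Subalgebra.mul_mem _ ?_ ?_))
          · exact ih a (by omega) _ hu
          · exact ih b (by omega) _ hv

include hK in
theorem adjoin_gens_eq_top (hπ : P.1 π = exp (-1 : ℤ)) :
    Algebra.adjoin k (gens P π) = ⊤ := by
  rw [eq_top_iff]
  intro p _
  rw [sum_comp P p]
  exact Subalgebra.sum_mem _ fun n _ => monoD_mem_adjoin P hK hπ n _ (coeff_mem P p n)

include hK in
theorem isNoetherianRing (hg : 1 ≤ genus k K) : IsNoetherianRing (SR P) := by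
  obtain ⟨π, -, hπ⟩ := pl_exists_val_eq_exp P (-1)
  have hfin : (gens P π).Finite := gens_finite P (π := π) (minGens_finite hK P hg)
  haveI : Algebra.FiniteType k (SR P) :=
    ⟨⟨hfin.toFinset, by rw [Set.Finite.coe_toFinset]; exact adjoin_gens_eq_top P hK hπ⟩⟩
  exact Algebra.FiniteType.isNoetherianRing k (SR P)

end Noeth

end Groth.Agent.H72.SectGr
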