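import Groth.Agent.H72.Kunz
import Groth.Agent.H72.SectGr
import Groth.Agent.H72.OmegaInv
import Groth.Agent.H2.GrGor2
import Groth.Agent.H59.Goren4
import Groth.Agent.S0343

/-!
# Helper library (helper72): Kunz's theorem for the section ring of a point divisor

`R_{X,P}` is Gorenstein iff the Weierstrass semigroup is symmetric.
-/

set_option autoImplicit false
universe u

namespace Groth.Agent.H72.SectKunz

open FunFld WithZero Groth.Agent.H55 Polynomial Groth.Agent.H77.Sect

section General

/-- descend a linear form to the quotient. -/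
theorem exists_desc {k R : Type*} [Field k] [CommRing R] [Algebra k R] (J : Ideal R)
    (lam : R →ₗ[k] k) (hJ : ∀ p ∈ J, lam p = 0) :
    ∃ l : (R ⧸ J) →ₗ[k] k, ∀ p, l (Ideal.Quotient.mk J p) = lam p := by
  have hs : Function.Surjective (Ideal.Quotient.mk J) := Ideal.Quotient.mk_surjective
  have key : ∀ (x : R ⧸ J) (p : R), Ideal.Quotient.mk J p = x →
      lam (Function.surjInv hs x) = lam p := by
    intro x p hp
    have h1 : Function.surjInv hs x - p ∈ J :=
      Ideal.Quotient.eq.1 ((Function.surjInv_eq hs x).trans hp.symm)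
    have h2 := hJ _ h1
    rw [map_sub, sub_eq_zero] at h2
    exact h2
  refine ⟨{ toFun := fun x => lam (Function.surjInv hs x), map_add' := ?_, map_smul' := ?_ },
    fun p => key _ p rfl⟩
  · intro x y
    obtain ⟨p, rfl⟩ := hs x
    obtain ⟨q, rfl⟩ := hs y
    show lam _ = lam _ + lam _
    rw [key _ p rfl, key _ q rfl, key _ (p + q) (map_add _ _ _), map_add]
  · intro c x
    obtain ⟨p, rfl⟩ := hs x
    show lam _ = c • lam _
    have h3 : Ideal.Quotient.mk J (c • p) = c • Ideal.Quotient.mk J p :=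
      map_smul (Ideal.Quotient.mkₐ k J) c p
    rw [key _ p rfl, key _ (c • p) h3, map_smul]

/-- a nondegenerate form gives a trivialization of the dualizing module. -/
theorem exists_equiv_of_nondeg (K C : Type u) [Field K] [CommRing C] [Algebra K C]
    [Module.Finite K C] (w : Disc.Omega K C) (hw : ∀ c : C, c • w = 0 → c = 0) :
    Nonempty (Disc.Omega K C ≃ₗ[C] C) := by
  have hinj' : Function.Injective ((LinearMap.mul K C).compr₂ w.toLinearMap) := by
    rw [injective_iff_map_eq_zero]
    intro c hc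
    apply hw
    apply Disc.Omega.ext
    apply LinearMap.ext
    intro x
    rw [Disc.Omega.smul_toLinearMap_apply, Disc.Omega.zero_toLinearMap, LinearMap.zero_apply]
    have h1 := LinearMap.congr_fun hc x
    rw [LinearMap.compr₂_apply, LinearMap.mul_apply', LinearMap.zero_apply] at h1
    exact h1
  have hsurj' : Function.Surjective ((LinearMap.mul K C).compr₂ w.toLinearMap) :=
    (LinearMap.injective_iff_surjective_of_finrank_eq_finrank
      (Subspace.dual_finrank_eq (K := K) (V := C)).symm).1 hinj'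
  have hbij : Function.Bijective (LinearMap.toSpanSingleton C (Disc.Omega K C) w) := by
    constructor
    · rw [injective_iff_map_eq_zero]
      intro c hc
      rw [LinearMap.toSpanSingleton_apply] at hc
      exact hw c hc
    · intro φ
      obtain ⟨c, hc⟩ := hsurj' φ.toLinearMap
      refine ⟨c, ?_⟩
      rw [LinearMap.toSpanSingleton_apply]
      apply Disc.Omega.ext
      rw [← hc]
      apply LinearMap.ext
      intro x
      rw [Disc.Omega.smul_toLinearMap_apply, LinearMap.compr₂_apply, LinearMap.mul_apply']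
  exact ⟨(LinearEquiv.ofBijective _ hbij).symm⟩

/-- a finite algebra over a field is Gorenstein iff it is a Frobenius algebra. -/
theorem gor_iff_nondeg (k R : Type u) [Field k] [CommRing R] [Algebra k R] (J : Ideal R)
    [Module.Finite k (R ⧸ J)] :
    LocCoh.IsGorensteinRing (R ⧸ J) ↔
      ∃ lam : R →ₗ[k] k, (∀ p ∈ J, lam p = 0) ∧ ∀ p, (∀ q, lam (p * q) = 0) → p ∈ J := by
  constructor
  · intro hG
    obtain ⟨w, hw⟩ := OmegaInv.exists_nondeg k (R ⧸ J)
    refine ⟨w.toLinearMap.comp (Ideal.Quotient.mkₐ k J).toLinearMap, ?_, ?_⟩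
    · intro p hp
      show w.toLinearMap (Ideal.Quotient.mk J p) = 0
      rw [Ideal.Quotient.eq_zero_iff_mem.2 hp, map_zero]
    · intro p hp
      rw [← Ideal.Quotient.eq_zero_iff_mem]
      apply hw
      apply Disc.Omega.ext
      apply LinearMap.ext
      intro x
      obtain ⟨q, rfl⟩ := Ideal.Quotient.mk_surjective x
      rw [Disc.Omega.smul_toLinearMap_apply, Disc.Omega.zero_toLinearMap, LinearMap.zero_apply,
        ← map_mul]
      exact hp q
  · rintro ⟨lam, hJ, hnd⟩
    obtain ⟨l, hl⟩ := exists_desc J lam hJ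
    have hw : ∀ c : R ⧸ J, c • (⟨l⟩ : Disc.Omega k (R ⧸ J)) = 0 → c = 0 := by
      intro c hc
      obtain ⟨p, rfl⟩ := Ideal.Quotient.mk_surjective c
      rw [Ideal.Quotient.eq_zero_iff_mem]
      apply hnd
      intro q
      have h1 : (Ideal.Quotient.mk J p • (⟨l⟩ : Disc.Omega k (R ⧸ J))).toLinearMap
          (Ideal.Quotient.mk J q) = 0 := by
        rw [hc, Disc.Omega.zero_toLinearMap, LinearMap.zero_apply]
      rw [Disc.Omega.smul_toLinearMap_apply, ← map_mul] at h1
      rw [← hl]
      exact h1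
    obtain ⟨e⟩ := exists_equiv_of_nondeg k (R ⧸ J) ⟨l⟩ hw
    exact OmegaInv.gor_of_equiv k (R ⧸ J) e

/-- `(A ⧸ (a)) ⧸ (b̄) ≃+* A ⧸ I` when `I = (a) ⊔ (b)`. -/
theorem exists_dq_equiv {A : Type u} [CommRing A] (a b : A) (I : Ideal A)
    (hI : I = Ideal.span {a} ⊔ Ideal.span {b}) :
    Nonempty (((A ⧸ Ideal.span {a}) ⧸
      Ideal.span {Ideal.Quotient.mk (Ideal.span {a}) b}) ≃+* A ⧸ I) := by
  have h1 : Ideal.span {Ideal.Quotient.mk (Ideal.span {a}) b} =
      (Ideal.span {b}).map (Ideal.Quotient.mk (Ideal.span {a})) := by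
    rw [Ideal.map_span, Set.image_singleton]
  exact ⟨(Ideal.quotEquivOfEq h1).trans
    ((DoubleQuot.quotQuotEquivQuotSup (Ideal.span {a}) (Ideal.span {b})).trans
      (Ideal.quotEquivOfEq hI.symm))⟩

open Groth.Agent.H59 in
theorem gor_quot_of_gor {A : Type u} [CommRing A] [IsDomain A] (a b : A) (ha : Prime a)
    (hb : b ∉ Ideal.span {a}) (I : Ideal A) (hI : I = Ideal.span {a} ⊔ Ideal.span {b})
    [LocCoh.IsGorensteinRing A] : LocCoh.IsGorensteinRing (A ⧸ I) := by
  have ha0 : a ≠ 0 := ha.ne_zero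
  haveI hpa : (Ideal.span {a}).IsPrime := (Ideal.span_singleton_prime ha0).2 ha
  haveI h1 : LocCoh.IsGorensteinRing (A ⧸ Ideal.span {a}) :=
    Goren1.gorRing_quotient_of_regular _ (by
      intro x y hxy
      exact mul_left_cancel₀ ha0 hxy)
  have hb1 : Ideal.Quotient.mk (Ideal.span {a}) b ≠ 0 := by
    rw [Ne, Ideal.Quotient.eq_zero_iff_mem]
    exact hb
  haveI h2 : LocCoh.IsGorensteinRing ((A ⧸ Ideal.span {a}) ⧸
      Ideal.span {Ideal.Quotient.mk (Ideal.span {a}) b}) :=
    Goren1.gorRing_quotient_of_regular _ (by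
      intro x y hxy
      exact mul_left_cancel₀ hb1 hxy)
  obtain ⟨e⟩ := exists_dq_equiv a b I hI
  exact Goren1.gorRing_of_ringEquiv e

open Groth.Agent.H60 in
theorem gor_loc_aux {A : Type u} [CommRing A] [IsDomain A] [IsNoetherianRing A]
    (q : Ideal A) [q.IsPrime] (S : Type u) [CommRing S] [Algebra A S]
    [IsLocalization.AtPrime S q]
    (a b : A) (ha : Prime a) (haq : a ∈ q) (hbq : b ∈ q)
    (hb : b ∉ Ideal.span {a}) (I : Ideal A) (hI : I = Ideal.span {a} ⊔ Ideal.span {b})
    (hQ : LocCoh.IsGorensteinLocalRing (S ⧸ I.map (algebraMap A S))) :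
    LocCoh.IsGorensteinLocalRing S := by
  haveI : IsLocalRing S := IsLocalization.AtPrime.isLocalRing S q
  haveI : IsNoetherianRing S := IsLocalization.isNoetherianRing q.primeCompl S inferInstance
  have hle : q.primeCompl ≤ nonZeroDivisors A := Ideal.primeCompl_le_nonZeroDivisors q
  haveI : IsDomain S := IsLocalization.isDomain_of_le_nonZeroDivisors S hle
  have hinj : Function.Injective (algebraMap A S) := IsLocalization.injective S hle
  have ha0 : a ≠ 0 := ha.ne_zero
  have ha'0 : algebraMap A S a ≠ 0 := fun h => ha0 (hinj (by rw [h, map_zero]))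
  have ha'm : algebraMap A S a ∈ IsLocalRing.maximalIdeal S :=
    (IsLocalization.AtPrime.to_map_mem_maximal_iff S q a).2 haq
  have hb'm : algebraMap A S b ∈ IsLocalRing.maximalIdeal S :=
    (IsLocalization.AtPrime.to_map_mem_maximal_iff S q b).2 hbq
  have hreg_a : IsSMulRegular S (algebraMap A S a) := by
    intro x y hxy
    exact mul_left_cancel₀ ha'0 hxy
  haveI hpa : (Ideal.span {a}).IsPrime := (Ideal.span_singleton_prime ha0).2 ha
  have hdisj : Disjoint (q.primeCompl : Set A) ((Ideal.span {a} : Ideal A) : Set A) := by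
    rw [Set.disjoint_left]
    intro x hx hxa
    exact hx (((Ideal.span_singleton_le_iff_mem q).2 haq) hxa)
  have hmap_a : (Ideal.span {a}).map (algebraMap A S) = Ideal.span {algebraMap A S a} := by
    rw [Ideal.map_span, Set.image_singleton]
  haveI hpa' : (Ideal.span {algebraMap A S a}).IsPrime := by
    rw [← hmap_a]
    exact IsLocalization.isPrime_of_isPrime_disjoint q.primeCompl S _ hpa hdisj
  have hb'a : algebraMap A S b ∉ Ideal.span {algebraMap A S a} := by
    intro h
    apply hb
    rw [← IsLocalization.under_map_of_isPrime_disjoint q.primeCompl S hpa hdisj, hmap_a]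
    exact h
  haveI : Nontrivial (S ⧸ Ideal.span {algebraMap A S a}) :=
    Ideal.Quotient.nontrivial_iff.2 hpa'.ne_top
  haveI : IsLocalRing (S ⧸ Ideal.span {algebraMap A S a}) :=
    IsLocalRing.of_surjective' (Ideal.Quotient.mk _) Ideal.Quotient.mk_surjective
  haveI : IsLocalHom (Ideal.Quotient.mk (Ideal.span {algebraMap A S a})) :=
    IsLocalHom.of_surjective _ Ideal.Quotient.mk_surjective
  have hb1 : Ideal.Quotient.mk (Ideal.span {algebraMap A S a}) (algebraMap A S b) ≠ 0 := by
    rw [Ne, Ideal.Quotient.eq_zero_iff_mem]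
    exact hb'a
  have hb1m : Ideal.Quotient.mk (Ideal.span {algebraMap A S a}) (algebraMap A S b) ∈
      IsLocalRing.maximalIdeal (S ⧸ Ideal.span {algebraMap A S a}) := by
    rw [IsLocalRing.mem_maximalIdeal, mem_nonunits_iff] at hb'm ⊢
    intro hu
    exact hb'm (isUnit_of_map_unit (Ideal.Quotient.mk (Ideal.span {algebraMap A S a})) _ hu)
  have hreg_b : IsSMulRegular (S ⧸ Ideal.span {algebraMap A S a})
      (Ideal.Quotient.mk (Ideal.span {algebraMap A S a}) (algebraMap A S b)) := by
    intro x y hxy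
    exact mul_left_cancel₀ hb1 hxy
  have hImap : I.map (algebraMap A S) =
      Ideal.span {algebraMap A S a} ⊔ Ideal.span {algebraMap A S b} := by
    rw [hI, Ideal.map_sup, Ideal.map_span, Ideal.map_span, Set.image_singleton,
      Set.image_singleton]
  obtain ⟨e⟩ := exists_dq_equiv (algebraMap A S a) (algebraMap A S b) (I.map (algebraMap A S)) hImap
  have h2 : LocCoh.IsGorensteinLocalRing ((S ⧸ Ideal.span {algebraMap A S a}) ⧸
      Ideal.span {Ideal.Quotient.mk (Ideal.span {algebraMap A S a}) (algebraMap A S b)}) :=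
    GorTransfer.gor_of_ringEquiv e.symm hQ
  have h1 : LocCoh.IsGorensteinLocalRing (S ⧸ Ideal.span {algebraMap A S a}) :=
    (Groth.Agent.S0343.result _ _ hb1m hreg_b).2 h2
  exact (Groth.Agent.S0343.result S _ ha'm hreg_a).2 h1

open Groth.Agent.H60 Groth.Agent.H59 Groth.Agent.H2 in
theorem gor_loc_of_quot {A : Type u} [CommRing A] [IsDomain A] [IsNoetherianRing A]
    (m : Ideal A) [m.IsPrime] (a b : A) (ha : Prime a) (ham : a ∈ m) (hbm : b ∈ m)
    (hb : b ∉ Ideal.span {a}) (I : Ideal A) (hI : I = Ideal.span {a} ⊔ Ideal.span {b})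
    [LocCoh.IsGorensteinRing (A ⧸ I)] :
    LocCoh.IsGorensteinLocalRing (Localization.AtPrime m) := by
  have hIm : I ≤ m := by
    rw [hI, sup_le_iff, Ideal.span_singleton_le_iff_mem, Ideal.span_singleton_le_iff_mem]
    exact ⟨ham, hbm⟩
  have hsurj : Function.Surjective (Ideal.Quotient.mk I) := Ideal.Quotient.mk_surjective
  haveI hPb : (m.map (Ideal.Quotient.mk I)).IsPrime :=
    Ideal.map_isPrime_of_surjective hsurj (by rw [Ideal.mk_ker]; exact hIm)
  have hcomap : (m.map (Ideal.Quotient.mk I)).comap (Ideal.Quotient.mk I) = m := by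
    rw [Ideal.comap_map_of_surjective _ hsurj, ← RingHom.ker_eq_comap_bot, Ideal.mk_ker]
    exact sup_eq_left.2 hIm
  obtain ⟨e2⟩ := Goren4.exists_quot_loc_equiv I (m.map (Ideal.Quotient.mk I))
  haveI hP' : ((m.map (Ideal.Quotient.mk I)).comap (Ideal.Quotient.mk I)).IsPrime :=
    Ideal.comap_isPrime _ _
  have hC : LocCoh.IsGorensteinLocalRing
      (Localization.AtPrime (m.map (Ideal.Quotient.mk I))) :=
    LocCoh.IsGorensteinRing.isGorensteinLocalRing_localization _
  have hQ := GorTransfer.gor_of_ringEquiv e2.symm hC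
  refine GrGor2.gor_of_eq _ m hcomap ?_
  exact gor_loc_aux ((m.map (Ideal.Quotient.mk I)).comap (Ideal.Quotient.mk I))
    (Localization.AtPrime ((m.map (Ideal.Quotient.mk I)).comap (Ideal.Quotient.mk I)))
    a b ha (by rw [hcomap]; exact ham) (by rw [hcomap]; exact hbm) hb I hI hQ

end General

section Main

variable {k K : Type u} [Field k] [Field K] [Algebra k K] [IsAlgClosed k]

theorem irr_iff (hK : IsFunctionField k K) (P : Place k K) {π : K}
    (hπ : P.1 π = exp (-1 : ℤ)) (p : SR P) :
    p ∈ Irr P ↔ (psi P hK hπ p).coeff 0 = 0 := by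
  rw [mem_Irr, coeff_psi]
  obtain ⟨c, -, hc⟩ := SectGr.comp_zero_eq P hK p
  rw [hc, lc_const]
  exact map_eq_zero (algebraMap k K)

open Groth.Agent.H59 Groth.Agent.H2 Groth.Agent.H72.SectGr in
theorem main (hK : IsFunctionField k K) (hg : 1 ≤ genus k K) (P : Place k K) :
    LocCoh.IsGorensteinRing (SR P) ↔
      W4c6gradedringsgw.IsSymmetric (W4c6gradedringsgw.poleOrders P) := by
  obtain ⟨π, -, hπ⟩ := pl_exists_val_eq_exp P (-1)
  haveI hNoeth : IsNoetherianRing (SR P) := SectGr.isNoetherianRing P hK hg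
  have hgpos : 0 < 2 * genus k K := by omega
  have D : Kunz.Data (psi P hK hπ) (W4c6gradedringsgw.poleOrders P) (2 * genus k K)
      (2 * genus k K) :=
    { supp := fun p n h => by
        rw [coeff_psi] at h
        exact mem_of_lc_ne_zero hK hπ (coeff_mem P p n) h
      add := fun a ha b hb => add_mem_poleOrders hK ha hb
      zero := zero_mem_poleOrders hK
      big := fun n hn => mem_poleOrders_of_le hK hn (by omega)
      e_mem := mem_poleOrders_of_le hK le_rfl (by omega)
      e_pos := hgpos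
      lift := fun n hn => by
        obtain ⟨f, hf, hlc⟩ := exists_lc_eq_one hK hπ hn
        refine ⟨monoD P n f, ?_⟩
        ext m
        rw [coeff_psi, monoD_val P hf, coeff_monomial, coeff_X_pow]
        by_cases h : n = m
        · subst h
          rw [if_pos rfl, if_pos rfl, hlc]
        · rw [if_neg h, if_neg (Ne.symm h), lc_zero] }
  -- the element `t`
  have ht1 : (1 : K) ∈ L (Finsupp.single P ((1 : ℕ) : ℤ) : Divisor k K) := one_mem_L_one P
  have htval : ((monoD P 1 1 : SR P) : K[X]) = C 1 * X := by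
    rw [monoD_val P ht1, C_mul_X_eq_monomial]
  have hprime : Prime (monoD P 1 1 : SR P) :=
    prime_t P hK hπ hg (monoD P 1 1) 1 one_ne_zero htval
  have hker : RingHom.ker (psi P hK hπ) = Ideal.span {(monoD P 1 1 : SR P)} :=
    ker_psi P hK hπ hg (monoD P 1 1) 1 one_ne_zero htval
  have ht0 : (monoD P 1 1 : SR P) ≠ 0 := hprime.ne_zero
  -- the element `y`
  have heH : 2 * genus k K ∈ W4c6gradedringsgw.poleOrders P := D.e_mem
  have hy : psi P hK hπ (D.s (2 * genus k K)) = X ^ (2 * genus k K) := D.psi_s heH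
  have hJ : D.J = Ideal.span {(monoD P 1 1 : SR P)} ⊔ Ideal.span {D.s (2 * genus k K)} := by
    rw [D.J_eq _ hy, hker]
  haveI hfin : Module.Finite k (SR P ⧸ D.J) := D.finite_quot
  have hyt : D.s (2 * genus k K) ∉ Ideal.span {(monoD P 1 1 : SR P)} := by
    rw [← hker, RingHom.mem_ker, hy]
    exact pow_ne_zero _ X_ne_zero
  haveI hprimeI : (Ideal.span {(monoD P 1 1 : SR P)}).IsPrime :=
    (Ideal.span_singleton_prime ht0).2 hprime
  haveI hIrr : (Irr P).IsPrime := RingHom.ker_isPrime _
  constructor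
  · intro hG
    haveI := hG
    haveI h3 : LocCoh.IsGorensteinRing (SR P ⧸ D.J) :=
      gor_quot_of_gor _ _ hprime hyt D.J hJ
    obtain ⟨lam, hlJ, hnd⟩ := (gor_iff_nondeg k (SR P) D.J).1 h3
    exact D.symm_of_nondeg lam hlJ hnd
  · intro hsym
    obtain ⟨lam, hlJ, hnd⟩ := D.nondeg_of_symm hsym
    haveI hC : LocCoh.IsGorensteinRing (SR P ⧸ D.J) :=
      (gor_iff_nondeg k (SR P) D.J).2 ⟨lam, hlJ, hnd⟩
    have hJle : D.J ≤ Irr P := by
      intro p hp
      rw [irr_iff hK P hπ]
      exact (D.mem_J p).1 hp 0 D.zero_mem_Ap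
    have htm : (monoD P 1 1 : SR P) ∈ Irr P := by
      rw [mem_Irr, htval, coeff_C_mul, coeff_X_zero, mul_zero]
    have hym : D.s (2 * genus k K) ∈ Irr P := by
      apply hJle
      rw [hJ]
      exact Ideal.mem_sup_right (Ideal.mem_span_singleton_self _)
    have hm : LocCoh.IsGorensteinLocalRing (Localization.AtPrime (Irr P)) :=
      gor_loc_of_quot (Irr P) (monoD P 1 1) (D.s (2 * genus k K)) hprime htm hym hyt D.J hJ
    haveI : (mH P).toIdeal.IsPrime := hIrr
    exact GrGor2.gorRing (gr P) (mH P) (isStarLocal P hK) hm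

end Main

end Groth.Agent.H72.SectKunz
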