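import Mathlib
import Groth.Prelude.Def_Wider
import Groth.Agent.H58.IH
import Groth.Agent.H2.Matlis7
import Groth.Agent.S0311

/-!
`Hom_A(B, E)` for a finite algebra `B` over a Noetherian local ring `A`: the direct sum of the
injective hulls of the residue fields of `B`.
-/

set_option autoImplicit false
universe u
open InjHull IsLocalRing

namespace Groth.Agent.H72.SemiMatlis

open Groth.Agent.H2.Matlis

section General

variable {B : Type u} [CommRing B] (X : Type u) [AddCommGroup X] [Module B X]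

/-- The `n`-power torsion submodule. -/
def Gam (n : Ideal B) : Submodule B X where
  carrier := {x | ∃ N : ℕ, ∀ b ∈ n ^ N, b • x = 0}
  zero_mem' := ⟨0, fun b _ => smul_zero b⟩
  add_mem' := by
    rintro x y ⟨N, hN⟩ ⟨N', hN'⟩
    refine ⟨max N N', fun b hb => ?_⟩
    rw [smul_add, hN b (Ideal.pow_le_pow_right (le_max_left _ _) hb),
      hN' b (Ideal.pow_le_pow_right (le_max_right _ _) hb), add_zero]
  smul_mem' := by
    rintro c x ⟨N, hN⟩
    exact ⟨N, fun b hb => by rw [smul_comm, hN b hb, smul_zero]⟩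

/-- Elements killed by something outside the prime `n`. -/
def Qn (n : Ideal B) [hn : n.IsPrime] : Submodule B X where
  carrier := {x | ∃ b : B, b ∉ n ∧ b • x = 0}
  zero_mem' := ⟨1, (Ideal.ne_top_iff_one n).1 hn.ne_top, smul_zero 1⟩
  add_mem' := by
    rintro x y ⟨b, hb, hx⟩ ⟨c, hc, hy⟩
    refine ⟨b * c, fun h => (hn.mem_or_mem h).elim hb hc, ?_⟩
    have h1 : (b * c) • x = 0 := by rw [mul_comm, mul_smul, hx, smul_zero]
    have h2 : (b * c) • y = 0 := by rw [mul_smul, hy, smul_zero]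
    rw [smul_add, h1, h2, add_zero]
  smul_mem' := by
    rintro c x ⟨b, hb, hx⟩
    exact ⟨b, hb, by rw [smul_comm, hx, smul_zero]⟩

variable {X}

theorem Gam_le_Qn (j i : Ideal B) [hj : j.IsMaximal] [hi : i.IsMaximal] (hne : j ≠ i) :
    Gam X j ≤ Qn X i := by
  rintro x ⟨N, hN⟩
  have hnle : ¬ j ≤ i := fun hle => hne (hj.eq_of_le hi.ne_top hle)
  obtain ⟨c, hcj, hci⟩ := SetLike.not_le_iff_exists.1 hnle
  exact ⟨c ^ N, fun h => hci (hi.isPrime.mem_of_pow_mem N h), hN _ (Ideal.pow_mem_pow hcj N)⟩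

theorem disjoint_Gam_Qn (i : Ideal B) [hi : i.IsMaximal] : Disjoint (Gam X i) (Qn X i) := by
  rw [Submodule.disjoint_def]
  rintro x ⟨N, hN⟩ ⟨b, hb, hbx⟩
  obtain ⟨y, m, hm, hym⟩ := Ideal.IsMaximal.exists_inv_pow i hb N
  calc x = (y * b + m) • x := by rw [hym, one_smul]
    _ = 0 := by rw [add_smul, mul_smul, hbx, smul_zero, hN m hm, add_zero]

theorem iSupIndep_Gam : iSupIndep (fun n : MaximalSpectrum B => Gam X n.asIdeal) := by
  intro i
  refine (disjoint_Gam_Qn (X := X) i.asIdeal).mono_right ?_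
  refine iSup₂_le fun j hj => ?_
  exact Gam_le_Qn j.asIdeal i.asIdeal (fun h => hj (MaximalSpectrum.ext h))

theorem mem_iSup_Gam [Finite (MaximalSpectrum B)] (x : X) (K : ℕ)
    (hK : ∀ b ∈ (⨅ n : MaximalSpectrum B, n.asIdeal) ^ K, b • x = 0) :
    x ∈ ⨆ n : MaximalSpectrum B, Gam X n.asIdeal := by
  classical
  haveI : Fintype (MaximalSpectrum B) := Fintype.ofFinite _
  have hd : ∀ i j : MaximalSpectrum B, ∃ d : B, (j ≠ i → d ∈ j.asIdeal ∧ d ∉ i.asIdeal) := by
    intro i j
    by_cases hji : j = i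
    · exact ⟨0, fun h => absurd hji h⟩
    · have hnle : ¬ j.asIdeal ≤ i.asIdeal := fun hle =>
        hji (MaximalSpectrum.ext (j.isMaximal.eq_of_le i.isMaximal.ne_top hle))
      obtain ⟨c, hcj, hci⟩ := SetLike.not_le_iff_exists.1 hnle
      exact ⟨c, fun _ => ⟨hcj, hci⟩⟩
  choose d hd using hd
  let c : MaximalSpectrum B → B := fun i => ∏ j ∈ Finset.univ.erase i, d i j
  have hc_notin : ∀ i, c i ∉ i.asIdeal := by
    intro i hmem
    obtain ⟨j, hj, hdj⟩ := (Ideal.IsPrime.prod_mem_iff (p := i.asIdeal)).1 hmem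
    exact (hd i j (Finset.ne_of_mem_erase hj)).2 hdj
  have hc_in : ∀ i j : MaximalSpectrum B, j ≠ i → c i ∈ j.asIdeal := by
    intro i j hji
    obtain ⟨k, hk⟩ := Finset.dvd_prod_of_mem (fun j => d i j)
      (Finset.mem_erase.2 ⟨hji, Finset.mem_univ j⟩)
    show (∏ j ∈ Finset.univ.erase i, d i j) ∈ j.asIdeal
    rw [hk]
    exact Ideal.mul_mem_right _ _ (hd i j hji).1
  have hmul : ∀ i : MaximalSpectrum B,
      i.asIdeal * Ideal.span {c i} ≤ ⨅ n : MaximalSpectrum B, n.asIdeal := by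
    intro i
    rw [Ideal.mul_le]
    intro a ha s hs
    obtain ⟨t, rfl⟩ := Ideal.mem_span_singleton'.1 hs
    rw [Ideal.mem_iInf]
    intro j
    by_cases hji : j = i
    · rw [hji]
      exact Ideal.mul_mem_right _ _ ha
    · exact Ideal.mul_mem_left _ _ (Ideal.mul_mem_left _ _ (hc_in i j hji))
  have hcx : ∀ i : MaximalSpectrum B, (c i ^ K) • x ∈ Gam X i.asIdeal := by
    intro i
    refine ⟨K, fun a ha => ?_⟩
    rw [smul_smul]
    apply hK
    have h1 : a * c i ^ K ∈ i.asIdeal ^ K * Ideal.span {c i} ^ K :=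
      Ideal.mul_mem_mul ha (Ideal.pow_mem_pow (Ideal.mem_span_singleton_self _) K)
    rw [← mul_pow] at h1
    exact Ideal.pow_right_mono (hmul i) K h1
  have htop : Ideal.span (Set.range fun i : MaximalSpectrum B => c i ^ K) = ⊤ := by
    by_contra hne
    obtain ⟨M, hM, hle⟩ := Ideal.exists_le_maximal _ hne
    have hmem : c ⟨M, hM⟩ ^ K ∈ M := hle (Ideal.subset_span ⟨⟨M, hM⟩, rfl⟩)
    exact hc_notin ⟨M, hM⟩ (hM.isPrime.mem_of_pow_mem K hmem)
  have h1 : (1 : B) ∈ Ideal.span (Set.range fun i : MaximalSpectrum B => c i ^ K) := by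
    rw [htop]
    trivial
  obtain ⟨b, hb⟩ := Ideal.mem_span_range_iff_exists_fun.1 h1
  have hx : x = ∑ i, b i • ((c i ^ K) • x) := by
    calc x = (1 : B) • x := (one_smul B x).symm
      _ = (∑ i, b i * c i ^ K) • x := by rw [hb]
      _ = ∑ i, (b i * c i ^ K) • x := Finset.sum_smul
      _ = ∑ i, b i • ((c i ^ K) • x) := Finset.sum_congr rfl (fun i _ => mul_smul _ _ _)
  rw [hx]
  exact Submodule.sum_mem _ (fun i _ => Submodule.smul_mem _ _
    (Submodule.mem_iSup_of_mem i (hcx i)))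

theorem exists_smul_ne_zero_killed' (n : Ideal B) (x : X) (hx0 : x ≠ 0)
    (hex : ∃ N : ℕ, ∀ b ∈ n ^ N, b • x = 0) :
    ∃ a : B, a • x ≠ 0 ∧ ∀ c ∈ n, c • a • x = 0 := by
  classical
  obtain ⟨j, hj, hjmin⟩ : ∃ j, (∀ a ∈ n ^ j, a • x = 0) ∧
      ∀ j' < j, ¬ ∀ a ∈ n ^ j', a • x = 0 :=
    ⟨Nat.find hex, Nat.find_spec hex, fun j' hj' => Nat.find_min hex hj'⟩
  have hj0 : j ≠ 0 := by
    intro h0
    apply hx0
    have := hj 1 (by rw [h0, pow_zero, Ideal.one_eq_top]; trivial)
    simpa using this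
  obtain ⟨j', hj'⟩ := Nat.exists_eq_succ_of_ne_zero hj0
  have hmin := hjmin j' (by omega)
  push Not at hmin
  obtain ⟨a, ha, hax⟩ := hmin
  refine ⟨a, hax, fun c hc => ?_⟩
  rw [smul_smul]
  apply hj
  rw [hj', pow_succ']
  exact Ideal.mul_mem_mul hc ha

theorem injective_of_retract {R : Type u} [CommRing R] {M N : Type u} [AddCommGroup M]
    [Module R M] [AddCommGroup N] [Module R N] [hM : Module.Injective R M] (i : N →ₗ[R] M)
    (p : M →ₗ[R] N) (h : ∀ x, p (i x) = x) : Module.Injective R N := by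
  apply Module.Baer.injective
  intro I g
  obtain ⟨g', hg'⟩ := Module.Baer.of_injective hM I (i ∘ₗ g)
  exact ⟨p ∘ₗ g', fun x hx => by
    rw [LinearMap.comp_apply, hg' x hx, LinearMap.comp_apply, h]⟩

end General

section Main

variable {A B : Type u} [CommRing A] [IsLocalRing A] [IsNoetherianRing A] [CommRing B]
  [Algebra A B] [Module.Finite A B] {E : Type u} [AddCommGroup E] [Module A E]

omit [IsNoetherianRing A] in
theorem map_le_of_isMaximal (n : Ideal B) [hn : n.IsMaximal] :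
    (maximalIdeal A).map (algebraMap A B) ≤ n := by
  haveI : Algebra.IsIntegral A B := Algebra.IsIntegral.of_finite A B
  have h1 : (n.comap (algebraMap A B)).IsMaximal :=
    Ideal.isMaximal_comap_of_isIntegral_of_isMaximal n
  rw [Ideal.map_le_iff_le_comap, IsLocalRing.eq_maximalIdeal h1]

theorem isArtinianRing_quot (N : ℕ) :
    IsArtinianRing (B ⧸ (maximalIdeal A ^ N).map (algebraMap A B)) := by
  have hkill : ∀ a ∈ maximalIdeal A ^ N,
      ∀ x : B ⧸ (maximalIdeal A ^ N).map (algebraMap A B), a • x = 0 := by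
    intro a ha x
    obtain ⟨b, rfl⟩ := Ideal.Quotient.mk_surjective x
    rw [Algebra.smul_def,
      IsScalarTower.algebraMap_apply A B (B ⧸ (maximalIdeal A ^ N).map (algebraMap A B)),
      Ideal.Quotient.algebraMap_eq, ← map_mul, Ideal.Quotient.eq_zero_iff_mem]
    exact Ideal.mul_mem_right _ _ (Ideal.mem_map_of_mem _ ha)
  have hfinC : Module.Finite A (B ⧸ (maximalIdeal A ^ N).map (algebraMap A B)) :=
    Module.Finite.of_surjective (Ideal.Quotient.mkₐ A _).toLinearMap
      (Ideal.Quotient.mkₐ_surjective A _)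
  have hflC : IsFiniteLength A (B ⧸ (maximalIdeal A ^ N).map (algebraMap A B)) :=
    isFiniteLength_of_finite_of_pow_smul _ N hkill
  have hArtA : IsArtinian A (B ⧸ (maximalIdeal A ^ N).map (algebraMap A B)) :=
    (isFiniteLength_iff_isNoetherian_isArtinian.mp hflC).2
  exact isArtinian_of_tower A hArtA

theorem finite_maximalSpectrum (A B : Type u) [CommRing A] [IsLocalRing A] [IsNoetherianRing A]
    [CommRing B] [Algebra A B] [Module.Finite A B] : Finite (MaximalSpectrum B) := by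
  haveI := isArtinianRing_quot (A := A) (B := B) 1
  have hJle : ∀ n : Ideal B, n.IsMaximal → (maximalIdeal A ^ 1).map (algebraMap A B) ≤ n := by
    intro n hn
    rw [pow_one]
    exact map_le_of_isMaximal n
  let ψ : MaximalSpectrum (B ⧸ (maximalIdeal A ^ 1).map (algebraMap A B)) → MaximalSpectrum B :=
    fun M => ⟨M.asIdeal.comap (Ideal.Quotient.mk _),
      Ideal.comap_isMaximal_of_surjective _ Ideal.Quotient.mk_surjective⟩
  refine Finite.of_surjective ψ ?_
  intro n
  have hmax := n.isMaximal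
  have hcm : (n.asIdeal.map (Ideal.Quotient.mk ((maximalIdeal A ^ 1).map (algebraMap A B)))).comap
      (Ideal.Quotient.mk ((maximalIdeal A ^ 1).map (algebraMap A B))) = n.asIdeal := by
    rw [Ideal.comap_map_of_surjective _ Ideal.Quotient.mk_surjective, ← RingHom.ker_eq_comap_bot,
      Ideal.mk_ker, sup_eq_left]
    exact hJle _ hmax
  rcases Ideal.map_eq_top_or_isMaximal_of_surjective
    (Ideal.Quotient.mk ((maximalIdeal A ^ 1).map (algebraMap A B)))
    Ideal.Quotient.mk_surjective hmax with htop | hM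
  · exfalso
    rw [htop, Ideal.comap_top] at hcm
    exact hmax.ne_top hcm.symm
  · exact ⟨⟨_, hM⟩, MaximalSpectrum.ext hcm⟩

theorem exists_pow_jac_smul_eq_zero (hpt : LocCoh.IsPowerTorsion (maximalIdeal A) E)
    (g : CoE A B E) :
    ∃ K : ℕ, ∀ b ∈ (⨅ n : MaximalSpectrum B, n.asIdeal) ^ K, b • g = 0 := by
  classical
  obtain ⟨r, b, hb⟩ := Module.Finite.exists_fin (R := A) (M := B)
  choose m hm using fun i => hpt (g (b i))
  have key : ∀ s : B, ∀ a ∈ maximalIdeal A ^ (Finset.univ.sup m), a • g s = 0 := by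
    intro s
    have hs : s ∈ Submodule.span A (Set.range b) := hb ▸ Submodule.mem_top
    induction hs using Submodule.span_induction with
    | mem y hy =>
      obtain ⟨i, rfl⟩ := hy
      intro a ha
      exact hm i a (Ideal.pow_le_pow_right (Finset.le_sup (Finset.mem_univ i)) ha)
    | zero =>
      intro a _
      rw [CoE.map_zero', smul_zero]
    | add y z _ _ hy hz =>
      intro a ha
      rw [CoE.map_add', smul_add, hy a ha, hz a ha, add_zero]
    | smul c y _ hy =>
      intro a ha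
      rw [CoE.map_smul', smul_comm, hy a ha, smul_zero]
  have key2 : ∀ c : B, c ∈ Submodule.span B
      (algebraMap A B '' ((maximalIdeal A ^ (Finset.univ.sup m) : Ideal A) : Set A)) →
      c • g = 0 := by
    intro c hc
    induction hc using Submodule.span_induction with
    | mem y hy =>
      obtain ⟨a, ha, rfl⟩ := hy
      refine CoE.ext' fun s => ?_
      rw [CoE.smul_apply, mul_comm, CoE.map_algebraMap_mul, key s a ha]
      rfl
    | zero => exact zero_smul _ _
    | add y z _ _ hy hz => rw [add_smul, hy, hz, add_zero]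
    | smul d y _ hy => rw [smul_eq_mul, mul_smul, hy, smul_zero]
  haveI := isArtinianRing_quot (A := A) (B := B) (Finset.univ.sup m)
  obtain ⟨K, hK⟩ := IsArtinianRing.isNilpotent_jacobson_bot
    (R := B ⧸ (maximalIdeal A ^ (Finset.univ.sup m)).map (algebraMap A B))
  refine ⟨K, fun c hc => key2 c ?_⟩
  have hle : (⨅ n : MaximalSpectrum B, n.asIdeal).map
      (Ideal.Quotient.mk ((maximalIdeal A ^ (Finset.univ.sup m)).map (algebraMap A B))) ≤
      Ideal.jacobson ⊥ := by
    refine le_sInf fun M hM => ?_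
    rw [Ideal.map_le_iff_le_comap]
    have hMmax : M.IsMaximal := hM.2
    have hcm : (M.comap (Ideal.Quotient.mk
        ((maximalIdeal A ^ (Finset.univ.sup m)).map (algebraMap A B)))).IsMaximal :=
      Ideal.comap_isMaximal_of_surjective _ Ideal.Quotient.mk_surjective
    exact iInf_le (fun n : MaximalSpectrum B => n.asIdeal) ⟨_, hcm⟩
  have h2 : ((⨅ n : MaximalSpectrum B, n.asIdeal) ^ K).map
      (Ideal.Quotient.mk ((maximalIdeal A ^ (Finset.univ.sup m)).map (algebraMap A B))) = ⊥ := by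
    rw [Ideal.map_pow (Ideal.Quotient.mk ((maximalIdeal A ^ (Finset.univ.sup m)).map
      (algebraMap A B))) (⨅ n : MaximalSpectrum B, n.asIdeal) K, eq_bot_iff,
      ← Ideal.zero_eq_bot, ← hK]
    exact Ideal.pow_right_mono hle K
  have h3 := Ideal.mem_map_of_mem
    (Ideal.Quotient.mk ((maximalIdeal A ^ (Finset.univ.sup m)).map (algebraMap A B))) hc
  rw [h2, Ideal.mem_bot, Ideal.Quotient.eq_zero_iff_mem] at h3
  exact h3

/-- The underlying `A`-linear map of an element of `Hom_A(B, E)`. -/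
noncomputable def toLin (g : CoE A B E) : B →ₗ[A] E where
  toFun s := g s
  map_add' := CoE.map_add' g
  map_smul' a s := CoE.map_smul' g a s

omit [IsLocalRing A] [IsNoetherianRing A] [Module.Finite A B] in
lemma toLin_apply (g : CoE A B E) (s : B) : toLin g s = g s := rfl

/-- `l ↦ σ₀ (l * -)`. -/
noncomputable def Psi (n : Ideal B) (σ₀ : (B ⧸ n) →ₗ[A] E) :
    (B ⧸ n) →ₗ[A] ((B ⧸ n) →ₗ[A] E) where
  toFun l := σ₀ ∘ₗ LinearMap.mulLeft A l
  map_add' l l' := by
    apply LinearMap.ext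
    intro x
    simp only [LinearMap.comp_apply, LinearMap.mulLeft_apply, LinearMap.add_apply, add_mul,
      map_add]
  map_smul' a l := by
    apply LinearMap.ext
    intro x
    simp only [LinearMap.comp_apply, LinearMap.mulLeft_apply, LinearMap.smul_apply,
      RingHom.id_apply, smul_mul_assoc, map_smul]

omit [IsLocalRing A] [IsNoetherianRing A] [Module.Finite A B] in
lemma Psi_apply (n : Ideal B) (σ₀ : (B ⧸ n) →ₗ[A] E) (l x : B ⧸ n) :
    Psi n σ₀ l x = σ₀ (l * x) := rfl

variable {f : ResidueField A →ₗ[A] E}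

/-- The `n`-socle of `Hom_A(B, E)` is one-dimensional over `B ⧸ n`. -/
theorem socle_struct (hf : IsInjectiveHull f) (n : Ideal B) [hn : n.IsMaximal] :
    ∃ g₀ : CoE A B E, g₀ ≠ 0 ∧ (∀ b ∈ n, b • g₀ = 0) ∧
      ∀ g : CoE A B E, (∀ b ∈ n, b • g = 0) → ∃ b : B, g = b • g₀ := by
  classical
  have hkill : ∀ a ∈ maximalIdeal A ^ 1, ∀ x : B ⧸ n, a • x = 0 := by
    intro a ha x
    rw [pow_one] at ha
    obtain ⟨b, rfl⟩ := Ideal.Quotient.mk_surjective x
    rw [Algebra.smul_def, IsScalarTower.algebraMap_apply A B (B ⧸ n),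
      Ideal.Quotient.algebraMap_eq, ← map_mul, Ideal.Quotient.eq_zero_iff_mem]
    exact Ideal.mul_mem_right _ _ (map_le_of_isMaximal (A := A) n (Ideal.mem_map_of_mem _ ha))
  have hfinL : Module.Finite A (B ⧸ n) :=
    Module.Finite.of_surjective (Ideal.Quotient.mkₐ A n).toLinearMap
      (Ideal.Quotient.mkₐ_surjective A n)
  have hflL : IsFiniteLength A (B ⧸ n) := isFiniteLength_of_finite_of_pow_smul _ 1 hkill
  have hlen : Module.length A ((B ⧸ n) →ₗ[A] E) = Module.length A (B ⧸ n) :=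
    length_dual hf (B ⧸ n) hflL
  have hfin : Module.length A (B ⧸ n) ≠ ⊤ := Module.length_ne_top_iff.2 hflL
  haveI : Nontrivial (B ⧸ n) := Ideal.Quotient.nontrivial_iff.2 hn.ne_top
  -- a nonzero functional
  have hnt : Nontrivial ((B ⧸ n) →ₗ[A] E) := by
    by_contra hns
    rw [not_nontrivial_iff_subsingleton] at hns
    have h0 : Module.length A ((B ⧸ n) →ₗ[A] E) = 0 := Module.length_eq_zero_iff.2 hns
    rw [hlen, Module.length_eq_zero_iff] at h0
    exact not_subsingleton (B ⧸ n) h0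
  obtain ⟨σ₀, hσ₀⟩ := exists_ne (0 : (B ⧸ n) →ₗ[A] E)
  -- `Psi` is bijective
  have hΨinj : Function.Injective (Psi n σ₀) := by
    rw [← LinearMap.ker_eq_bot, LinearMap.ker_eq_bot']
    intro l hl
    by_contra hl0
    obtain ⟨l', hl'⟩ := Ideal.Quotient.exists_inv (I := n) hl0
    apply hσ₀
    apply LinearMap.ext
    intro x
    have h1 : Psi n σ₀ l (l' * x) = 0 := by rw [hl]; rfl
    rw [Psi_apply, ← mul_assoc, hl', one_mul] at h1
    rw [h1]
    rfl
  have hΨsurj : Function.Surjective (Psi n σ₀) :=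
    surjective_of_injective_of_length_eq (Psi n σ₀) hΨinj hfin hlen
  -- the generator
  let g₀ : CoE A B E := CoE.mk' (fun s => σ₀ (Ideal.Quotient.mk n s))
    (fun s t => by rw [map_add, map_add])
    (fun a s => by
      rw [map_mul, ← Ideal.Quotient.algebraMap_eq, ← IsScalarTower.algebraMap_apply A B (B ⧸ n),
        ← Algebra.smul_def, map_smul])
  have hg₀ : ∀ s : B, g₀ s = σ₀ (Ideal.Quotient.mk n s) := fun s => rfl
  refine ⟨g₀, ?_, ?_, ?_⟩
  · intro h0
    apply hσ₀
    apply LinearMap.ext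
    intro x
    obtain ⟨s, rfl⟩ := Ideal.Quotient.mk_surjective x
    rw [← hg₀, h0]
    rfl
  · intro b hb
    refine CoE.ext' fun s => ?_
    rw [CoE.smul_apply, hg₀, map_mul, Ideal.Quotient.eq_zero_iff_mem.2 hb, mul_zero, map_zero]
    rfl
  · intro g hg
    have hvan : ∀ b ∈ n, g b = 0 := by
      intro b hb
      have h1 : (b • g) (1 : B) = 0 := by rw [hg b hb]; rfl
      rwa [CoE.smul_apply, one_mul] at h1
    -- factor through the quotient
    obtain ⟨σ, hσ⟩ : ∃ σ : (B ⧸ n) →ₗ[A] E, ∀ b : B, σ (Ideal.Quotient.mk n b) = g b := by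
      let π : B →ₗ[A] (B ⧸ n) := (Ideal.Quotient.mkₐ A n).toLinearMap
      have hπ : Function.Surjective π := Ideal.Quotient.mkₐ_surjective A n
      have hker : LinearMap.ker π ≤ LinearMap.ker (toLin g) := by
        intro b hb
        rw [LinearMap.mem_ker] at hb ⊢
        have hb' : Ideal.Quotient.mk n b = 0 := hb
        exact hvan b (Ideal.Quotient.eq_zero_iff_mem.1 hb')
      refine ⟨(LinearMap.ker π).liftQ (toLin g) hker ∘ₗ
        (LinearMap.quotKerEquivOfSurjective π hπ).symm.toLinearMap, fun b => ?_⟩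
      have h1 : (LinearMap.quotKerEquivOfSurjective π hπ).symm (Ideal.Quotient.mk n b) =
          Submodule.Quotient.mk b := by
        rw [LinearEquiv.symm_apply_eq]
        exact (LinearMap.quotKerEquivOfSurjective_apply_mk π hπ b).symm
      rw [LinearMap.comp_apply, LinearEquiv.coe_coe, h1, Submodule.liftQ_apply]
      rfl
    obtain ⟨l, hl⟩ := hΨsurj σ
    obtain ⟨b₁, rfl⟩ := Ideal.Quotient.mk_surjective l
    refine ⟨b₁, CoE.ext' fun s => ?_⟩
    rw [CoE.smul_apply, hg₀, ← hσ, ← hl, Psi_apply, ← map_mul, mul_comm]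

/-- `Hom_A(B, E)` is the direct sum of the injective hulls of the residue fields of `B`. -/
theorem main (hf : IsInjectiveHull f) :
    ∃ J : MaximalSpectrum B → Submodule B (CoE A B E), iSupIndep J ∧ iSup J = ⊤ ∧
      ∀ n : MaximalSpectrum B, ∃ g : (B ⧸ n.asIdeal) →ₗ[B] J n, IsInjectiveHull g := by
  classical
  haveI := finite_maximalSpectrum A B
  haveI : Module.Injective A E := hf.isInjective
  haveI hHinj : Module.Injective B (CoE A B E) := injective_coextendScalars (algebraMap A B) E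
  have hpt := Groth.Agent.S0311.result A E f hf
  let J : MaximalSpectrum B → Submodule B (CoE A B E) := fun n => Gam (CoE A B E) n.asIdeal
  have hindep : iSupIndep J := iSupIndep_Gam
  have htop : iSup J = ⊤ := by
    rw [eq_top_iff]
    intro g _
    obtain ⟨K, hK⟩ := exists_pow_jac_smul_eq_zero hpt g
    exact mem_iSup_Gam g K hK
  refine ⟨J, hindep, htop, fun n => ?_⟩
  have hcompl : IsCompl (J n) (⨆ (j) (_ : j ≠ n), J j) := by
    refine ⟨hindep n, ?_⟩
    rw [codisjoint_iff, ← iSup_split_single J n, htop]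
  haveI hJinj : Module.Injective B (J n) :=
    injective_of_retract (J n).subtype (Submodule.projectionOnto (J n) _ hcompl)
      (fun x => Submodule.projectionOnto_apply_left hcompl x)
  obtain ⟨g₀, hg₀0, hg₀S, hg₀gen⟩ := socle_struct (B := B) hf n.asIdeal
  have hg₀mem : g₀ ∈ J n := ⟨1, fun b hb => hg₀S b (by rwa [pow_one] at hb)⟩
  have hle : n.asIdeal ≤ LinearMap.ker (LinearMap.toSpanSingleton B (J n) ⟨g₀, hg₀mem⟩) := by
    intro b hb
    rw [LinearMap.mem_ker, LinearMap.toSpanSingleton_apply]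
    exact Subtype.ext (hg₀S b hb)
  let gn : (B ⧸ n.asIdeal) →ₗ[B] J n := Submodule.liftQ n.asIdeal _ hle
  have hgn : ∀ b : B, gn (Ideal.Quotient.mk n.asIdeal b) = b • (⟨g₀, hg₀mem⟩ : J n) :=
    fun b => rfl
  refine ⟨gn, (Groth.Agent.H58.IH.isInjectiveHull_iff gn).2 ⟨?_, ?_, hJinj⟩⟩
  · rw [← LinearMap.ker_eq_bot, LinearMap.ker_eq_bot']
    intro c hc
    obtain ⟨b, rfl⟩ := Ideal.Quotient.mk_surjective c
    by_contra hne
    have hbn : b ∉ n.asIdeal := fun h => hne (Ideal.Quotient.eq_zero_iff_mem.2 h)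
    obtain ⟨y, m, hm, hym⟩ := Ideal.IsMaximal.exists_inv n.isMaximal hbn
    rw [hgn] at hc
    have hbg : b • g₀ = 0 := congrArg Subtype.val hc
    apply hg₀0
    calc g₀ = (y * b + m) • g₀ := by rw [hym, one_smul]
      _ = 0 := by rw [add_smul, mul_smul, hbg, smul_zero, hg₀S m hm, add_zero]
  · intro x hx
    have hx0 : (x : CoE A B E) ≠ 0 := fun h => hx (Subtype.ext h)
    obtain ⟨r, hr0, hrk⟩ := exists_smul_ne_zero_killed' n.asIdeal (x : CoE A B E) hx0 x.2
    obtain ⟨b, hb⟩ := hg₀gen (r • (x : CoE A B E)) hrk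
    refine ⟨r, ⟨Ideal.Quotient.mk n.asIdeal b, ?_⟩, fun h => hr0 (congrArg Subtype.val h)⟩
    rw [hgn]
    exact Subtype.ext hb.symm

end Main

end Groth.Agent.H72.SemiMatlis
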