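import Groth.Agent.H72.AB

/-!
# Syzygies over regular local rings

* `pdLT_baseChange_succ_iff'`: dimension shifting along a flat base change of a short exact sequence
  with projective middle term.
* `pdLT_depth_succ`: over a Noetherian local ring a finite module of finite projective dimension has
  projective dimension at most the depth of the ring (from Auslander–Buchsbaum).
* `pdLT_atPrime`: for a regular local ring `A`, a prime `p` of height `≤ k` and a finite module `M`
  the localization `M_p` has projective dimension `≤ k`.
-/

set_option autoImplicit false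
universe u

namespace Groth.Agent.H72.Syz

open CategoryTheory IsLocalRing Module TensorProduct Groth.Agent.H72.PdLocal Groth.Agent.H72.PdExt

lemma pdLT_baseChange_succ_iff' {R : Type u} [CommRing R] (R' : Type u) [CommRing R'] [Algebra R R']
    [Module.Flat R R'] {K F M : Type u} [AddCommGroup K] [Module R K] [AddCommGroup F] [Module R F]
    [AddCommGroup M] [Module R M] [Module.Projective R F] (f : K →ₗ[R] F) (g : F →ₗ[R] M)
    (hf : Function.Injective f) (hfg : Function.Exact f g) (hg : Function.Surjective g) (n : ℕ) :
    PdLT R' (R' ⊗[R] M) (n + 1 + 1) ↔ PdLT R' (R' ⊗[R] K) (n + 1) := by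
  have h1 : Function.Injective (f.baseChange R') := by
    rw [LinearMap.baseChange_eq_ltensor]
    exact Module.Flat.lTensor_preserves_injective_linearMap _ hf
  have h2 : Function.Exact (f.baseChange R') (g.baseChange R') := by
    rw [LinearMap.baseChange_eq_ltensor, LinearMap.baseChange_eq_ltensor]
    exact lTensor_exact R' hfg hg
  have h3 : Function.Surjective (g.baseChange R') := by
    rw [LinearMap.baseChange_eq_ltensor]
    exact LinearMap.lTensor_surjective R' hg
  exact pdLT_succ_iff_of_exact _ _ h1 h2 h3 n

/-- Over a Noetherian local ring, a finite module of finite projective dimension has projective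
dimension at most the depth of the ring. -/
lemma pdLT_depth_succ {R : Type u} [CommRing R] [IsLocalRing R] [IsNoetherianRing R]
    (M : Type u) [AddCommGroup M] [Module R M] [Module.Finite R M] (h : ∃ n, PdLT R M n)
    (r : ℕ) (hr : LocCoh.depth R R = r) : PdLT R M (r + 1) := by
  classical
  by_cases hM : Subsingleton M
  · have h0 : HasProjectiveDimensionLT (ModuleCat.of R M) 0 := (pdLT_zero_iff M).mpr hM
    exact hasProjectiveDimensionLT_of_ge _ 0 (r + 1) (Nat.zero_le _)
  · rw [not_subsingleton_iff_nontrivial] at hM
    have hspec : PdLT R M (Nat.find h) := Nat.find_spec h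
    have hne : Nat.find h ≠ 0 := by
      intro h0
      rw [h0] at hspec
      exact not_subsingleton M ((pdLT_zero_iff M).mp hspec)
    obtain ⟨e, he⟩ := Nat.exists_eq_succ_of_ne_zero hne
    have hnot : ¬ PdLT R M e := Nat.find_min h (by rw [he]; exact Nat.lt_succ_self e)
    rw [he] at hspec
    obtain ⟨s, -, hse⟩ := AB.core e M hspec hnot r hr
    have h1 : HasProjectiveDimensionLT (ModuleCat.of R M) (e + 1) := hspec
    exact hasProjectiveDimensionLT_of_ge _ (e + 1) (r + 1) (by omega)

/-- For a regular local ring `A`, a prime `p` of height at most `k` and a finite `A`-module `M`,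
the localization of `M` at `p` has projective dimension at most `k`. -/
lemma pdLT_atPrime (A : Type u) [CommRing A] [IsRegularLocalRing A] (p : Ideal A) [p.IsPrime]
    (k : ℕ) (hp : p.height ≤ k) (M : Type u) [AddCommGroup M] [Module A M] [Module.Finite A M] :
    PdLT (Localization.AtPrime p) (Localization.AtPrime p ⊗[A] M) (k + 1) := by
  have hfin : ∃ n, PdLT (Localization.AtPrime p) (Localization.AtPrime p ⊗[A] M) n := by
    obtain ⟨K, i1, i2, i3, hK1, hK2, -⟩ :=
      exists_syzygy_loc A (maximalIdeal A).spanFinrank M
    have hproj : Module.Projective A K := hK1.mp (pdLT_of_isRegularLocalRing A M)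
    exact ⟨_, (hK2 (Localization.AtPrime p)).mpr inferInstance⟩
  obtain ⟨r, hr⟩ := Groth.Agent.H29.CM.exists_nat_depth (A := Localization.AtPrime p)
    (M := Localization.AtPrime p)
  have hrk : r ≤ k := by
    have h1 := Groth.Agent.H29.CM.depth_le_supportDim (A := Localization.AtPrime p)
      (M := Localization.AtPrime p)
    rw [Module.supportDim_self_eq_ringKrullDim,
      IsLocalization.AtPrime.ringKrullDim_eq_height p (Localization.AtPrime p), hr,
      WithBot.coe_le_coe] at h1
    exact_mod_cast h1.trans hp
  have h2 := pdLT_depth_succ (Localization.AtPrime p ⊗[A] M) hfin r hr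
  have h3 : HasProjectiveDimensionLT (ModuleCat.of (Localization.AtPrime p)
    (Localization.AtPrime p ⊗[A] M)) (r + 1) := h2
  exact hasProjectiveDimensionLT_of_ge _ (r + 1) (k + 1) (by omega)

end Groth.Agent.H72.Syz
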