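import Mathlib
import Groth.Prelude.Def_GrTwist
import Groth.Agent.H18.EventuallyBij

/-!
# (E2)+(E3) for helper88's S9574 / S9573 squad

`ψ : 𝒜 →+*ᵍ ℬ` bijective in degrees `≥ d₀`: the maps of localizations `A_{ψ⁻¹ y} → B_y` are injective
and every degree-`n` fraction at `y` lifts.
-/

set_option autoImplicit false
universe u
open CategoryTheory CategoryTheory.Limits AlgebraicGeometry Opposite TopologicalSpace
open scoped HomogeneousIdeal

namespace Groth.Agent.H72.TwAdj_E23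

section General

variable {A σ : Type u} [CommRing A] [SetLike σ A] [AddSubgroupClass σ A] {𝒜 : ℕ → σ} [GradedRing 𝒜]
  {B τ : Type u} [CommRing B] [SetLike τ B] [AddSubgroupClass τ B] {ℬ : ℕ → τ} [GradedRing ℬ]
  (ψ : 𝒜 →+*ᵍ ℬ) (hψ : ℬ₊ ≤ (𝒜₊).map ψ)

/-- every degree-`n` fraction at `y` is the image of a degree-`n` fraction at `ψ⁻¹ y`
(verbatim copy of helper88's `FracLift`) -/
def FracLift (n : ℤ) : Prop :=
  ∀ (y : ProjectiveSpectrum ℬ) (i j : ℕ) (b : ℬ i) (t : ℬ j)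
    (ht : (t : B) ∉ y.asHomogeneousIdeal), (i : ℤ) = j + n →
    ∃ (i' j' : ℕ) (a : 𝒜 i') (s : 𝒜 j')
      (hs : (s : A) ∉ (ProjectiveSpectrum.comap ψ hψ y).asHomogeneousIdeal), (i' : ℤ) = j' + n ∧
      GrTwist.locMap ψ hψ y (Localization.mk (a : A) ⟨s, hs⟩) = Localization.mk (b : B) ⟨t, ht⟩

end General

section Eventually

variable {R A : Type u} [CommRing R] [CommRing A] [Algebra R A] (𝒜 : ℕ → Submodule R A)
  [GradedAlgebra 𝒜] {B : Type u} [CommRing B] [Algebra R B] (ℬ : ℕ → Submodule R B) [GradedAlgebra ℬ]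
  (ψ : 𝒜 →+*ᵍ ℬ) (d₀ : ℕ) (hbij : ∀ d : ℕ, d₀ ≤ d → Set.BijOn ψ (𝒜 d) (ℬ d))
  (hψ : HomogeneousIdeal.irrelevant ℬ ≤ (HomogeneousIdeal.irrelevant 𝒜).map ψ)

include hbij in
/-- the kernel of `ψ` is killed by `f ^ d₀` for `f` homogeneous of positive degree -/
theorem pow_mul_eq_zero_of_map_eq_zero {d : ℕ} {f : A} (hd : 0 < d) (hf : f ∈ 𝒜 d) (z : A)
    (hz : ψ z = 0) : f ^ d₀ * z = 0 := by
  classical
  rw [← DirectSum.sum_support_decompose 𝒜 z, Finset.mul_sum]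
  refine Finset.sum_eq_zero fun i _ => ?_
  have hzi : ψ (DirectSum.decompose 𝒜 z i : A) = 0 := by
    rw [GradedRingHom.map_directSumDecompose 𝒜 ℬ ψ, hz, DirectSum.decompose_zero]
    simp
  have hmem : f ^ d₀ * (DirectSum.decompose 𝒜 z i : A) ∈ 𝒜 (d₀ • d + i) :=
    SetLike.mul_mem_graded (SetLike.pow_mem_graded _ hf) (SetLike.coe_mem _)
  have hle : d₀ ≤ d₀ • d + i := by
    rw [smul_eq_mul]
    exact (Nat.le_mul_of_pos_right d₀ hd).trans (Nat.le_add_right _ _)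
  apply (hbij _ hle).injOn hmem (zero_mem _)
  rw [map_zero, map_mul, hzi, mul_zero]

include hbij in
/-- `ψ f ^ d₀ * c` is in the image of `ψ` for `f` homogeneous of positive degree -/
theorem exists_map_eq_pow_mul {d : ℕ} {f : A} (hd : 0 < d) (hf : f ∈ 𝒜 d) (c : B) :
    ∃ c' : A, ψ c' = ψ f ^ d₀ * c := by
  classical
  have hψf : ψ f ∈ ℬ d := Graded.map_mem ψ hf
  have h : ∀ i : ℕ, ∃ a : A, ψ a = ψ f ^ d₀ * (DirectSum.decompose ℬ c i : B) := by
    intro i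
    have hmem : ψ f ^ d₀ * (DirectSum.decompose ℬ c i : B) ∈ ℬ (d₀ • d + i) :=
      SetLike.mul_mem_graded (SetLike.pow_mem_graded _ hψf) (SetLike.coe_mem _)
    have hle : d₀ ≤ d₀ • d + i := by
      rw [smul_eq_mul]
      exact (Nat.le_mul_of_pos_right d₀ hd).trans (Nat.le_add_right _ _)
    obtain ⟨a, _, ha⟩ := (hbij _ hle).surjOn hmem
    exact ⟨a, ha⟩
  choose a ha using h
  refine ⟨∑ i ∈ (DirectSum.decompose ℬ c).support, a i, ?_⟩
  have hc : ψ f ^ d₀ * c =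
      ∑ i ∈ (DirectSum.decompose ℬ c).support, ψ f ^ d₀ * (DirectSum.decompose ℬ c i : B) := by
    rw [← Finset.mul_sum, DirectSum.sum_support_decompose ℬ c]
  rw [hc, map_sum]
  exact Finset.sum_congr rfl fun i _ => ha i

include hbij in
/-- (E2) -/
theorem locMap_injective_of_eventually_bijective (y : ProjectiveSpectrum ℬ) :
    Function.Injective (GrTwist.locMap ψ hψ y) := by
  obtain ⟨d, hd, f, hf, hfx⟩ :=
    Groth.Agent.H18.exists_homogeneous_pos_not_mem 𝒜 (ProjectiveSpectrum.comap ψ hψ y)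
  have hfy : ψ f ∉ y.asHomogeneousIdeal.toIdeal := fun h => hfx h
  rw [injective_iff_map_eq_zero]
  intro q hq
  induction q using Localization.induction_on with
  | H as =>
    obtain ⟨a, s⟩ := as
    rw [GrTwist.locMap_mk, Localization.mk_eq_mk', IsLocalization.mk'_eq_zero_iff] at hq
    obtain ⟨⟨c, hc⟩, hca⟩ := hq
    have hca' : c * ψ a = 0 := hca
    obtain ⟨c', hc'⟩ := exists_map_eq_pow_mul 𝒜 ℬ ψ d₀ hbij hd hf c
    have hker : ψ (c' * a) = 0 := by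
      rw [map_mul, hc', mul_assoc, hca', mul_zero]
    have hkill := pow_mul_eq_zero_of_map_eq_zero 𝒜 ℬ ψ d₀ hbij hd hf (c' * a) hker
    rw [Localization.mk_eq_mk', IsLocalization.mk'_eq_zero_iff]
    refine ⟨⟨f ^ d₀ * c', ?_⟩, ?_⟩
    · intro hmem
      have hmem' : ψ (f ^ d₀ * c') ∈ y.asHomogeneousIdeal.toIdeal := hmem
      rw [map_mul, map_pow, hc', ← mul_assoc, ← pow_add] at hmem'
      rcases y.isPrime.mem_or_mem hmem' with h | h
      · exact hfy (y.isPrime.mem_of_pow_mem _ h)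
      · exact hc h
    · change f ^ d₀ * c' * a = 0
      rw [mul_assoc]
      exact hkill

include hbij in
/-- (E3), unfolded form -/
theorem fracLift_of_eventually_bijective' (n : ℤ) :
    ∀ (y : ProjectiveSpectrum ℬ) (i j : ℕ) (b : ℬ i) (t : ℬ j)
      (ht : (t : B) ∉ y.asHomogeneousIdeal), (i : ℤ) = j + n →
      ∃ (i' j' : ℕ) (a : 𝒜 i') (s : 𝒜 j')
        (hs : (s : A) ∉ (ProjectiveSpectrum.comap ψ hψ y).asHomogeneousIdeal), (i' : ℤ) = j' + n ∧
        GrTwist.locMap ψ hψ y (Localization.mk (a : A) ⟨s, hs⟩) =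
          Localization.mk (b : B) ⟨t, ht⟩ := by
  intro y i j b t ht hij
  obtain ⟨d, hd, f, hf, hfx⟩ :=
    Groth.Agent.H18.exists_homogeneous_pos_not_mem 𝒜 (ProjectiveSpectrum.comap ψ hψ y)
  have hfy : ψ f ∉ y.asHomogeneousIdeal.toIdeal := fun h => hfx h
  have hψf : ψ f ∈ ℬ d := Graded.map_mem ψ hf
  have hle : ∀ k : ℕ, d₀ ≤ d₀ • d + k := by
    intro k
    rw [smul_eq_mul]
    exact (Nat.le_mul_of_pos_right d₀ hd).trans (Nat.le_add_right _ _)
  have hmb : ψ f ^ d₀ * (b : B) ∈ ℬ (d₀ • d + i) :=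
    SetLike.mul_mem_graded (SetLike.pow_mem_graded _ hψf) b.2
  have hmt : ψ f ^ d₀ * (t : B) ∈ ℬ (d₀ • d + j) :=
    SetLike.mul_mem_graded (SetLike.pow_mem_graded _ hψf) t.2
  obtain ⟨a, ha, hab⟩ := (hbij _ (hle i)).surjOn hmb
  obtain ⟨s, hs, hst⟩ := (hbij _ (hle j)).surjOn hmt
  have hsx : s ∉ (ProjectiveSpectrum.comap ψ hψ y).asHomogeneousIdeal := by
    intro hmem
    have hmem' : ψ s ∈ y.asHomogeneousIdeal.toIdeal := hmem
    rw [hst] at hmem'
    rcases y.isPrime.mem_or_mem hmem' with h | h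
    · exact hfy (y.isPrime.mem_of_pow_mem _ h)
    · exact ht h
  refine ⟨d₀ • d + i, d₀ • d + j, ⟨a, ha⟩, ⟨s, hs⟩, hsx, ?_, ?_⟩
  · rw [Nat.cast_add, Nat.cast_add, hij]
    ring
  · rw [GrTwist.locMap_mk, Localization.mk_eq_mk_iff, Localization.r_iff_exists]
    refine ⟨1, ?_⟩
    simp only [OneMemClass.coe_one, one_mul]
    change (t : B) * ψ a = ψ s * (b : B)
    rw [hab, hst]
    ring

include hbij in
/-- (E3) -/
theorem fracLift_of_eventually_bijective (n : ℤ) : FracLift ψ hψ n :=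
  fracLift_of_eventually_bijective' 𝒜 ℬ ψ d₀ hbij hψ n

end Eventually

end Groth.Agent.H72.TwAdj_E23
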