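import Mathlib
import Groth.Prelude.Def_GrTwist
import Groth.Agent.H18.EventuallyBij

/-!
# (L2)+(L3) for helper88's S9574 / S9573 squad

`ψ : 𝒜 →+*ᵍ ℬ` the localisation `A → A_g` at a degree-zero element: the maps of localizations
`A_{ψ⁻¹ y} → B_y` are injective and every degree-`n` fraction at `y` lifts.
-/

set_option autoImplicit false
universe u
open CategoryTheory CategoryTheory.Limits AlgebraicGeometry Opposite TopologicalSpace
open scoped HomogeneousIdeal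

namespace Groth.Agent.H72.TwAdj_L23

section General

variable {A σ : Type u} [CommRing A] [SetLike σ A] [AddSubgroupClass σ A] {𝒜 : ℕ → σ} [GradedRing 𝒜]
  {B τ : Type u} [CommRing B] [SetLike τ B] [AddSubgroupClass τ B] {ℬ : ℕ → τ} [GradedRing ℬ]
  (ψ : 𝒜 →+*ᵍ ℬ) (hψ : ℬ₊ ≤ (𝒜₊).map ψ)

/-- every degree-`n` fraction at `y` is the image of a degree-`n` fraction at `ψ⁻¹ y`
(verbatim copy of helper88's `FracLift`) -/
def FracLift (n : ℤ) : Prop :=
  ∀ (y : ProjectiveSpectrum ℬ) (i j : ℕ) (b : ℬ i) (t : ℬ j)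
    (ht : (t : B) ∉ y.asHomogeneousIdeal), (i : ℤ) = j + n →
    ∃ (i' j' : ℕ) (a : 𝒜 i') (s : 𝒜 j')
      (hs : (s : A) ∉ (ProjectiveSpectrum.comap ψ hψ y).asHomogeneousIdeal), (i' : ℤ) = j' + n ∧
      GrTwist.locMap ψ hψ y (Localization.mk (a : A) ⟨s, hs⟩) = Localization.mk (b : B) ⟨t, ht⟩

end General

section Away

variable {R A : Type u} [CommRing R] [CommRing A] [Algebra R A] (𝒜 : ℕ → Submodule R A)
  [GradedAlgebra 𝒜] {B : Type u} [CommRing B] [Algebra R B] (ℬ : ℕ → Submodule R B) [GradedAlgebra ℬ]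
  (ψ : 𝒜 →+*ᵍ ℬ) (g : A) (hg : g ∈ 𝒜 0) [Algebra A B] (hψA : ∀ a : A, ψ a = algebraMap A B a)
  [IsLocalization.Away g B]
  (hdeg : ∀ (n : ℕ) (b : B), b ∈ ℬ n ↔ ∃ (k : ℕ) (a : A), a ∈ 𝒜 n ∧ ψ g ^ k * b = ψ a)
  (hψ : HomogeneousIdeal.irrelevant ℬ ≤ (HomogeneousIdeal.irrelevant 𝒜).map ψ)

include hψA in
omit [GradedAlgebra 𝒜] [GradedAlgebra ℬ] in
theorem isUnit_map_g : IsUnit (ψ g) := by
  rw [hψA]
  exact IsLocalization.Away.algebraMap_isUnit g

include hψA in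
theorem map_g_not_mem (y : ProjectiveSpectrum ℬ) : ψ g ∉ y.asHomogeneousIdeal.toIdeal := fun h =>
  y.isPrime.ne_top (Ideal.eq_top_of_isUnit_mem _ h (isUnit_map_g 𝒜 ℬ ψ g hψA))

include hg in
omit [Algebra R B] in
theorem pow_g_mem (l : ℕ) : g ^ l ∈ 𝒜 0 := by
  have h := SetLike.pow_mem_graded l hg
  rwa [smul_zero] at h

include hg hψA hdeg in
/-- (L2) -/
theorem locMap_injective_away (y : ProjectiveSpectrum ℬ) :
    Function.Injective (GrTwist.locMap ψ hψ y) := by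
  have _hdeg := hdeg
  have _hg := hg
  have hgy := map_g_not_mem 𝒜 ℬ ψ g hψA y
  rw [injective_iff_map_eq_zero]
  intro q hq
  induction q using Localization.induction_on with
  | H as =>
    obtain ⟨a, s⟩ := as
    rw [GrTwist.locMap_mk, Localization.mk_eq_mk', IsLocalization.mk'_eq_zero_iff] at hq
    obtain ⟨⟨c, hc⟩, hca⟩ := hq
    have hca' : c * ψ a = 0 := hca
    obtain ⟨⟨c', gk⟩, hcc'⟩ := IsLocalization.surj (Submonoid.powers g) c
    obtain ⟨k, hk⟩ := (Submonoid.mem_powers_iff _ _).mp gk.2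
    have hcc'' : c * ψ g ^ k = ψ c' := by
      rw [hψA, hψA, ← map_pow, hk]
      exact hcc'
    have hker : algebraMap A B (c' * a) = 0 := by
      rw [← hψA, map_mul, ← hcc'', mul_right_comm, hca', zero_mul]
    rw [IsLocalization.map_eq_zero_iff (Submonoid.powers g) B] at hker
    obtain ⟨gm, hm⟩ := hker
    obtain ⟨m, hm'⟩ := (Submonoid.mem_powers_iff _ _).mp gm.2
    rw [← hm'] at hm
    rw [Localization.mk_eq_mk', IsLocalization.mk'_eq_zero_iff]
    refine ⟨⟨g ^ m * c', ?_⟩, ?_⟩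
    · intro hmem
      have hmem' : ψ (g ^ m * c') ∈ y.asHomogeneousIdeal.toIdeal := hmem
      rw [map_mul, map_pow, ← hcc''] at hmem'
      rcases y.isPrime.mem_or_mem hmem' with h | h
      · exact hgy (y.isPrime.mem_of_pow_mem _ h)
      · rcases y.isPrime.mem_or_mem h with h | h
        · exact hc h
        · exact hgy (y.isPrime.mem_of_pow_mem _ h)
    · change g ^ m * c' * a = 0
      rw [mul_assoc]
      exact hm

include hg hψA hdeg in
/-- (L3), unfolded form -/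
theorem fracLift_away' (n : ℤ) :
    ∀ (y : ProjectiveSpectrum ℬ) (i j : ℕ) (b : ℬ i) (t : ℬ j)
      (ht : (t : B) ∉ y.asHomogeneousIdeal), (i : ℤ) = j + n →
      ∃ (i' j' : ℕ) (a : 𝒜 i') (s : 𝒜 j')
        (hs : (s : A) ∉ (ProjectiveSpectrum.comap ψ hψ y).asHomogeneousIdeal), (i' : ℤ) = j' + n ∧
        GrTwist.locMap ψ hψ y (Localization.mk (a : A) ⟨s, hs⟩) =
          Localization.mk (b : B) ⟨t, ht⟩ := by
  intro y i j b t ht hij
  have hgy := map_g_not_mem 𝒜 ℬ ψ g hψA y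
  obtain ⟨k, a, ha, hab⟩ := (hdeg i (b : B)).mp b.2
  obtain ⟨l, s, hs, hst⟩ := (hdeg j (t : B)).mp t.2
  have ha' : g ^ l * a ∈ 𝒜 i := by
    have h := SetLike.mul_mem_graded (pow_g_mem 𝒜 g hg l) ha
    rwa [zero_add] at h
  have hs' : g ^ k * s ∈ 𝒜 j := by
    have h := SetLike.mul_mem_graded (pow_g_mem 𝒜 g hg k) hs
    rwa [zero_add] at h
  have hψs : ψ (g ^ k * s) = ψ g ^ k * (ψ g ^ l * (t : B)) := by
    rw [map_mul, map_pow, hst]
  have hψa : ψ (g ^ l * a) = ψ g ^ l * (ψ g ^ k * (b : B)) := by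
    rw [map_mul, map_pow, hab]
  have hsx : g ^ k * s ∉ (ProjectiveSpectrum.comap ψ hψ y).asHomogeneousIdeal := by
    intro hmem
    have hmem' : ψ (g ^ k * s) ∈ y.asHomogeneousIdeal.toIdeal := hmem
    rw [hψs] at hmem'
    rcases y.isPrime.mem_or_mem hmem' with h | h
    · exact hgy (y.isPrime.mem_of_pow_mem _ h)
    · rcases y.isPrime.mem_or_mem h with h | h
      · exact hgy (y.isPrime.mem_of_pow_mem _ h)
      · exact ht h
  refine ⟨i, j, ⟨g ^ l * a, ha'⟩, ⟨g ^ k * s, hs'⟩, hsx, hij, ?_⟩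
  rw [GrTwist.locMap_mk, Localization.mk_eq_mk_iff, Localization.r_iff_exists]
  refine ⟨1, ?_⟩
  simp only [OneMemClass.coe_one, one_mul]
  change (t : B) * ψ (g ^ l * a) = ψ (g ^ k * s) * (b : B)
  rw [hψa, hψs]
  ring

include hg hψA hdeg in
/-- (L3) -/
theorem fracLift_away (n : ℤ) : FracLift ψ hψ n :=
  fracLift_away' 𝒜 ℬ ψ g hg hψA hdeg hψ n

end Away

end Groth.Agent.H72.TwAdj_L23
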