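import Mathlib
set_option autoImplicit false

/-!
# Degree of the `p^e`-Frobenius on a finitely generated extension of a perfect field

Piece (PB) for helper74's S15454/S15455/S15456: `[L : L^{p^e}] = p^{e·trdeg}`.

Route: `deg f` = rank of the target over the source for a ring hom of fields; it is
multiplicative, so for a finite extension `L / M` the Frobenius degrees of `L` and `M` agree
(no separability needed); for `M = Frac k[x_1..x_n]` with `k` perfect the monomials
`x^a`, `0 ≤ a_i < q`, form a basis of `M` over `M^q`.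
-/

universe u v

namespace Groth.Agent.H72.WF_PB

open Module

/-! ### degree of a ring hom between fields -/

section Deg

/-- The degree of a ring hom of fields: the rank of the target over the source. -/
noncomputable def deg {A B : Type*} [Field A] [Field B] (f : A →+* B) : ℕ :=
  @Module.finrank A B _ _ f.toAlgebra.toModule

theorem deg_comp {A B C : Type*} [Field A] [Field B] [Field C] (f : A →+* B) (g : B →+* C) :
    deg (g.comp f) = deg f * deg g := by
  letI i1 : Algebra A B := f.toAlgebra
  letI i2 : Algebra B C := g.toAlgebra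
  letI i3 : Algebra A C := (g.comp f).toAlgebra
  haveI : IsScalarTower A B C := IsScalarTower.of_algebraMap_eq (fun _ => rfl)
  exact (Module.finrank_mul_finrank A B C).symm

theorem deg_of_bijective {A B : Type*} [Field A] [Field B] (f : A →+* B)
    (hf : Function.Bijective f) : deg f = 1 := by
  letI : Algebra A B := f.toAlgebra
  have := Algebra.finrank_eq_of_equiv_equiv (R₀ := A) (S₀ := B) (R₁ := B) (S₁ := B)
    (RingEquiv.ofBijective f hf) (RingEquiv.refl B) (by ext x; rfl)
  rw [Module.finrank_self] at this
  exact this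

theorem deg_eq_finrank_fieldRange {E L : Type*} [Field E] [Field L] (ρ : E →+* L) :
    deg ρ = Module.finrank ρ.fieldRange L := by
  letI : Algebra E L := ρ.toAlgebra
  exact Algebra.finrank_eq_of_equiv_equiv ρ.rangeRestrictFieldEquiv (RingEquiv.refl L)
    (by ext x; rfl)

theorem deg_eq_of_fieldRange_eq {E₁ E₂ L : Type*} [Field E₁] [Field E₂] [Field L]
    (ρ₁ : E₁ →+* L) (ρ₂ : E₂ →+* L) (h : ρ₁.fieldRange = ρ₂.fieldRange) : deg ρ₁ = deg ρ₂ := by
  rw [deg_eq_finrank_fieldRange, deg_eq_finrank_fieldRange, h]

theorem deg_algebraMap {M L : Type*} [Field M] [Field L] [inst : Algebra M L] :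
    deg (algebraMap M L) = Module.finrank M L := by
  have e : (algebraMap M L).toAlgebra = inst := Algebra.algebra_ext _ _ (fun _ => rfl)
  unfold deg
  rw [e]

theorem deg_frob_eq_of_finite {M L : Type*} [Field M] [Field L] [Algebra M L]
    [FiniteDimensional M L] (φM : M →+* M) (φL : L →+* L)
    (hcomm : (algebraMap M L).comp φM = φL.comp (algebraMap M L)) : deg φL = deg φM := by
  have h1 := deg_comp φM (algebraMap M L)
  have h2 := deg_comp (algebraMap M L) φL
  rw [hcomm, h2] at h1
  have hpos : 0 < deg (algebraMap M L) := by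
    rw [deg_algebraMap]
    exact Module.finrank_pos
  exact Nat.eq_of_mul_eq_mul_left hpos (by rw [h1, mul_comm])

theorem deg_eq_of_ringEquiv {K M : Type*} [Field K] [Field M] (j : K ≃+* M) (φK : K →+* K)
    (φM : M →+* M) (hcomm : φM.comp j.toRingHom = j.toRingHom.comp φK) : deg φM = deg φK := by
  have h1 := deg_comp j.toRingHom φM
  have h2 := deg_comp φK j.toRingHom
  have hj : deg j.toRingHom = 1 := deg_of_bijective _ j.bijective
  rw [hcomm, h2, hj, one_mul, mul_one] at h1
  exact h1.symm

theorem deg_eq_card_of_basis {E L : Type*} [Field E] [Field L] (ρ : E →+* L) {ι : Type*}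
    [Fintype ι] (b : ι → L)
    (hli : ∀ c : ι → E, ∑ i, ρ (c i) * b i = 0 → ∀ i, c i = 0)
    (hsp : ∀ x : L, ∃ c : ι → E, x = ∑ i, ρ (c i) * b i) : deg ρ = Fintype.card ι := by
  letI : Algebra E L := ρ.toAlgebra
  have hsmul : ∀ (c : E) (x : L), c • x = ρ c * x := fun c x => rfl
  have hli' : LinearIndependent E b := by
    rw [Fintype.linearIndependent_iff]
    intro g hg i
    simp only [hsmul] at hg
    exact hli g hg i
  have hsp' : ⊤ ≤ Submodule.span E (Set.range b) := by
    intro x _
    obtain ⟨c, rfl⟩ := hsp x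
    refine Submodule.sum_mem _ (fun i _ => ?_)
    rw [← hsmul]
    exact Submodule.smul_mem _ _ (Submodule.subset_span ⟨i, rfl⟩)
  exact Module.finrank_eq_card_basis (Basis.mk hli' hsp')

end Deg

/-! ### the polynomial ring over a perfect field is free over its `q`-th powers -/

section Poly

variable {k : Type u} [Field k] (p : ℕ) [Fact p.Prime] [CharP k p] {σ : Type v}
  [Fintype σ] [DecidableEq σ] (e : ℕ)

/-- the exponent vector attached to a point of the box `[0, q)^σ`. -/
noncomputable def fa (a : σ → Fin (p ^ e)) : σ →₀ ℕ :=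
  Finsupp.equivFunOnFinite.symm (fun i => (a i : ℕ))

omit [Fact p.Prime] [CharP k p] [DecidableEq σ] in
lemma fa_apply (a : σ → Fin (p ^ e)) (i : σ) : fa p e a i = (a i : ℕ) := by
  simp [fa]

omit [DecidableEq σ] in
lemma coeff_pow_q (g : MvPolynomial σ k) (m : σ →₀ ℕ) :
    MvPolynomial.coeff m (g ^ p ^ e) =
      (MvPolynomial.coeff m (MvPolynomial.expand (p ^ e) g)) ^ p ^ e := by
  haveI : ExpChar k p := ExpChar.prime Fact.out
  rw [← MvPolynomial.map_iterateFrobenius_expand p g e, MvPolynomial.coeff_map,
    iterateFrobenius_def]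

theorem poly_unique (g : (σ → Fin (p ^ e)) → MvPolynomial σ k)
    (h : ∑ a, (g a) ^ (p ^ e) * MvPolynomial.monomial (fa p e a) (1 : k) = 0) :
    ∀ a, g a = 0 := by
  have hq : p ^ e ≠ 0 := pow_ne_zero _ (Fact.out : p.Prime).ne_zero
  intro a₀
  ext m'
  have hc := congrArg (MvPolynomial.coeff (fa p e a₀ + (p ^ e) • m')) h
  rw [MvPolynomial.coeff_sum, MvPolynomial.coeff_zero] at hc
  rw [Finset.sum_eq_single a₀] at hc
  · rw [MvPolynomial.coeff_mul_monomial', if_pos le_self_add, add_tsub_cancel_left, mul_one,
      coeff_pow_q, MvPolynomial.coeff_expand_smul _ hq] at hc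
    rw [MvPolynomial.coeff_zero]
    exact (pow_eq_zero_iff hq).1 hc
  · intro a _ hne
    rw [MvPolynomial.coeff_mul_monomial']
    split_ifs with hle
    · rw [mul_one, coeff_pow_q]
      obtain ⟨i, hi⟩ : ∃ i, a i ≠ a₀ i := Function.ne_iff.mp hne
      rw [MvPolynomial.coeff_expand_of_not_dvd (i := i), zero_pow hq]
      intro hdvd
      apply hi
      have hle_i : (a i : ℕ) ≤ (a₀ i : ℕ) + p ^ e * m' i := by
        have := hle i
        simpa [fa_apply] using this
      have hd : p ^ e ∣ (a₀ i : ℕ) + p ^ e * m' i - (a i : ℕ) := by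
        simpa [fa_apply] using hdvd
      have hmod := (Nat.modEq_iff_dvd' hle_i).2 hd
      have h3 : (a i : ℕ) % p ^ e = (a₀ i : ℕ) % p ^ e := by
        have := hmod
        rw [Nat.ModEq, Nat.add_mul_mod_self_left] at this
        exact this
      rw [Nat.mod_eq_of_lt (a i).2, Nat.mod_eq_of_lt (a₀ i).2] at h3
      exact Fin.ext h3
    · rfl
  · intro h
    exact absurd (Finset.mem_univ _) h

theorem poly_exists [PerfectField k] (f : MvPolynomial σ k) :
    ∃ g : (σ → Fin (p ^ e)) → MvPolynomial σ k,
      f = ∑ a, (g a) ^ (p ^ e) * MvPolynomial.monomial (fa p e a) (1 : k) := by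
  classical
  haveI : ExpChar k p := ExpChar.prime Fact.out
  have hq : 0 < p ^ e := pow_pos (Fact.out : p.Prime).pos _
  refine MvPolynomial.induction_on' f ?_ ?_
  · intro m c
    let a : σ → Fin (p ^ e) := fun i => ⟨m i % p ^ e, Nat.mod_lt _ hq⟩
    let m' : σ →₀ ℕ := Finsupp.equivFunOnFinite.symm (fun i => m i / p ^ e)
    let r : k := (iterateFrobeniusEquiv k p e).symm c
    have hr : r ^ p ^ e = c := by
      have := (iterateFrobeniusEquiv k p e).apply_symm_apply c
      rwa [iterateFrobeniusEquiv_def] at this
    have hm : (p ^ e) • m' + fa p e a = m := by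
      ext i
      simp only [Finsupp.coe_add, Finsupp.coe_smul, Pi.add_apply, Pi.smul_apply, fa_apply,
        smul_eq_mul]
      show p ^ e * (m i / p ^ e) + m i % p ^ e = m i
      exact Nat.div_add_mod _ _
    refine ⟨fun b => if b = a then MvPolynomial.monomial m' r else 0, ?_⟩
    dsimp only
    rw [Finset.sum_eq_single a]
    · rw [if_pos rfl, MvPolynomial.monomial_pow, MvPolynomial.monomial_mul, hr, mul_one, hm]
    · intro b _ hb
      rw [if_neg hb, zero_pow hq.ne', zero_mul]
    · intro h
      exact absurd (Finset.mem_univ _) h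
  · intro f₁ f₂ h₁ h₂
    obtain ⟨g₁, hg₁⟩ := h₁
    obtain ⟨g₂, hg₂⟩ := h₂
    refine ⟨fun a => g₁ a + g₂ a, ?_⟩
    conv_lhs => rw [hg₁, hg₂]
    rw [← Finset.sum_add_distrib]
    refine Finset.sum_congr rfl (fun a _ => ?_)
    rw [add_pow_expChar_pow, add_mul]

/-- the degree of a `q`-Frobenius of the rational function field in `σ` over a perfect field. -/
theorem deg_frob_fractionRing [PerfectField k] (K : Type*) [Field K]
    [Algebra (MvPolynomial σ k) K] [IsFractionRing (MvPolynomial σ k) K]
    (φ : K →+* K) (hφ : ∀ x, φ x = x ^ (p ^ e)) : deg φ = (p ^ e) ^ Fintype.card σ := by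
  classical
  have hq : 1 ≤ p ^ e := pow_pos (Fact.out : p.Prime).pos _
  have hcard : Fintype.card (σ → Fin (p ^ e)) = (p ^ e) ^ Fintype.card σ := by
    rw [Fintype.card_fun, Fintype.card_fin]
  rw [← hcard]
  refine deg_eq_card_of_basis φ
    (fun a => algebraMap (MvPolynomial σ k) K (MvPolynomial.monomial (fa p e a) (1 : k))) ?_ ?_
  · intro c hc
    obtain ⟨⟨d, hd⟩, hint⟩ := IsLocalization.exist_integer_multiples_of_finite
      (nonZeroDivisors (MvPolynomial σ k)) c
    choose h hh using hint
    have hD : algebraMap (MvPolynomial σ k) K d ≠ 0 :=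
      IsFractionRing.to_map_ne_zero_of_mem_nonZeroDivisors hd
    have hsum : ∑ a, (h a) ^ (p ^ e) * MvPolynomial.monomial (fa p e a) (1 : k) = 0 := by
      apply IsFractionRing.injective (MvPolynomial σ k) K
      rw [map_sum, map_zero]
      have : ∀ a, algebraMap (MvPolynomial σ k) K
          ((h a) ^ (p ^ e) * MvPolynomial.monomial (fa p e a) (1 : k)) =
          (algebraMap (MvPolynomial σ k) K d) ^ (p ^ e) * (φ (c a) *
            algebraMap (MvPolynomial σ k) K (MvPolynomial.monomial (fa p e a) (1 : k))) := by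
        intro a
        rw [map_mul, map_pow, hh a, Algebra.smul_def, mul_pow, hφ, mul_assoc]
      simp only [this]
      rw [← Finset.mul_sum, hc, mul_zero]
    have hz := poly_unique p e h hsum
    intro a
    have h4 := hh a
    rw [hz a, map_zero, Algebra.smul_def] at h4
    rcases mul_eq_zero.mp h4.symm with h5 | h5
    · exact absurd h5 hD
    · exact h5
  · intro x
    obtain ⟨f, d, hd, rfl⟩ := IsFractionRing.div_surjective (A := MvPolynomial σ k) x
    have hD : algebraMap (MvPolynomial σ k) K d ≠ 0 :=
      IsFractionRing.to_map_ne_zero_of_mem_nonZeroDivisors hd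
    obtain ⟨g, hg⟩ := poly_exists p e (f * d ^ (p ^ e - 1))
    have key : algebraMap (MvPolynomial σ k) K (f * d ^ (p ^ e - 1)) =
        ∑ a, (algebraMap (MvPolynomial σ k) K (g a)) ^ (p ^ e) *
          algebraMap (MvPolynomial σ k) K (MvPolynomial.monomial (fa p e a) (1 : k)) := by
      conv_lhs => rw [hg]
      rw [map_sum]
      simp only [map_mul, map_pow]
    refine ⟨fun a => algebraMap (MvPolynomial σ k) K (g a) / algebraMap (MvPolynomial σ k) K d, ?_⟩
    simp only [hφ, div_pow, div_mul_eq_mul_div]
    rw [← Finset.sum_div, ← key, map_mul, map_pow,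
      div_eq_div_iff hD (pow_ne_zero _ hD)]
    rw [mul_comm (algebraMap (MvPolynomial σ k) K f * _), ← mul_assoc, mul_comm _ (algebraMap (MvPolynomial σ k) K f),
      mul_assoc, ← pow_succ', Nat.sub_add_cancel hq]

end Poly

/-! ### the main statement -/

/-- (PB) degree of the `p^e`-Frobenius on a finitely generated field extension of a perfect
field. -/
theorem finrank_of_range_eq_pow (k L E : Type u) [Field k] [Field L] [Field E] [Algebra k L]
    [PerfectField k] [Algebra.EssFiniteType k L] (p : ℕ) [Fact p.Prime] [CharP k p] (e n : ℕ)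
    (hn : Algebra.trdeg k L = (n : Cardinal.{u}))
    (ρ : E →+* L) (h1 : ∀ t : L, ∃ u : E, ρ u = t ^ (p ^ e))
    (h2 : ∀ u : E, ∃ t : L, ρ u = t ^ (p ^ e)) :
    letI := ρ.toAlgebra
    Module.finrank E L = p ^ (e * n) := by
  classical
  show deg ρ = p ^ (e * n)
  haveI : CharP L p := charP_of_injective_algebraMap (algebraMap k L).injective p
  haveI : ExpChar L p := ExpChar.prime Fact.out
  have s1 : deg ρ = deg (iterateFrobenius L p e) := by
    apply deg_eq_of_fieldRange_eq
    ext x
    simp only [RingHom.mem_fieldRange, iterateFrobenius_def]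
    constructor
    · rintro ⟨u, rfl⟩
      obtain ⟨t, ht⟩ := h2 u
      exact ⟨t, ht.symm⟩
    · rintro ⟨t, rfl⟩
      exact h1 t
  obtain ⟨s, hs, -⟩ := exists_isTranscendenceBasis_and_isSeparable_of_perfectField k L
  haveI : Algebra.IsAlgebraic (IntermediateField.adjoin k (Set.range ((↑) : s → L))) L :=
    hs.isAlgebraic_field
  haveI : Algebra.EssFiniteType (IntermediateField.adjoin k (Set.range ((↑) : s → L))) L :=
    Algebra.EssFiniteType.of_comp k _ L
  haveI : Module.Finite (IntermediateField.adjoin k (Set.range ((↑) : s → L))) L :=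
    Algebra.finite_of_essFiniteType_of_isAlgebraic
  haveI : CharP (IntermediateField.adjoin k (Set.range ((↑) : s → L))) p :=
    charP_of_injective_algebraMap
      (algebraMap k (IntermediateField.adjoin k (Set.range ((↑) : s → L)))).injective p
  haveI : ExpChar (IntermediateField.adjoin k (Set.range ((↑) : s → L))) p :=
    ExpChar.prime Fact.out
  have s2 : deg (iterateFrobenius L p e) =
      deg (iterateFrobenius (IntermediateField.adjoin k (Set.range ((↑) : s → L))) p e) :=
    deg_frob_eq_of_finite _ _ (by
      ext x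
      simp [iterateFrobenius_def])
  let j : FractionRing (MvPolynomial s k) ≃+*
      IntermediateField.adjoin k (Set.range ((↑) : s → L)) := hs.1.aevalEquivField.toRingEquiv
  let φK : FractionRing (MvPolynomial s k) →+* FractionRing (MvPolynomial s k) :=
    (j.symm.toRingHom.comp
      (iterateFrobenius (IntermediateField.adjoin k (Set.range ((↑) : s → L))) p e)).comp
      j.toRingHom
  have hφK : ∀ x, φK x = x ^ (p ^ e) := by
    intro x
    show j.symm (iterateFrobenius _ p e (j x)) = x ^ (p ^ e)
    rw [iterateFrobenius_def, ← map_pow, RingEquiv.symm_apply_apply]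
  have s3 : deg (iterateFrobenius (IntermediateField.adjoin k (Set.range ((↑) : s → L))) p e) =
      deg φK := by
    refine deg_eq_of_ringEquiv j φK _ (RingHom.ext fun x => ?_)
    show iterateFrobenius _ p e (j x) = j (j.symm (iterateFrobenius _ p e (j x)))
    rw [RingEquiv.apply_symm_apply]
  have s4 : deg φK = (p ^ e) ^ Fintype.card s :=
    deg_frob_fractionRing (k := k) (σ := s) p e (FractionRing (MvPolynomial s k)) φK hφK
  have hcard : Fintype.card s = n := by
    have h := hs.cardinalMk_eq_trdeg
    rw [hn, Cardinal.mk_fintype] at h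
    exact_mod_cast h
  rw [s1, s2, s3, s4, hcard, pow_mul]

end Groth.Agent.H72.WF_PB
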