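import Mathlib
import Groth.Prelude.Def_LCI2
import Groth.Agent.H56.KzBC
import Groth.Agent.H59.KoszFlat
import Groth.Agent.H59.KoszHtpy
import Groth.Agent.H59.KoszTop

/-!
# Wiebe's theorem for Koszul-regular sequences (helper72)

If `a = C g` with `a` a Koszul-regular sequence of the same length as `g`, then
`((a) : (g)) = (a) + (det C)`.  The proof compares the Koszul complexes (mapping cone model)
`K(a) → K(g)` by an explicit chain map built from the null-homotopies of the `g_j` on `K(g)`, whose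
top component is `det C` (exterior algebra / alternating map argument), and uses K-projectivity of
Koszul complexes to lift `R/(g) → R/(a)`, `1 ↦ r`, and compare with multiplication by `r`.
-/

set_option autoImplicit false
set_option linter.style.haveILetI false
universe u
open CategoryTheory CochainComplex HomologicalComplex Limits HomComplex
open scoped Pointwise
attribute [local instance] HasDerivedCategory.standard

namespace Groth.Agent.H72.Wiebe

open Groth.Agent.H59.Kosz Groth.Agent.H56.KzSwap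

variable {A : Type u} [CommRing A]

section cone
variable (f : A) (K : Cx A)

/-- the canonical null-homotopy of `f` on the cone of `f` -/
noncomputable def sigma : Cochain (mappingCone (f • 𝟙 K)) (mappingCone (f • 𝟙 K)) (-1) :=
  Cochain.mk (fun p q hpq => (mappingCone.snd (f • 𝟙 K)).v p p (add_zero p) ≫
    (mappingCone.inl (f • 𝟙 K)).v p q hpq)

/-- extension of a degree `-1` cochain to the cone -/
noncomputable def hat (z : Cochain K K (-1)) :
    Cochain (mappingCone (f • 𝟙 K)) (mappingCone (f • 𝟙 K)) (-1) :=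
  Cochain.mk (fun p q hpq =>
    -((mappingCone.fst (f • 𝟙 K)).1.v p (p+1) rfl ≫ z.v (p+1) p (by omega) ≫
        (mappingCone.inl (f • 𝟙 K)).v p q hpq) +
      (mappingCone.snd (f • 𝟙 K)).v p p (add_zero p) ≫ z.v p q hpq ≫
        (mappingCone.inr (f • 𝟙 K)).f q)

lemma sigma_nh (p : ℤ) :
    (sigma f K).v p (p-1) (by omega) ≫ (mappingCone (f • 𝟙 K)).d (p-1) p +
      (mappingCone (f • 𝟙 K)).d p (p+1) ≫ (sigma f K).v (p+1) p (by omega) =
      f • 𝟙 ((mappingCone (f • 𝟙 K)).X p) := by
  simp only [sigma, Cochain.mk_v]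
  rw [mappingCone.ext_to_iff _ p (p+1) rfl]
  constructor
  · simp [mappingCone.inl_v_d_assoc _ p (p-1) (p+1) (by omega) (by omega),
      mappingCone.d_snd_v_assoc _ p (p+1) rfl, Linear.smul_comp, Linear.comp_smul]
  · simp [mappingCone.inl_v_d_assoc _ p (p-1) (p+1) (by omega) (by omega),
      mappingCone.d_snd_v_assoc _ p (p+1) rfl, Linear.smul_comp, Linear.comp_smul]

lemma hat_nh {a : A} {z : Cochain K K (-1)}
    (hz : ∀ p : ℤ, z.v p (p-1) (by omega) ≫ K.d (p-1) p + K.d p (p+1) ≫ z.v (p+1) p (by omega) =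
      a • 𝟙 (K.X p)) (p : ℤ) :
    (hat f K z).v p (p-1) (by omega) ≫ (mappingCone (f • 𝟙 K)).d (p-1) p +
      (mappingCone (f • 𝟙 K)).d p (p+1) ≫ (hat f K z).v (p+1) p (by omega) =
      a • 𝟙 ((mappingCone (f • 𝟙 K)).X p) := by
  simp only [hat, Cochain.mk_v]
  have h1 := hz p
  have h2 := NH_flex hz (p+1) p (p+1+1) (by omega) (by omega)
  rw [mappingCone.ext_to_iff _ p (p+1) rfl]
  constructor
  · simp [mappingCone.d_snd_v_assoc _ p (p+1) rfl, mappingCone.d_fst_v_assoc _ p (p+1) (p+1+1) rfl rfl,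
      Linear.smul_comp, Linear.comp_smul]
    rw [← Preadditive.comp_add, h2, Linear.comp_smul, Category.comp_id]
  · simp [mappingCone.d_snd_v_assoc _ p (p+1) rfl, mappingCone.d_fst_v_assoc _ p (p+1) (p+1+1) rfl rfl,
      Linear.smul_comp, Linear.comp_smul]
    have : (mappingCone.snd (f • 𝟙 K)).v p p (add_zero p) ≫ z.v p (p-1) (by omega) ≫ K.d (p-1) p +
        (mappingCone.snd (f • 𝟙 K)).v p p (add_zero p) ≫ K.d p (p+1) ≫ z.v (p+1) p (by omega) =
        a • (mappingCone.snd (f • 𝟙 K)).v p p (add_zero p) := by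
      rw [← Preadditive.comp_add, h1, Linear.comp_smul, Category.comp_id]
    rw [← this]; abel

/-- the combined cochain `c • sigma + hat z` -/
noncomputable def extc (c : A) (z : Cochain K K (-1)) :
    Cochain (mappingCone (f • 𝟙 K)) (mappingCone (f • 𝟙 K)) (-1) :=
  c • sigma f K + hat f K z

lemma extc_fst (c : A) (z : Cochain K K (-1)) (q : ℤ) :
    (extc f K c z).v (q+1) q (by omega) ≫ (mappingCone.fst (f • 𝟙 K)).1.v q (q+1) rfl =
      c • (mappingCone.snd (f • 𝟙 K)).v (q+1) (q+1) (add_zero _) -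
        (mappingCone.fst (f • 𝟙 K)).1.v (q+1) (q+1+1) rfl ≫ z.v (q+1+1) (q+1) (by omega) := by
  simp only [extc, sigma, hat, Cochain.add_v, Cochain.smul_v, Cochain.mk_v]
  simp only [Preadditive.add_comp, Linear.smul_comp, Preadditive.neg_comp, Category.assoc,
    mappingCone.inl_v_fst_v, mappingCone.inr_f_fst_v, Category.comp_id, comp_zero, add_zero]
  abel

lemma extc_snd (c : A) (z : Cochain K K (-1)) (q : ℤ) :
    (extc f K c z).v (q+1) q (by omega) ≫ (mappingCone.snd (f • 𝟙 K)).v q q (add_zero q) =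
      (mappingCone.snd (f • 𝟙 K)).v (q+1) (q+1) (add_zero _) ≫ z.v (q+1) q (by omega) := by
  simp only [extc, sigma, hat, Cochain.add_v, Cochain.smul_v, Cochain.mk_v]
  simp only [Preadditive.add_comp, Linear.smul_comp, Preadditive.neg_comp, Category.assoc,
    mappingCone.inl_v_snd_v, mappingCone.inr_f_snd_v, Category.comp_id, comp_zero, smul_zero,
    neg_zero, zero_add]

lemma extc_sq (c : A) (z : Cochain K K (-1))
    (hz : ∀ r : ℤ, z.v (r+1+1) (r+1) (by omega) ≫ z.v (r+1) r (by omega) = 0) (r : ℤ) :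
    (extc f K c z).v (r+1+1) (r+1) (by omega) ≫ (extc f K c z).v (r+1) r (by omega) = 0 := by
  rw [mappingCone.ext_to_iff _ r (r+1) rfl]
  constructor
  · rw [Category.assoc, extc_fst, zero_comp, Preadditive.comp_sub, Linear.comp_smul, extc_snd,
      ← Category.assoc, extc_fst, Preadditive.sub_comp, Linear.smul_comp, Category.assoc, hz,
      comp_zero, sub_zero, sub_self]
  · rw [Category.assoc, extc_snd, zero_comp, ← Category.assoc, extc_snd, Category.assoc, hz,
      comp_zero]

lemma extc_nh (c : A) {a : A} {z : Cochain K K (-1)}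
    (hz : ∀ p : ℤ, z.v p (p-1) (by omega) ≫ K.d (p-1) p + K.d p (p+1) ≫ z.v (p+1) p (by omega) =
      a • 𝟙 (K.X p)) (p : ℤ) :
    (extc f K c z).v p (p-1) (by omega) ≫ (mappingCone (f • 𝟙 K)).d (p-1) p +
      (mappingCone (f • 𝟙 K)).d p (p+1) ≫ (extc f K c z).v (p+1) p (by omega) =
      (c * f + a) • 𝟙 ((mappingCone (f • 𝟙 K)).X p) := by
  have h1 := sigma_nh f K p
  have h2 := hat_nh f K hz p
  simp only [extc, Cochain.add_v, Cochain.smul_v, Preadditive.add_comp, Preadditive.comp_add,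
    Linear.smul_comp, Linear.comp_smul]
  rw [add_smul, mul_smul, ← h1, ← h2, smul_add]
  abel

lemma extc_add (c c' : A) (z z' : Cochain K K (-1)) :
    extc f K (c + c') (z + z') = extc f K c z + extc f K c' z' := by
  ext p q hpq
  simp only [extc, sigma, hat, Cochain.add_v, Cochain.smul_v, Cochain.mk_v, add_smul,
    Preadditive.add_comp, Preadditive.comp_add, neg_add]
  abel

lemma extc_smul (b c : A) (z : Cochain K K (-1)) :
    extc f K (b * c) (b • z) = b • extc f K c z := by
  ext p q hpq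
  simp only [extc, sigma, hat, Cochain.add_v, Cochain.smul_v, Cochain.mk_v, mul_smul,
    Linear.smul_comp, Linear.comp_smul, smul_add, smul_neg]

end cone

section SS
variable (K₀ : Cx A)

/-- dot product of a list with a coefficient sequence -/
def dot : List A → (ℕ → A) → A
  | [], _ => 0
  | f :: l, v => v 0 * f + dot l (fun i => v (i+1))

/-- the null-homotopy cochain of `dot l v` on `kz K₀ l` -/
noncomputable def SS : (l : List A) → (ℕ → A) → Cochain (kz K₀ l) (kz K₀ l) (-1)
  | [], _ => 0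
  | f :: l, v => extc f (kz K₀ l) (v 0) (SS l (fun i => v (i+1)))

lemma SS_nh (l : List A) (v : ℕ → A) (p : ℤ) :
    (SS K₀ l v).v p (p-1) (by omega) ≫ (kz K₀ l).d (p-1) p +
      (kz K₀ l).d p (p+1) ≫ (SS K₀ l v).v (p+1) p (by omega) = dot l v • 𝟙 ((kz K₀ l).X p) := by
  induction l generalizing v p with
  | nil => simp [SS, dot]
  | cons f l ih => exact extc_nh f (kz K₀ l) (v 0) (fun p => ih (fun i => v (i+1)) p) p

lemma SS_sq (l : List A) (v : ℕ → A) (r : ℤ) :
    (SS K₀ l v).v (r+1+1) (r+1) (by omega) ≫ (SS K₀ l v).v (r+1) r (by omega) = 0 := by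
  induction l generalizing v r with
  | nil => simp [SS]
  | cons f l ih => exact extc_sq f (kz K₀ l) (v 0) _ (fun r => ih (fun i => v (i+1)) r) r

lemma SS_add (l : List A) (v w : ℕ → A) : SS K₀ l (v + w) = SS K₀ l v + SS K₀ l w := by
  induction l generalizing v w with
  | nil => simp [SS]
  | cons f l ih =>
    show extc f (kz K₀ l) ((v + w) 0) (SS K₀ l (fun i => (v + w) (i+1))) = _
    have : (fun i => (v + w) (i+1)) = (fun i => v (i+1)) + (fun i => w (i+1)) := rfl
    rw [this, ih, Pi.add_apply]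
    exact extc_add f (kz K₀ l) _ _ _ _

lemma SS_smul (l : List A) (b : A) (v : ℕ → A) : SS K₀ l (b • v) = b • SS K₀ l v := by
  induction l generalizing v with
  | nil => simp [SS]
  | cons f l ih =>
    show extc f (kz K₀ l) ((b • v) 0) (SS K₀ l (fun i => (b • v) (i+1))) = _
    have : (fun i => (b • v) (i+1)) = b • (fun i => v (i+1)) := rfl
    rw [this, ih, Pi.smul_apply, smul_eq_mul]
    exact extc_smul f (kz K₀ l) _ _ _

end SS

section total

/-- a degree `-1` cochain as an endomorphism of the total product -/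
noncomputable def toEnd (K : Cx A) (s : Cochain K K (-1)) : Module.End A (∀ p : ℤ, K.X p) where
  toFun x := fun q => (s.v (q+1) q (by omega)) (x (q+1))
  map_add' x y := by funext q; simp
  map_smul' c x := by funext q; simp

lemma toEnd_add (K : Cx A) (s t : Cochain K K (-1)) : toEnd K (s + t) = toEnd K s + toEnd K t := by
  apply LinearMap.ext; intro x; funext q
  simp [toEnd, Cochain.add_v]

lemma toEnd_smul (K : Cx A) (c : A) (s : Cochain K K (-1)) : toEnd K (c • s) = c • toEnd K s := by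
  apply LinearMap.ext; intro x; funext q
  simp [toEnd, Cochain.smul_v]

lemma toEnd_sq (K : Cx A) (s : Cochain K K (-1))
    (hs : ∀ r : ℤ, s.v (r+1+1) (r+1) (by omega) ≫ s.v (r+1) r (by omega) = 0) :
    toEnd K s * toEnd K s = 0 := by
  apply LinearMap.ext; intro x; funext q
  have := congrArg (fun g => (ConcreteCategory.hom g) (x (q+1+1))) (hs q)
  simpa [toEnd] using this

lemma toEnd_single (K : Cx A) (s : Cochain K K (-1)) (p q : ℤ) (hpq : p + (-1) = q) (x : K.X p) :
    toEnd K s (Pi.single p x) = Pi.single q ((s.v p q hpq) x) := by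
  obtain rfl : p = q + 1 := by omega
  funext q'
  simp only [toEnd, LinearMap.coe_mk, AddHom.coe_mk]
  by_cases h : q' = q
  · subst h
    simp only [Pi.single_eq_same]
  · rw [Pi.single_eq_of_ne (show q' + 1 ≠ q + 1 by omega), Pi.single_eq_of_ne h, map_zero]

end total

section alt

/-- an alternating map on `Aⁿ` is the determinant times its value on the standard basis -/
lemma alt_det {N : Type*} [AddCommGroup N] [Module A N] {n : ℕ}
    (G : (Fin n → A) [⋀^Fin n]→ₗ[A] N) (M : Fin n → Fin n → A) :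
    G M = (Matrix.of M).det • G (fun i => Pi.single i 1) := by
  classical
  let e := Pi.basisFun A (Fin n)
  let G' : (Fin n → A) [⋀^Fin n]→ₗ[A] N :=
    (LinearMap.toSpanSingleton A N (G e)).compAlternatingMap e.det
  have hGG' : G = G' := by
    refine Module.Basis.ext_alternating e fun i h => ?_
    let σ : Equiv.Perm (Fin n) := Equiv.ofBijective i (Finite.injective_iff_bijective.1 h)
    have h1 : G (e ∘ σ) = Equiv.Perm.sign σ • G e := G.map_perm e σ
    have h2 : e.det (e ∘ σ) = Equiv.Perm.sign σ • e.det e := e.det.map_perm e σ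
    show G (e ∘ σ) = (LinearMap.toSpanSingleton A N (G e)) (e.det (e ∘ σ))
    rw [h1, h2, Module.Basis.det_self, LinearMap.toSpanSingleton_apply]
    rcases Int.units_eq_one_or (Equiv.Perm.sign σ) with hs | hs <;> rw [hs] <;> simp
  have he : (fun i => (Pi.single i 1 : Fin n → A)) = e := by
    funext i
    simp [e]
  rw [he]
  conv_lhs => rw [hGG']
  show (LinearMap.toSpanSingleton A N (G e)) (e.det M) = _
  rw [LinearMap.toSpanSingleton_apply, Pi.basisFun_det_apply]

end alt

section koszul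
variable (g : List A)

/-- the identification `(sgl A)⁰ ≅ A` -/
noncomputable def eps0 : (sgl (ModuleCat.of A A)).X 0 ≃ₗ[A] A :=
  (HomologicalComplex.singleObjXSelf (ComplexShape.up ℤ) 0 (ModuleCat.of A A)).toLinearEquiv

/-- canonical map `K⁰ → A` -/
noncomputable def eps : (l : List A) → ((kz (sgl (ModuleCat.of A A)) l).X 0 →ₗ[A] A)
  | [] => (eps0 (A := A)).toLinearMap
  | f :: l => (eps l).comp
      ((mappingCone.snd (f • 𝟙 (kz (sgl (ModuleCat.of A A)) l))).v 0 0 (add_zero 0)).hom

/-- canonical chain map `A[0] → K(l)` -/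
noncomputable def base : (l : List A) →
    (sgl (ModuleCat.of A A) ⟶ kz (sgl (ModuleCat.of A A)) l)
  | [] => 𝟙 _
  | f :: l => base l ≫ mappingCone.inr (f • 𝟙 (kz (sgl (ModuleCat.of A A)) l))

lemma eps_base (l : List A) (x : (sgl (ModuleCat.of A A)).X 0) :
    eps l ((base l).f 0 x) = eps0 x := by
  induction l with
  | nil => rfl
  | cons f l ih =>
    show eps l ((mappingCone.snd (f • 𝟙 (kz (sgl (ModuleCat.of A A)) l))).v 0 0 (add_zero 0)
      ((mappingCone.inr (f • 𝟙 (kz (sgl (ModuleCat.of A A)) l))).f 0 ((base l).f 0 x))) = _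
    rw [snd_inr]
    exact ih

lemma eq_inr_snd (f : A) (K : Cx A) (h1 : Subsingleton (K.X 1))
    (z : (mappingCone (f • 𝟙 K)).X 0) :
    (mappingCone.inr (f • 𝟙 K)).f 0 ((mappingCone.snd (f • 𝟙 K)).v 0 0 (add_zero 0) z) = z := by
  have := decomp' f K 1 0 (by norm_num) z
  have h0 : (mappingCone.fst (f • 𝟙 K)).1.v 0 1 (by norm_num) z = 0 := Subsingleton.elim _ _
  rw [h0, map_zero, zero_add] at this
  exact this

lemma eps_bijective (l : List A) : Function.Bijective (eps l) := by
  induction l with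
  | nil => exact (eps0 (A := A)).bijective
  | cons f l ih =>
    have hsub : Subsingleton ((kz (sgl (ModuleCat.of A A)) l).X 1) :=
      ModuleCat.subsingleton_of_isZero (isZero_kz_pos (ModuleCat.of A A) l 1 one_pos)
    refine ⟨fun z w h => ?_, fun a => ?_⟩
    · have h' : (mappingCone.snd (f • 𝟙 (kz (sgl (ModuleCat.of A A)) l))).v 0 0 (add_zero 0) z =
          (mappingCone.snd (f • 𝟙 (kz (sgl (ModuleCat.of A A)) l))).v 0 0 (add_zero 0) w :=
        ih.1 h
      rw [← eq_inr_snd f _ hsub z, ← eq_inr_snd f _ hsub w, h']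
    · obtain ⟨y, hy⟩ := ih.2 a
      refine ⟨(mappingCone.inr (f • 𝟙 (kz (sgl (ModuleCat.of A A)) l))).f 0 y, ?_⟩
      show eps l ((mappingCone.snd (f • 𝟙 (kz (sgl (ModuleCat.of A A)) l))).v 0 0 (add_zero 0)
        ((mappingCone.inr (f • 𝟙 (kz (sgl (ModuleCat.of A A)) l))).f 0 y)) = a
      rw [snd_inr]
      exact hy

lemma map_snd_range_d (f : A) (K : Cx A) :
    Submodule.map ((mappingCone.snd (f • 𝟙 K)).v 0 0 (add_zero 0)).hom
      (LinearMap.range ((mappingCone (f • 𝟙 K)).d (-1) 0).hom)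
      = f • (⊤ : Submodule A (K.X 0)) ⊔ LinearMap.range (K.d (-1) 0).hom := by
  let s : (mappingCone (f • 𝟙 K)).X 0 →ₗ[A] K.X 0 :=
    ((mappingCone.snd (f • 𝟙 K)).v 0 0 (add_zero 0)).hom
  show Submodule.map s _ = _
  apply le_antisymm
  · rintro _ ⟨_, ⟨z, rfl⟩, rfl⟩
    have h1 := d_snd_apply f K (-1) 0 (by norm_num) z
    show s (((mappingCone (f • 𝟙 K)).d (-1) 0) z) ∈ _
    rw [show s (((mappingCone (f • 𝟙 K)).d (-1) 0) z) = _ from h1]
    exact Submodule.add_mem_sup
      (Submodule.smul_mem_pointwise_smul _ _ _ Submodule.mem_top) ⟨_, rfl⟩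
  · apply sup_le
    · rintro _ hx
      obtain ⟨x, -, rfl⟩ := (Submodule.mem_smul_pointwise_iff_exists _ _ _).mp hx
      refine ⟨_, ⟨(mappingCone.inl (f • 𝟙 K)).v 0 (-1) (by norm_num) x, rfl⟩, ?_⟩
      have h1 := d_snd_apply f K (-1) 0 (by norm_num)
        ((mappingCone.inl (f • 𝟙 K)).v 0 (-1) (by norm_num) x)
      rw [fst_inl' f K 0 (-1) (by norm_num), snd_inl' f K 0 (-1) (by norm_num), map_zero,
        add_zero] at h1
      exact h1
    · rintro _ ⟨y, rfl⟩
      refine ⟨_, ⟨(mappingCone.inr (f • 𝟙 K)).f (-1) y, rfl⟩, ?_⟩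
      have h1 := d_snd_apply f K (-1) 0 (by norm_num) ((mappingCone.inr (f • 𝟙 K)).f (-1) y)
      rw [fst_inr' f K 0 (-1) (by norm_num), snd_inr, smul_zero, zero_add] at h1
      exact h1

lemma map_eps_range (l : List A) :
    Submodule.map (eps l) (LinearMap.range ((kz (sgl (ModuleCat.of A A)) l).d (-1) 0).hom)
      = Ideal.ofList l := by
  induction l with
  | nil =>
    have hd : ((kz (sgl (ModuleCat.of A A)) []).d (-1) 0) = 0 :=
      HomologicalComplex.single_obj_d _ _ _ _ _
    rw [hd]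
    simp only [ModuleCat.hom_zero, LinearMap.range_zero, Submodule.map_bot, Ideal.ofList_nil]
  | cons f l ih =>
    have hsur := (eps_bijective l).2
    show Submodule.map ((eps l).comp
        ((mappingCone.snd (f • 𝟙 (kz (sgl (ModuleCat.of A A)) l))).v 0 0 (add_zero 0)).hom)
      (LinearMap.range ((mappingCone (f • 𝟙 (kz (sgl (ModuleCat.of A A)) l))).d (-1) 0).hom) =
      Ideal.ofList (f :: l)
    rw [Submodule.map_comp, map_snd_range_d, Submodule.map_sup, ih, Ideal.ofList_cons]
    congr 1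
    rw [← Submodule.ideal_span_singleton_smul f
      (⊤ : Submodule A ((kz (sgl (ModuleCat.of A A)) l).X 0)), Submodule.map_smul'',
      Submodule.map_top, LinearMap.range_eq_top.2 hsur, smul_eq_mul, Ideal.mul_top]

lemma isZero_kz_lt (M : ModuleCat.{u} A) (l : List A) : ∀ j : ℤ, j < -(l.length : ℤ) →
    IsZero ((kz (sgl M) l).X j) := by
  induction l with
  | nil =>
    intro j hj
    have : j ≠ 0 := by simp at hj; omega
    exact HomologicalComplex.isZero_single_obj_X (ComplexShape.up ℤ) 0 M j this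
  | cons f l ih =>
    intro j hj
    simp only [List.length_cons, Nat.cast_add, Nat.cast_one] at hj
    exact (mappingCone.isZero_X_iff _ j).mpr ⟨ih (j+1) (by omega), ih j (by omega)⟩

lemma free_kz (l : List A) : ∀ n : ℤ, Module.Free A ((kz (sgl (ModuleCat.of A A)) l).X n) := by
  induction l with
  | nil =>
    intro n
    by_cases hn : n = 0
    · subst hn
      exact Module.Free.of_equiv (eps0 (A := A)).symm
    · haveI : Subsingleton ((kz (sgl (ModuleCat.of A A)) []).X n) :=
        ModuleCat.subsingleton_of_isZero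
          (HomologicalComplex.isZero_single_obj_X (ComplexShape.up ℤ) 0 _ n hn)
      infer_instance
  | cons f l ih =>
    intro n
    haveI := ih (n + 1)
    haveI := ih n
    exact Module.Free.of_equiv (coneEquiv f (kz (sgl (ModuleCat.of A A)) l) (n + 1) n rfl).symm

lemma isKProjective_kz (l : List A) : (kz (sgl (ModuleCat.of A A)) l).IsKProjective := by
  haveI : (kz (sgl (ModuleCat.of A A)) l).IsStrictlyLE 0 := by
    rw [CochainComplex.isStrictlyLE_iff]
    intro i hi
    exact isZero_kz_pos _ l i hi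
  haveI : ∀ n, Projective ((kz (sgl (ModuleCat.of A A)) l).X n) := by
    intro n
    haveI := free_kz l n
    exact ModuleCat.projective_of_categoryTheory_projective _
  exact CochainComplex.isKProjective_of_projective _ 0

end koszul

section lifting

lemma comp_quasiIso_bijective (K L S : Cx A) [K.IsKProjective] (q : L ⟶ S) [QuasiIso q] :
    Function.Bijective
      (fun f : (HomotopyCategory.quotient (ModuleCat.{u} A) (ComplexShape.up ℤ)).obj K ⟶
          (HomotopyCategory.quotient (ModuleCat.{u} A) (ComplexShape.up ℤ)).obj L =>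
        f ≫ (HomotopyCategory.quotient (ModuleCat.{u} A) (ComplexShape.up ℤ)).map q) := by
  have hiso : IsIso (DerivedCategory.Qh.map
      ((HomotopyCategory.quotient (ModuleCat.{u} A) (ComplexShape.up ℤ)).map q)) := by
    have : IsIso (DerivedCategory.Q.map q) := inferInstance
    exact (NatIso.isIso_map_iff (DerivedCategory.quotientCompQhIso (ModuleCat.{u} A)) q).2 this
  have b1 := CochainComplex.IsKProjective.Qh_map_bijective K
    ((HomotopyCategory.quotient (ModuleCat.{u} A) (ComplexShape.up ℤ)).obj L)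
  have b2 := CochainComplex.IsKProjective.Qh_map_bijective K
    ((HomotopyCategory.quotient (ModuleCat.{u} A) (ComplexShape.up ℤ)).obj S)
  rw [← Function.Bijective.of_comp_iff' b2]
  have : (DerivedCategory.Qh.map ∘ fun f : (HomotopyCategory.quotient (ModuleCat.{u} A)
        (ComplexShape.up ℤ)).obj K ⟶ (HomotopyCategory.quotient (ModuleCat.{u} A)
        (ComplexShape.up ℤ)).obj L =>
        f ≫ (HomotopyCategory.quotient (ModuleCat.{u} A) (ComplexShape.up ℤ)).map q) =
      (fun h => h ≫ DerivedCategory.Qh.map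
        ((HomotopyCategory.quotient (ModuleCat.{u} A) (ComplexShape.up ℤ)).map q)) ∘
        DerivedCategory.Qh.map := by
    funext f
    simp
  rw [this]
  refine Function.Bijective.comp ⟨fun a b h => ?_, fun y => ⟨y ≫ inv (DerivedCategory.Qh.map
    ((HomotopyCategory.quotient (ModuleCat.{u} A) (ComplexShape.up ℤ)).map q)), ?_⟩⟩ b1
  · exact (cancel_mono _).1 h
  · simp

lemma exists_lift (K L S : Cx A) [K.IsKProjective] (q : L ⟶ S) [QuasiIso q] (θ : K ⟶ S) :
    ∃ ψ : K ⟶ L, Nonempty (Homotopy (ψ ≫ q) θ) := by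
  obtain ⟨ψ', hψ'⟩ := (comp_quasiIso_bijective K L S q).2
    ((HomotopyCategory.quotient (ModuleCat.{u} A) (ComplexShape.up ℤ)).map θ)
  obtain ⟨ψ, rfl⟩ := (HomotopyCategory.quotient (ModuleCat.{u} A) (ComplexShape.up ℤ)).map_surjective ψ'
  refine ⟨ψ, ⟨HomotopyCategory.homotopyOfEq _ _ ?_⟩⟩
  rw [Functor.map_comp]
  exact hψ'

lemma homotopy_of_comp (K L S : Cx A) [K.IsKProjective] (q : L ⟶ S) [QuasiIso q] (f₁ f₂ : K ⟶ L)
    (h : Nonempty (Homotopy (f₁ ≫ q) (f₂ ≫ q))) : Nonempty (Homotopy f₁ f₂) := by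
  obtain ⟨h⟩ := h
  have := HomotopyCategory.eq_of_homotopy _ _ h
  rw [Functor.map_comp, Functor.map_comp] at this
  exact ⟨HomotopyCategory.homotopyOfEq _ _ ((comp_quasiIso_bijective K L S q).1 this)⟩

end lifting

lemma map_mem_smul_top {M N : Type*} [AddCommGroup M] [Module A M] [AddCommGroup N] [Module A N]
    (I : Ideal A) (φ : M →ₗ[A] N) {x : M} (hx : x ∈ I • (⊤ : Submodule A M)) :
    φ x ∈ I • (⊤ : Submodule A N) := by
  refine Submodule.smul_induction_on hx (fun r hr m _ => ?_) (fun x y hx hy => ?_)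
  · rw [map_smul]; exact Submodule.smul_mem_smul hr Submodule.mem_top
  · rw [map_add]; exact add_mem hx hy

lemma desc_inr_apply {F G K : Cx A} (φ : F ⟶ G) (α : Cochain F K (-1)) (β : G ⟶ K)
    (eq : δ (-1) 0 α = Cochain.ofHom (φ ≫ β)) (p : ℤ) (y : G.X p) :
    (mappingCone.desc φ α β eq).f p ((mappingCone.inr φ).f p y) = β.f p y := by
  rw [← ConcreteCategory.comp_apply, mappingCone.inr_f_desc_f]

lemma desc_inl_apply {F G K : Cx A} (φ : F ⟶ G) (α : Cochain F K (-1)) (β : G ⟶ K)
    (eq : δ (-1) 0 α = Cochain.ofHom (φ ≫ β)) (p q : ℤ) (h : p + (-1) = q) (x : F.X p) :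
    (mappingCone.desc φ α β eq).f q ((mappingCone.inl φ).v p q h x) = α.v p q h x := by
  rw [← ConcreteCategory.comp_apply, mappingCone.inl_v_desc_f]

section comparison
variable (g : List A)

lemma desc_cond {K' : Cx A} (Φ' : K' ⟶ kz (sgl (ModuleCat.of A A)) g) (v : ℕ → A) :
    δ (-1) 0 ((Cochain.ofHom Φ').comp (SS (sgl (ModuleCat.of A A)) g v) (zero_add (-1))) =
      Cochain.ofHom ((dot g v • 𝟙 K') ≫ Φ') := by
  ext p
  rw [δ_v (-1) 0 (neg_add_cancel 1) _ p p (add_zero p) (p-1) (p+1) rfl rfl]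
  have h := SS_nh (sgl (ModuleCat.of A A)) g v p
  have hc : K'.d p (p+1) ≫ Φ'.f (p+1) =
      Φ'.f p ≫ (kz (sgl (ModuleCat.of A A)) g).d p (p+1) := (Φ'.comm p (p+1)).symm
  simp only [Cochain.zero_cochain_comp_v, Cochain.ofHom_v, Int.negOnePow_zero, one_smul,
    Category.assoc, HomologicalComplex.comp_f, HomologicalComplex.smul_f_apply,
    HomologicalComplex.id_f, Linear.smul_comp, Category.id_comp]
  rw [← Category.assoc (K'.d p (p+1)), hc, Category.assoc, ← Preadditive.comp_add, h,
    Linear.comp_smul, Category.comp_id]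

/-- the comparison chain map `K(C g) → K(g)` -/
noncomputable def Phi : (rows : List (ℕ → A)) →
    (kz (sgl (ModuleCat.of A A)) (rows.map (dot g)) ⟶ kz (sgl (ModuleCat.of A A)) g)
  | [] => base g
  | v :: rows => mappingCone.desc (dot g v • 𝟙 (kz (sgl (ModuleCat.of A A)) (rows.map (dot g))))
      ((Cochain.ofHom (Phi rows)).comp (SS (sgl (ModuleCat.of A A)) g v) (zero_add (-1)))
      (Phi rows) (desc_cond g (Phi rows) v)

lemma eps_Phi (rows : List (ℕ → A)) (x : (kz (sgl (ModuleCat.of A A)) (rows.map (dot g))).X 0) :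
    eps g ((Phi g rows).f 0 x) = eps (rows.map (dot g)) x := by
  induction rows with
  | nil => exact eps_base g x
  | cons v rows ih =>
    have hsub : Subsingleton ((kz (sgl (ModuleCat.of A A)) (rows.map (dot g))).X 1) :=
      ModuleCat.subsingleton_of_isZero (isZero_kz_pos (ModuleCat.of A A) _ 1 one_pos)
    have hx := eq_inr_snd (dot g v) _ hsub x
    rw [← hx]
    have h1 := desc_inr_apply (dot g v • 𝟙 (kz (sgl (ModuleCat.of A A)) (rows.map (dot g))))
      ((Cochain.ofHom (Phi g rows)).comp (SS (sgl (ModuleCat.of A A)) g v) (zero_add (-1)))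
      (Phi g rows) (desc_cond g (Phi g rows) v) 0
      ((mappingCone.snd (dot g v • 𝟙 (kz (sgl (ModuleCat.of A A)) (rows.map (dot g))))).v 0 0
        (add_zero 0) x)
    show eps g ((Phi g (v :: rows)).f 0 _) = eps (rows.map (dot g))
      ((mappingCone.snd (dot g v • 𝟙 (kz (sgl (ModuleCat.of A A)) (rows.map (dot g))))).v 0 0
        (add_zero 0) _)
    rw [snd_inr]
    refine Eq.trans ?_ (ih _)
    exact congrArg (eps g) h1

/-- the linear map `v ↦ S_v` into endomorphisms of the total product of `K(g)` -/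
noncomputable def SEnd :
    (ℕ → A) →ₗ[A] Module.End A (∀ p : ℤ, (kz (sgl (ModuleCat.of A A)) g).X p) where
  toFun v := toEnd _ (SS (sgl (ModuleCat.of A A)) g v)
  map_add' v w := by rw [SS_add, toEnd_add]
  map_smul' c v := by rw [SS_smul, toEnd_smul]; rfl

lemma SEnd_sq (v : ℕ → A) : SEnd g v * SEnd g v = 0 :=
  toEnd_sq _ _ (SS_sq (sgl (ModuleCat.of A A)) g v)

/-- the induced algebra map from the exterior algebra -/
noncomputable def SLift : ExteriorAlgebra A (ℕ → A) →ₐ[A]
    Module.End A (∀ p : ℤ, (kz (sgl (ModuleCat.of A A)) g).X p) :=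
  ExteriorAlgebra.lift A ⟨SEnd g, SEnd_sq g⟩

/-- the alternating map `(v₁,…,vₙ) ↦ S_{v₁} ⋯ S_{vₙ} x₀` -/
noncomputable def FAlt (n : ℕ) (x₀ : ∀ p : ℤ, (kz (sgl (ModuleCat.of A A)) g).X p) :
    (ℕ → A) [⋀^Fin n]→ₗ[A] (∀ p : ℤ, (kz (sgl (ModuleCat.of A A)) g).X p) :=
  ((LinearMap.applyₗ x₀).comp (SLift g).toLinearMap).compAlternatingMap
    (ExteriorAlgebra.ιMulti A n)

lemma FAlt_apply (n : ℕ) (x₀ : ∀ p : ℤ, (kz (sgl (ModuleCat.of A A)) g).X p)
    (v : Fin n → (ℕ → A)) :
    FAlt g n x₀ v = (List.ofFn (fun i => SEnd g (v i))).prod x₀ := by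
  show (SLift g (ExteriorAlgebra.ιMulti A n v)) x₀ = _
  rw [ExteriorAlgebra.ιMulti_apply, map_list_prod, List.map_ofFn]
  have : (⇑(SLift g) ∘ fun i => ExteriorAlgebra.ι A (v i)) = fun i => SEnd g (v i) := by
    funext i
    exact ExteriorAlgebra.lift_ι_apply _ _ _ _
  rw [this]

/-- the base point of `K(g)⁰` -/
noncomputable def X0 : ∀ p : ℤ, (kz (sgl (ModuleCat.of A A)) g).X p :=
  Pi.single 0 ((base g).f 0 ((eps0 (A := A)).symm 1))

theorem exists_top_data (rows : List (ℕ → A)) (k : ℤ) (hk : k = -(rows.length : ℤ)) :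
    ∃ (t : (kz (sgl (ModuleCat.of A A)) (rows.map (dot g))).X k)
      (lam : (kz (sgl (ModuleCat.of A A)) (rows.map (dot g))).X k →ₗ[A] A),
      lam t = 1 ∧
      (∀ k' : ℤ, (kz (sgl (ModuleCat.of A A)) (rows.map (dot g))).d k k' t ∈
        Ideal.ofList (rows.map (dot g)) •
          (⊤ : Submodule A ((kz (sgl (ModuleCat.of A A)) (rows.map (dot g))).X k'))) ∧
      (Pi.single k ((Phi g rows).f k t) : ∀ p : ℤ, (kz (sgl (ModuleCat.of A A)) g).X p) =
        (rows.map (SEnd g)).prod (X0 g) := by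
  induction rows generalizing k with
  | nil =>
    obtain rfl : k = 0 := by simpa using hk
    show ∃ (t : (sgl (ModuleCat.of A A)).X 0) (lam : (sgl (ModuleCat.of A A)).X 0 →ₗ[A] A),
      lam t = 1 ∧
      (∀ k' : ℤ, (sgl (ModuleCat.of A A)).d 0 k' t ∈
        Ideal.ofList ([] : List A) • (⊤ : Submodule A ((sgl (ModuleCat.of A A)).X k'))) ∧
      (Pi.single 0 ((base g).f 0 t) : ∀ p : ℤ, (kz (sgl (ModuleCat.of A A)) g).X p) = X0 g
    refine ⟨(eps0 (A := A)).symm 1, (eps0 (A := A)).toLinearMap,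
      (eps0 (A := A)).apply_symm_apply 1, fun k' => ?_, rfl⟩
    have hd : ((sgl (ModuleCat.of A A)).d 0 k') = 0 :=
      HomologicalComplex.single_obj_d _ _ _ _ _
    rw [hd]
    exact Submodule.zero_mem _
  | cons v rows ih =>
    simp only [List.length_cons, Nat.cast_add, Nat.cast_one] at hk
    obtain ⟨t₁, lam₁, h1, h2, h3⟩ := ih (k+1) (by omega)
    refine ⟨(mappingCone.inl (dot g v • 𝟙 (kz (sgl (ModuleCat.of A A)) (rows.map (dot g))))).v
        (k+1) k (by omega) t₁,
      lam₁.comp ((mappingCone.fst (dot g v • 𝟙 (kz (sgl (ModuleCat.of A A))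
        (rows.map (dot g))))).1.v k (k+1) rfl).hom, ?_, ?_, ?_⟩
    · show lam₁ ((mappingCone.fst (dot g v • 𝟙 (kz (sgl (ModuleCat.of A A))
        (rows.map (dot g))))).1.v k (k+1) rfl ((mappingCone.inl (dot g v • 𝟙 (kz (sgl
        (ModuleCat.of A A)) (rows.map (dot g))))).v (k+1) k (by omega) t₁)) = 1
      rw [fst_inl' (dot g v) _ (k+1) k rfl]
      exact h1
    · intro k'
      by_cases hk' : k + 1 = k'
      · subst hk'
        have hd0 := mappingCone.inl_v_d (dot g v • 𝟙 (kz (sgl (ModuleCat.of A A))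
          (rows.map (dot g)))) (k+1) k (k+1+1) (by omega) (by omega)
        have hd : ((mappingCone (dot g v • 𝟙 (kz (sgl (ModuleCat.of A A))
            (rows.map (dot g))))).d k (k+1))
            ((mappingCone.inl (dot g v • 𝟙 (kz (sgl (ModuleCat.of A A))
              (rows.map (dot g))))).v (k+1) k (by omega) t₁) =
            dot g v • (mappingCone.inr (dot g v • 𝟙 (kz (sgl (ModuleCat.of A A))
              (rows.map (dot g))))).f (k+1) t₁ -
            (mappingCone.inl (dot g v • 𝟙 (kz (sgl (ModuleCat.of A A))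
              (rows.map (dot g))))).v (k+1+1) (k+1) (by omega)
              ((kz (sgl (ModuleCat.of A A)) (rows.map (dot g))).d (k+1) (k+1+1) t₁) := by
          have := congrArg (fun φ => (ConcreteCategory.hom φ) t₁) hd0
          simpa using this
        show ((mappingCone (dot g v • 𝟙 (kz (sgl (ModuleCat.of A A))
            (rows.map (dot g))))).d k (k+1))
            ((mappingCone.inl (dot g v • 𝟙 (kz (sgl (ModuleCat.of A A))
              (rows.map (dot g))))).v (k+1) k (by omega) t₁) ∈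
          Ideal.ofList (dot g v :: rows.map (dot g)) • ⊤
        rw [hd]
        have hc : dot g v ∈ Ideal.ofList (dot g v :: rows.map (dot g)) := by
          rw [Ideal.ofList_cons]
          exact Ideal.mem_sup_left (Ideal.subset_span rfl)
        have hmono : Ideal.ofList (rows.map (dot g)) ≤
            Ideal.ofList (dot g v :: rows.map (dot g)) := by
          rw [Ideal.ofList_cons]
          exact le_sup_right
        have hA : dot g v • (mappingCone.inr (dot g v • 𝟙 (kz (sgl (ModuleCat.of A A))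
              (rows.map (dot g))))).f (k+1) t₁ ∈
            Ideal.ofList (dot g v :: rows.map (dot g)) •
              (⊤ : Submodule A ((mappingCone (dot g v • 𝟙 (kz (sgl (ModuleCat.of A A))
                (rows.map (dot g))))).X (k+1))) :=
          Submodule.smul_mem_smul hc Submodule.mem_top
        have hB : (mappingCone.inl (dot g v • 𝟙 (kz (sgl (ModuleCat.of A A))
              (rows.map (dot g))))).v (k+1+1) (k+1) (by omega)
              ((kz (sgl (ModuleCat.of A A)) (rows.map (dot g))).d (k+1) (k+1+1) t₁) ∈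
            Ideal.ofList (dot g v :: rows.map (dot g)) •
              (⊤ : Submodule A ((mappingCone (dot g v • 𝟙 (kz (sgl (ModuleCat.of A A))
                (rows.map (dot g))))).X (k+1))) :=
          Submodule.smul_mono_left hmono
            (map_mem_smul_top _ ((mappingCone.inl (dot g v • 𝟙 (kz (sgl (ModuleCat.of A A))
              (rows.map (dot g))))).v (k+1+1) (k+1) (by omega)).hom (h2 (k+1+1)))
        exact Submodule.sub_mem _ hA hB
      · have hz : (mappingCone (dot g v • 𝟙 (kz (sgl (ModuleCat.of A A))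
            (rows.map (dot g))))).d k k' = 0 :=
          HomologicalComplex.shape _ _ _ hk'
        show ((mappingCone (dot g v • 𝟙 (kz (sgl (ModuleCat.of A A))
            (rows.map (dot g))))).d k k') _ ∈ _
        rw [hz]
        exact Submodule.zero_mem _
    · have e1 : (Phi g (v :: rows)).f k
          ((mappingCone.inl (dot g v • 𝟙 (kz (sgl (ModuleCat.of A A))
            (rows.map (dot g))))).v (k+1) k (by omega) t₁) =
          (SS (sgl (ModuleCat.of A A)) g v).v (k+1) k (by omega) ((Phi g rows).f (k+1) t₁) := by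
        have := desc_inl_apply (dot g v • 𝟙 (kz (sgl (ModuleCat.of A A)) (rows.map (dot g))))
          ((Cochain.ofHom (Phi g rows)).comp (SS (sgl (ModuleCat.of A A)) g v) (zero_add (-1)))
          (Phi g rows) (desc_cond g (Phi g rows) v) (k+1) k (by omega) t₁
        rw [Cochain.zero_cochain_comp_v, Cochain.ofHom_v] at this
        exact this
      show (Pi.single k ((Phi g (v :: rows)).f k _) :
        ∀ p : ℤ, (kz (sgl (ModuleCat.of A A)) g).X p) = _
      rw [e1, ← toEnd_single _ _ (k+1) k (by omega), h3]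
      rfl

end comparison

/-- `dot` of a list `List.ofFn g` is the finite sum. -/
lemma dot_ofFn : ∀ (n : ℕ) (g : Fin n → A) (v : ℕ → A),
    dot (List.ofFn g) v = ∑ j : Fin n, v j * g j
  | 0, g, v => by simp [dot]
  | n+1, g, v => by
    rw [List.ofFn_succ, Fin.sum_univ_succ]
    show v 0 * g 0 + dot (List.ofFn fun i => g i.succ) (fun i => v (i+1)) = _
    rw [dot_ofFn n]
    simp [Fin.val_succ]

/-- **Wiebe's theorem** for Koszul-regular sequences: if `a = C g`, `a` Koszul-regular, and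
`r g ⊆ (a)`, then `r ∈ (a) + (det C)`. -/
theorem wiebe {n : ℕ} (a g : Fin n → A) (C : Matrix (Fin n) (Fin n) A)
    (ha : LCI.IsKoszulRegularSeq A (List.ofFn a)) (hC : ∀ i, a i = ∑ j, C i j * g j)
    (r : A) (hr : ∀ j, r * g j ∈ Ideal.span (Set.range a)) :
    r ∈ Ideal.span (Set.range a) ⊔ Ideal.span {C.det} := by
  classical
  let gl : List A := List.ofFn g
  let emb : (Fin n → A) →ₗ[A] (ℕ → A) :=
    { toFun := fun c j => if h : j < n then c ⟨j, h⟩ else 0
      map_add' := fun c c' => by funext j; by_cases h : j < n <;> simp [h]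
      map_smul' := fun b c => by funext j; by_cases h : j < n <;> simp [h] }
  have hemb : ∀ (c : Fin n → A) (j : Fin n), emb c j = c j := fun c j => by
    show (if h : (j : ℕ) < n then c ⟨j, h⟩ else 0) = c j
    rw [dif_pos j.2]
  let rows : List (ℕ → A) := List.ofFn (fun i => emb (C i))
  have hrows : rows.map (dot gl) = List.ofFn a := by
    show (List.ofFn (fun i => emb (C i))).map (dot gl) = _
    rw [List.map_ofFn]
    congr 1
    funext i
    show dot (List.ofFn g) (emb (C i)) = a i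
    rw [dot_ofFn, hC i]
    exact Finset.sum_congr rfl (fun j _ => by rw [hemb])
  have hlen : rows.length = n := List.length_ofFn
  have hspan : Ideal.ofList (rows.map (dot gl)) = Ideal.span (Set.range a) := by
    rw [hrows]
    show Ideal.span {x | x ∈ List.ofFn a} = _
    congr 1
    ext x
    simp [List.mem_ofFn]
  have hgspan : Ideal.ofList gl = Ideal.span (Set.range g) := by
    show Ideal.span {x | x ∈ List.ofFn g} = _
    congr 1
    ext x
    simp [List.mem_ofFn]
  have ha' : LCI.IsKoszulRegularSeq A (rows.map (dot gl)) := by rw [hrows]; exact ha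
  have hr' : ∀ y ∈ Ideal.span (Set.range g), r * y ∈ Ideal.span (Set.range a) := by
    intro y hy
    refine Submodule.span_induction (p := fun y _ => r * y ∈ Ideal.span (Set.range a))
      ?_ ?_ ?_ ?_ hy
    · rintro _ ⟨j, rfl⟩; exact hr j
    · simp
    · intro x y _ _ hx hy; rw [mul_add]; exact add_mem hx hy
    · intro c x _ hx; rw [smul_eq_mul, mul_left_comm]; exact Ideal.mul_mem_left _ _ hx
  -- the complexes
  let Ka : Cx A := kz (sgl (ModuleCat.of A A)) (rows.map (dot gl))
  let Kg : Cx A := kz (sgl (ModuleCat.of A A)) gl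
  haveI : Ka.IsKProjective := isKProjective_kz _
  haveI : Kg.IsKProjective := isKProjective_kz _
  haveI hq : QuasiIso (aug Ka) :=
    quasiIso_aug Ka (fun j hj => isZero_kz_pos _ _ j hj) ((isKoszulRegularSeq_iff _).1 ha')
  let Φ : Ka ⟶ Kg := Phi gl rows
  let Ea : Ka.X 0 ≃ₗ[A] A := LinearEquiv.ofBijective (eps (rows.map (dot gl))) (eps_bijective _)
  let φ₀ : Kg.X 0 →ₗ[A] (Ka.X 0 ⧸ LinearMap.range (Ka.d (-1) 0).hom) :=
    r • ((Submodule.mkQ (LinearMap.range (Ka.d (-1) 0).hom)).comp
      (Ea.symm.toLinearMap.comp (eps gl)))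
  have hφ₀ : ∀ x : Kg.X (-1), φ₀ ((Kg.d (-1) 0) x) = 0 := by
    intro x
    have h1 : eps gl ((Kg.d (-1) 0) x) ∈ Ideal.ofList gl := by
      rw [← map_eps_range gl]
      exact ⟨_, ⟨x, rfl⟩, rfl⟩
    have h2 : r * eps gl ((Kg.d (-1) 0) x) ∈ Ideal.ofList (rows.map (dot gl)) := by
      rw [hspan]
      rw [hgspan] at h1
      exact hr' _ h1
    rw [← map_eps_range (rows.map (dot gl))] at h2
    obtain ⟨w, hw, hw2⟩ := h2
    show r • Submodule.mkQ (LinearMap.range (Ka.d (-1) 0).hom)
      (Ea.symm (eps gl ((Kg.d (-1) 0) x))) = 0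
    rw [← map_smul, ← map_smul, smul_eq_mul, ← hw2]
    have hEw : Ea.symm (eps (rows.map (dot gl)) w) = w := Ea.symm_apply_apply w
    rw [hEw]
    exact (Submodule.Quotient.mk_eq_zero _).2 hw
  let θ : Kg ⟶ sgl (H0 Ka) := HomologicalComplex.mkHomToSingle (ModuleCat.ofHom φ₀) (by
    intro i hi
    have hi' : i + 1 = 0 := hi
    obtain rfl : i = -1 := by omega
    apply ModuleCat.hom_ext
    apply LinearMap.ext
    intro x
    exact hφ₀ x)
  have hΦθ : Φ ≫ θ = (r • 𝟙 Ka) ≫ aug Ka := by
    apply HomologicalComplex.to_single_hom_ext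
    rw [HomologicalComplex.comp_f, HomologicalComplex.comp_f,
      HomologicalComplex.mkHomToSingle_f, aug_f_zero, ← Category.assoc, ← Category.assoc]
    congr 1
    apply ModuleCat.hom_ext
    apply LinearMap.ext
    intro x
    change r • Submodule.mkQ (LinearMap.range (Ka.d (-1) 0).hom)
      (Ea.symm (eps gl (Φ.f 0 x))) =
      Submodule.mkQ (LinearMap.range (Ka.d (-1) 0).hom) (r • x)
    rw [eps_Phi, map_smul]
    have hEx : Ea.symm (eps (rows.map (dot gl)) x) = x := Ea.symm_apply_apply x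
    rw [hEx]
  obtain ⟨ψ, ⟨hψ⟩⟩ := exists_lift Kg Ka (sgl (H0 Ka)) (aug Ka) θ
  have h1 : Homotopy ((Φ ≫ ψ) ≫ aug Ka) ((r • 𝟙 Ka) ≫ aug Ka) :=
    (Homotopy.ofEq (Category.assoc _ _ _)).trans ((hψ.compLeft Φ).trans (Homotopy.ofEq hΦθ))
  obtain ⟨H⟩ := homotopy_of_comp Ka Ka (sgl (H0 Ka)) (aug Ka) (Φ ≫ ψ) (r • 𝟙 Ka) ⟨h1⟩
  -- top data
  obtain ⟨t, lam, ht1, ht2, ht3⟩ := exists_top_data gl rows (-(n:ℤ)) (by rw [hlen])
  let G : (Fin n → A) [⋀^Fin n]→ₗ[A] (∀ p : ℤ, Kg.X p) :=
    (FAlt gl n (X0 gl)).compLinearMap emb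
  have hG : (rows.map (SEnd gl)).prod (X0 gl) = G (fun i => C i) := by
    show ((List.ofFn (fun i => emb (C i))).map (SEnd gl)).prod (X0 gl) =
      FAlt gl n (X0 gl) (fun i => emb (C i))
    rw [FAlt_apply, List.map_ofFn]
    rfl
  have hdet := alt_det G (fun i => C i)
  have hΦt : Φ.f (-(n:ℤ)) t = C.det • (G (fun i => Pi.single i 1)) (-(n:ℤ)) := by
    have := congrFun (ht3.trans (hG.trans hdet)) (-(n:ℤ))
    rw [Pi.single_eq_same] at this
    exact this
  have hsub : Subsingleton (Ka.X (-(n:ℤ) - 1)) :=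
    ModuleCat.subsingleton_of_isZero (isZero_kz_lt _ _ _ (by
      rw [List.length_map, hlen]; omega))
  have hcomm := H.comm (-(n:ℤ))
  rw [dNext_eq H.hom (show (ComplexShape.up ℤ).Rel (-(n:ℤ)) (-(n:ℤ)+1) from rfl),
    prevD_eq H.hom (show (ComplexShape.up ℤ).Rel (-(n:ℤ)-1) (-(n:ℤ)) from by simp)] at hcomm
  have e1 : (ψ.f (-(n:ℤ))) ((Φ.f (-(n:ℤ))) t) =
      (H.hom (-(n:ℤ)+1) (-(n:ℤ))) ((Ka.d (-(n:ℤ)) (-(n:ℤ)+1)) t) +
      (Ka.d (-(n:ℤ)-1) (-(n:ℤ))) ((H.hom (-(n:ℤ)) (-(n:ℤ)-1)) t) + r • t := by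
    have := congrArg (fun φ => (ConcreteCategory.hom φ) t) hcomm
    simpa using this
  have hz : (H.hom (-(n:ℤ)) (-(n:ℤ)-1)) t = 0 := Subsingleton.elim _ _
  rw [hz, map_zero, add_zero, hΦt, map_smul] at e1
  have e2 := congrArg lam e1
  rw [map_smul, map_add, map_smul, ht1, smul_eq_mul, smul_eq_mul, mul_one] at e2
  have hmem : lam ((H.hom (-(n:ℤ)+1) (-(n:ℤ))) ((Ka.d (-(n:ℤ)) (-(n:ℤ)+1)) t)) ∈
      Ideal.span (Set.range a) := by
    have := map_mem_smul_top (Ideal.ofList (rows.map (dot gl)))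
      (lam.comp (H.hom (-(n:ℤ)+1) (-(n:ℤ))).hom) (ht2 (-(n:ℤ)+1))
    rw [smul_eq_mul, Ideal.mul_top, hspan] at this
    exact this
  have hr_eq : r = C.det * lam ((ψ.f (-(n:ℤ))) ((G (fun i => Pi.single i 1)) (-(n:ℤ)))) -
      lam ((H.hom (-(n:ℤ)+1) (-(n:ℤ))) ((Ka.d (-(n:ℤ)) (-(n:ℤ)+1)) t)) := by
    rw [e2]; ring
  rw [hr_eq]
  exact Submodule.sub_mem _
    (Ideal.mem_sup_right (Ideal.mul_mem_right _ _ (Ideal.subset_span rfl)))
    (Ideal.mem_sup_left hmem)

end Groth.Agent.H72.Wiebe
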